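import Cfsg.Agent.BX.No33.Cheap
set_option linter.all false

/-!
# Tests, diagonal case, part 10 (helper5; generated)
-/

set_option autoImplicit false
set_option maxRecDepth 100000
set_option Elab.async false

namespace Cfsg.Agent.BX.No33.Bk.D10

open Cfsg.Agent.H819.U33 Cfsg.Agent.BX.No33.Front

def b100 : Wd := ⟨0, d100,
  [.z, .Z7, .Z2, .Z1, .X10, .X9, .X8, .X7, .X6, .X5, .X4, .X1, .X0, .y7, .y3, .y2, .p6, .hi, .p7, .hi, .p10, .hi, .p2,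
   .hi, .p7, .hi, .p3, .hi, .tau, .xii, .y6, .p, .xii, .p, .xii, .y1, .y10, .tau, .X0, .y1, .xii, .p3, .xii, .hi,
   .xii, .y1, .y8, .taui, .xii, .p4, .xii, .y3, .p6, .y9, .xii, .tau, .xii, .p, .xii, .y6],
  [.Z9, .Z7, .Z6, .Z5, .Z4, .Z2, .Z0, .X10, .X9, .X7, .X6, .X4, .X1, .X0, .y9, .y2, .y1, .p8, .hi, .p3, .hi, .p9, .hi,
   .p10, .hi, .p8, .hi, .p10, .xii, .p10, .xii, .y4, .p2, .xii, .y2, .y3, .tau, .y1, .xii, .p10, .xii, .y5, .p10,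
   .xii, .y2, .taui, .y1, .p10, .xii, .p2, .xii, .y3, .hi, .p, .taui, .xii, .p5, .xii, .y9, .p8, .xii, .y4],
  [.z, .Z9, .Z1, .Z0, .X10, .X8, .X2, .X1, .X0, .y4, .y3, .y1, .p9, .hi, .p5, .hi, .p9, .hi, .p7, .hi, .p, .hi, .p,
   .xii, .y2, .p, .xii, .p8, .xii, .y5, .taui, .xii, .p, .xii, .hi, .y8, .xii, .y4, .y6, .tau, .p7, .xii, .y6, .p8,
   .xii, .y5, .p10, .tau, .xii, .y2, .p5, .hi, .xii, .y2, .taui, .xii, .y2, .p10]⟩

theorem h100 : Hd F (g wAd) b100 := hdD (by decide +kernel)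
theorem r100_0 : R9 F (g wAd) b100 [] 0 0 := .of (startD 0 1) (by decide +kernel)
theorem r100_1 : R9 F (g wAd) b100 [] 0 1 := .of (startD 0 1) (by decide +kernel)
theorem r100_2 : R9 F (g wAd) b100 [] 0 2 := .of (startD 0 1) (by decide +kernel)
theorem r100_3 : R9 F (g wAd) b100 [] 1 0 := .of (startD 0 1) (by decide +kernel)
theorem r100_4 : R9 F (g wAd) b100 [] 1 1 := .of (startD 0 1) (by decide +kernel)
theorem r100_5 : R9 F (g wAd) b100 [] 1 2 := .of (startD 0 1) (by decide +kernel)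
theorem r100_6 : R9 F (g wAd) b100 [] 2 0 := .of (startD 0 1) (by decide +kernel)
theorem r100_7 : R9 F (g wAd) b100 [] 2 1 := .of (startD 0 1) (by decide +kernel)
theorem r100_8 : R9 F (g wAd) b100 [] 2 2 := .of (startD 0 1) (by decide +kernel)
theorem g100 : Gd F (g wAd) (0, d100) [] :=
  good9 ok h100 r100_0 r100_1 r100_2 r100_3 r100_4 r100_5 r100_6 r100_7 r100_8

def b101 : Wd := ⟨0, d101,
  [.Z10, .Z9, .Z6, .Z4, .X10, .X9, .X7, .X5, .X4, .X0, .y10, .y8, .y6, .y5, .y4, .y3, .y1, .p3, .hi, .p7, .hi, .p3,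
   .hi, .p, .hi, .p, .xii, .p10, .xii, .y5, .p9, .xii, .y1, .tau, .y1, .xii, .y2, .hi, .xii, .y10, .p10, .xii, .y4,
   .tau, .X0, .p8, .xii, .y8, .p4, .xii, .p10, .y8, .hi, .taui, .xii, .p9, .xii, .y8, .p3, .xii, .y3, .y5, .taui,
   .xii, .p9],
  [.Z10, .Z9, .Z8, .Z7, .Z6, .Z1, .X10, .X9, .X7, .X5, .X4, .X2, .X1, .X0, .y8, .y6, .y5, .y4, .y3, .y2, .y1, .hi,
   .p9, .hi, .p8, .hi, .p7, .hi, .p9, .hi, .p, .hi, .p6, .xii, .p3, .hi, .taui, .y1, .xii, .p10, .xii, .y1, .p10,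
   .xii, .y3, .y7, .tau, .p5, .xii, .p2, .hi, .xii, .y2, .y4, .p3, .tau, .xii, .y2, .p5, .xii, .y1, .p3, .tau, .xii,
   .y2, .p2],
  [.Z9, .Z8, .Z7, .Z6, .Z5, .Z0, .X9, .X7, .X2, .X1, .X0, .y10, .y9, .y8, .y7, .y6, .y5, .y3, .hi, .p4, .hi, .p4, .hi,
   .p7, .hi, .p9, .hi, .p4, .xii, .hi, .xii, .p10, .y9, .tau, .y1, .xii, .p10, .xii, .y8, .p10, .xii, .tau, .xii, .p,
   .xii, .y3, .hi, .xii, .y7, .taui, .X0, .p10, .xii, .p10, .xii, .y6, .taui, .xii, .y2, .p8, .xii, .y6, .p10, .hi,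
   .taui, .xii, .p]⟩

theorem h101 : Hd F (g wAd) b101 := hdD (by decide +kernel)
theorem r101_0 : R9 F (g wAd) b101 [] 0 0 := .of (startD 0 1) (by decide +kernel)
theorem r101_1 : R9 F (g wAd) b101 [] 0 1 := .of (startD 0 1) (by decide +kernel)
theorem r101_2 : R9 F (g wAd) b101 [] 0 2 := .of (startD 0 1) (by decide +kernel)
theorem r101_3 : R9 F (g wAd) b101 [] 1 0 := .of (startD 0 1) (by decide +kernel)
theorem r101_4 : R9 F (g wAd) b101 [] 1 1 := .of (startD 0 1) (by decide +kernel)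
theorem r101_5 : R9 F (g wAd) b101 [] 1 2 := .of (startD 0 1) (by decide +kernel)
theorem r101_6 : R9 F (g wAd) b101 [] 2 0 := .of (startD 0 1) (by decide +kernel)
theorem r101_7 : R9 F (g wAd) b101 [] 2 1 := .of (startD 0 1) (by decide +kernel)
theorem r101_8 : R9 F (g wAd) b101 [] 2 2 := .of (startD 0 1) (by decide +kernel)
theorem g101 : Gd F (g wAd) (0, d101) [] :=
  good9 ok h101 r101_0 r101_1 r101_2 r101_3 r101_4 r101_5 r101_6 r101_7 r101_8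

def b102 : Wd := ⟨0, d102,
  [.Z4, .Z0, .X9, .X8, .X7, .X5, .X2, .X1, .y9, .y3, .y2, .y1, .hi, .p10, .hi, .p3, .hi, .p8, .hi, .p4, .hi, .p7,
   .xii, .hi, .xii, .p10, .xii, .y8, .y10, .tau, .y1, .xii, .p10, .xii, .y4, .p10, .xii, .y4, .tau, .xii, .y2, .p7,
   .xii, .y1, .p7, .xii, .y1, .y2, .y3, .tau, .xii, .p6, .xii, .y5, .p2, .xii, .y8, .tau, .xii, .y7, .hi, .p6],
  [.Z10, .Z9, .Z8, .Z6, .Z5, .Z4, .Z3, .Z2, .Z1, .X10, .X9, .X7, .X6, .X5, .X4, .X3, .X2, .X1, .y8, .y7, .y6, .y2,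
   .hi, .p3, .hi, .p4, .hi, .p7, .hi, .p8, .hi, .p, .xii, .p10, .xii, .tau, .y1, .xii, .y2, .hi, .xii, .p10, .xii,
   .y4, .tau, .y1, .p5, .xii, .p3, .hi, .xii, .tau, .xii, .y2, .p6, .xii, .p, .tau, .xii, .hi, .p3, .hi, .p10],
  [.z, .Z9, .Z8, .Z5, .X9, .X7, .X5, .X1, .X0, .y9, .y7, .y6, .y3, .y2, .y1, .p4, .hi, .p5, .hi, .p5, .hi, .p5, .hi,
   .p8, .hi, .p5, .hi, .xii, .p10, .xii, .y1, .y7, .p3, .hi, .taui, .y1, .xii, .p10, .xii, .y1, .p10, .xii, .y2, .y10,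
   .tau, .X0, .p5, .xii, .p7, .y7, .xii, .p2, .y6, .taui, .xii, .p3, .xii, .p2, .xii, .y1, .y8, .taui, .xii, .p9]⟩

theorem h102 : Hd F (g wAd) b102 := hdD (by decide +kernel)
theorem r102_0 : R9 F (g wAd) b102 [] 0 0 := .of (startD 0 1) (by decide +kernel)
theorem r102_1 : R9 F (g wAd) b102 [] 0 1 := .of (startD 0 1) (by decide +kernel)
theorem r102_2 : R9 F (g wAd) b102 [] 0 2 := .of (startD 0 1) (by decide +kernel)
theorem r102_3 : R9 F (g wAd) b102 [] 1 0 := .of (startD 0 1) (by decide +kernel)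
theorem r102_4 : R9 F (g wAd) b102 [] 1 1 := .of (startD 0 1) (by decide +kernel)
theorem r102_5 : R9 F (g wAd) b102 [] 1 2 := .of (startD 0 1) (by decide +kernel)
theorem r102_6 : R9 F (g wAd) b102 [] 2 0 := .of (startD 0 1) (by decide +kernel)
theorem r102_7 : R9 F (g wAd) b102 [] 2 1 := .of (startD 0 1) (by decide +kernel)
theorem r102_8 : R9 F (g wAd) b102 [] 2 2 := .of (startD 0 1) (by decide +kernel)
theorem g102 : Gd F (g wAd) (0, d102) [] :=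
  good9 ok h102 r102_0 r102_1 r102_2 r102_3 r102_4 r102_5 r102_6 r102_7 r102_8

def b103 : Wd := ⟨0, d103,
  [.Z10, .Z9, .Z8, .Z7, .Z6, .Z4, .Z3, .Z2, .X9, .X4, .X2, .y9, .y7, .y6, .y5, .y2, .p8, .hi, .p3, .hi, .p, .hi, .p4,
   .hi, .p10, .hi, .p7, .xii, .y2, .p10, .hi, .p6, .hi, .p2, .tau, .xii, .p, .xii, .y2, .hi, .xii, .y4, .y5, .taui,
   .X0, .p10, .xii, .p2, .xii, .y3, .p2, .y6, .hi, .p, .tau, .xii, .y2, .p4, .xii, .y6, .p4, .xii, .y6, .tau, .xii,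
   .y2, .p6],
  [.Z9, .Z8, .Z7, .Z3, .Z2, .Z0, .X10, .X9, .X3, .X2, .X0, .y10, .y9, .y8, .y7, .y5, .y2, .y1, .p10, .hi, .p10, .hi,
   .p5, .hi, .p3, .hi, .p9, .hi, .p3, .xii, .p, .xii, .y1, .y2, .hi, .p8, .tau, .y1, .xii, .p10, .xii, .y4, .p5, .hi,
   .p5, .taui, .X0, .y1, .p9, .xii, .y4, .p, .xii, .tau, .xii, .p8, .xii, .p7, .y9, .tau, .xii, .y2, .p],
  [.z, .Z7, .Z6, .Z5, .Z3, .Z2, .Z1, .Z0, .X9, .X5, .X1, .y8, .y5, .y3, .y1, .p2, .hi, .p3, .hi, .p3, .hi, .p7, .hi,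
   .p6, .hi, .p, .hi, .xii, .hi, .xii, .y8, .p6, .xii, .y7, .y10, .tau, .y1, .xii, .p10, .xii, .y1, .p10, .xii, .y3,
   .y7, .taui, .X0, .p10, .xii, .y8, .hi, .p8, .xii, .y10, .p10, .taui, .xii, .p6, .xii, .y7, .hi, .p9, .tau, .xii,
   .y2, .p]⟩

theorem h103 : Hd F (g wAd) b103 := hdD (by decide +kernel)
theorem r103_0 : R9 F (g wAd) b103 [] 0 0 := .of (startD 0 1) (by decide +kernel)
theorem r103_1 : R9 F (g wAd) b103 [] 0 1 := .of (startD 0 1) (by decide +kernel)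
theorem r103_2 : R9 F (g wAd) b103 [] 0 2 := .of (startD 0 1) (by decide +kernel)
theorem r103_3 : R9 F (g wAd) b103 [] 1 0 := .of (startD 0 1) (by decide +kernel)
theorem r103_4 : R9 F (g wAd) b103 [] 1 1 := .of (startD 0 1) (by decide +kernel)
theorem r103_5 : R9 F (g wAd) b103 [] 1 2 := .of (startD 0 1) (by decide +kernel)
theorem r103_6 : R9 F (g wAd) b103 [] 2 0 := .of (startD 0 1) (by decide +kernel)
theorem r103_7 : R9 F (g wAd) b103 [] 2 1 := .of (startD 0 1) (by decide +kernel)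
theorem r103_8 : R9 F (g wAd) b103 [] 2 2 := .of (startD 0 1) (by decide +kernel)
theorem g103 : Gd F (g wAd) (0, d103) [] :=
  good9 ok h103 r103_0 r103_1 r103_2 r103_3 r103_4 r103_5 r103_6 r103_7 r103_8

def b104 : Wd := ⟨0, d104,
  [.z, .Z9, .Z8, .Z6, .Z5, .Z4, .Z3, .Z2, .Z1, .X10, .X8, .X7, .X6, .X5, .X3, .X2, .X0, .y10, .y9, .y8, .y7, .y6, .y5,
   .y4, .p10, .hi, .p7, .hi, .p6, .hi, .p8, .hi, .p, .hi, .p2, .hi, .xii, .p, .xii, .y3, .taui, .y1, .xii, .p10, .xii,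
   .y4, .p10, .xii, .y1, .y7, .tau, .X0, .y1, .xii, .y2, .p7, .xii, .p3, .xii, .y1, .y2, .tau, .xii, .p8, .xii, .y3,
   .p10, .hi, .p3, .taui, .xii, .y2, .p5, .hi, .p9],
  [.X8, .X6, .X4, .X3, .y10, .y7, .y4, .y1, .hi, .p7, .hi, .p, .hi, .p4, .hi, .p5, .xii, .p10, .xii, .y4, .p3, .hi,
   .taui, .y1, .xii, .y6, .p10, .xii, .y8, .p10, .xii, .y2, .y4, .taui, .X0, .xii, .y6, .p9, .xii, .p3, .xii, .y1,
   .y4, .p10, .taui, .xii, .y2, .p, .xii, .p, .xii, .y1, .y4, .taui],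
  [.Z10, .Z7, .Z4, .Z3, .Z1, .X10, .X5, .X3, .X1, .X0, .y10, .y7, .y6, .hi, .p5, .hi, .p6, .hi, .p6, .hi, .p4, .hi,
   .p8, .hi, .p4, .xii, .y2, .tau, .xii, .p, .xii, .y1, .y10, .hi, .xii, .y4, .y7, .tau, .p9, .xii, .y10, .p4, .xii,
   .y6, .p8, .xii, .taui, .xii, .p8, .xii, .y1, .y3, .p2, .xii, .y9, .tau, .xii, .p, .hi]⟩

theorem h104 : Hd F (g wAd) b104 := hdD (by decide +kernel)
theorem r104_0 : R9 F (g wAd) b104 [] 0 0 := .of (startD 0 1) (by decide +kernel)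
theorem r104_1 : R9 F (g wAd) b104 [] 0 1 := .of (startD 0 1) (by decide +kernel)
theorem r104_2 : R9 F (g wAd) b104 [] 0 2 := .of (startD 0 1) (by decide +kernel)
theorem r104_3 : R9 F (g wAd) b104 [] 1 0 := .of (startD 0 1) (by decide +kernel)
theorem r104_4 : R9 F (g wAd) b104 [] 1 1 := .of (startD 0 1) (by decide +kernel)
theorem r104_5 : R9 F (g wAd) b104 [] 1 2 := .of (startD 0 1) (by decide +kernel)
theorem r104_6 : R9 F (g wAd) b104 [] 2 0 := .of (startD 0 1) (by decide +kernel)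
theorem r104_7 : R9 F (g wAd) b104 [] 2 1 := .of (startD 0 1) (by decide +kernel)
theorem r104_8 : R9 F (g wAd) b104 [] 2 2 := .of (startD 0 1) (by decide +kernel)
theorem g104 : Gd F (g wAd) (0, d104) [] :=
  good9 ok h104 r104_0 r104_1 r104_2 r104_3 r104_4 r104_5 r104_6 r104_7 r104_8

def b105 : Wd := ⟨0, d105,
  [.z, .Z8, .Z6, .Z5, .Z4, .Z1, .Z0, .X10, .X8, .X7, .X6, .X5, .X4, .X0, .y10, .y9, .p10, .hi, .p6, .hi, .p, .hi, .p8,
   .hi, .p9, .hi, .p6, .hi, .xii, .y2, .hi, .p8, .xii, .y9, .tau, .xii, .y6, .p, .xii, .p, .xii, .y1, .y2, .y9, .taui,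
   .y1, .p2, .xii, .p8, .xii, .y9, .taui, .xii, .p9, .xii, .p, .y10, .xii, .y4, .tau, .xii, .p5, .xii, .y7],
  [.Z10, .Z7, .Z5, .Z2, .Z1, .Z0, .X6, .X3, .X1, .X0, .y9, .y6, .y5, .y4, .y3, .p8, .hi, .p3, .hi, .p, .hi, .p4, .hi,
   .p10, .hi, .p8, .xii, .p, .xii, .y4, .hi, .p8, .y3, .tau, .xii, .p, .xii, .y2, .hi, .xii, .y2, .y3, .tau, .p10,
   .xii, .p6, .xii, .y2, .y9, .p5, .hi, .p5, .taui, .xii, .p4, .hi, .p10, .xii, .hi, .y8],
  [.Z10, .Z8, .Z2, .Z0, .X5, .X4, .X3, .X1, .X0, .y10, .y9, .y8, .y7, .y6, .y5, .y4, .y3, .p9, .hi, .p9, .hi, .p9,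
   .hi, .p9, .hi, .p8, .hi, .p10, .hi, .xii, .p10, .xii, .p9, .y6, .xii, .y1, .tau, .xii, .y2, .p, .xii, .y3, .y10,
   .hi, .xii, .y7, .tau, .xii, .hi, .xii, .y1, .y2, .p9, .xii, .p10, .taui, .xii, .y2, .p9, .xii, .y10, .hi, .taui,
   .xii, .p10, .hi, .p7]⟩

theorem h105 : Hd F (g wAd) b105 := hdD (by decide +kernel)
theorem r105_0 : R9 F (g wAd) b105 [] 0 0 := .of (startD 0 1) (by decide +kernel)
theorem r105_1 : R9 F (g wAd) b105 [] 0 1 := .of (startD 0 1) (by decide +kernel)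
theorem r105_2 : R9 F (g wAd) b105 [] 0 2 := .of (startD 0 1) (by decide +kernel)
theorem r105_3 : R9 F (g wAd) b105 [] 1 0 := .of (startD 0 2) (by decide +kernel)
theorem r105_4 : R9 F (g wAd) b105 [] 1 1 := .of (startD 0 1) (by decide +kernel)
theorem r105_5 : R9 F (g wAd) b105 [] 1 2 := .of (startD 0 1) (by decide +kernel)
theorem r105_6 : R9 F (g wAd) b105 [] 2 0 := .of (startD 0 1) (by decide +kernel)
theorem r105_7 : R9 F (g wAd) b105 [] 2 1 := .of (startD 0 1) (by decide +kernel)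
theorem r105_8 : R9 F (g wAd) b105 [] 2 2 := .of (startD 0 1) (by decide +kernel)
theorem g105 : Gd F (g wAd) (0, d105) [] :=
  good9 ok h105 r105_0 r105_1 r105_2 r105_3 r105_4 r105_5 r105_6 r105_7 r105_8

def b106 : Wd := ⟨0, d106,
  [.Z9, .Z7, .Z6, .Z5, .Z3, .Z2, .X10, .X9, .X8, .X7, .X5, .X4, .y3, .y1, .hi, .p, .hi, .p5, .hi, .p5, .hi, .p, .hi,
   .p, .hi, .p7, .hi, .xii, .hi, .p8, .xii, .y2, .tau, .y1, .xii, .y6, .p10, .xii, .y8, .p10, .xii, .y2, .y10, .taui,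
   .X0, .p6, .xii, .p9, .xii, .p9, .y10, .tau, .xii, .y2, .p7, .xii, .p, .hi, .p9, .hi, .tau, .xii, .y2, .p8],
  [.Z6, .Z5, .Z4, .Z3, .Z0, .X9, .X7, .X6, .X4, .X1, .y9, .y6, .y5, .y4, .y3, .p3, .hi, .p10, .hi, .p10, .hi, .p9,
   .hi, .p4, .xii, .y2, .p10, .xii, .tau, .xii, .y2, .p, .xii, .y1, .hi, .xii, .y3, .y10, .tau, .p10, .xii, .y2, .p9,
   .xii, .y1, .hi, .p10, .tau, .xii, .p9, .xii, .hi, .y5, .y7, .p2, .taui, .xii, .p],
  [.Z7, .Z6, .Z4, .Z3, .Z0, .X9, .X7, .X6, .X5, .X2, .X0, .y6, .hi, .p5, .hi, .p8, .hi, .p, .hi, .p5, .hi, .p4, .xii,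
   .p10, .xii, .y4, .p10, .xii, .tau, .xii, .y1, .p, .xii, .y2, .p, .xii, .y6, .taui, .xii, .y1, .p, .xii, .y4, .p,
   .xii, .y5, .tau, .y1, .p5, .xii, .p6, .xii, .tau, .xii, .p5, .xii, .y3, .y4, .p8, .xii, .y1, .y5, .tau, .xii, .hi,
   .xii, .y8]⟩

theorem h106 : Hd F (g wAd) b106 := hdD (by decide +kernel)
theorem r106_0 : R9 F (g wAd) b106 [] 0 0 := .of (startD 0 1) (by decide +kernel)
theorem r106_1 : R9 F (g wAd) b106 [] 0 1 := .of (startD 0 1) (by decide +kernel)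
theorem r106_2 : R9 F (g wAd) b106 [] 0 2 := .of (startD 0 1) (by decide +kernel)
theorem r106_3 : R9 F (g wAd) b106 [] 1 0 := .of (startD 0 1) (by decide +kernel)
theorem r106_4 : R9 F (g wAd) b106 [] 1 1 := .of (startD 0 1) (by decide +kernel)
theorem r106_5 : R9 F (g wAd) b106 [] 1 2 := .of (startD 0 1) (by decide +kernel)
theorem r106_6 : R9 F (g wAd) b106 [] 2 0 := .of (startD 0 1) (by decide +kernel)
theorem r106_7 : R9 F (g wAd) b106 [] 2 1 := .of (startD 0 1) (by decide +kernel)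
theorem r106_8 : R9 F (g wAd) b106 [] 2 2 := .of (startD 0 1) (by decide +kernel)
theorem g106 : Gd F (g wAd) (0, d106) [] :=
  good9 ok h106 r106_0 r106_1 r106_2 r106_3 r106_4 r106_5 r106_6 r106_7 r106_8

def b107 : Wd := ⟨0, d107,
  [.Z10, .Z9, .Z7, .Z2, .X9, .X8, .X7, .X5, .X4, .X3, .X1, .X0, .y9, .y8, .y7, .y5, .y3, .y2, .p, .hi, .p, .hi, .p8,
   .hi, .p8, .hi, .p2, .hi, .xii, .p3, .hi, .xii, .y7, .p6, .taui, .xii, .p, .xii, .hi, .y8, .xii, .y5, .y9, .y10,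
   .tau, .X0, .p8, .xii, .y4, .p3, .xii, .y8, .p, .tau, .xii, .p5, .xii, .y1, .y3, .p10, .taui, .xii, .p],
  [.z, .Z7, .Z6, .Z5, .Z2, .Z0, .X10, .X8, .X5, .X4, .X1, .y9, .y6, .y5, .y3, .y2, .y1, .p10, .hi, .p4, .hi, .p9, .hi,
   .p8, .hi, .p, .hi, .p4, .xii, .p, .xii, .y1, .y3, .hi, .p10, .taui, .y1, .xii, .y2, .hi, .xii, .y10, .p10, .xii,
   .y4, .y9, .tau, .p5, .xii, .y9, .p7, .xii, .y7, .hi, .p7, .taui, .xii, .p6, .xii, .hi, .p3, .y5, .taui, .xii, .p7],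
  [.z, .Z10, .Z9, .Z7, .Z6, .Z1, .Z0, .X10, .X6, .X5, .X3, .X2, .X1, .X0, .y4, .y3, .y1, .p3, .hi, .p4, .hi, .p4, .hi,
   .p8, .hi, .p10, .xii, .hi, .p10, .hi, .p8, .taui, .xii, .p, .xii, .y1, .hi, .xii, .y1, .y2, .taui, .p2, .xii, .p5,
   .xii, .p8, .y2, .y7, .tau, .xii, .p8, .xii, .y1, .p4, .xii, .y8, .taui, .xii, .y6, .p2]⟩

theorem h107 : Hd F (g wAd) b107 := hdD (by decide +kernel)
theorem r107_0 : R9 F (g wAd) b107 [] 0 0 := .of (startD 0 1) (by decide +kernel)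
theorem r107_1 : R9 F (g wAd) b107 [] 0 1 := .of (startD 0 1) (by decide +kernel)
theorem r107_2 : R9 F (g wAd) b107 [] 0 2 := .of (startD 0 1) (by decide +kernel)
theorem r107_3 : R9 F (g wAd) b107 [] 1 0 := .of (startD 0 1) (by decide +kernel)
theorem r107_4 : R9 F (g wAd) b107 [] 1 1 := .of (startD 0 1) (by decide +kernel)
theorem r107_5 : R9 F (g wAd) b107 [] 1 2 := .of (startD 0 1) (by decide +kernel)
theorem r107_6 : R9 F (g wAd) b107 [] 2 0 := .of (startD 0 1) (by decide +kernel)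
theorem r107_7 : R9 F (g wAd) b107 [] 2 1 := .of (startD 0 1) (by decide +kernel)
theorem r107_8 : R9 F (g wAd) b107 [] 2 2 := .of (startD 0 1) (by decide +kernel)
theorem g107 : Gd F (g wAd) (0, d107) [] :=
  good9 ok h107 r107_0 r107_1 r107_2 r107_3 r107_4 r107_5 r107_6 r107_7 r107_8

def b108 : Wd := ⟨0, d108,
  [.Z10, .Z6, .X10, .X8, .X5, .X2, .X0, .y9, .y7, .y4, .y2, .y1, .p, .hi, .p7, .hi, .p10, .hi, .p7, .hi, .p10, .hi,
   .xii, .p, .xii, .p9, .y7, .xii, .y8, .taui, .xii, .y2, .p, .xii, .y4, .hi, .xii, .y4, .y6, .tau, .p2, .xii, .p4,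
   .xii, .y6, .y10, .p10, .hi, .p8, .tau, .xii, .hi, .p5, .xii, .hi, .p8, .taui, .xii, .p, .hi],
  [.z, .Z9, .Z7, .Z2, .Z1, .Z0, .X10, .X9, .X7, .X5, .X2, .X1, .X0, .y8, .y4, .p7, .hi, .p, .hi, .p6, .hi, .p8, .hi,
   .p2, .hi, .xii, .y2, .hi, .xii, .p9, .xii, .y6, .tau, .xii, .p, .xii, .y1, .y10, .hi, .xii, .y4, .y7, .tau, .p4,
   .xii, .p, .xii, .y7, .hi, .p, .hi, .tau, .xii, .p9, .xii, .y6, .p7, .hi],
  [.z, .Z9, .Z7, .Z5, .Z4, .Z1, .X10, .X9, .X8, .X5, .X4, .X0, .y7, .p, .hi, .p6, .hi, .p4, .hi, .xii, .p, .xii, .p8,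
   .y5, .xii, .y7, .tau, .xii, .p, .xii, .y1, .hi, .xii, .y5, .taui, .hi, .xii, .p3, .xii, .p2, .y10, .xii, .y8, .tau,
   .xii, .y2, .p9, .xii, .p3, .xii, .y10, .taui, .xii, .y7, .hi, .p]⟩

theorem h108 : Hd F (g wAd) b108 := hdD (by decide +kernel)
theorem r108_0 : R9 F (g wAd) b108 [] 0 0 := .of (startD 0 1) (by decide +kernel)
theorem r108_1 : R9 F (g wAd) b108 [] 0 1 := .of (startD 0 1) (by decide +kernel)
theorem r108_2 : R9 F (g wAd) b108 [] 0 2 := .of (startD 0 1) (by decide +kernel)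
theorem r108_3 : R9 F (g wAd) b108 [] 1 0 := .of (startD 0 1) (by decide +kernel)
theorem r108_4 : R9 F (g wAd) b108 [] 1 1 := .of (startD 0 1) (by decide +kernel)
theorem r108_5 : R9 F (g wAd) b108 [] 1 2 := .of (startD 0 1) (by decide +kernel)
theorem r108_6 : R9 F (g wAd) b108 [] 2 0 := .of (startD 0 1) (by decide +kernel)
theorem r108_7 : R9 F (g wAd) b108 [] 2 1 := .of (startD 0 1) (by decide +kernel)
theorem r108_8 : R9 F (g wAd) b108 [] 2 2 := .of (startD 0 1) (by decide +kernel)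
theorem g108 : Gd F (g wAd) (0, d108) [] :=
  good9 ok h108 r108_0 r108_1 r108_2 r108_3 r108_4 r108_5 r108_6 r108_7 r108_8

def b109 : Wd := ⟨0, d109,
  [.z, .Z10, .Z9, .Z7, .Z2, .Z1, .Z0, .X9, .X5, .X3, .y7, .y2, .p2, .hi, .p5, .hi, .p4, .hi, .p7, .hi, .p8, .xii, .hi,
   .xii, .p6, .xii, .y3, .y9, .tau, .xii, .p, .xii, .y4, .y10, .hi, .xii, .y5, .taui, .xii, .y2, .p, .xii, .y2, .hi,
   .xii, .y3, .y10, .tau, .X0, .p5, .xii, .y7, .p, .xii, .taui, .xii, .p9, .xii, .p3, .y8, .xii, .y3, .y7, .tau, .xii,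
   .y6, .hi],
  [.z, .Z8, .Z7, .Z6, .Z5, .Z4, .Z1, .Z0, .X9, .X5, .X3, .X1, .X0, .y10, .y8, .y7, .y2, .y1, .p, .hi, .p5, .hi, .p4,
   .hi, .p8, .hi, .p4, .xii, .hi, .p8, .xii, .y9, .y10, .taui, .xii, .p, .xii, .hi, .y8, .xii, .y7, .y8, .tau, .p9,
   .xii, .p3, .xii, .p, .y5, .hi, .p8, .taui, .xii, .y2, .p9, .xii, .p9, .xii, .y2, .tau, .xii],
  [.Z10, .Z7, .Z3, .Z1, .Z0, .X10, .X9, .X8, .X2, .X1, .y10, .y8, .y7, .y3, .y2, .y1, .p10, .hi, .p7, .hi, .p3, .hi,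
   .p, .hi, .p5, .hi, .p5, .xii, .p3, .hi, .xii, .y7, .p6, .tau, .xii, .y6, .p, .xii, .y2, .p, .xii, .y6, .tau, .X0,
   .xii, .y2, .p9, .xii, .y3, .hi, .xii, .y8, .tau, .xii, .p5, .xii, .p5, .y10, .xii, .y1, .taui, .xii, .y6, .p10]⟩

theorem h109 : Hd F (g wAd) b109 := hdD (by decide +kernel)
theorem r109_0 : R9 F (g wAd) b109 [] 0 0 := .of (startD 0 1) (by decide +kernel)
theorem r109_1 : R9 F (g wAd) b109 [] 0 1 := .of (startD 0 1) (by decide +kernel)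
theorem r109_2 : R9 F (g wAd) b109 [] 0 2 := .of (startD 0 1) (by decide +kernel)
theorem r109_3 : R9 F (g wAd) b109 [] 1 0 := .of (startD 0 1) (by decide +kernel)
theorem r109_4 : R9 F (g wAd) b109 [] 1 1 := .of (startD 0 1) (by decide +kernel)
theorem r109_5 : R9 F (g wAd) b109 [] 1 2 := .of (startD 0 1) (by decide +kernel)
theorem r109_6 : R9 F (g wAd) b109 [] 2 0 := .of (startD 0 1) (by decide +kernel)
theorem r109_7 : R9 F (g wAd) b109 [] 2 1 := .of (startD 0 1) (by decide +kernel)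
theorem r109_8 : R9 F (g wAd) b109 [] 2 2 := .of (startD 0 1) (by decide +kernel)
theorem g109 : Gd F (g wAd) (0, d109) [] :=
  good9 ok h109 r109_0 r109_1 r109_2 r109_3 r109_4 r109_5 r109_6 r109_7 r109_8

theorem all : AllG F (g wAd) LD10 :=
  .cons g100 (.cons g101 (.cons g102 (.cons g103 (.cons g104 (.cons g105 (.cons g106 (.cons g107 (.cons g108 (.cons g109 (.nil))))))))))

end Cfsg.Agent.BX.No33.Bk.D10
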