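import Cfsg.Agent.BX.No33.Cheap
set_option linter.all false

/-!
# Tests, diagonal case, part 12 (helper5; generated)
-/

set_option autoImplicit false
set_option maxRecDepth 100000
set_option Elab.async false

namespace Cfsg.Agent.BX.No33.Bk.D12

open Cfsg.Agent.H819.U33 Cfsg.Agent.BX.No33.Front

def b120 : Wd := ⟨0, d120,
  [.Z10, .Z8, .Z6, .Z0, .X7, .X6, .X5, .X3, .X2, .X0, .y10, .y5, .y2, .hi, .p5, .hi, .p3, .hi, .p5, .hi, .p4, .hi,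
   .p2, .hi, .xii, .p10, .xii, .y8, .p10, .xii, .y3, .y7, .taui, .xii, .p, .xii, .y1, .hi, .xii, .y3, .y10, .taui,
   .X0, .p10, .xii, .y8, .p, .hi, .p8, .xii, .p2, .taui, .xii, .p5, .xii, .p5, .y3, .xii, .y1, .tau, .xii, .p4],
  [.z, .Z10, .Z7, .Z5, .Z4, .Z3, .Z0, .X10, .X8, .X5, .y9, .y8, .y6, .y5, .y4, .p4, .hi, .p7, .hi, .p3, .hi, .p2,
   .xii, .p10, .xii, .y5, .p9, .xii, .y2, .y7, .taui, .xii, .y6, .p, .xii, .y4, .p, .xii, .y3, .tau, .X0, .p10, .xii,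
   .y5, .p8, .xii, .y2, .y9, .taui, .xii, .p4, .hi, .p10, .xii, .p3, .taui, .xii, .y2, .p2],
  [.Z5, .Z4, .Z2, .Z0, .X9, .X7, .X6, .X2, .X1, .y10, .y9, .y3, .p10, .hi, .p9, .hi, .p7, .hi, .p8, .hi, .p9, .hi,
   .p3, .hi, .xii, .y2, .p10, .hi, .p6, .hi, .p2, .tau, .y1, .xii, .y2, .hi, .xii, .y10, .p10, .xii, .y4, .tau, .X0,
   .xii, .p5, .xii, .y4, .hi, .xii, .y5, .y8, .tau, .xii, .p7, .xii, .y1, .p9, .xii, .y8, .tau, .xii, .y7, .p5]⟩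

theorem h120 : Hd F (g wAd) b120 := hdD (by decide +kernel)
theorem r120_0 : R9 F (g wAd) b120 [] 0 0 := .of (startD 0 1) (by decide +kernel)
theorem r120_1 : R9 F (g wAd) b120 [] 0 1 := .of (startD 0 1) (by decide +kernel)
theorem r120_2 : R9 F (g wAd) b120 [] 0 2 := .of (startD 0 1) (by decide +kernel)
theorem r120_3 : R9 F (g wAd) b120 [] 1 0 := .of (startD 0 1) (by decide +kernel)
theorem r120_4 : R9 F (g wAd) b120 [] 1 1 := .of (startD 0 1) (by decide +kernel)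
theorem r120_5 : R9 F (g wAd) b120 [] 1 2 := .of (startD 0 1) (by decide +kernel)
theorem r120_6 : R9 F (g wAd) b120 [] 2 0 := .of (startD 0 1) (by decide +kernel)
theorem r120_7 : R9 F (g wAd) b120 [] 2 1 := .of (startD 0 1) (by decide +kernel)
theorem r120_8 : R9 F (g wAd) b120 [] 2 2 := .of (startD 0 1) (by decide +kernel)
theorem g120 : Gd F (g wAd) (0, d120) [] :=
  good9 ok h120 r120_0 r120_1 r120_2 r120_3 r120_4 r120_5 r120_6 r120_7 r120_8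

def b121 : Wd := ⟨0, d121,
  [.Z10, .Z9, .Z6, .Z3, .Z2, .Z1, .Z0, .X10, .X5, .X4, .X0, .y7, .y6, .p7, .hi, .p4, .hi, .p8, .hi, .p4, .hi, .p4,
   .hi, .xii, .hi, .xii, .p3, .hi, .p5, .tau, .xii, .y6, .p, .xii, .y10, .p, .xii, .y4, .y6, .taui, .y1, .xii, .p10,
   .xii, .y1, .p10, .xii, .taui, .X0, .hi, .xii, .p10, .xii, .y7, .tau, .xii, .p7, .xii, .y6, .p2, .y6, .tau, .xii,
   .y2, .p2],
  [.z, .Z10, .Z9, .Z7, .Z6, .Z5, .Z4, .Z3, .Z2, .X10, .X9, .X7, .X5, .X4, .X2, .X1, .X0, .y6, .y4, .y2, .y1, .p4, .hi,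
   .p9, .hi, .p4, .hi, .p8, .hi, .xii, .hi, .p8, .xii, .y10, .taui, .X0, .y1, .p6, .xii, .p, .xii, .hi, .p4, .tau,
   .X0, .p7, .xii, .hi, .xii, .p7, .y9, .tau, .xii, .hi, .p6, .xii, .y10, .tau, .xii, .p2],
  [.z, .Z10, .Z5, .Z4, .Z3, .Z2, .Z1, .Z0, .X9, .X7, .X6, .X5, .X3, .X0, .y8, .y4, .y3, .p9, .hi, .p8, .hi, .p8, .hi,
   .p6, .hi, .p4, .xii, .hi, .xii, .y8, .p2, .xii, .y3, .tau, .y1, .xii, .p10, .xii, .y2, .p10, .xii, .taui, .p7,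
   .xii, .p7, .xii, .y5, .hi, .p7, .taui, .xii, .y2, .p9, .xii, .y1, .p6, .xii, .y5, .taui, .xii, .p4, .hi, .p5]⟩

theorem h121 : Hd F (g wAd) b121 := hdD (by decide +kernel)
theorem r121_0 : R9 F (g wAd) b121 [] 0 0 := .of (startD 0 1) (by decide +kernel)
theorem r121_1 : R9 F (g wAd) b121 [] 0 1 := .of (startD 0 2) (by decide +kernel)
theorem r121_2 : R9 F (g wAd) b121 [] 0 2 := .of (startD 0 2) (by decide +kernel)
theorem r121_3 : R9 F (g wAd) b121 [] 1 0 := .of (startD 0 1) (by decide +kernel)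
theorem r121_4 : R9 F (g wAd) b121 [] 1 1 := .of (startD 0 1) (by decide +kernel)
theorem r121_5 : R9 F (g wAd) b121 [] 1 2 := .of (startD 0 1) (by decide +kernel)
theorem r121_6 : R9 F (g wAd) b121 [] 2 0 := .of (startD 0 1) (by decide +kernel)
theorem r121_7 : R9 F (g wAd) b121 [] 2 1 := .of (startD 0 1) (by decide +kernel)
theorem r121_8 : R9 F (g wAd) b121 [] 2 2 := .of (startD 0 1) (by decide +kernel)
theorem g121 : Gd F (g wAd) (0, d121) [] :=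
  good9 ok h121 r121_0 r121_1 r121_2 r121_3 r121_4 r121_5 r121_6 r121_7 r121_8

def b122 : Wd := ⟨0, d122,
  [.Z10, .Z8, .Z6, .Z5, .Z3, .Z1, .Z0, .X10, .X7, .X6, .X5, .X3, .y8, .y7, .y6, .y5, .y4, .y3, .y2, .p9, .hi, .p10,
   .hi, .p4, .hi, .p9, .hi, .p10, .hi, .p3, .hi, .xii, .p2, .hi, .xii, .y8, .tau, .xii, .p, .xii, .y1, .hi, .xii, .y5,
   .y9, .taui, .X0, .p5, .xii, .y5, .p6, .xii, .y6, .p5, .hi, .p6, .taui, .xii, .p7, .xii, .p7, .xii, .y7, .y10, .tau,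
   .xii, .y2, .p7],
  [.z, .Z10, .Z9, .Z8, .Z6, .Z4, .Z3, .Z0, .X10, .X9, .X5, .X1, .X0, .y10, .y9, .y7, .y6, .y5, .y3, .y1, .hi, .p8,
   .hi, .p3, .hi, .p, .hi, .p5, .xii, .p, .xii, .p3, .y1, .hi, .taui, .X0, .p10, .xii, .y7, .p2, .xii, .p, .hi, .p5,
   .taui, .xii, .p5, .hi, .xii, .y4, .p6, .tau, .xii, .hi, .p10, .hi],
  [.Z8, .Z2, .Z0, .X9, .X8, .X5, .X4, .X3, .X2, .X1, .X0, .y10, .y9, .y8, .y5, .y4, .y3, .p4, .hi, .p4, .hi, .p7, .hi,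
   .p10, .hi, .p8, .hi, .p2, .xii, .y2, .p10, .xii, .y5, .p5, .xii, .y9, .taui, .y1, .xii, .y2, .hi, .xii, .p10, .xii,
   .y2, .y10, .tau, .y1, .xii, .p10, .xii, .y1, .p10, .y9, .xii, .y10, .taui, .X0, .p8, .xii, .p10, .xii, .y6, .tau,
   .xii, .p7, .xii, .y4, .p5, .xii, .y5, .taui, .xii, .p6]⟩

theorem h122 : Hd F (g wAd) b122 := hdD (by decide +kernel)
theorem r122_0 : R9 F (g wAd) b122 [] 0 0 := .of (startD 0 1) (by decide +kernel)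
theorem r122_1 : R9 F (g wAd) b122 [] 0 1 := .of (startD 0 1) (by decide +kernel)
theorem r122_2 : R9 F (g wAd) b122 [] 0 2 := .of (startD 0 1) (by decide +kernel)
theorem r122_3 : R9 F (g wAd) b122 [] 1 0 := .of (startD 0 1) (by decide +kernel)
theorem r122_4 : R9 F (g wAd) b122 [] 1 1 := .of (startD 0 1) (by decide +kernel)
theorem r122_5 : R9 F (g wAd) b122 [] 1 2 := .of (startD 0 1) (by decide +kernel)
theorem r122_6 : R9 F (g wAd) b122 [] 2 0 := .of (startD 0 1) (by decide +kernel)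
theorem r122_7 : R9 F (g wAd) b122 [] 2 1 := .of (startD 0 1) (by decide +kernel)
theorem r122_8 : R9 F (g wAd) b122 [] 2 2 := .of (startD 0 1) (by decide +kernel)
theorem g122 : Gd F (g wAd) (0, d122) [] :=
  good9 ok h122 r122_0 r122_1 r122_2 r122_3 r122_4 r122_5 r122_6 r122_7 r122_8

def b123 : Wd := ⟨0, d123,
  [.Z5, .Z3, .Z1, .X9, .X6, .X4, .X2, .X1, .X0, .y10, .y9, .y7, .y6, .y4, .y3, .y1, .hi, .p4, .hi, .p3, .hi, .p6, .hi,
   .p7, .hi, .p10, .hi, .p7, .xii, .y2, .p10, .hi, .p2, .hi, .p10, .taui, .xii, .y2, .p3, .hi, .xii, .p3, .hi, .taui,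
   .p4, .xii, .p9, .xii, .p3, .y9, .taui, .xii, .p5, .hi, .p10, .xii, .y6, .tau, .xii, .hi, .p6],
  [.z, .Z10, .Z9, .Z8, .Z7, .Z6, .Z4, .Z3, .Z2, .Z1, .X10, .X9, .X8, .X4, .X1, .X0, .y8, .y7, .y3, .p10, .hi, .p, .hi,
   .p6, .hi, .p, .hi, .p2, .xii, .hi, .xii, .p10, .y8, .xii, .y10, .taui, .xii, .p, .xii, .y3, .y10, .hi, .xii, .y6,
   .taui, .X0, .y1, .hi, .xii, .p8, .xii, .y1, .y2, .p6, .hi, .tau, .xii, .p9, .xii, .y2, .p10, .y10, .tau, .xii, .y2,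
   .p],
  [.Z5, .Z2, .Z0, .X10, .X9, .X7, .X6, .X2, .X1, .X0, .y9, .y8, .y7, .y4, .y1, .p9, .hi, .p10, .hi, .p5, .hi, .p4,
   .hi, .p6, .hi, .p10, .xii, .p10, .xii, .y1, .p8, .tau, .xii, .p, .xii, .y4, .hi, .xii, .y7, .y10, .tau, .X0, .p10,
   .xii, .p9, .xii, .p, .hi, .y9, .taui, .xii, .y2, .p9, .xii, .p3, .xii, .y3, .y4, .tau, .xii, .hi, .p, .hi]⟩

theorem h123 : Hd F (g wAd) b123 := hdD (by decide +kernel)
theorem r123_0 : R9 F (g wAd) b123 [] 0 0 := .of (startD 0 1) (by decide +kernel)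
theorem r123_1 : R9 F (g wAd) b123 [] 0 1 := .of (startD 0 1) (by decide +kernel)
theorem r123_2 : R9 F (g wAd) b123 [] 0 2 := .of (startD 0 1) (by decide +kernel)
theorem r123_3 : R9 F (g wAd) b123 [] 1 0 := .of (startD 0 1) (by decide +kernel)
theorem r123_4 : R9 F (g wAd) b123 [] 1 1 := .of (startD 0 1) (by decide +kernel)
theorem r123_5 : R9 F (g wAd) b123 [] 1 2 := .of (startD 0 1) (by decide +kernel)
theorem r123_6 : R9 F (g wAd) b123 [] 2 0 := .of (startD 0 1) (by decide +kernel)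
theorem r123_7 : R9 F (g wAd) b123 [] 2 1 := .of (startD 0 1) (by decide +kernel)
theorem r123_8 : R9 F (g wAd) b123 [] 2 2 := .of (startD 0 1) (by decide +kernel)
theorem g123 : Gd F (g wAd) (0, d123) [] :=
  good9 ok h123 r123_0 r123_1 r123_2 r123_3 r123_4 r123_5 r123_6 r123_7 r123_8

def b124 : Wd := ⟨0, d124,
  [.Z7, .Z6, .Z4, .Z1, .X10, .X9, .X8, .X6, .X5, .X4, .X3, .X0, .y9, .y7, .y1, .p2, .hi, .p6, .hi, .p7, .hi, .p9,
   .xii, .y2, .p, .xii, .p8, .xii, .y5, .y9, .taui, .xii, .p, .xii, .hi, .y8, .xii, .y2, .y4, .y7, .taui, .xii, .p,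
   .xii, .y4, .hi, .xii, .y6, .y10, .taui, .X0, .p8, .xii, .y4, .p4, .xii, .tau, .xii, .p3, .xii, .y2, .hi, .xii, .y7,
   .tau, .xii, .p7],
  [.Z10, .Z9, .Z8, .Z5, .Z4, .Z2, .X8, .X7, .X6, .X5, .y10, .y9, .y5, .p3, .hi, .p9, .hi, .p9, .hi, .p4, .hi, .p5,
   .hi, .p4, .xii, .p3, .hi, .xii, .p10, .y3, .tau, .xii, .y2, .p3, .hi, .xii, .y1, .y3, .tau, .p10, .xii, .y2, .p8,
   .xii, .y6, .tau, .xii, .p4, .xii, .y1, .y3, .p4, .xii, .y3, .taui, .xii, .hi],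
  [.z, .Z10, .Z5, .Z0, .X9, .X7, .X6, .X3, .X2, .X1, .y10, .y7, .y6, .y5, .y4, .p10, .hi, .p7, .hi, .p5, .hi, .p9,
   .hi, .p5, .hi, .p4, .hi, .xii, .y2, .p, .xii, .y3, .p9, .taui, .xii, .p, .xii, .y1, .y6, .hi, .xii, .y6, .tau, .X0,
   .p10, .xii, .y10, .p2, .xii, .y3, .hi, .p9, .tau, .xii, .p4, .xii, .p5, .y9, .xii, .y1, .y10, .tau, .xii, .p4]⟩

theorem h124 : Hd F (g wAd) b124 := hdD (by decide +kernel)
theorem r124_0 : R9 F (g wAd) b124 [] 0 0 := .of (startD 0 1) (by decide +kernel)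
theorem r124_1 : R9 F (g wAd) b124 [] 0 1 := .of (startD 0 1) (by decide +kernel)
theorem r124_2 : R9 F (g wAd) b124 [] 0 2 := .of (startD 0 1) (by decide +kernel)
theorem r124_3 : R9 F (g wAd) b124 [] 1 0 := .of (startD 0 1) (by decide +kernel)
theorem r124_4 : R9 F (g wAd) b124 [] 1 1 := .of (startD 0 1) (by decide +kernel)
theorem r124_5 : R9 F (g wAd) b124 [] 1 2 := .of (startD 0 1) (by decide +kernel)
theorem r124_6 : R9 F (g wAd) b124 [] 2 0 := .of (startD 0 1) (by decide +kernel)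
theorem r124_7 : R9 F (g wAd) b124 [] 2 1 := .of (startD 0 1) (by decide +kernel)
theorem r124_8 : R9 F (g wAd) b124 [] 2 2 := .of (startD 0 1) (by decide +kernel)
theorem g124 : Gd F (g wAd) (0, d124) [] :=
  good9 ok h124 r124_0 r124_1 r124_2 r124_3 r124_4 r124_5 r124_6 r124_7 r124_8

def b125 : Wd := ⟨0, d125,
  [.Z10, .Z9, .Z7, .Z6, .Z3, .Z2, .Z1, .X10, .X7, .X5, .X3, .X2, .y10, .y9, .y8, .y7, .y4, .y2, .y1, .p10, .hi, .p5,
   .hi, .p5, .hi, .p10, .hi, .p4, .hi, .p, .hi, .p6, .tau, .xii, .y1, .p, .xii, .p, .xii, .y5, .y10, .taui, .p6, .xii,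
   .y8, .p2, .xii, .y7, .p2, .hi, .tau, .xii, .p4, .xii, .y1, .hi, .y4, .tau, .xii, .y2, .hi, .p6],
  [.z, .Z10, .Z9, .Z7, .Z5, .X9, .X8, .X2, .X1, .X0, .y9, .y8, .y5, .y4, .y1, .p4, .hi, .p6, .hi, .p6, .hi, .p7, .hi,
   .p10, .xii, .hi, .p10, .hi, .p8, .tau, .y1, .xii, .p10, .xii, .y1, .y7, .p10, .xii, .tau, .p4, .xii, .p5, .xii,
   .p4, .y7, .hi, .p, .taui, .xii, .p5, .xii, .p5, .y5, .xii, .y2, .y10, .tau, .xii, .y6, .hi, .p2],
  [.Z9, .Z8, .Z7, .Z6, .Z5, .Z4, .Z2, .X10, .X8, .X6, .X4, .X2, .y8, .y5, .y3, .y1, .p5, .hi, .p10, .hi, .p2, .hi,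
   .p8, .xii, .p10, .xii, .y6, .p2, .xii, .y1, .tau, .y1, .xii, .p10, .xii, .y1, .p10, .xii, .y1, .y3, .taui, .y1,
   .xii, .y6, .p9, .xii, .p8, .xii, .y8, .y9, .p7, .taui, .xii, .p7, .xii, .y2, .y10, .p9, .xii, .y2, .taui]⟩

theorem h125 : Hd F (g wAd) b125 := hdD (by decide +kernel)
theorem r125_0 : R9 F (g wAd) b125 [] 0 0 := .of (startD 0 1) (by decide +kernel)
theorem r125_1 : R9 F (g wAd) b125 [] 0 1 := .of (startD 0 1) (by decide +kernel)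
theorem r125_2 : R9 F (g wAd) b125 [] 0 2 := .of (startD 0 1) (by decide +kernel)
theorem r125_3 : R9 F (g wAd) b125 [] 1 0 := .of (startD 0 1) (by decide +kernel)
theorem r125_4 : R9 F (g wAd) b125 [] 1 1 := .of (startD 0 1) (by decide +kernel)
theorem r125_5 : R9 F (g wAd) b125 [] 1 2 := .of (startD 0 1) (by decide +kernel)
theorem r125_6 : R9 F (g wAd) b125 [] 2 0 := .of (startD 0 1) (by decide +kernel)
theorem r125_7 : R9 F (g wAd) b125 [] 2 1 := .of (startD 0 1) (by decide +kernel)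
theorem r125_8 : R9 F (g wAd) b125 [] 2 2 := .of (startD 0 1) (by decide +kernel)
theorem g125 : Gd F (g wAd) (0, d125) [] :=
  good9 ok h125 r125_0 r125_1 r125_2 r125_3 r125_4 r125_5 r125_6 r125_7 r125_8

def b126 : Wd := ⟨0, d126,
  [.Z10, .Z8, .Z5, .Z4, .Z3, .Z2, .Z1, .X10, .X8, .X2, .y10, .y9, .y8, .y7, .y6, .y5, .y4, .y2, .y1, .hi, .p4, .hi,
   .p5, .hi, .p9, .hi, .p8, .hi, .p3, .xii, .p, .xii, .y10, .p9, .taui, .xii, .y2, .p, .xii, .y3, .hi, .xii, .y4, .y7,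
   .tau, .p5, .xii, .y2, .y3, .hi, .xii, .p3, .hi, .p9, .taui, .xii, .p4, .xii, .p4, .xii, .y6, .tau, .xii, .hi, .p4],
  [.z, .Z10, .Z6, .Z5, .Z4, .Z2, .Z1, .X10, .X9, .X7, .X6, .X4, .X3, .X1, .y9, .y8, .y7, .y6, .y3, .y2, .y1, .hi,
   .p10, .hi, .p5, .hi, .p4, .hi, .p10, .hi, .xii, .hi, .xii, .p10, .xii, .y2, .tau, .y1, .xii, .p10, .xii, .y8, .p10,
   .xii, .y2, .y10, .taui, .xii, .p7, .xii, .y7, .p7, .xii, .p6, .y3, .taui, .xii, .p7, .xii, .y4, .y5, .p4],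
  [.Z9, .Z8, .Z6, .Z5, .Z4, .Z3, .Z1, .Z0, .X9, .X2, .y9, .y7, .y5, .y1, .p9, .hi, .p6, .hi, .p, .hi, .p4, .hi, .p5,
   .xii, .hi, .xii, .p2, .xii, .y1, .y8, .taui, .xii, .y1, .p, .xii, .p, .xii, .y4, .y5, .tau, .X0, .p9, .xii, .p2,
   .xii, .hi, .p3, .y4, .tau, .xii, .p7, .xii, .y2, .y9, .p9, .xii, .tau, .xii, .p4, .hi, .p9]⟩

theorem h126 : Hd F (g wAd) b126 := hdD (by decide +kernel)
theorem r126_0 : R9 F (g wAd) b126 [] 0 0 := .of (startD 0 1) (by decide +kernel)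
theorem r126_1 : R9 F (g wAd) b126 [] 0 1 := .of (startD 0 1) (by decide +kernel)
theorem r126_2 : R9 F (g wAd) b126 [] 0 2 := .of (startD 0 1) (by decide +kernel)
theorem r126_3 : R9 F (g wAd) b126 [] 1 0 := .of (startD 0 1) (by decide +kernel)
theorem r126_4 : R9 F (g wAd) b126 [] 1 1 := .of (startD 0 1) (by decide +kernel)
theorem r126_5 : R9 F (g wAd) b126 [] 1 2 := .of (startD 0 1) (by decide +kernel)
theorem r126_6 : R9 F (g wAd) b126 [] 2 0 := .of (startD 0 1) (by decide +kernel)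
theorem r126_7 : R9 F (g wAd) b126 [] 2 1 := .of (startD 0 1) (by decide +kernel)
theorem r126_8 : R9 F (g wAd) b126 [] 2 2 := .of (startD 0 1) (by decide +kernel)
theorem g126 : Gd F (g wAd) (0, d126) [] :=
  good9 ok h126 r126_0 r126_1 r126_2 r126_3 r126_4 r126_5 r126_6 r126_7 r126_8

def b127 : Wd := ⟨0, d127,
  [.z, .Z10, .Z9, .Z7, .Z6, .Z5, .Z4, .Z3, .Z2, .Z1, .X10, .X8, .X3, .X2, .X1, .X0, .y8, .y6, .p4, .hi, .p9, .hi, .p,
   .hi, .p5, .hi, .p3, .hi, .p7, .xii, .y2, .hi, .xii, .p10, .xii, .y8, .y9, .tau, .xii, .y6, .p, .hi, .xii, .y6,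
   .tau, .p8, .xii, .hi, .p6, .xii, .y3, .p5, .taui, .xii, .hi, .p5, .xii, .y10, .p10, .hi, .taui, .xii, .p7],
  [.z, .Z10, .Z9, .Z6, .Z5, .Z3, .X8, .X6, .X4, .X3, .y9, .y6, .y5, .y3, .p10, .hi, .p2, .hi, .p6, .hi, .p3, .hi, .p,
   .xii, .y2, .p10, .xii, .tau, .xii, .y6, .p, .xii, .p, .xii, .y4, .y7, .y8, .tau, .y1, .hi, .xii, .hi, .p6, .xii,
   .p4, .y8, .hi, .taui, .xii, .p5, .xii, .y2, .hi, .p, .y1, .hi, .taui, .xii, .hi, .p8],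
  [.Z7, .Z6, .Z5, .Z4, .Z3, .Z1, .X8, .X7, .X6, .X5, .X3, .X2, .X0, .y4, .hi, .p8, .hi, .p10, .hi, .p7, .hi, .p6, .hi,
   .p, .hi, .p6, .hi, .xii, .y2, .p, .xii, .y1, .hi, .p4, .tau, .xii, .y6, .p, .xii, .y2, .p, .xii, .y5, .tau, .p7,
   .xii, .y4, .p7, .xii, .y10, .p9, .taui, .xii, .p8, .xii, .y2, .p8, .tau, .xii, .p5, .hi, .p2]⟩

theorem h127 : Hd F (g wAd) b127 := hdD (by decide +kernel)
theorem r127_0 : R9 F (g wAd) b127 [] 0 0 := .of (startD 0 1) (by decide +kernel)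
theorem r127_1 : R9 F (g wAd) b127 [] 0 1 := .of (startD 0 1) (by decide +kernel)
theorem r127_2 : R9 F (g wAd) b127 [] 0 2 := .of (startD 0 1) (by decide +kernel)
theorem r127_3 : R9 F (g wAd) b127 [] 1 0 := .of (startD 0 1) (by decide +kernel)
theorem r127_4 : R9 F (g wAd) b127 [] 1 1 := .of (startD 0 1) (by decide +kernel)
theorem r127_5 : R9 F (g wAd) b127 [] 1 2 := .of (startD 0 1) (by decide +kernel)
theorem r127_6 : R9 F (g wAd) b127 [] 2 0 := .of (startD 0 1) (by decide +kernel)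
theorem r127_7 : R9 F (g wAd) b127 [] 2 1 := .of (startD 0 1) (by decide +kernel)
theorem r127_8 : R9 F (g wAd) b127 [] 2 2 := .of (startD 0 1) (by decide +kernel)
theorem g127 : Gd F (g wAd) (0, d127) [] :=
  good9 ok h127 r127_0 r127_1 r127_2 r127_3 r127_4 r127_5 r127_6 r127_7 r127_8

def b128 : Wd := ⟨0, d128,
  [.z, .Z10, .Z7, .Z5, .Z1, .Z0, .X10, .X9, .X8, .X5, .X4, .X3, .X2, .y10, .y8, .y3, .y2, .hi, .p3, .hi, .p10, .hi,
   .p, .hi, .p9, .hi, .xii, .p, .xii, .y10, .p7, .xii, .y4, .taui, .xii, .p, .xii, .hi, .y8, .xii, .y3, .y4, .tau,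
   .p4, .xii, .y2, .p5, .xii, .y2, .tau, .xii, .y2, .p, .hi, .p8, .xii, .hi, .p9, .taui, .xii, .y2, .p],
  [.z, .Z10, .Z9, .Z7, .Z5, .Z3, .Z0, .X8, .X7, .X4, .X1, .y10, .y2, .y1, .hi, .p4, .hi, .p4, .hi, .p4, .hi, .p3, .hi,
   .p7, .xii, .p, .xii, .hi, .p4, .y2, .tau, .xii, .y2, .p, .xii, .y3, .hi, .xii, .y5, .y10, .taui, .X0, .p2, .xii,
   .p4, .xii, .y1, .y4, .p3, .hi, .p4, .taui, .xii, .y2, .p5, .xii, .y8, .p10, .tau, .xii, .y2, .p7],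
  [.Z8, .Z7, .Z6, .Z3, .Z1, .X10, .X9, .X7, .X4, .X1, .X0, .y8, .y7, .y4, .y1, .p9, .hi, .p9, .hi, .p3, .hi, .p9, .hi,
   .p, .hi, .p2, .xii, .p, .xii, .y6, .p2, .hi, .taui, .xii, .p, .xii, .y2, .y10, .hi, .xii, .y4, .y5, .taui, .p10,
   .xii, .y4, .p5, .xii, .p8, .xii, .y2, .taui, .xii, .p9, .xii, .p2, .hi, .y10, .p3, .taui, .xii, .y2, .p, .hi]⟩

theorem h128 : Hd F (g wAd) b128 := hdD (by decide +kernel)
theorem r128_0 : R9 F (g wAd) b128 [] 0 0 := .of (startD 0 1) (by decide +kernel)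
theorem r128_1 : R9 F (g wAd) b128 [] 0 1 := .of (startD 0 1) (by decide +kernel)
theorem r128_2 : R9 F (g wAd) b128 [] 0 2 := .of (startD 0 1) (by decide +kernel)
theorem r128_3 : R9 F (g wAd) b128 [] 1 0 := .of (startD 0 1) (by decide +kernel)
theorem r128_4 : R9 F (g wAd) b128 [] 1 1 := .of (startD 0 1) (by decide +kernel)
theorem r128_5 : R9 F (g wAd) b128 [] 1 2 := .of (startD 0 1) (by decide +kernel)
theorem r128_6 : R9 F (g wAd) b128 [] 2 0 := .of (startD 0 1) (by decide +kernel)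
theorem r128_7 : R9 F (g wAd) b128 [] 2 1 := .of (startD 0 1) (by decide +kernel)
theorem r128_8 : R9 F (g wAd) b128 [] 2 2 := .of (startD 0 1) (by decide +kernel)
theorem g128 : Gd F (g wAd) (0, d128) [] :=
  good9 ok h128 r128_0 r128_1 r128_2 r128_3 r128_4 r128_5 r128_6 r128_7 r128_8

def b129 : Wd := ⟨0, d129,
  [.Z9, .Z6, .Z4, .Z2, .Z1, .X9, .X8, .X7, .X6, .X5, .X4, .X2, .X0, .y10, .y6, .y5, .y3, .y2, .p8, .hi, .p9, .hi, .p8,
   .hi, .p, .hi, .p7, .hi, .p6, .xii, .p, .xii, .y3, .p7, .tau, .xii, .p, .xii, .y4, .y10, .hi, .xii, .y5, .y10,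
   .taui, .xii, .p9, .xii, .p3, .xii, .p8, .y4, .y10, .taui, .xii, .p3, .xii, .y2, .p7, .xii, .y6, .tau, .xii, .p8],
  [.z, .Z9, .Z6, .Z5, .Z4, .Z3, .Z2, .Z1, .Z0, .X9, .X8, .X6, .X2, .y7, .y4, .y2, .y1, .p9, .hi, .p6, .hi, .p5, .hi,
   .p8, .hi, .p10, .hi, .p3, .hi, .xii, .y2, .p3, .hi, .taui, .xii, .p, .xii, .y1, .hi, .xii, .y7, .y8, .tau, .p7,
   .xii, .p6, .xii, .y1, .hi, .xii, .y5, .taui, .xii, .p3, .xii, .p2, .y5, .hi, .p6, .tau, .xii, .hi, .p8],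
  [.z, .Z10, .Z7, .Z5, .Z4, .Z2, .Z1, .X5, .X4, .X0, .y9, .y4, .y1, .hi, .p8, .hi, .p5, .hi, .p8, .hi, .p, .hi, .p6,
   .hi, .p2, .xii, .hi, .xii, .p2, .xii, .y4, .y5, .taui, .xii, .y6, .p, .xii, .y10, .p, .xii, .y3, .y4, .taui, .p6,
   .xii, .hi, .p5, .xii, .y9, .p3, .taui, .xii, .p5, .xii, .y4, .p7, .y5, .xii, .y7, .tau]⟩

theorem h129 : Hd F (g wAd) b129 := hdD (by decide +kernel)
theorem r129_0 : R9 F (g wAd) b129 [] 0 0 := .of (startD 0 1) (by decide +kernel)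
theorem r129_1 : R9 F (g wAd) b129 [] 0 1 := .of (startD 0 1) (by decide +kernel)
theorem r129_2 : R9 F (g wAd) b129 [] 0 2 := .of (startD 0 2) (by decide +kernel)
theorem r129_3 : R9 F (g wAd) b129 [] 1 0 := .of (startD 0 1) (by decide +kernel)
theorem r129_4 : R9 F (g wAd) b129 [] 1 1 := .of (startD 0 1) (by decide +kernel)
theorem r129_5 : R9 F (g wAd) b129 [] 1 2 := .of (startD 0 1) (by decide +kernel)
theorem r129_6 : R9 F (g wAd) b129 [] 2 0 := .of (startD 0 1) (by decide +kernel)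
theorem r129_7 : R9 F (g wAd) b129 [] 2 1 := .of (startD 0 1) (by decide +kernel)
theorem r129_8 : R9 F (g wAd) b129 [] 2 2 := .of (startD 0 1) (by decide +kernel)
theorem g129 : Gd F (g wAd) (0, d129) [] :=
  good9 ok h129 r129_0 r129_1 r129_2 r129_3 r129_4 r129_5 r129_6 r129_7 r129_8

theorem all : AllG F (g wAd) LD12 :=
  .cons g120 (.cons g121 (.cons g122 (.cons g123 (.cons g124 (.cons g125 (.cons g126 (.cons g127 (.cons g128 (.cons g129 (.nil))))))))))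

end Cfsg.Agent.BX.No33.Bk.D12
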