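import Cfsg.Agent.BX.No33.Cheap
set_option linter.all false

/-!
# Tests, diagonal case, part 14 (helper5; generated)
-/

set_option autoImplicit false
set_option maxRecDepth 100000
set_option Elab.async false

namespace Cfsg.Agent.BX.No33.Bk.D14

open Cfsg.Agent.H819.U33 Cfsg.Agent.BX.No33.Front

def b140 : Wd := ⟨0, d140,
  [.Z9, .Z6, .Z2, .Z0, .X10, .X8, .X7, .X5, .X4, .X2, .X1, .y10, .y8, .y7, .y6, .y5, .y4, .y3, .hi, .p10, .hi, .p2,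
   .hi, .p10, .hi, .p4, .hi, .p3, .hi, .p6, .hi, .xii, .p10, .xii, .y1, .p8, .xii, .y2, .tau, .y1, .xii, .p10, .xii,
   .y4, .p10, .xii, .y3, .y7, .tau, .p6, .xii, .p2, .xii, .p5, .hi, .y4, .p9, .taui, .xii, .y2, .p6, .xii, .y2, .p2,
   .xii, .y10, .tau, .xii, .y2, .hi, .p6],
  [.Z10, .Z6, .Z5, .Z4, .Z1, .Z0, .X10, .X9, .X7, .X6, .X4, .X2, .X0, .y10, .y7, .y5, .y4, .y2, .y1, .p2, .hi, .p10,
   .hi, .p2, .hi, .p10, .hi, .p8, .hi, .p10, .xii, .y2, .p, .xii, .p9, .xii, .taui, .y1, .xii, .p10, .xii, .y1, .p10,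
   .xii, .y2, .y4, .tau, .X0, .p2, .xii, .p9, .xii, .y9, .p4, .y7, .hi, .tau, .xii, .p7, .xii, .y2, .y9],
  [.Z7, .Z6, .Z4, .Z2, .Z1, .X10, .X5, .X2, .y10, .y8, .y7, .y5, .y3, .y2, .y1, .p2, .hi, .p5, .hi, .p5, .hi, .p4,
   .hi, .p4, .hi, .p10, .xii, .hi, .xii, .p10, .y8, .xii, .y8, .taui, .xii, .y6, .p, .xii, .p, .xii, .y5, .tau, .hi,
   .xii, .p9, .xii, .y2, .hi, .p, .tau, .xii, .y2, .p8, .xii, .y3, .p2, .xii, .taui, .xii, .p, .xii]⟩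

theorem h140 : Hd F (g wAd) b140 := hdD (by decide +kernel)
theorem r140_0 : R9 F (g wAd) b140 [] 0 0 := .of (startD 0 1) (by decide +kernel)
theorem r140_1 : R9 F (g wAd) b140 [] 0 1 := .of (startD 0 1) (by decide +kernel)
theorem r140_2 : R9 F (g wAd) b140 [] 0 2 := .of (startD 0 1) (by decide +kernel)
theorem r140_3 : R9 F (g wAd) b140 [] 1 0 := .of (startD 0 1) (by decide +kernel)
theorem r140_4 : R9 F (g wAd) b140 [] 1 1 := .of (startD 0 1) (by decide +kernel)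
theorem r140_5 : R9 F (g wAd) b140 [] 1 2 := .of (startD 0 1) (by decide +kernel)
theorem r140_6 : R9 F (g wAd) b140 [] 2 0 := .of (startD 0 1) (by decide +kernel)
theorem r140_7 : R9 F (g wAd) b140 [] 2 1 := .of (startD 0 1) (by decide +kernel)
theorem r140_8 : R9 F (g wAd) b140 [] 2 2 := .of (startD 0 1) (by decide +kernel)
theorem g140 : Gd F (g wAd) (0, d140) [] :=
  good9 ok h140 r140_0 r140_1 r140_2 r140_3 r140_4 r140_5 r140_6 r140_7 r140_8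

def b141 : Wd := ⟨0, d141,
  [.Z10, .Z8, .Z7, .Z0, .X9, .X7, .X6, .X5, .X4, .X3, .X1, .X0, .y9, .y6, .y4, .y3, .y1, .p9, .hi, .p4, .hi, .p10,
   .hi, .p6, .hi, .p8, .xii, .y2, .p10, .xii, .tau, .X0, .xii, .p5, .xii, .p6, .y5, .xii, .y3, .y5, .tau, .xii, .y2,
   .p8, .xii, .p2, .xii, .y2, .y3, .tau, .xii, .y2, .p7],
  [.z, .Z8, .Z7, .Z6, .Z2, .Z1, .Z0, .X10, .X8, .X7, .X2, .X1, .y9, .y7, .y6, .y4, .y3, .p6, .hi, .p4, .xii, .hi,
   .xii, .y8, .p2, .xii, .y1, .taui, .xii, .y6, .p, .xii, .p, .xii, .y7, .tau, .p6, .xii, .y8, .p5, .xii, .p10, .y3,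
   .tau, .xii, .p8, .xii, .y5, .p4, .y6, .xii, .y9, .taui, .xii, .p10, .xii, .y4],
  [.Z6, .Z0, .X7, .X6, .X2, .X0, .y10, .y9, .y7, .y4, .y3, .hi, .p9, .hi, .p10, .hi, .p3, .hi, .p, .xii, .p10, .xii,
   .y9, .p6, .xii, .y3, .taui, .y1, .xii, .p10, .xii, .y4, .p10, .xii, .y4, .y9, .tau, .X0, .xii, .p2, .xii, .y3, .p4,
   .y6, .xii, .y3, .y4, .taui, .xii, .p5, .xii, .y6, .p8, .xii, .y4, .tau, .xii, .p4]⟩

theorem h141 : Hd F (g wAd) b141 := hdD (by decide +kernel)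
theorem r141_0 : R9 F (g wAd) b141 [] 0 0 := .of (startD 0 1) (by decide +kernel)
theorem r141_1 : R9 F (g wAd) b141 [] 0 1 := .of (startD 0 1) (by decide +kernel)
theorem r141_2 : R9 F (g wAd) b141 [] 0 2 := .of (startD 0 1) (by decide +kernel)
theorem r141_3 : R9 F (g wAd) b141 [] 1 0 := .of (startD 0 1) (by decide +kernel)
theorem r141_4 : R9 F (g wAd) b141 [] 1 1 := .of (startD 0 1) (by decide +kernel)
theorem r141_5 : R9 F (g wAd) b141 [] 1 2 := .of (startD 0 1) (by decide +kernel)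
theorem r141_6 : R9 F (g wAd) b141 [] 2 0 := .of (startD 0 1) (by decide +kernel)
theorem r141_7 : R9 F (g wAd) b141 [] 2 1 := .of (startD 0 1) (by decide +kernel)
theorem r141_8 : R9 F (g wAd) b141 [] 2 2 := .of (startD 0 1) (by decide +kernel)
theorem g141 : Gd F (g wAd) (0, d141) [] :=
  good9 ok h141 r141_0 r141_1 r141_2 r141_3 r141_4 r141_5 r141_6 r141_7 r141_8

def b142 : Wd := ⟨0, d142,
  [.z, .Z9, .Z4, .Z3, .Z0, .X10, .X5, .X2, .X1, .X0, .y10, .y6, .y5, .y3, .y2, .hi, .p9, .hi, .p9, .hi, .p10, .hi,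
   .p8, .hi, .p, .hi, .p9, .xii, .y2, .hi, .p8, .xii, .y3, .p2, .tau, .xii, .p, .xii, .y1, .hi, .xii, .y5, .y9, .y10,
   .taui, .y1, .p6, .xii, .p9, .xii, .y1, .p2, .hi, .p10, .taui, .xii, .p5, .xii, .p5, .y7, .y10, .xii, .y4, .taui,
   .xii, .hi, .p9],
  [.z, .Z8, .Z7, .Z6, .Z5, .Z4, .Z1, .Z0, .X10, .X7, .X2, .X0, .y10, .y5, .y3, .y2, .hi, .p4, .hi, .p, .hi, .p3, .xii,
   .p, .xii, .hi, .p10, .y9, .tau, .xii, .y2, .p, .xii, .y3, .y10, .hi, .xii, .y5, .taui, .X0, .y1, .p10, .xii, .p2,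
   .xii, .y1, .hi, .p5, .hi, .tau, .xii, .p5, .xii, .y2, .y3, .p5, .xii, .y7, .taui, .xii, .y2, .p8],
  [.z, .Z8, .Z6, .Z3, .Z2, .Z0, .X10, .X9, .X8, .X7, .X3, .X1, .X0, .y10, .y5, .p3, .hi, .p7, .hi, .p8, .hi, .p3, .hi,
   .p3, .hi, .p, .xii, .p, .xii, .y3, .y10, .hi, .p4, .tau, .xii, .p, .xii, .y1, .y10, .hi, .xii, .y1, .y4, .taui,
   .p7, .xii, .p4, .xii, .y4, .y9, .hi, .p5, .taui, .xii, .p9, .xii, .p8, .y8, .y9, .xii, .taui, .xii, .p2, .xii, .y8]⟩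

theorem h142 : Hd F (g wAd) b142 := hdD (by decide +kernel)
theorem r142_0 : R9 F (g wAd) b142 [] 0 0 := .of (startD 0 1) (by decide +kernel)
theorem r142_1 : R9 F (g wAd) b142 [] 0 1 := .of (startD 0 1) (by decide +kernel)
theorem r142_2 : R9 F (g wAd) b142 [] 0 2 := .of (startD 0 1) (by decide +kernel)
theorem r142_3 : R9 F (g wAd) b142 [] 1 0 := .of (startD 0 1) (by decide +kernel)
theorem r142_4 : R9 F (g wAd) b142 [] 1 1 := .of (startD 0 1) (by decide +kernel)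
theorem r142_5 : R9 F (g wAd) b142 [] 1 2 := .of (startD 0 2) (by decide +kernel)
theorem r142_6 : R9 F (g wAd) b142 [] 2 0 := .of (startD 0 1) (by decide +kernel)
theorem r142_7 : R9 F (g wAd) b142 [] 2 1 := .of (startD 0 1) (by decide +kernel)
theorem r142_8 : R9 F (g wAd) b142 [] 2 2 := .of (startD 0 1) (by decide +kernel)
theorem g142 : Gd F (g wAd) (0, d142) [] :=
  good9 ok h142 r142_0 r142_1 r142_2 r142_3 r142_4 r142_5 r142_6 r142_7 r142_8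

def b143 : Wd := ⟨0, d143,
  [.Z9, .Z7, .Z2, .Z1, .Z0, .X10, .X8, .X7, .X6, .X5, .X3, .X0, .y10, .y9, .y8, .y7, .y4, .y3, .y2, .y1, .hi, .p10,
   .hi, .p4, .hi, .p5, .hi, .p10, .hi, .p10, .hi, .p7, .hi, .xii, .p10, .xii, .p4, .hi, .tau, .xii, .y2, .p, .xii,
   .y2, .hi, .xii, .y3, .y10, .taui, .xii, .p3, .xii, .y1, .y7, .p6, .xii, .y4, .hi, .tau, .xii, .p5, .xii, .hi, .y7,
   .xii, .y4, .taui],
  [.z, .Z10, .Z9, .Z6, .Z5, .Z3, .Z2, .X10, .X9, .X8, .X7, .X4, .X3, .X2, .X1, .y8, .y5, .p5, .hi, .p8, .hi, .p7, .hi,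
   .p9, .hi, .p6, .xii, .y2, .p10, .xii, .taui, .y1, .xii, .p10, .xii, .y1, .y7, .p10, .xii, .y9, .taui, .X0, .p7,
   .xii, .p7, .xii, .p10, .hi, .p6, .y1, .tau, .xii, .p7, .xii, .y1, .y9, .p10, .tau, .xii, .y2, .hi, .p6],
  [.Z9, .Z5, .Z4, .Z1, .X10, .X6, .X3, .X2, .y10, .y9, .y8, .y7, .y5, .y3, .p8, .hi, .p4, .hi, .p4, .hi, .p4, .hi,
   .p5, .hi, .p9, .xii, .p10, .xii, .y8, .p10, .taui, .xii, .p, .xii, .y1, .y6, .hi, .xii, .y7, .taui, .p2, .xii, .p7,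
   .xii, .p, .hi, .y5, .y8, .p10, .taui, .xii, .p2, .xii, .p6, .xii, .y2, .y10, .tau, .xii, .y2, .p]⟩

theorem h143 : Hd F (g wAd) b143 := hdD (by decide +kernel)
theorem r143_0 : R9 F (g wAd) b143 [] 0 0 := .of (startD 0 1) (by decide +kernel)
theorem r143_1 : R9 F (g wAd) b143 [] 0 1 := .of (startD 0 1) (by decide +kernel)
theorem r143_2 : R9 F (g wAd) b143 [] 0 2 := .of (startD 0 1) (by decide +kernel)
theorem r143_3 : R9 F (g wAd) b143 [] 1 0 := .of (startD 0 2) (by decide +kernel)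
theorem r143_4 : R9 F (g wAd) b143 [] 1 1 := .of (startD 0 1) (by decide +kernel)
theorem r143_5 : R9 F (g wAd) b143 [] 1 2 := .of (startD 0 1) (by decide +kernel)
theorem r143_6 : R9 F (g wAd) b143 [] 2 0 := .of (startD 0 1) (by decide +kernel)
theorem r143_7 : R9 F (g wAd) b143 [] 2 1 := .of (startD 0 1) (by decide +kernel)
theorem r143_8 : R9 F (g wAd) b143 [] 2 2 := .of (startD 0 1) (by decide +kernel)
theorem g143 : Gd F (g wAd) (0, d143) [] :=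
  good9 ok h143 r143_0 r143_1 r143_2 r143_3 r143_4 r143_5 r143_6 r143_7 r143_8

def b144 : Wd := ⟨0, d144,
  [.z, .Z9, .Z7, .Z6, .Z3, .X7, .X6, .X5, .X4, .X3, .X0, .y8, .y7, .y5, .y1, .p6, .hi, .p6, .hi, .p4, .hi, .p10, .hi,
   .p3, .hi, .p10, .xii, .p, .xii, .y10, .p, .xii, .y6, .taui, .xii, .y1, .p, .xii, .p, .xii, .y1, .y10, .taui, .X0,
   .xii, .y6, .p4, .xii, .p8, .xii, .y4, .y9, .p9, .tau, .xii, .p9, .xii, .p8, .y9, .xii, .y8, .y10, .taui],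
  [.z, .Z10, .Z9, .Z8, .Z6, .Z3, .X10, .X8, .y9, .y3, .y2, .hi, .p, .hi, .p10, .hi, .p9, .hi, .p4, .hi, .p2, .xii,
   .y2, .p10, .xii, .taui, .X0, .hi, .xii, .hi, .xii, .p8, .tau, .X0, .y1, .p2, .xii, .p4, .xii, .y7, .y8, .taui,
   .xii, .y2, .p4, .xii, .y8, .p5, .xii, .y7, .tau, .xii, .y6, .p6],
  [.Z9, .Z6, .Z4, .Z1, .Z0, .X7, .X6, .X5, .X3, .X2, .X1, .X0, .y10, .y8, .y7, .y4, .y3, .y2, .hi, .p, .hi, .p8, .hi,
   .p, .hi, .p5, .hi, .p9, .hi, .xii, .hi, .p8, .hi, .p5, .hi, .taui, .xii, .y2, .p, .xii, .y2, .hi, .xii, .y4, .y7,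
   .taui, .X0, .y1, .xii, .p9, .xii, .y7, .p5, .y6, .xii, .y5, .y8, .tau, .xii, .y2, .p4, .xii, .p4, .y3, .xii, .y3,
   .taui, .xii, .y6, .p, .hi]⟩

theorem h144 : Hd F (g wAd) b144 := hdD (by decide +kernel)
theorem r144_0 : R9 F (g wAd) b144 [] 0 0 := .of (startD 0 1) (by decide +kernel)
theorem r144_1 : R9 F (g wAd) b144 [] 0 1 := .of (startD 0 1) (by decide +kernel)
theorem r144_2 : R9 F (g wAd) b144 [] 0 2 := .of (startD 0 1) (by decide +kernel)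
theorem r144_3 : R9 F (g wAd) b144 [] 1 0 := .of (startD 0 1) (by decide +kernel)
theorem r144_4 : R9 F (g wAd) b144 [] 1 1 := .of (startD 0 1) (by decide +kernel)
theorem r144_5 : R9 F (g wAd) b144 [] 1 2 := .of (startD 0 1) (by decide +kernel)
theorem r144_6 : R9 F (g wAd) b144 [] 2 0 := .of (startD 0 1) (by decide +kernel)
theorem r144_7 : R9 F (g wAd) b144 [] 2 1 := .of (startD 0 1) (by decide +kernel)
theorem r144_8 : R9 F (g wAd) b144 [] 2 2 := .of (startD 0 1) (by decide +kernel)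
theorem g144 : Gd F (g wAd) (0, d144) [] :=
  good9 ok h144 r144_0 r144_1 r144_2 r144_3 r144_4 r144_5 r144_6 r144_7 r144_8

def b145 : Wd := ⟨0, d145,
  [.Z9, .Z8, .Z6, .Z5, .Z3, .Z0, .X10, .X7, .X6, .X4, .y9, .y7, .y6, .y5, .y2, .y1, .hi, .p10, .hi, .p9, .hi, .p3,
   .hi, .p10, .hi, .p8, .hi, .p3, .xii, .p2, .hi, .xii, .tau, .y1, .xii, .p10, .xii, .y1, .p10, .xii, .taui, .p5,
   .xii, .p7, .xii, .y2, .y9, .p10, .hi, .tau, .xii, .p5, .xii, .y2, .p2, .xii, .tau, .xii, .y4, .p7],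
  [.z, .Z8, .Z7, .Z4, .Z2, .Z1, .Z0, .X10, .X9, .X8, .X6, .X0, .y9, .y7, .y5, .y3, .y1, .p5, .hi, .p10, .hi, .p9, .hi,
   .p7, .hi, .p7, .hi, .xii, .p2, .hi, .tau, .xii, .p, .xii, .y1, .hi, .xii, .y2, .y7, .taui, .X0, .p9, .xii, .y10,
   .hi, .xii, .p4, .hi, .tau, .xii, .y2, .p9, .xii, .y7, .p8],
  [.Z10, .Z9, .Z8, .Z7, .Z6, .Z5, .Z4, .Z3, .Z1, .Z0, .X10, .X6, .X4, .X3, .X2, .y10, .y9, .y8, .y7, .y4, .p10, .hi,
   .p6, .hi, .p6, .hi, .p8, .hi, .p7, .hi, .p, .hi, .p6, .xii, .hi, .xii, .p6, .xii, .y7, .y10, .taui, .xii, .y1, .p,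
   .xii, .p, .xii, .y3, .y9, .y10, .tau, .X0, .p2, .xii, .hi, .p8, .xii, .y4, .y7, .p5, .tau, .xii, .p3, .xii, .y1,
   .p7, .xii, .y7, .y10, .tau, .xii, .p8]⟩

theorem h145 : Hd F (g wAd) b145 := hdD (by decide +kernel)
theorem r145_0 : R9 F (g wAd) b145 [] 0 0 := .of (startD 0 1) (by decide +kernel)
theorem r145_1 : R9 F (g wAd) b145 [] 0 1 := .of (startD 0 1) (by decide +kernel)
theorem r145_2 : R9 F (g wAd) b145 [] 0 2 := .of (startD 0 1) (by decide +kernel)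
theorem r145_3 : R9 F (g wAd) b145 [] 1 0 := .of (startD 0 1) (by decide +kernel)
theorem r145_4 : R9 F (g wAd) b145 [] 1 1 := .of (startD 0 1) (by decide +kernel)
theorem r145_5 : R9 F (g wAd) b145 [] 1 2 := .of (startD 0 1) (by decide +kernel)
theorem r145_6 : R9 F (g wAd) b145 [] 2 0 := .of (startD 0 1) (by decide +kernel)
theorem r145_7 : R9 F (g wAd) b145 [] 2 1 := .of (startD 0 1) (by decide +kernel)
theorem r145_8 : R9 F (g wAd) b145 [] 2 2 := .of (startD 0 1) (by decide +kernel)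
theorem g145 : Gd F (g wAd) (0, d145) [] :=
  good9 ok h145 r145_0 r145_1 r145_2 r145_3 r145_4 r145_5 r145_6 r145_7 r145_8

def b146 : Wd := ⟨0, d146,
  [.z, .Z10, .Z8, .Z5, .Z4, .Z3, .Z2, .Z1, .X8, .X7, .X3, .X1, .X0, .y10, .y5, .y4, .hi, .p3, .hi, .p4, .hi, .p8, .hi,
   .p, .hi, .p9, .hi, .xii, .hi, .xii, .y8, .p6, .xii, .y4, .y7, .tau, .xii, .y1, .p, .xii, .p, .xii, .y3, .y4, .taui,
   .X0, .xii, .p2, .xii, .p7, .y8, .xii, .y1, .p, .tau, .xii, .p9, .xii, .y7, .p3, .xii, .y2, .y7, .taui, .xii, .hi,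
   .p10],
  [.z, .Z10, .Z7, .Z6, .Z1, .X10, .X8, .X5, .X4, .X3, .X2, .y4, .y1, .hi, .p8, .hi, .p3, .hi, .p5, .hi, .p8, .hi,
   .p10, .xii, .p10, .xii, .y5, .p2, .xii, .y3, .y10, .taui, .X0, .xii, .hi, .xii, .y7, .p8, .xii, .y7, .p8, .tau,
   .xii, .p4, .xii, .y3, .y5, .p2, .hi, .p8, .taui, .xii, .y2, .p3],
  [.z, .Z10, .Z9, .Z8, .Z5, .Z2, .X10, .X9, .X8, .X2, .y10, .y8, .y4, .y3, .p9, .hi, .p9, .hi, .p9, .hi, .p6, .hi,
   .p3, .hi, .p, .xii, .p2, .hi, .xii, .y4, .y5, .p3, .taui, .xii, .y2, .p, .xii, .y1, .hi, .xii, .y6, .taui, .X0,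
   .xii, .p3, .xii, .y9, .p6, .xii, .y9, .hi, .y8, .taui, .xii, .p4, .xii, .p10, .hi, .p6, .y7, .taui, .xii, .y2, .p4,
   .hi, .p2]⟩

theorem h146 : Hd F (g wAd) b146 := hdD (by decide +kernel)
theorem r146_0 : R9 F (g wAd) b146 [] 0 0 := .of (startD 0 1) (by decide +kernel)
theorem r146_1 : R9 F (g wAd) b146 [] 0 1 := .of (startD 0 1) (by decide +kernel)
theorem r146_2 : R9 F (g wAd) b146 [] 0 2 := .of (startD 0 1) (by decide +kernel)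
theorem r146_3 : R9 F (g wAd) b146 [] 1 0 := .of (startD 0 1) (by decide +kernel)
theorem r146_4 : R9 F (g wAd) b146 [] 1 1 := .of (startD 0 1) (by decide +kernel)
theorem r146_5 : R9 F (g wAd) b146 [] 1 2 := .of (startD 0 1) (by decide +kernel)
theorem r146_6 : R9 F (g wAd) b146 [] 2 0 := .of (startD 0 1) (by decide +kernel)
theorem r146_7 : R9 F (g wAd) b146 [] 2 1 := .of (startD 0 1) (by decide +kernel)
theorem r146_8 : R9 F (g wAd) b146 [] 2 2 := .of (startD 0 2) (by decide +kernel)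
theorem g146 : Gd F (g wAd) (0, d146) [] :=
  good9 ok h146 r146_0 r146_1 r146_2 r146_3 r146_4 r146_5 r146_6 r146_7 r146_8

def b147 : Wd := ⟨0, d147,
  [.z, .Z9, .Z6, .Z5, .Z3, .Z2, .Z0, .X9, .X8, .X7, .X5, .X4, .X3, .X0, .y9, .y8, .y7, .hi, .p7, .hi, .p9, .hi, .p7,
   .hi, .p3, .hi, .p9, .hi, .xii, .p3, .hi, .xii, .p4, .y9, .hi, .p2, .taui, .y1, .xii, .y6, .p10, .xii, .y8, .p10,
   .xii, .y10, .tau, .xii, .p6, .xii, .p8, .y9, .xii, .y5, .y7, .y8, .taui, .xii, .y2, .p7, .xii, .p3, .y3, .xii, .y7,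
   .tau, .xii, .p7, .xii, .y8],
  [.Z9, .Z8, .Z5, .Z4, .Z3, .Z1, .X6, .X5, .y8, .y4, .y1, .p9, .hi, .p5, .hi, .p3, .hi, .p10, .xii, .y2, .p, .xii,
   .p9, .xii, .y2, .tau, .y1, .xii, .p10, .xii, .y4, .p10, .xii, .y3, .y5, .tau, .p7, .xii, .y2, .p9, .xii, .y9, .y10,
   .hi, .taui, .xii, .p4, .xii, .y8, .p5, .y3, .hi, .tau, .xii, .p3, .hi, .p10],
  [.z, .Z10, .Z8, .Z6, .Z5, .Z2, .Z0, .X10, .X5, .X4, .X3, .X2, .X1, .X0, .y6, .y5, .y4, .y2, .hi, .p4, .hi, .p10,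
   .hi, .p3, .hi, .p10, .hi, .p4, .xii, .p2, .hi, .xii, .tau, .xii, .p, .xii, .y1, .hi, .xii, .y7, .y10, .tau, .X0,
   .xii, .p3, .xii, .p2, .xii, .y4, .y5, .p5, .y8, .tau, .xii, .p8, .xii, .y5, .p4, .hi, .tau, .xii, .y2, .p]⟩

theorem h147 : Hd F (g wAd) b147 := hdD (by decide +kernel)
theorem r147_0 : R9 F (g wAd) b147 [] 0 0 := .of (startD 0 1) (by decide +kernel)
theorem r147_1 : R9 F (g wAd) b147 [] 0 1 := .of (startD 0 1) (by decide +kernel)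
theorem r147_2 : R9 F (g wAd) b147 [] 0 2 := .of (startD 0 1) (by decide +kernel)
theorem r147_3 : R9 F (g wAd) b147 [] 1 0 := .of (startD 0 1) (by decide +kernel)
theorem r147_4 : R9 F (g wAd) b147 [] 1 1 := .of (startD 0 1) (by decide +kernel)
theorem r147_5 : R9 F (g wAd) b147 [] 1 2 := .of (startD 0 1) (by decide +kernel)
theorem r147_6 : R9 F (g wAd) b147 [] 2 0 := .of (startD 0 1) (by decide +kernel)
theorem r147_7 : R9 F (g wAd) b147 [] 2 1 := .of (startD 0 1) (by decide +kernel)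
theorem r147_8 : R9 F (g wAd) b147 [] 2 2 := .of (startD 0 1) (by decide +kernel)
theorem g147 : Gd F (g wAd) (0, d147) [] :=
  good9 ok h147 r147_0 r147_1 r147_2 r147_3 r147_4 r147_5 r147_6 r147_7 r147_8

def b148 : Wd := ⟨0, d148,
  [.z, .Z10, .Z8, .Z6, .Z5, .Z4, .Z0, .X8, .X7, .X6, .X3, .X1, .y10, .y7, .y5, .y4, .y3, .y1, .p9, .hi, .p7, .hi, .p3,
   .hi, .p5, .hi, .p5, .hi, .p7, .xii, .p10, .xii, .y1, .p6, .xii, .y3, .tau, .y1, .xii, .p10, .xii, .y2, .p10, .xii,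
   .y2, .taui, .xii, .p7, .xii, .p8, .xii, .y10, .hi, .tau, .xii, .y2, .p5, .xii, .y9, .p9, .xii, .y5, .y7, .taui,
   .xii, .p4, .hi],
  [.Z9, .Z2, .Z0, .X9, .X7, .X4, .X0, .y10, .y7, .y3, .y2, .p6, .hi, .p8, .hi, .p7, .hi, .p4, .xii, .hi, .p8, .taui,
   .xii, .p, .xii, .y2, .hi, .xii, .y5, .taui, .X0, .xii, .p7, .xii, .p5, .y7, .xii, .y2, .y8, .taui, .xii, .p7, .xii,
   .y7, .p10, .hi, .p, .tau, .xii, .y2, .p],
  [.z, .Z9, .Z7, .Z6, .Z5, .Z4, .Z3, .Z1, .Z0, .X10, .X8, .X7, .X6, .X5, .X4, .X3, .X2, .X0, .y10, .y7, .y3, .p3, .hi,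
   .p8, .hi, .p5, .hi, .p7, .hi, .p4, .hi, .p5, .hi, .xii, .p10, .xii, .p9, .xii, .y1, .y9, .taui, .xii, .p, .xii,
   .hi, .y8, .xii, .y7, .y10, .taui, .p8, .xii, .y7, .p4, .xii, .y6, .p10, .hi, .p, .taui, .xii, .p4, .xii, .p10, .y1,
   .hi, .p, .taui, .xii, .p3, .hi, .p10]⟩

theorem h148 : Hd F (g wAd) b148 := hdD (by decide +kernel)
theorem r148_0 : R9 F (g wAd) b148 [] 0 0 := .of (startD 0 1) (by decide +kernel)
theorem r148_1 : R9 F (g wAd) b148 [] 0 1 := .of (startD 0 1) (by decide +kernel)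
theorem r148_2 : R9 F (g wAd) b148 [] 0 2 := .of (startD 0 1) (by decide +kernel)
theorem r148_3 : R9 F (g wAd) b148 [] 1 0 := .of (startD 0 1) (by decide +kernel)
theorem r148_4 : R9 F (g wAd) b148 [] 1 1 := .of (startD 0 1) (by decide +kernel)
theorem r148_5 : R9 F (g wAd) b148 [] 1 2 := .of (startD 0 1) (by decide +kernel)
theorem r148_6 : R9 F (g wAd) b148 [] 2 0 := .of (startD 0 1) (by decide +kernel)
theorem r148_7 : R9 F (g wAd) b148 [] 2 1 := .of (startD 0 1) (by decide +kernel)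
theorem r148_8 : R9 F (g wAd) b148 [] 2 2 := .of (startD 0 1) (by decide +kernel)
theorem g148 : Gd F (g wAd) (0, d148) [] :=
  good9 ok h148 r148_0 r148_1 r148_2 r148_3 r148_4 r148_5 r148_6 r148_7 r148_8

def b149 : Wd := ⟨0, d149,
  [.z, .Z5, .Z4, .Z3, .X8, .X7, .X6, .X4, .X3, .X1, .X0, .y10, .y9, .y5, .y4, .y1, .p10, .hi, .p, .hi, .p5, .hi, .p10,
   .hi, .p7, .hi, .p10, .xii, .p, .xii, .p9, .y7, .taui, .xii, .y1, .p, .xii, .y4, .p, .xii, .y3, .tau, .xii, .p2,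
   .xii, .hi, .y9, .xii, .y8, .p10, .taui, .xii, .p8, .xii, .p9, .tau, .xii, .p5, .xii],
  [.Z10, .Z9, .Z5, .Z3, .Z2, .X7, .X6, .X5, .X4, .y10, .y9, .y8, .y6, .y4, .y3, .y1, .hi, .p8, .hi, .p, .hi, .p3, .hi,
   .p3, .hi, .p, .xii, .p, .xii, .y6, .p4, .xii, .y2, .tau, .xii, .y1, .hi, .p8, .xii, .y1, .p10, .taui, .p8, .xii,
   .p4, .y7, .xii, .y6, .p2, .tau, .xii, .p3, .xii, .y1, .p6, .xii, .y1, .y4, .taui, .xii, .y2],
  [.Z10, .Z9, .Z8, .Z7, .Z5, .Z2, .Z0, .X8, .X7, .X4, .X3, .X2, .X1, .y10, .y8, .y7, .y3, .y2, .y1, .p6, .hi, .p4,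
   .hi, .p7, .hi, .p8, .hi, .p8, .hi, .p3, .xii, .y2, .p10, .xii, .y10, .tau, .xii, .y6, .p, .xii, .y2, .p, .xii, .y7,
   .y10, .tau, .X0, .p4, .xii, .p5, .xii, .p10, .y9, .taui, .xii, .y2]⟩

theorem h149 : Hd F (g wAd) b149 := hdD (by decide +kernel)
theorem r149_0 : R9 F (g wAd) b149 [] 0 0 := .of (startD 0 1) (by decide +kernel)
theorem r149_1 : R9 F (g wAd) b149 [] 0 1 := .of (startD 0 1) (by decide +kernel)
theorem r149_2 : R9 F (g wAd) b149 [] 0 2 := .of (startD 0 1) (by decide +kernel)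
theorem r149_3 : R9 F (g wAd) b149 [] 1 0 := .of (startD 0 1) (by decide +kernel)
theorem r149_4 : R9 F (g wAd) b149 [] 1 1 := .of (startD 0 2) (by decide +kernel)
theorem r149_5 : R9 F (g wAd) b149 [] 1 2 := .of (startD 0 1) (by decide +kernel)
theorem r149_6 : R9 F (g wAd) b149 [] 2 0 := .of (startD 0 1) (by decide +kernel)
theorem r149_7 : R9 F (g wAd) b149 [] 2 1 := .of (startD 0 1) (by decide +kernel)
theorem r149_8 : R9 F (g wAd) b149 [] 2 2 := .of (startD 0 1) (by decide +kernel)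
theorem g149 : Gd F (g wAd) (0, d149) [] :=
  good9 ok h149 r149_0 r149_1 r149_2 r149_3 r149_4 r149_5 r149_6 r149_7 r149_8

theorem all : AllG F (g wAd) LD14 :=
  .cons g140 (.cons g141 (.cons g142 (.cons g143 (.cons g144 (.cons g145 (.cons g146 (.cons g147 (.cons g148 (.cons g149 (.nil))))))))))

end Cfsg.Agent.BX.No33.Bk.D14
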