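import Cfsg.Agent.BX.No33.Cheap
set_option linter.all false

/-!
# Tests, diagonal case, part 17 (helper5; generated)
-/

set_option autoImplicit false
set_option maxRecDepth 100000
set_option Elab.async false

namespace Cfsg.Agent.BX.No33.Bk.D17

open Cfsg.Agent.H819.U33 Cfsg.Agent.BX.No33.Front

def b170 : Wd := ⟨0, d170,
  [.z, .Z7, .Z6, .Z5, .X8, .X7, .X6, .X5, .X4, .y8, .y7, .y5, .y4, .y3, .y2, .p4, .hi, .p, .hi, .p7, .hi, .p3, .hi,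
   .p10, .hi, .p5, .hi, .xii, .p, .xii, .y2, .p7, .xii, .y8, .tau, .y1, .xii, .p10, .xii, .p10, .y7, .xii, .y4, .y8,
   .taui, .X0, .xii, .y6, .p4, .xii, .y4, .p9, .xii, .y6, .p5, .taui, .xii, .p8, .xii, .p8, .y4, .hi, .p4, .taui,
   .xii, .y2, .p2],
  [.z, .Z10, .Z9, .Z8, .Z5, .Z4, .Z2, .Z1, .Z0, .X10, .X8, .X7, .X4, .X2, .y8, .y5, .y4, .p7, .hi, .p8, .hi, .p6, .hi,
   .p, .hi, .p3, .hi, .p9, .xii, .y2, .p2, .hi, .xii, .y5, .p3, .tau, .xii, .y2, .p, .xii, .y2, .hi, .xii, .y5, .y10,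
   .tau, .X0, .y1, .p2, .xii, .p9, .xii, .hi, .y7, .taui, .xii, .hi, .p5, .xii, .p9],
  [.Z10, .Z7, .Z4, .Z3, .Z2, .Z1, .X9, .X7, .X4, .X2, .X1, .X0, .y9, .y8, .y7, .y6, .y4, .y2, .p4, .hi, .p, .hi, .p4,
   .hi, .p3, .hi, .p6, .xii, .hi, .xii, .y6, .p9, .xii, .y6, .taui, .xii, .p, .xii, .y1, .y10, .hi, .xii, .y5, .taui,
   .xii, .y1, .p8, .xii, .p4, .xii, .p9, .taui, .xii, .p7, .xii, .y1, .y6, .p10, .hi, .p4, .tau, .xii, .p4, .hi, .p9]⟩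

theorem h170 : Hd F (g wAd) b170 := hdD (by decide +kernel)
theorem r170_0 : R9 F (g wAd) b170 [] 0 0 := .of (startD 0 1) (by decide +kernel)
theorem r170_1 : R9 F (g wAd) b170 [] 0 1 := .of (startD 0 1) (by decide +kernel)
theorem r170_2 : R9 F (g wAd) b170 [] 0 2 := .of (startD 0 1) (by decide +kernel)
theorem r170_3 : R9 F (g wAd) b170 [] 1 0 := .of (startD 0 1) (by decide +kernel)
theorem r170_4 : R9 F (g wAd) b170 [] 1 1 := .of (startD 0 1) (by decide +kernel)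
theorem r170_5 : R9 F (g wAd) b170 [] 1 2 := .of (startD 0 1) (by decide +kernel)
theorem r170_6 : R9 F (g wAd) b170 [] 2 0 := .of (startD 0 1) (by decide +kernel)
theorem r170_7 : R9 F (g wAd) b170 [] 2 1 := .of (startD 0 1) (by decide +kernel)
theorem r170_8 : R9 F (g wAd) b170 [] 2 2 := .of (startD 0 1) (by decide +kernel)
theorem g170 : Gd F (g wAd) (0, d170) [] :=
  good9 ok h170 r170_0 r170_1 r170_2 r170_3 r170_4 r170_5 r170_6 r170_7 r170_8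

def b171 : Wd := ⟨0, d171,
  [.z, .Z10, .Z8, .Z6, .Z4, .Z3, .Z1, .Z0, .X8, .X7, .X5, .X3, .X2, .y10, .y9, .y8, .y7, .y5, .y4, .y3, .y1, .p5, .hi,
   .p10, .hi, .p7, .hi, .p10, .hi, .p7, .hi, .p10, .hi, .xii, .y2, .hi, .p4, .hi, .p4, .taui, .xii, .p, .xii, .y4,
   .hi, .xii, .y3, .y9, .taui, .p10, .xii, .p9, .xii, .y7, .y10, .hi, .p3, .taui, .xii, .p5, .xii, .p10, .hi, .p8,
   .taui, .xii, .hi, .p6],
  [.Z10, .Z9, .Z7, .Z3, .Z1, .X10, .X7, .X6, .X5, .X1, .y9, .y7, .y5, .y3, .y1, .p3, .hi, .p10, .hi, .p9, .hi, .p9,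
   .hi, .p3, .hi, .p5, .hi, .taui, .xii, .p, .xii, .y2, .hi, .xii, .y3, .y4, .taui, .xii, .p4, .xii, .y4, .y10, .p4,
   .xii, .y8, .y10, .taui, .xii, .p4, .xii, .y5, .p4, .xii, .y3, .y4, .taui, .xii, .hi, .p4, .hi],
  [.Z10, .Z7, .Z6, .Z2, .Z1, .X7, .X6, .X4, .X2, .y8, .y7, .y4, .p9, .hi, .p4, .hi, .p3, .hi, .p4, .hi, .p, .xii, .hi,
   .xii, .p6, .y7, .xii, .y3, .tau, .xii, .y6, .p, .xii, .p, .xii, .y5, .taui, .xii, .hi, .xii, .y8, .p5, .xii, .y5,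
   .y10, .p7, .taui, .xii, .p5, .xii, .p5, .y3, .y8, .xii, .y9, .taui, .xii, .y2, .hi, .p]⟩

theorem h171 : Hd F (g wAd) b171 := hdD (by decide +kernel)
theorem r171_0 : R9 F (g wAd) b171 [] 0 0 := .of (startD 0 1) (by decide +kernel)
theorem r171_1 : R9 F (g wAd) b171 [] 0 1 := .of (startD 0 2) (by decide +kernel)
theorem r171_2 : R9 F (g wAd) b171 [] 0 2 := .of (startD 0 1) (by decide +kernel)
theorem r171_3 : R9 F (g wAd) b171 [] 1 0 := .of (startD 0 1) (by decide +kernel)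
theorem r171_4 : R9 F (g wAd) b171 [] 1 1 := .of (startD 0 1) (by decide +kernel)
theorem r171_5 : R9 F (g wAd) b171 [] 1 2 := .of (startD 0 1) (by decide +kernel)
theorem r171_6 : R9 F (g wAd) b171 [] 2 0 := .of (startD 0 1) (by decide +kernel)
theorem r171_7 : R9 F (g wAd) b171 [] 2 1 := .of (startD 0 1) (by decide +kernel)
theorem r171_8 : R9 F (g wAd) b171 [] 2 2 := .of (startD 0 1) (by decide +kernel)
theorem g171 : Gd F (g wAd) (0, d171) [] :=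
  good9 ok h171 r171_0 r171_1 r171_2 r171_3 r171_4 r171_5 r171_6 r171_7 r171_8

def b172 : Wd := ⟨0, d172,
  [.z, .Z8, .Z7, .Z4, .Z3, .Z2, .X7, .X3, .X2, .X0, .y8, .y7, .y6, .y3, .y1, .p9, .hi, .p3, .hi, .p7, .hi, .p9, .hi,
   .p, .hi, .p5, .xii, .hi, .xii, .p10, .tau, .xii, .y6, .p, .xii, .p, .xii, .y1, .y2, .taui, .p10, .xii, .y4, .p5,
   .xii, .y3, .y5, .p3, .taui, .xii, .p8, .xii, .y3, .p4, .xii, .y2, .tau, .xii, .y4, .p4, .xii, .y10],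
  [.Z10, .Z7, .Z6, .Z5, .Z1, .Z0, .X9, .X8, .X4, .X1, .X0, .y4, .y1, .p7, .hi, .p8, .hi, .p5, .hi, .p, .hi, .p8, .hi,
   .p, .hi, .xii, .y2, .p10, .tau, .xii, .y1, .p, .xii, .y10, .p, .xii, .y5, .y10, .taui, .X0, .p7, .xii, .y4, .p8,
   .xii, .y3, .p3, .tau, .xii, .p9, .xii, .y5, .p6, .tau, .xii, .p2, .hi],
  [.z, .Z9, .Z8, .Z7, .Z6, .Z4, .Z3, .Z1, .Z0, .X9, .X8, .X6, .X5, .X0, .y10, .y5, .p10, .hi, .p10, .hi, .p4, .hi,
   .p6, .hi, .p10, .hi, .p9, .xii, .p10, .xii, .y4, .p2, .xii, .y4, .y5, .tau, .y1, .xii, .y1, .hi, .xii, .p10, .xii,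
   .y9, .tau, .p5, .xii, .y7, .p7, .xii, .p9, .y4, .taui, .xii, .p7, .xii, .y10, .p8, .xii, .y4, .tau, .xii, .y7,
   .p10]⟩

theorem h172 : Hd F (g wAd) b172 := hdD (by decide +kernel)
theorem r172_0 : R9 F (g wAd) b172 [] 0 0 := .of (startD 0 1) (by decide +kernel)
theorem r172_1 : R9 F (g wAd) b172 [] 0 1 := .of (startD 0 1) (by decide +kernel)
theorem r172_2 : R9 F (g wAd) b172 [] 0 2 := .of (startD 0 1) (by decide +kernel)
theorem r172_3 : R9 F (g wAd) b172 [] 1 0 := .of (startD 0 1) (by decide +kernel)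
theorem r172_4 : R9 F (g wAd) b172 [] 1 1 := .of (startD 0 1) (by decide +kernel)
theorem r172_5 : R9 F (g wAd) b172 [] 1 2 := .of (startD 0 1) (by decide +kernel)
theorem r172_6 : R9 F (g wAd) b172 [] 2 0 := .of (startD 0 1) (by decide +kernel)
theorem r172_7 : R9 F (g wAd) b172 [] 2 1 := .of (startD 0 1) (by decide +kernel)
theorem r172_8 : R9 F (g wAd) b172 [] 2 2 := .of (startD 0 1) (by decide +kernel)
theorem g172 : Gd F (g wAd) (0, d172) [] :=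
  good9 ok h172 r172_0 r172_1 r172_2 r172_3 r172_4 r172_5 r172_6 r172_7 r172_8

def b173 : Wd := ⟨0, d173,
  [.Z10, .Z5, .Z2, .Z1, .X10, .X9, .X8, .X6, .X2, .X1, .y8, .y6, .y3, .p4, .hi, .p8, .hi, .p3, .hi, .p6, .hi, .p, .hi,
   .xii, .hi, .xii, .p10, .xii, .y2, .y8, .tau, .xii, .y1, .p, .xii, .y1, .y6, .p, .xii, .y6, .tau, .xii, .hi, .xii,
   .p5, .xii, .y3, .p4, .y2, .tau, .xii, .p5, .xii, .hi, .y9, .p, .taui, .xii, .p3],
  [.Z10, .Z8, .Z7, .Z6, .Z5, .Z2, .Z0, .X10, .X6, .X5, .X4, .X2, .X1, .y7, .y4, .y1, .hi, .p3, .hi, .p3, .hi, .p10,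
   .hi, .p10, .hi, .p7, .hi, .xii, .y2, .taui, .y1, .xii, .p10, .xii, .y8, .p10, .xii, .y4, .y10, .tau, .p8, .xii, .p,
   .xii, .y2, .hi, .p, .hi, .taui, .xii, .p5, .xii, .p5, .y1, .taui, .xii, .p5, .hi, .p2],
  [.Z9, .Z8, .Z7, .X7, .X6, .X3, .y10, .y9, .y5, .y4, .y3, .y2, .hi, .p3, .hi, .p4, .hi, .p3, .hi, .p5, .hi, .p6,
   .xii, .hi, .p8, .xii, .y4, .p2, .taui, .y1, .xii, .p10, .xii, .y5, .p10, .xii, .taui, .hi, .xii, .p10, .xii, .y1,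
   .y5, .p3, .tau, .xii, .p8, .xii, .y2, .p6, .y7, .hi, .taui, .xii, .p]⟩

theorem h173 : Hd F (g wAd) b173 := hdD (by decide +kernel)
theorem r173_0 : R9 F (g wAd) b173 [] 0 0 := .of (startD 0 1) (by decide +kernel)
theorem r173_1 : R9 F (g wAd) b173 [] 0 1 := .of (startD 0 1) (by decide +kernel)
theorem r173_2 : R9 F (g wAd) b173 [] 0 2 := .of (startD 0 1) (by decide +kernel)
theorem r173_3 : R9 F (g wAd) b173 [] 1 0 := .of (startD 0 1) (by decide +kernel)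
theorem r173_4 : R9 F (g wAd) b173 [] 1 1 := .of (startD 0 1) (by decide +kernel)
theorem r173_5 : R9 F (g wAd) b173 [] 1 2 := .of (startD 0 1) (by decide +kernel)
theorem r173_6 : R9 F (g wAd) b173 [] 2 0 := .of (startD 0 1) (by decide +kernel)
theorem r173_7 : R9 F (g wAd) b173 [] 2 1 := .of (startD 0 1) (by decide +kernel)
theorem r173_8 : R9 F (g wAd) b173 [] 2 2 := .of (startD 0 1) (by decide +kernel)
theorem g173 : Gd F (g wAd) (0, d173) [] :=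
  good9 ok h173 r173_0 r173_1 r173_2 r173_3 r173_4 r173_5 r173_6 r173_7 r173_8

def b174 : Wd := ⟨0, d174,
  [.Z9, .Z8, .Z6, .Z2, .Z1, .X10, .X8, .X7, .X6, .X3, .X1, .X0, .y9, .y8, .y7, .y6, .y3, .y1, .p4, .hi, .p5, .hi, .p9,
   .hi, .p4, .hi, .p3, .hi, .p3, .xii, .y2, .p10, .hi, .p2, .hi, .p10, .tau, .xii, .p, .xii, .y3, .hi, .xii, .y5,
   .taui, .p8, .xii, .y6, .p, .hi, .xii, .y2, .p8, .taui, .xii, .p3, .xii, .hi, .p6, .tau, .xii, .y2, .hi, .p8],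
  [.Z10, .Z9, .Z8, .Z6, .Z1, .X9, .X8, .X7, .X6, .X4, .y10, .y8, .y6, .y5, .y2, .p2, .hi, .p10, .hi, .p3, .hi, .p3,
   .xii, .tau, .y1, .xii, .y1, .hi, .xii, .p10, .xii, .y10, .taui, .p5, .xii, .p7, .y9, .xii, .hi, .p10, .hi, .tau,
   .xii, .p8, .xii, .y2, .y8, .p6, .hi, .taui, .xii, .y2, .p2],
  [.Z10, .Z9, .Z7, .Z5, .Z4, .Z3, .Z1, .Z0, .X10, .X5, .X2, .X1, .y10, .y7, .y1, .p10, .hi, .p10, .hi, .p4, .hi, .p10,
   .hi, .p2, .hi, .p4, .hi, .p9, .hi, .xii, .hi, .xii, .p10, .xii, .y8, .y10, .tau, .y1, .xii, .p10, .xii, .y5, .p10,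
   .xii, .y2, .y10, .tau, .y1, .xii, .y2, .hi, .xii, .y9, .p10, .xii, .y4, .tau, .p6, .xii, .p2, .xii, .y8, .taui,
   .xii, .hi, .p5, .xii, .p5, .y3, .hi, .tau, .xii, .p2]⟩

theorem h174 : Hd F (g wAd) b174 := hdD (by decide +kernel)
theorem r174_0 : R9 F (g wAd) b174 [] 0 0 := .of (startD 0 1) (by decide +kernel)
theorem r174_1 : R9 F (g wAd) b174 [] 0 1 := .of (startD 0 1) (by decide +kernel)
theorem r174_2 : R9 F (g wAd) b174 [] 0 2 := .of (startD 0 1) (by decide +kernel)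
theorem r174_3 : R9 F (g wAd) b174 [] 1 0 := .of (startD 0 1) (by decide +kernel)
theorem r174_4 : R9 F (g wAd) b174 [] 1 1 := .of (startD 0 1) (by decide +kernel)
theorem r174_5 : R9 F (g wAd) b174 [] 1 2 := .of (startD 0 1) (by decide +kernel)
theorem r174_6 : R9 F (g wAd) b174 [] 2 0 := .of (startD 0 1) (by decide +kernel)
theorem r174_7 : R9 F (g wAd) b174 [] 2 1 := .of (startD 0 1) (by decide +kernel)
theorem r174_8 : R9 F (g wAd) b174 [] 2 2 := .of (startD 0 1) (by decide +kernel)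
theorem g174 : Gd F (g wAd) (0, d174) [] :=
  good9 ok h174 r174_0 r174_1 r174_2 r174_3 r174_4 r174_5 r174_6 r174_7 r174_8

def b175 : Wd := ⟨0, d175,
  [.Z8, .Z5, .Z3, .Z2, .Z1, .Z0, .X10, .X8, .X5, .X3, .X2, .X1, .X0, .y7, .p10, .hi, .p, .hi, .p7, .hi, .p8, .hi,
   .p10, .hi, .p4, .xii, .hi, .xii, .p2, .xii, .y4, .y5, .taui, .y1, .xii, .p10, .xii, .y1, .y7, .p10, .xii, .y8,
   .y10, .taui, .xii, .y6, .p, .xii, .y10, .p, .xii, .y1, .taui, .p9, .xii, .y6, .hi, .xii, .taui, .xii, .p9, .xii,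
   .y8, .p3, .y2, .xii, .y9, .taui, .xii, .p8],
  [.Z7, .Z3, .Z2, .X9, .X7, .X6, .X3, .X1, .X0, .y10, .y9, .y8, .y7, .y6, .y5, .y3, .y2, .hi, .p, .hi, .p8, .hi, .p5,
   .hi, .p8, .hi, .p5, .xii, .p2, .hi, .taui, .xii, .p, .xii, .y4, .hi, .xii, .y5, .y9, .y10, .taui, .X0, .xii, .y1,
   .p2, .xii, .y2, .p5, .xii, .y10, .tau, .xii, .p4, .xii, .y4, .p10, .hi, .p8, .y7],
  [.z, .Z10, .Z7, .Z6, .Z3, .Z1, .X8, .X6, .X5, .X4, .X2, .X0, .y10, .y9, .y7, .y3, .y2, .hi, .p, .hi, .p7, .hi, .p5,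
   .hi, .p8, .hi, .p10, .hi, .xii, .hi, .xii, .y6, .p9, .xii, .y6, .taui, .xii, .p, .xii, .y1, .y6, .hi, .xii, .y4,
   .y7, .taui, .X0, .p8, .xii, .y4, .p4, .xii, .hi, .p7, .y9, .taui, .xii, .p7, .xii, .p, .hi, .y9, .p10, .taui, .xii,
   .p3, .hi, .p7]⟩

theorem h175 : Hd F (g wAd) b175 := hdD (by decide +kernel)
theorem r175_0 : R9 F (g wAd) b175 [] 0 0 := .of (startD 0 1) (by decide +kernel)
theorem r175_1 : R9 F (g wAd) b175 [] 0 1 := .of (startD 0 2) (by decide +kernel)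
theorem r175_2 : R9 F (g wAd) b175 [] 0 2 := .of (startD 0 1) (by decide +kernel)
theorem r175_3 : R9 F (g wAd) b175 [] 1 0 := .of (startD 0 1) (by decide +kernel)
theorem r175_4 : R9 F (g wAd) b175 [] 1 1 := .of (startD 0 1) (by decide +kernel)
theorem r175_5 : R9 F (g wAd) b175 [] 1 2 := .of (startD 0 1) (by decide +kernel)
theorem r175_6 : R9 F (g wAd) b175 [] 2 0 := .of (startD 0 1) (by decide +kernel)
theorem r175_7 : R9 F (g wAd) b175 [] 2 1 := .of (startD 0 1) (by decide +kernel)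
theorem r175_8 : R9 F (g wAd) b175 [] 2 2 := .of (startD 0 1) (by decide +kernel)
theorem g175 : Gd F (g wAd) (0, d175) [] :=
  good9 ok h175 r175_0 r175_1 r175_2 r175_3 r175_4 r175_5 r175_6 r175_7 r175_8

def b176 : Wd := ⟨0, d176,
  [.Z7, .Z5, .Z4, .Z2, .X9, .X7, .X3, .X2, .X0, .y7, .y6, .y4, .y3, .y1, .p7, .hi, .p10, .hi, .p5, .hi, .p5, .hi, .p4,
   .hi, .p2, .hi, .xii, .p10, .hi, .p2, .hi, .p10, .tau, .y1, .xii, .p10, .xii, .y2, .p10, .xii, .y10, .tau, .hi,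
   .xii, .p9, .xii, .p3, .hi, .p7, .tau, .xii, .p6, .xii, .y3, .hi, .p9, .tau, .xii, .y2, .hi, .p6],
  [.Z10, .Z9, .Z8, .Z4, .Z2, .X8, .X6, .X5, .X4, .X2, .X0, .y10, .y9, .y3, .y2, .p, .hi, .p, .hi, .p5, .hi, .xii, .p3,
   .hi, .xii, .y3, .y7, .p6, .taui, .xii, .y6, .p, .xii, .y2, .p, .xii, .y1, .tau, .y1, .p9, .xii, .p4, .xii, .y2,
   .p4, .xii, .y5, .taui, .xii, .y2, .p5, .xii, .y3, .p8, .xii, .y6, .taui, .xii],
  [.Z10, .Z1, .X9, .X5, .X4, .X1, .y10, .y9, .y8, .y6, .y4, .y2, .hi, .p6, .hi, .p5, .hi, .p9, .hi, .p10, .hi, .p3,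
   .hi, .p9, .xii, .p, .xii, .y6, .y10, .taui, .xii, .p, .xii, .y4, .hi, .xii, .y6, .y10, .taui, .xii, .p4, .xii, .y3,
   .p9, .y1, .xii, .y2, .y10, .p7, .tau, .xii, .p10, .xii, .y7, .p5, .hi, .p4]⟩

theorem h176 : Hd F (g wAd) b176 := hdD (by decide +kernel)
theorem r176_0 : R9 F (g wAd) b176 [0] 0 0 := .of' (startD 0 1) (skip := [0]) (by decide +kernel) (by decide)
theorem r176_1 : R9 F (g wAd) b176 [0] 0 1 := .of (startD 0 1) (by decide +kernel)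
theorem r176_2 : R9 F (g wAd) b176 [0] 0 2 := .of (startD 0 1) (by decide +kernel)
theorem r176_3 : R9 F (g wAd) b176 [0] 1 0 := .of (startD 0 1) (by decide +kernel)
theorem r176_4 : R9 F (g wAd) b176 [0] 1 1 := .of (startD 0 1) (by decide +kernel)
theorem r176_5 : R9 F (g wAd) b176 [0] 1 2 := .of (startD 0 1) (by decide +kernel)
theorem r176_6 : R9 F (g wAd) b176 [0] 2 0 := .of (startD 0 1) (by decide +kernel)
theorem r176_7 : R9 F (g wAd) b176 [0] 2 1 := .of (startD 0 1) (by decide +kernel)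
theorem r176_8 : R9 F (g wAd) b176 [0] 2 2 := .of (startD 0 1) (by decide +kernel)
theorem g176 : Gd F (g wAd) (0, d176) [0] :=
  good9 ok h176 r176_0 r176_1 r176_2 r176_3 r176_4 r176_5 r176_6 r176_7 r176_8

def b177 : Wd := ⟨0, d177,
  [.Z9, .Z7, .Z6, .Z5, .Z3, .Z2, .Z1, .X10, .X6, .X5, .X3, .X1, .X0, .y10, .y9, .y8, .y7, .y4, .y3, .y1, .p2, .hi,
   .p10, .hi, .p10, .hi, .p8, .hi, .p, .xii, .p2, .hi, .xii, .y9, .p3, .taui, .xii, .y2, .p, .xii, .y1, .hi, .xii,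
   .y1, .y4, .tau, .X0, .p8, .xii, .p4, .xii, .p4, .xii, .y5, .y8, .tau, .xii, .p5, .xii, .y6, .p8, .xii, .y5, .taui,
   .xii, .hi],
  [.z, .Z7, .Z6, .Z3, .Z1, .X10, .X9, .X8, .X4, .X2, .X1, .y10, .y9, .y8, .y7, .y3, .y1, .hi, .p7, .hi, .p3, .hi,
   .p10, .hi, .p10, .hi, .p9, .hi, .p10, .hi, .xii, .y2, .p, .hi, .xii, .y5, .tau, .y1, .xii, .hi, .xii, .y6, .tau,
   .p6, .xii, .p8, .xii, .y6, .taui, .xii, .p9, .xii, .y9, .p9, .xii, .y6, .tau, .xii, .hi],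
  [.z, .Z10, .Z5, .Z4, .Z2, .Z0, .X10, .X8, .X5, .X2, .X0, .y9, .y5, .y4, .y2, .p, .hi, .p4, .hi, .p3, .hi, .p7, .hi,
   .p2, .xii, .y2, .hi, .p8, .xii, .y2, .p2, .taui, .xii, .p3, .hi, .xii, .y2, .tau, .X0, .p2, .xii, .p9, .xii, .p9,
   .y4, .taui, .xii, .p5, .xii, .p9, .y9, .xii, .y10, .taui, .xii, .y7, .p5, .hi]⟩

theorem h177 : Hd F (g wAd) b177 := hdD (by decide +kernel)
theorem r177_0 : R9 F (g wAd) b177 [] 0 0 := .of (startD 0 1) (by decide +kernel)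
theorem r177_1 : R9 F (g wAd) b177 [] 0 1 := .of (startD 0 1) (by decide +kernel)
theorem r177_2 : R9 F (g wAd) b177 [] 0 2 := .of (startD 0 1) (by decide +kernel)
theorem r177_3 : R9 F (g wAd) b177 [] 1 0 := .of (startD 0 1) (by decide +kernel)
theorem r177_4 : R9 F (g wAd) b177 [] 1 1 := .of (startD 0 1) (by decide +kernel)
theorem r177_5 : R9 F (g wAd) b177 [] 1 2 := .of (startD 0 1) (by decide +kernel)
theorem r177_6 : R9 F (g wAd) b177 [] 2 0 := .of (startD 0 1) (by decide +kernel)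
theorem r177_7 : R9 F (g wAd) b177 [] 2 1 := .of (startD 0 1) (by decide +kernel)
theorem r177_8 : R9 F (g wAd) b177 [] 2 2 := .of (startD 0 1) (by decide +kernel)
theorem g177 : Gd F (g wAd) (0, d177) [] :=
  good9 ok h177 r177_0 r177_1 r177_2 r177_3 r177_4 r177_5 r177_6 r177_7 r177_8

def b178 : Wd := ⟨0, d178,
  [.z, .Z10, .Z8, .Z7, .Z6, .Z3, .Z2, .Z1, .X10, .X8, .X7, .X4, .X3, .y10, .y9, .y6, .y5, .y4, .y2, .y1, .hi, .p6,
   .hi, .p10, .hi, .p, .hi, .p, .hi, .xii, .hi, .xii, .p2, .y7, .xii, .y7, .tau, .X0, .xii, .y6, .p9, .xii, .p2, .y6,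
   .xii, .y8, .tau, .xii, .p8, .xii, .y8, .p3, .hi, .p3, .tau, .xii, .y2, .p7],
  [.z, .Z8, .Z7, .Z5, .Z4, .Z3, .Z1, .X10, .X9, .X8, .X7, .X3, .X2, .X1, .y6, .y5, .y3, .y1, .p10, .hi, .p8, .hi, .p7,
   .hi, .p8, .hi, .p, .hi, .p9, .hi, .xii, .p10, .xii, .y1, .p6, .xii, .y6, .taui, .xii, .y2, .p, .xii, .y1, .hi,
   .xii, .y4, .y6, .tau, .X0, .hi, .xii, .p9, .xii, .y1, .y8, .p, .hi, .p7, .tau, .xii, .y2, .p4, .xii, .y6, .p6],
  [.z, .Z8, .Z6, .Z5, .Z4, .Z3, .Z1, .X10, .X9, .X8, .y9, .y7, .y5, .y4, .y3, .p4, .hi, .p, .hi, .p3, .hi, .p6, .hi,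
   .p4, .hi, .p7, .hi, .xii, .p, .xii, .p, .xii, .y3, .taui, .y1, .xii, .p10, .xii, .y1, .y7, .p10, .xii, .y10, .taui,
   .xii, .p10, .xii, .p9, .xii, .y2, .y7, .taui, .xii, .p7, .xii, .y4, .p7, .xii, .y2, .tau, .xii, .y7, .hi]⟩

theorem h178 : Hd F (g wAd) b178 := hdD (by decide +kernel)
theorem r178_0 : R9 F (g wAd) b178 [] 0 0 := .of (startD 0 1) (by decide +kernel)
theorem r178_1 : R9 F (g wAd) b178 [] 0 1 := .of (startD 0 1) (by decide +kernel)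
theorem r178_2 : R9 F (g wAd) b178 [] 0 2 := .of (startD 0 1) (by decide +kernel)
theorem r178_3 : R9 F (g wAd) b178 [] 1 0 := .of (startD 0 1) (by decide +kernel)
theorem r178_4 : R9 F (g wAd) b178 [] 1 1 := .of (startD 0 1) (by decide +kernel)
theorem r178_5 : R9 F (g wAd) b178 [] 1 2 := .of (startD 0 1) (by decide +kernel)
theorem r178_6 : R9 F (g wAd) b178 [] 2 0 := .of (startD 0 1) (by decide +kernel)
theorem r178_7 : R9 F (g wAd) b178 [] 2 1 := .of (startD 0 1) (by decide +kernel)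
theorem r178_8 : R9 F (g wAd) b178 [] 2 2 := .of (startD 0 1) (by decide +kernel)
theorem g178 : Gd F (g wAd) (0, d178) [] :=
  good9 ok h178 r178_0 r178_1 r178_2 r178_3 r178_4 r178_5 r178_6 r178_7 r178_8

def b179 : Wd := ⟨0, d179,
  [.Z7, .Z5, .Z4, .Z2, .Z1, .X9, .X7, .X5, .X4, .X2, .X1, .y10, .y8, .y6, .y5, .y4, .y2, .y1, .p10, .hi, .p2, .hi,
   .p5, .hi, .p, .hi, .p, .hi, .p9, .xii, .p, .xii, .y4, .p4, .taui, .xii, .p, .xii, .hi, .y8, .xii, .y3, .y4, .tau,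
   .y1, .xii, .p3, .xii, .y4, .p4, .xii, .y3, .taui, .xii, .p5, .xii, .y6, .hi, .p8, .y4, .tau, .xii, .y2, .p],
  [.Z7, .Z6, .Z5, .Z4, .Z3, .X10, .X3, .X2, .y10, .y6, .y2, .hi, .p9, .hi, .p10, .hi, .p10, .hi, .p6, .hi, .p8, .hi,
   .p, .xii, .p, .xii, .p8, .y4, .xii, .y1, .tau, .X0, .p7, .xii, .p, .hi, .xii, .y1, .p3, .tau, .p8, .xii, .hi, .xii,
   .y9, .taui, .xii, .p8, .xii, .p8, .y3, .taui, .xii, .y2, .p8],
  [.Z10, .Z9, .Z8, .Z5, .Z4, .Z3, .Z0, .X10, .X5, .X4, .X0, .y8, .y7, .y6, .y5, .y4, .y1, .hi, .p2, .hi, .p4, .hi,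
   .p5, .hi, .p, .hi, .p10, .hi, .xii, .p, .xii, .y10, .p9, .taui, .xii, .p, .xii, .hi, .y8, .xii, .y3, .y9, .tau,
   .X0, .xii, .p4, .xii, .y8, .p, .xii, .y1, .y4, .tau, .xii, .p8, .xii, .p4, .y1, .xii, .y4, .y7, .taui, .xii, .hi]⟩

theorem h179 : Hd F (g wAd) b179 := hdD (by decide +kernel)
theorem r179_0 : R9 F (g wAd) b179 [] 0 0 := .of (startD 0 2) (by decide +kernel)
theorem r179_1 : R9 F (g wAd) b179 [] 0 1 := .of (startD 0 1) (by decide +kernel)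
theorem r179_2 : R9 F (g wAd) b179 [] 0 2 := .of (startD 0 1) (by decide +kernel)
theorem r179_3 : R9 F (g wAd) b179 [] 1 0 := .of (startD 0 1) (by decide +kernel)
theorem r179_4 : R9 F (g wAd) b179 [] 1 1 := .of (startD 0 1) (by decide +kernel)
theorem r179_5 : R9 F (g wAd) b179 [] 1 2 := .of (startD 0 1) (by decide +kernel)
theorem r179_6 : R9 F (g wAd) b179 [] 2 0 := .of (startD 0 1) (by decide +kernel)
theorem r179_7 : R9 F (g wAd) b179 [] 2 1 := .of (startD 0 1) (by decide +kernel)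
theorem r179_8 : R9 F (g wAd) b179 [] 2 2 := .of (startD 0 1) (by decide +kernel)
theorem g179 : Gd F (g wAd) (0, d179) [] :=
  good9 ok h179 r179_0 r179_1 r179_2 r179_3 r179_4 r179_5 r179_6 r179_7 r179_8

theorem all : AllG F (g wAd) LD17 :=
  .cons g170 (.cons g171 (.cons g172 (.cons g173 (.cons g174 (.cons g175 (.cons g176 (.cons g177 (.cons g178 (.cons g179 (.nil))))))))))

end Cfsg.Agent.BX.No33.Bk.D17
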