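import Cfsg.Agent.BX.No33.Cheap
set_option linter.all false

/-!
# Tests, diagonal case, part 18 (helper5; generated)
-/

set_option autoImplicit false
set_option maxRecDepth 100000
set_option Elab.async false

namespace Cfsg.Agent.BX.No33.Bk.D18

open Cfsg.Agent.H819.U33 Cfsg.Agent.BX.No33.Front

def b180 : Wd := ⟨0, d180,
  [.z, .Z10, .Z9, .Z4, .Z2, .Z1, .Z0, .X10, .X9, .X8, .X6, .X5, .X2, .X0, .y10, .y9, .y8, .y6, .y5, .y3, .y1, .p5,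
   .hi, .p10, .hi, .p6, .hi, .p7, .hi, .p7, .hi, .p8, .tau, .xii, .p, .xii, .y4, .hi, .xii, .y1, .y2, .y10, .tau, .y1,
   .xii, .y1, .hi, .xii, .y6, .p10, .xii, .y4, .y8, .tau, .X0, .p10, .xii, .y2, .p5, .xii, .y2, .taui, .xii, .p7,
   .xii, .y7, .p9, .xii, .y1, .taui, .xii, .p7, .xii],
  [.z, .Z10, .Z9, .Z6, .Z4, .Z3, .Z1, .X10, .X9, .X6, .X1, .y9, .y4, .p, .hi, .p5, .hi, .p4, .hi, .p4, .hi, .p10,
   .xii, .p, .xii, .y10, .p9, .xii, .y4, .tau, .y1, .xii, .p10, .xii, .y4, .p10, .xii, .y1, .y3, .tau, .X0, .hi, .xii,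
   .p2, .xii, .y6, .y10, .hi, .xii, .tau, .xii, .hi, .p8, .xii, .y4],
  [.Z10, .Z9, .Z8, .Z7, .Z6, .Z5, .Z4, .Z3, .Z1, .X9, .X7, .X4, .X3, .X2, .X1, .X0, .y9, .y7, .y5, .y4, .p5, .hi, .p4,
   .hi, .p4, .hi, .p6, .hi, .p7, .hi, .xii, .y2, .hi, .xii, .p9, .xii, .y7, .taui, .y1, .xii, .p10, .xii, .y8, .p10,
   .xii, .y2, .tau, .X0, .xii, .p7, .xii, .y2, .y7, .p9, .xii, .y3, .y9, .taui, .xii, .p9, .xii, .p6, .y5, .xii, .y3,
   .tau, .xii, .y8, .p8]⟩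

theorem h180 : Hd F (g wAd) b180 := hdD (by decide +kernel)
theorem r180_0 : R9 F (g wAd) b180 [] 0 0 := .of (startD 0 1) (by decide +kernel)
theorem r180_1 : R9 F (g wAd) b180 [] 0 1 := .of (startD 0 1) (by decide +kernel)
theorem r180_2 : R9 F (g wAd) b180 [] 0 2 := .of (startD 0 1) (by decide +kernel)
theorem r180_3 : R9 F (g wAd) b180 [] 1 0 := .of (startD 0 1) (by decide +kernel)
theorem r180_4 : R9 F (g wAd) b180 [] 1 1 := .of (startD 0 1) (by decide +kernel)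
theorem r180_5 : R9 F (g wAd) b180 [] 1 2 := .of (startD 0 1) (by decide +kernel)
theorem r180_6 : R9 F (g wAd) b180 [] 2 0 := .of (startD 0 1) (by decide +kernel)
theorem r180_7 : R9 F (g wAd) b180 [] 2 1 := .of (startD 0 1) (by decide +kernel)
theorem r180_8 : R9 F (g wAd) b180 [] 2 2 := .of (startD 0 1) (by decide +kernel)
theorem g180 : Gd F (g wAd) (0, d180) [] :=
  good9 ok h180 r180_0 r180_1 r180_2 r180_3 r180_4 r180_5 r180_6 r180_7 r180_8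

def b181 : Wd := ⟨0, d181,
  [.Z9, .Z8, .Z5, .Z3, .Z2, .X10, .X9, .X5, .X0, .y10, .y9, .y8, .y7, .y6, .y5, .y1, .p7, .hi, .p9, .hi, .p7, .hi,
   .p10, .hi, .p4, .hi, .p3, .xii, .p, .xii, .y1, .y10, .hi, .xii, .y4, .y5, .taui, .y1, .xii, .y2, .hi, .xii, .p10,
   .xii, .y2, .y10, .tau, .X0, .xii, .p5, .xii, .y8, .p, .y3, .xii, .y5, .p5, .tau, .xii, .p2, .xii, .y3, .hi, .xii,
   .y5, .taui, .xii, .p2, .xii, .y10],
  [.Z6, .Z2, .X9, .X6, .X2, .X1, .y7, .y4, .y2, .p9, .hi, .p6, .hi, .p5, .hi, .p8, .hi, .p8, .hi, .xii, .y2, .p, .xii,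
   .y1, .y2, .taui, .p8, .xii, .y7, .p4, .xii, .y5, .y10, .p7, .taui, .xii, .p8, .xii, .y2, .y3, .p4, .xii, .tau,
   .xii, .p, .xii, .y6],
  [.Z9, .Z8, .Z7, .Z6, .Z5, .Z2, .Z1, .Z0, .X9, .X8, .X6, .X4, .X3, .X1, .y10, .y8, .y7, .y5, .y3, .y2, .p9, .hi, .p,
   .hi, .p6, .hi, .p3, .hi, .p5, .hi, .p3, .xii, .p3, .hi, .xii, .p10, .y1, .tau, .xii, .p, .xii, .hi, .y8, .xii, .y7,
   .taui, .xii, .p, .xii, .y2, .hi, .xii, .y1, .tau, .p7, .xii, .p7, .xii, .y7, .taui, .xii, .p3, .xii, .p4, .xii,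
   .y4, .y7, .tau, .xii, .p2, .xii, .y8]⟩

theorem h181 : Hd F (g wAd) b181 := hdD (by decide +kernel)
theorem r181_0 : R9 F (g wAd) b181 [] 0 0 := .of (startD 0 1) (by decide +kernel)
theorem r181_1 : R9 F (g wAd) b181 [] 0 1 := .of (startD 0 1) (by decide +kernel)
theorem r181_2 : R9 F (g wAd) b181 [] 0 2 := .of (startD 0 1) (by decide +kernel)
theorem r181_3 : R9 F (g wAd) b181 [] 1 0 := .of (startD 0 1) (by decide +kernel)
theorem r181_4 : R9 F (g wAd) b181 [] 1 1 := .of (startD 0 1) (by decide +kernel)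
theorem r181_5 : R9 F (g wAd) b181 [] 1 2 := .of (startD 0 1) (by decide +kernel)
theorem r181_6 : R9 F (g wAd) b181 [] 2 0 := .of (startD 0 1) (by decide +kernel)
theorem r181_7 : R9 F (g wAd) b181 [] 2 1 := .of (startD 0 1) (by decide +kernel)
theorem r181_8 : R9 F (g wAd) b181 [] 2 2 := .of (startD 0 1) (by decide +kernel)
theorem g181 : Gd F (g wAd) (0, d181) [] :=
  good9 ok h181 r181_0 r181_1 r181_2 r181_3 r181_4 r181_5 r181_6 r181_7 r181_8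

def b182 : Wd := ⟨0, d182,
  [.Z10, .Z9, .Z6, .Z5, .Z2, .Z1, .Z0, .X10, .X5, .X3, .X2, .X1, .X0, .y9, .y6, .y5, .y3, .y2, .y1, .p10, .hi, .p6,
   .hi, .p8, .hi, .p, .hi, .p8, .hi, .p5, .hi, .p3, .xii, .y2, .hi, .xii, .p9, .xii, .y7, .taui, .y1, .xii, .p10,
   .xii, .y1, .p10, .xii, .y3, .y7, .tau, .X0, .p7, .xii, .p4, .xii, .y4, .hi, .y10, .p8, .taui, .xii, .p4, .xii, .y1,
   .y6, .p9, .xii, .y4, .tau, .xii, .p5, .hi, .p7],
  [.z, .Z10, .Z8, .Z7, .Z6, .Z5, .Z3, .Z0, .X7, .X6, .X4, .X2, .X0, .y9, .y8, .y7, .y5, .y4, .y1, .p9, .hi, .p9, .hi,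
   .p4, .hi, .p5, .hi, .p, .hi, .p3, .xii, .y2, .p, .xii, .y3, .y4, .tau, .y1, .xii, .p10, .xii, .y5, .p10, .xii,
   .taui, .X0, .y1, .p7, .xii, .p8, .xii, .y2, .p9, .taui, .xii, .p8, .xii, .y1, .p3, .hi, .p9, .taui, .xii, .y2, .p,
   .hi],
  [.Z9, .Z8, .Z6, .Z5, .Z2, .Z0, .X10, .X9, .X8, .X7, .X6, .X5, .X2, .X0, .y10, .y9, .y2, .y1, .p9, .hi, .p4, .hi,
   .p10, .hi, .p5, .hi, .p2, .xii, .hi, .p8, .xii, .y1, .y7, .p10, .taui, .xii, .p, .xii, .y4, .hi, .xii, .y7, .y10,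
   .tau, .X0, .hi, .xii, .p5, .xii, .y4, .y5, .p7, .tau, .xii, .p9, .xii, .y6, .hi, .p2, .hi, .tau, .xii, .p4, .hi,
   .p2]⟩

theorem h182 : Hd F (g wAd) b182 := hdD (by decide +kernel)
theorem r182_0 : R9 F (g wAd) b182 [] 0 0 := .of (startD 0 1) (by decide +kernel)
theorem r182_1 : R9 F (g wAd) b182 [] 0 1 := .of (startD 0 1) (by decide +kernel)
theorem r182_2 : R9 F (g wAd) b182 [] 0 2 := .of (startD 0 1) (by decide +kernel)
theorem r182_3 : R9 F (g wAd) b182 [] 1 0 := .of (startD 0 1) (by decide +kernel)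
theorem r182_4 : R9 F (g wAd) b182 [] 1 1 := .of (startD 0 1) (by decide +kernel)
theorem r182_5 : R9 F (g wAd) b182 [] 1 2 := .of (startD 0 1) (by decide +kernel)
theorem r182_6 : R9 F (g wAd) b182 [] 2 0 := .of (startD 0 1) (by decide +kernel)
theorem r182_7 : R9 F (g wAd) b182 [] 2 1 := .of (startD 0 1) (by decide +kernel)
theorem r182_8 : R9 F (g wAd) b182 [] 2 2 := .of (startD 0 1) (by decide +kernel)
theorem g182 : Gd F (g wAd) (0, d182) [] :=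
  good9 ok h182 r182_0 r182_1 r182_2 r182_3 r182_4 r182_5 r182_6 r182_7 r182_8

def b183 : Wd := ⟨0, d183,
  [.Z10, .Z6, .Z4, .Z1, .Z0, .X10, .X8, .X6, .X3, .X1, .y10, .y8, .y5, .hi, .p10, .hi, .p10, .hi, .p3, .hi, .p10, .hi,
   .p7, .xii, .p, .xii, .p7, .xii, .y1, .y3, .tau, .xii, .y6, .p, .xii, .p, .xii, .y2, .y4, .y6, .tau, .p7, .xii, .p4,
   .xii, .p2, .hi, .y7, .p7, .taui, .xii, .p4, .xii, .y4, .y5, .p, .tau, .xii, .p4, .hi, .p2],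
  [.Z9, .Z6, .Z4, .Z3, .Z2, .Z1, .Z0, .X10, .X5, .X2, .X1, .X0, .y10, .y5, .y4, .y1, .p7, .hi, .p6, .hi, .p9, .hi,
   .p8, .hi, .p6, .xii, .hi, .p8, .xii, .y2, .y9, .p2, .taui, .xii, .p, .xii, .y2, .hi, .xii, .y6, .tau, .X0, .p2,
   .xii, .p8, .xii, .y9, .p2, .y1, .taui, .xii, .p4, .xii, .y3, .p8, .xii, .y6, .tau, .xii, .p],
  [.Z9, .Z6, .Z4, .Z2, .X10, .X7, .X5, .X3, .X2, .X1, .y6, .y3, .y1, .p9, .hi, .p8, .hi, .p7, .hi, .p6, .hi, .p8, .hi,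
   .p10, .xii, .p3, .hi, .xii, .y3, .y9, .p10, .tau, .xii, .p, .xii, .hi, .y8, .xii, .y3, .y4, .tau, .p9, .xii, .p3,
   .y10, .xii, .y3, .hi, .tau, .xii, .p6, .xii, .y5, .p3, .hi, .p2, .tau, .xii, .p]⟩

theorem h183 : Hd F (g wAd) b183 := hdD (by decide +kernel)
theorem r183_0 : R9 F (g wAd) b183 [] 0 0 := .of (startD 0 1) (by decide +kernel)
theorem r183_1 : R9 F (g wAd) b183 [] 0 1 := .of (startD 0 1) (by decide +kernel)
theorem r183_2 : R9 F (g wAd) b183 [] 0 2 := .of (startD 0 1) (by decide +kernel)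
theorem r183_3 : R9 F (g wAd) b183 [] 1 0 := .of (startD 0 1) (by decide +kernel)
theorem r183_4 : R9 F (g wAd) b183 [] 1 1 := .of (startD 0 1) (by decide +kernel)
theorem r183_5 : R9 F (g wAd) b183 [] 1 2 := .of (startD 0 1) (by decide +kernel)
theorem r183_6 : R9 F (g wAd) b183 [] 2 0 := .of (startD 0 1) (by decide +kernel)
theorem r183_7 : R9 F (g wAd) b183 [] 2 1 := .of (startD 0 1) (by decide +kernel)
theorem r183_8 : R9 F (g wAd) b183 [] 2 2 := .of (startD 0 1) (by decide +kernel)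
theorem g183 : Gd F (g wAd) (0, d183) [] :=
  good9 ok h183 r183_0 r183_1 r183_2 r183_3 r183_4 r183_5 r183_6 r183_7 r183_8

def b184 : Wd := ⟨0, d184,
  [.z, .Z10, .Z9, .Z7, .Z4, .Z3, .Z2, .Z0, .X10, .X9, .X8, .X7, .X6, .X5, .X3, .X2, .y9, .y6, .y4, .y3, .hi, .p10,
   .hi, .p10, .hi, .p3, .hi, .p4, .hi, .p10, .hi, .xii, .hi, .xii, .p9, .y4, .xii, .y2, .y7, .taui, .xii, .p, .xii,
   .y3, .y10, .hi, .xii, .y4, .y5, .tau, .p8, .xii, .p8, .xii, .y10, .p2, .xii, .y10, .tau, .xii, .p, .xii, .y3, .p2,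
   .xii, .y9, .taui, .xii, .p4, .hi, .p2],
  [.z, .Z9, .Z8, .Z7, .Z5, .Z3, .Z1, .X5, .X2, .X1, .y8, .y7, .y6, .y2, .hi, .p8, .hi, .p4, .hi, .p5, .hi, .p10, .xii,
   .taui, .xii, .y6, .p, .xii, .y2, .p, .xii, .y5, .tau, .xii, .y6, .p9, .xii, .y5, .p, .xii, .y3, .y4, .taui, .xii,
   .p4, .xii, .y10, .p10, .xii, .y4, .y10, .tau, .xii, .p8],
  [.z, .Z10, .Z8, .Z5, .Z4, .Z0, .X10, .X9, .X8, .X5, .X3, .X2, .X0, .y7, .y3, .y2, .y1, .p9, .hi, .p7, .hi, .p9, .hi,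
   .p, .hi, .p5, .hi, .p7, .hi, .xii, .hi, .xii, .y4, .p6, .xii, .y7, .tau, .xii, .p, .xii, .y4, .hi, .xii, .y3, .y4,
   .taui, .X0, .p9, .xii, .y6, .p3, .xii, .p2, .y8, .hi, .p5, .taui, .xii, .p4, .xii, .p5, .y3, .tau, .xii, .p2, .hi,
   .p]⟩

theorem h184 : Hd F (g wAd) b184 := hdD (by decide +kernel)
theorem r184_0 : R9 F (g wAd) b184 [] 0 0 := .of (startD 0 1) (by decide +kernel)
theorem r184_1 : R9 F (g wAd) b184 [] 0 1 := .of (startD 0 2) (by decide +kernel)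
theorem r184_2 : R9 F (g wAd) b184 [] 0 2 := .of (startD 0 1) (by decide +kernel)
theorem r184_3 : R9 F (g wAd) b184 [] 1 0 := .of (startD 0 1) (by decide +kernel)
theorem r184_4 : R9 F (g wAd) b184 [] 1 1 := .of (startD 0 1) (by decide +kernel)
theorem r184_5 : R9 F (g wAd) b184 [] 1 2 := .of (startD 0 1) (by decide +kernel)
theorem r184_6 : R9 F (g wAd) b184 [] 2 0 := .of (startD 0 1) (by decide +kernel)
theorem r184_7 : R9 F (g wAd) b184 [] 2 1 := .of (startD 0 1) (by decide +kernel)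
theorem r184_8 : R9 F (g wAd) b184 [] 2 2 := .of (startD 0 1) (by decide +kernel)
theorem g184 : Gd F (g wAd) (0, d184) [] :=
  good9 ok h184 r184_0 r184_1 r184_2 r184_3 r184_4 r184_5 r184_6 r184_7 r184_8

def b185 : Wd := ⟨0, d185,
  [.Z9, .Z4, .Z2, .Z1, .Z0, .X10, .X9, .X3, .X2, .X1, .X0, .y9, .y4, .y3, .y2, .y1, .p10, .hi, .p10, .hi, .p10, .hi,
   .p9, .hi, .p5, .hi, .p8, .hi, .p8, .xii, .y2, .hi, .p8, .taui, .xii, .y2, .p, .xii, .y1, .hi, .xii, .y4, .y5,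
   .taui, .X0, .xii, .y2, .p3, .xii, .y4, .p10, .xii, .y8, .tau, .xii, .p9, .xii, .p8, .xii, .y1, .y10, .tau, .xii,
   .p6, .xii, .y4],
  [.Z10, .Z9, .Z8, .Z7, .Z6, .Z5, .Z3, .Z2, .Z1, .Z0, .X10, .X8, .X5, .X4, .X3, .y9, .y8, .y7, .y5, .y4, .p8, .hi,
   .p6, .hi, .p3, .hi, .p9, .hi, .p5, .hi, .p3, .hi, .tau, .xii, .y2, .p, .xii, .y4, .hi, .xii, .y2, .y7, .tau, .p7,
   .xii, .p, .xii, .p4, .y3, .hi, .tau, .xii, .p5, .xii, .p9, .xii, .y3, .y4, .tau, .xii, .p9],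
  [.Z10, .Z8, .Z7, .Z5, .Z4, .Z3, .Z1, .X4, .X3, .X2, .X1, .y9, .y7, .y6, .y5, .y3, .y2, .p10, .hi, .p8, .hi, .p5,
   .hi, .p7, .hi, .p9, .xii, .y2, .p, .xii, .p5, .xii, .y4, .y7, .taui, .xii, .y2, .p, .xii, .y2, .hi, .xii, .y7,
   .taui, .p6, .xii, .p8, .xii, .y3, .y7, .p5, .hi, .p8, .tau, .xii, .p7, .xii, .y1, .y2, .p9, .xii, .y3, .taui, .xii,
   .y2, .p7, .xii]⟩

theorem h185 : Hd F (g wAd) b185 := hdD (by decide +kernel)
theorem r185_0 : R9 F (g wAd) b185 [] 0 0 := .of (startD 0 1) (by decide +kernel)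
theorem r185_1 : R9 F (g wAd) b185 [] 0 1 := .of (startD 0 1) (by decide +kernel)
theorem r185_2 : R9 F (g wAd) b185 [] 0 2 := .of (startD 0 1) (by decide +kernel)
theorem r185_3 : R9 F (g wAd) b185 [] 1 0 := .of (startD 0 1) (by decide +kernel)
theorem r185_4 : R9 F (g wAd) b185 [] 1 1 := .of (startD 0 1) (by decide +kernel)
theorem r185_5 : R9 F (g wAd) b185 [] 1 2 := .of (startD 0 1) (by decide +kernel)
theorem r185_6 : R9 F (g wAd) b185 [] 2 0 := .of (startD 0 1) (by decide +kernel)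
theorem r185_7 : R9 F (g wAd) b185 [] 2 1 := .of (startD 0 1) (by decide +kernel)
theorem r185_8 : R9 F (g wAd) b185 [] 2 2 := .of (startD 0 1) (by decide +kernel)
theorem g185 : Gd F (g wAd) (0, d185) [] :=
  good9 ok h185 r185_0 r185_1 r185_2 r185_3 r185_4 r185_5 r185_6 r185_7 r185_8

def b186 : Wd := ⟨0, d186,
  [.z, .Z8, .Z4, .Z3, .X10, .X9, .X4, .X1, .y9, .y8, .y7, .y6, .y5, .y4, .y3, .p6, .hi, .p6, .hi, .p6, .hi, .p10, .hi,
   .p, .xii, .p10, .xii, .y7, .p6, .xii, .y4, .y7, .taui, .y1, .xii, .y2, .hi, .xii, .y7, .p10, .xii, .tau, .xii, .y1,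
   .p3, .xii, .y5, .p2, .xii, .y8, .tau, .xii, .p9, .xii, .y1, .y2, .p3, .hi, .taui, .xii, .y2, .p, .hi],
  [.z, .Z10, .Z8, .Z7, .Z6, .Z5, .Z4, .Z3, .Z1, .X6, .X5, .X1, .X0, .y10, .y7, .y5, .y4, .y3, .y2, .p6, .hi, .p8, .hi,
   .p6, .xii, .hi, .xii, .y4, .p6, .xii, .y7, .tau, .xii, .p, .xii, .y3, .hi, .xii, .y4, .y7, .taui, .xii, .p9, .xii,
   .p3, .xii, .y1, .y7, .p10, .tau, .xii, .y2, .p5, .xii, .y1, .hi, .p7],
  [.z, .Z7, .Z5, .Z1, .X10, .X8, .X7, .X6, .X4, .X3, .X0, .y10, .y9, .y5, .y1, .p9, .hi, .p10, .hi, .p2, .hi, .p5,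
   .hi, .p2, .hi, .xii, .y2, .hi, .xii, .p5, .xii, .y9, .taui, .xii, .y1, .p, .xii, .y4, .p, .xii, .y1, .y9, .tau,
   .X0, .p2, .xii, .p5, .xii, .y7, .p2, .y3, .tau, .xii, .p7, .xii, .p3, .y3, .xii, .y9, .tau, .xii, .y6, .p7]⟩

theorem h186 : Hd F (g wAd) b186 := hdD (by decide +kernel)
theorem r186_0 : R9 F (g wAd) b186 [] 0 0 := .of (startD 0 1) (by decide +kernel)
theorem r186_1 : R9 F (g wAd) b186 [] 0 1 := .of (startD 0 1) (by decide +kernel)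
theorem r186_2 : R9 F (g wAd) b186 [] 0 2 := .of (startD 0 1) (by decide +kernel)
theorem r186_3 : R9 F (g wAd) b186 [] 1 0 := .of (startD 0 1) (by decide +kernel)
theorem r186_4 : R9 F (g wAd) b186 [] 1 1 := .of (startD 0 1) (by decide +kernel)
theorem r186_5 : R9 F (g wAd) b186 [] 1 2 := .of (startD 0 2) (by decide +kernel)
theorem r186_6 : R9 F (g wAd) b186 [] 2 0 := .of (startD 0 1) (by decide +kernel)
theorem r186_7 : R9 F (g wAd) b186 [] 2 1 := .of (startD 0 1) (by decide +kernel)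
theorem r186_8 : R9 F (g wAd) b186 [] 2 2 := .of (startD 0 1) (by decide +kernel)
theorem g186 : Gd F (g wAd) (0, d186) [] :=
  good9 ok h186 r186_0 r186_1 r186_2 r186_3 r186_4 r186_5 r186_6 r186_7 r186_8

def b187 : Wd := ⟨0, d187,
  [.z, .Z10, .Z7, .Z6, .Z3, .Z1, .X10, .X9, .X7, .X6, .X4, .X2, .y10, .y6, .y4, .y3, .p10, .hi, .p10, .hi, .p10, .hi,
   .p6, .hi, .p3, .hi, .p7, .xii, .p10, .xii, .p6, .xii, .y7, .y8, .taui, .xii, .y1, .p, .xii, .p, .xii, .y4, .y6,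
   .tau, .p4, .xii, .y6, .p5, .xii, .y9, .hi, .p8, .tau, .xii, .p5, .xii, .p9, .y1, .taui, .xii, .y2, .p5, .hi, .p2],
  [.Z10, .Z9, .Z8, .Z2, .X9, .X4, .X2, .X1, .X0, .y10, .y8, .y6, .y3, .y2, .p6, .hi, .p9, .hi, .p7, .hi, .p8, .hi,
   .p5, .hi, .p, .xii, .hi, .p8, .xii, .y3, .y9, .p2, .tau, .X0, .xii, .p10, .xii, .p2, .y9, .xii, .y10, .p9, .tau,
   .xii, .p8, .xii, .y6, .p2, .xii, .y9, .tau, .xii, .y7, .p6],
  [.Z10, .Z8, .Z4, .Z3, .Z2, .X9, .X7, .X6, .X5, .X4, .X3, .X1, .X0, .y10, .y9, .y7, .y4, .y2, .y1, .p9, .hi, .p3,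
   .hi, .p10, .hi, .p6, .hi, .p2, .xii, .p, .xii, .y4, .hi, .xii, .y1, .taui, .y1, .xii, .p10, .xii, .y5, .p10, .xii,
   .y9, .y10, .taui, .X0, .xii, .p10, .xii, .y1, .p6, .xii, .y9, .p5, .tau, .xii, .p5, .xii, .hi, .y5, .p2, .y4, .tau,
   .xii, .p5, .hi, .p2]⟩

theorem h187 : Hd F (g wAd) b187 := hdD (by decide +kernel)
theorem r187_0 : R9 F (g wAd) b187 [] 0 0 := .of (startD 0 1) (by decide +kernel)
theorem r187_1 : R9 F (g wAd) b187 [] 0 1 := .of (startD 0 1) (by decide +kernel)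
theorem r187_2 : R9 F (g wAd) b187 [] 0 2 := .of (startD 0 1) (by decide +kernel)
theorem r187_3 : R9 F (g wAd) b187 [] 1 0 := .of (startD 0 1) (by decide +kernel)
theorem r187_4 : R9 F (g wAd) b187 [] 1 1 := .of (startD 0 1) (by decide +kernel)
theorem r187_5 : R9 F (g wAd) b187 [] 1 2 := .of (startD 0 1) (by decide +kernel)
theorem r187_6 : R9 F (g wAd) b187 [] 2 0 := .of (startD 0 1) (by decide +kernel)
theorem r187_7 : R9 F (g wAd) b187 [] 2 1 := .of (startD 0 1) (by decide +kernel)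
theorem r187_8 : R9 F (g wAd) b187 [] 2 2 := .of (startD 0 1) (by decide +kernel)
theorem g187 : Gd F (g wAd) (0, d187) [] :=
  good9 ok h187 r187_0 r187_1 r187_2 r187_3 r187_4 r187_5 r187_6 r187_7 r187_8

def b188 : Wd := ⟨0, d188,
  [.z, .Z6, .Z5, .Z3, .Z1, .X10, .X6, .X5, .X3, .X1, .y7, .y6, .y4, .hi, .p8, .hi, .p9, .hi, .p8, .hi, .p3, .xii,
   .p10, .tau, .xii, .y6, .p, .xii, .y10, .p, .xii, .y7, .y10, .tau, .X0, .p10, .xii, .p2, .xii, .hi, .y8, .p8, .tau,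
   .xii, .p7, .xii, .y1, .hi, .y4, .p, .tau, .xii, .p2],
  [.Z9, .Z8, .Z4, .Z1, .X10, .X9, .X8, .X1, .X0, .y7, .y6, .y3, .y2, .y1, .p, .hi, .p8, .hi, .p10, .hi, .p9, .hi, .p,
   .xii, .p10, .xii, .p5, .y3, .tau, .y1, .xii, .y2, .hi, .xii, .p10, .xii, .y10, .tau, .p7, .xii, .p7, .xii, .y5,
   .taui, .xii, .p4, .xii, .y1, .y4, .p5, .xii, .y9, .tau, .xii, .hi, .p5],
  [.z, .Z10, .Z8, .Z6, .Z5, .Z3, .Z2, .Z1, .X6, .X5, .X4, .X3, .X2, .X0, .y10, .y9, .y8, .y7, .y4, .y3, .p6, .hi, .p,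
   .hi, .p7, .hi, .p6, .hi, .p3, .hi, .p9, .xii, .p10, .xii, .y10, .p6, .xii, .y3, .y4, .tau, .xii, .y1, .p, .xii,
   .y4, .p, .xii, .y4, .y5, .taui, .p8, .xii, .p8, .xii, .p4, .y5, .y10, .xii, .y7, .tau, .xii, .p8, .xii, .y7, .p2,
   .xii, .y2, .y3, .taui, .xii, .y6, .p9]⟩

theorem h188 : Hd F (g wAd) b188 := hdD (by decide +kernel)
theorem r188_0 : R9 F (g wAd) b188 [] 0 0 := .of (startD 0 1) (by decide +kernel)
theorem r188_1 : R9 F (g wAd) b188 [] 0 1 := .of (startD 0 1) (by decide +kernel)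
theorem r188_2 : R9 F (g wAd) b188 [] 0 2 := .of (startD 0 1) (by decide +kernel)
theorem r188_3 : R9 F (g wAd) b188 [] 1 0 := .of (startD 0 1) (by decide +kernel)
theorem r188_4 : R9 F (g wAd) b188 [] 1 1 := .of (startD 0 1) (by decide +kernel)
theorem r188_5 : R9 F (g wAd) b188 [] 1 2 := .of (startD 0 1) (by decide +kernel)
theorem r188_6 : R9 F (g wAd) b188 [] 2 0 := .of (startD 0 1) (by decide +kernel)
theorem r188_7 : R9 F (g wAd) b188 [] 2 1 := .of (startD 0 1) (by decide +kernel)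
theorem r188_8 : R9 F (g wAd) b188 [] 2 2 := .of (startD 0 1) (by decide +kernel)
theorem g188 : Gd F (g wAd) (0, d188) [] :=
  good9 ok h188 r188_0 r188_1 r188_2 r188_3 r188_4 r188_5 r188_6 r188_7 r188_8

def b189 : Wd := ⟨0, d189,
  [.z, .Z10, .Z8, .Z7, .Z6, .Z5, .Z4, .Z3, .Z0, .X8, .X1, .y9, .y5, .y4, .y1, .p10, .hi, .p3, .hi, .p10, .hi, .p7,
   .hi, .p8, .hi, .p5, .hi, .xii, .y2, .p, .xii, .y4, .hi, .xii, .y6, .tau, .xii, .p, .xii, .y1, .hi, .xii, .y7, .y10,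
   .tau, .X0, .p5, .xii, .hi, .y5, .p6, .taui, .xii, .p4, .xii, .p2, .y3],
  [.z, .Z10, .Z9, .Z8, .Z7, .Z6, .Z5, .Z4, .Z2, .Z0, .X10, .X9, .X8, .X7, .X5, .X3, .y10, .y8, .y7, .y6, .y5, .y4,
   .y3, .y2, .y1, .p, .hi, .p7, .hi, .p7, .hi, .p6, .hi, .p10, .hi, .p9, .xii, .p3, .hi, .xii, .y3, .y9, .p6, .tau,
   .xii, .p3, .hi, .xii, .y8, .y9, .taui, .X0, .p4, .xii, .hi, .xii, .y2, .tau, .xii, .p2, .xii, .y6, .p7, .xii, .y9,
   .taui, .xii, .p4],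
  [.Z9, .Z6, .Z2, .Z0, .X10, .X9, .X4, .X2, .X1, .X0, .y9, .y5, .y4, .p10, .hi, .p9, .hi, .p, .hi, .p4, .hi, .p3, .hi,
   .p10, .hi, .xii, .p3, .hi, .xii, .p4, .y9, .hi, .p2, .tau, .y1, .xii, .p10, .xii, .y4, .p10, .xii, .y10, .taui,
   .X0, .p8, .xii, .y2, .hi, .xii, .y10, .p9, .xii, .tau, .xii, .p9, .xii, .y9, .y10, .p9, .xii, .y1, .taui, .xii]⟩

theorem h189 : Hd F (g wAd) b189 := hdD (by decide +kernel)
theorem r189_0 : R9 F (g wAd) b189 [] 0 0 := .of (startD 0 1) (by decide +kernel)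
theorem r189_1 : R9 F (g wAd) b189 [] 0 1 := .of (startD 0 1) (by decide +kernel)
theorem r189_2 : R9 F (g wAd) b189 [] 0 2 := .of (startD 0 1) (by decide +kernel)
theorem r189_3 : R9 F (g wAd) b189 [] 1 0 := .of (startD 0 1) (by decide +kernel)
theorem r189_4 : R9 F (g wAd) b189 [] 1 1 := .of (startD 0 1) (by decide +kernel)
theorem r189_5 : R9 F (g wAd) b189 [] 1 2 := .of (startD 0 1) (by decide +kernel)
theorem r189_6 : R9 F (g wAd) b189 [] 2 0 := .of (startD 0 1) (by decide +kernel)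
theorem r189_7 : R9 F (g wAd) b189 [] 2 1 := .of (startD 0 1) (by decide +kernel)
theorem r189_8 : R9 F (g wAd) b189 [] 2 2 := .of (startD 0 1) (by decide +kernel)
theorem g189 : Gd F (g wAd) (0, d189) [] :=
  good9 ok h189 r189_0 r189_1 r189_2 r189_3 r189_4 r189_5 r189_6 r189_7 r189_8

theorem all : AllG F (g wAd) LD18 :=
  .cons g180 (.cons g181 (.cons g182 (.cons g183 (.cons g184 (.cons g185 (.cons g186 (.cons g187 (.cons g188 (.cons g189 (.nil))))))))))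

end Cfsg.Agent.BX.No33.Bk.D18
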