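import Cfsg.Agent.BX.No33.Cheap
set_option linter.all false

/-!
# Tests, diagonal case, part 20 (helper5; generated)
-/

set_option autoImplicit false
set_option maxRecDepth 100000
set_option Elab.async false

namespace Cfsg.Agent.BX.No33.Bk.D20

open Cfsg.Agent.H819.U33 Cfsg.Agent.BX.No33.Front

def b200 : Wd := ⟨0, d200,
  [.z, .Z9, .Z7, .Z4, .Z2, .Z1, .Z0, .X10, .X7, .X2, .X1, .X0, .y10, .y8, .y4, .y3, .y2, .p3, .hi, .p8, .hi, .p4, .hi,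
   .p10, .hi, .p3, .hi, .p6, .xii, .p, .xii, .p, .xii, .y6, .y8, .tau, .xii, .y6, .p, .xii, .p, .xii, .y3, .y9, .taui,
   .p10, .xii, .p3, .xii, .y3, .p4, .xii, .tau, .xii, .p8, .xii, .p2, .y9, .xii, .y4, .y6, .tau, .xii],
  [.z, .Z8, .Z7, .Z6, .Z5, .Z3, .X10, .X9, .X7, .X6, .X5, .X4, .X3, .X0, .y10, .y7, .p4, .hi, .p10, .hi, .p8, .hi,
   .p3, .hi, .p10, .xii, .p, .xii, .hi, .p8, .y3, .taui, .y1, .xii, .p10, .xii, .y8, .p10, .xii, .y2, .tau, .X0, .p10,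
   .xii, .y10, .p9, .xii, .p2, .y2, .tau, .xii, .p7, .xii, .y7, .hi, .y7, .p2, .taui, .xii, .hi, .p8],
  [.z, .Z8, .Z4, .Z2, .X8, .X7, .X5, .X3, .X2, .X0, .y9, .y7, .y6, .y4, .y2, .y1, .p2, .hi, .p10, .hi, .p2, .hi, .p3,
   .hi, .p, .hi, .p3, .xii, .hi, .xii, .y8, .p6, .xii, .y7, .taui, .xii, .p, .xii, .y1, .hi, .xii, .y3, .y9, .taui,
   .X0, .xii, .p4, .xii, .y5, .p5, .xii, .y2, .y8, .y9, .tau, .xii, .y2, .p6, .xii, .y7, .p2, .xii, .y2, .taui, .xii,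
   .p2]⟩

theorem h200 : Hd F (g wAd) b200 := hdD (by decide +kernel)
theorem r200_0 : R9 F (g wAd) b200 [] 0 0 := .of (startD 0 1) (by decide +kernel)
theorem r200_1 : R9 F (g wAd) b200 [] 0 1 := .of (startD 0 1) (by decide +kernel)
theorem r200_2 : R9 F (g wAd) b200 [] 0 2 := .of (startD 0 1) (by decide +kernel)
theorem r200_3 : R9 F (g wAd) b200 [] 1 0 := .of (startD 0 1) (by decide +kernel)
theorem r200_4 : R9 F (g wAd) b200 [] 1 1 := .of (startD 0 1) (by decide +kernel)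
theorem r200_5 : R9 F (g wAd) b200 [] 1 2 := .of (startD 0 1) (by decide +kernel)
theorem r200_6 : R9 F (g wAd) b200 [] 2 0 := .of (startD 0 1) (by decide +kernel)
theorem r200_7 : R9 F (g wAd) b200 [] 2 1 := .of (startD 0 1) (by decide +kernel)
theorem r200_8 : R9 F (g wAd) b200 [] 2 2 := .of (startD 0 1) (by decide +kernel)
theorem g200 : Gd F (g wAd) (0, d200) [] :=
  good9 ok h200 r200_0 r200_1 r200_2 r200_3 r200_4 r200_5 r200_6 r200_7 r200_8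

def b201 : Wd := ⟨0, d201,
  [.Z10, .Z9, .Z8, .Z7, .Z5, .Z0, .X10, .X9, .X8, .X7, .X3, .X1, .X0, .y6, .y4, .y3, .y2, .y1, .p5, .hi, .p3, .hi,
   .p4, .hi, .p10, .hi, .p6, .xii, .p10, .xii, .y5, .p2, .xii, .y3, .y10, .tau, .xii, .y6, .p, .xii, .y10, .p, .xii,
   .y3, .tau, .X0, .p4, .xii, .p5, .xii, .p5, .y3, .y9, .tau, .xii, .hi, .p7, .xii, .p9, .tau, .xii, .y2, .hi, .p6],
  [.Z10, .Z8, .Z3, .Z2, .Z1, .X10, .X9, .X7, .X6, .X5, .X4, .X0, .y8, .y7, .y6, .y5, .y4, .y3, .p8, .hi, .p6, .hi,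
   .p3, .hi, .p9, .hi, .p5, .hi, .xii, .hi, .p8, .hi, .p8, .tau, .xii, .y6, .p, .xii, .p, .xii, .y4, .y6, .taui, .X0,
   .p7, .xii, .y6, .p5, .xii, .p, .taui, .xii, .p6, .xii, .p, .xii, .y4, .y10],
  [.z, .Z8, .Z7, .Z3, .Z0, .X9, .X6, .X5, .X3, .X2, .X1, .y10, .y9, .y7, .y5, .y3, .y1, .p2, .hi, .p10, .hi, .p, .hi,
   .p3, .hi, .p7, .hi, .p3, .hi, .xii, .p10, .xii, .y1, .p8, .xii, .y2, .taui, .xii, .y1, .p, .xii, .p, .y7, .xii,
   .y5, .taui, .X0, .xii, .p6, .xii, .y4, .p2, .xii, .y3, .p5, .tau, .xii, .p3, .xii, .y1, .p6, .xii, .y10, .taui,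
   .xii, .y4]⟩

theorem h201 : Hd F (g wAd) b201 := hdD (by decide +kernel)
theorem r201_0 : R9 F (g wAd) b201 [] 0 0 := .of (startD 0 1) (by decide +kernel)
theorem r201_1 : R9 F (g wAd) b201 [] 0 1 := .of (startD 0 1) (by decide +kernel)
theorem r201_2 : R9 F (g wAd) b201 [] 0 2 := .of (startD 0 1) (by decide +kernel)
theorem r201_3 : R9 F (g wAd) b201 [] 1 0 := .of (startD 0 1) (by decide +kernel)
theorem r201_4 : R9 F (g wAd) b201 [] 1 1 := .of (startD 0 1) (by decide +kernel)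
theorem r201_5 : R9 F (g wAd) b201 [] 1 2 := .of (startD 0 1) (by decide +kernel)
theorem r201_6 : R9 F (g wAd) b201 [] 2 0 := .of (startD 0 1) (by decide +kernel)
theorem r201_7 : R9 F (g wAd) b201 [] 2 1 := .of (startD 0 1) (by decide +kernel)
theorem r201_8 : R9 F (g wAd) b201 [] 2 2 := .of (startD 0 1) (by decide +kernel)
theorem g201 : Gd F (g wAd) (0, d201) [] :=
  good9 ok h201 r201_0 r201_1 r201_2 r201_3 r201_4 r201_5 r201_6 r201_7 r201_8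

def b202 : Wd := ⟨0, d202,
  [.Z9, .Z7, .Z6, .Z3, .Z1, .Z0, .X10, .X4, .X1, .y9, .y4, .y3, .y2, .p9, .hi, .p7, .hi, .p3, .hi, .p, .hi, .p, .hi,
   .p9, .hi, .xii, .p, .xii, .y6, .p7, .xii, .tau, .xii, .y2, .p, .xii, .y2, .hi, .xii, .y3, .y10, .taui, .xii, .y1,
   .p7, .xii, .p5, .y1, .xii, .y5, .y10, .taui, .xii, .p10, .hi, .p6, .xii, .hi, .y5, .tau, .xii, .y2, .p4, .hi, .p9],
  [.Z10, .Z9, .Z8, .Z6, .Z5, .Z4, .Z1, .Z0, .X6, .X1, .X0, .y10, .y8, .y7, .y2, .y1, .p10, .hi, .p6, .hi, .p6, .hi,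
   .p10, .hi, .p7, .hi, .p, .hi, .xii, .y2, .p, .xii, .hi, .p4, .y3, .taui, .xii, .p, .xii, .y3, .y10, .hi, .xii, .y6,
   .taui, .X0, .p9, .xii, .y2, .p10, .xii, .y8, .p2, .tau, .xii, .y2, .p5, .xii, .y6, .p8, .xii, .y5, .tau, .xii, .hi],
  [.z, .Z10, .Z9, .Z8, .Z7, .Z1, .X10, .X8, .X5, .X4, .X0, .y8, .y7, .y6, .y3, .y2, .p10, .hi, .p5, .hi, .p7, .hi,
   .p4, .hi, .p6, .xii, .p3, .hi, .xii, .y2, .p6, .taui, .xii, .p, .xii, .y4, .hi, .xii, .y2, .y7, .tau, .X0, .p4,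
   .xii, .hi, .p8, .xii, .y4, .y7, .p4, .tau, .xii, .y2, .p2, .xii, .p, .xii, .y1, .y9]⟩

theorem h202 : Hd F (g wAd) b202 := hdD (by decide +kernel)
theorem r202_0 : R9 F (g wAd) b202 [] 0 0 := .of (startD 0 1) (by decide +kernel)
theorem r202_1 : R9 F (g wAd) b202 [] 0 1 := .of (startD 0 1) (by decide +kernel)
theorem r202_2 : R9 F (g wAd) b202 [] 0 2 := .of (startD 0 1) (by decide +kernel)
theorem r202_3 : R9 F (g wAd) b202 [] 1 0 := .of (startD 0 1) (by decide +kernel)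
theorem r202_4 : R9 F (g wAd) b202 [] 1 1 := .of (startD 0 1) (by decide +kernel)
theorem r202_5 : R9 F (g wAd) b202 [] 1 2 := .of (startD 0 1) (by decide +kernel)
theorem r202_6 : R9 F (g wAd) b202 [] 2 0 := .of (startD 0 1) (by decide +kernel)
theorem r202_7 : R9 F (g wAd) b202 [] 2 1 := .of (startD 0 1) (by decide +kernel)
theorem r202_8 : R9 F (g wAd) b202 [] 2 2 := .of (startD 0 1) (by decide +kernel)
theorem g202 : Gd F (g wAd) (0, d202) [] :=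
  good9 ok h202 r202_0 r202_1 r202_2 r202_3 r202_4 r202_5 r202_6 r202_7 r202_8

def b203 : Wd := ⟨0, d203,
  [.z, .Z10, .Z9, .Z4, .Z3, .Z2, .Z1, .Z0, .X10, .X7, .X6, .X4, .X3, .X1, .y9, .y7, .y6, .y2, .p9, .hi, .p3, .hi, .p8,
   .hi, .p8, .hi, .p8, .hi, .xii, .hi, .p3, .hi, .p5, .tau, .y1, .xii, .p10, .xii, .y8, .p10, .xii, .y8, .taui, .X0,
   .p7, .xii, .p5, .xii, .y8, .y10, .tau, .xii, .p4, .xii, .y1, .p4, .xii, .y7, .tau, .xii, .hi, .p8],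
  [.Z10, .Z9, .Z8, .Z7, .Z5, .X10, .X9, .X8, .X6, .X4, .X1, .y9, .y7, .y6, .y5, .y3, .y1, .hi, .p10, .hi, .p5, .hi,
   .p9, .hi, .p9, .hi, .p3, .hi, .p7, .hi, .xii, .y2, .p, .xii, .y3, .y4, .taui, .y1, .xii, .p10, .xii, .y1, .p10,
   .xii, .y4, .y8, .tau, .hi, .xii, .p9, .xii, .y9, .hi, .y4, .tau, .xii, .y2, .p2, .xii, .y7, .p2, .hi, .p2],
  [.z, .Z9, .Z5, .Z2, .Z1, .Z0, .X10, .X9, .X8, .X7, .X6, .X3, .X2, .X1, .y10, .y7, .y6, .y4, .y2, .y1, .hi, .p8, .hi,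
   .p10, .hi, .p2, .hi, .p3, .hi, .p5, .hi, .xii, .y2, .p, .xii, .y1, .hi, .p8, .taui, .xii, .p, .xii, .hi, .y8, .xii,
   .y1, .tau, .p2, .xii, .p7, .xii, .p, .y3, .hi, .p8, .taui, .xii, .p2, .xii, .y7, .p6, .xii, .y1, .y3, .tau, .xii,
   .y6, .p]⟩

theorem h203 : Hd F (g wAd) b203 := hdD (by decide +kernel)
theorem r203_0 : R9 F (g wAd) b203 [] 0 0 := .of (startD 0 1) (by decide +kernel)
theorem r203_1 : R9 F (g wAd) b203 [] 0 1 := .of (startD 0 1) (by decide +kernel)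
theorem r203_2 : R9 F (g wAd) b203 [] 0 2 := .of (startD 0 1) (by decide +kernel)
theorem r203_3 : R9 F (g wAd) b203 [] 1 0 := .of (startD 0 1) (by decide +kernel)
theorem r203_4 : R9 F (g wAd) b203 [] 1 1 := .of (startD 0 1) (by decide +kernel)
theorem r203_5 : R9 F (g wAd) b203 [] 1 2 := .of (startD 0 1) (by decide +kernel)
theorem r203_6 : R9 F (g wAd) b203 [] 2 0 := .of (startD 0 1) (by decide +kernel)
theorem r203_7 : R9 F (g wAd) b203 [] 2 1 := .of (startD 0 1) (by decide +kernel)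
theorem r203_8 : R9 F (g wAd) b203 [] 2 2 := .of (startD 0 1) (by decide +kernel)
theorem g203 : Gd F (g wAd) (0, d203) [] :=
  good9 ok h203 r203_0 r203_1 r203_2 r203_3 r203_4 r203_5 r203_6 r203_7 r203_8

def b204 : Wd := ⟨0, d204,
  [.z, .Z9, .Z6, .Z5, .Z3, .Z2, .Z1, .X9, .X8, .X5, .X4, .X3, .X0, .y8, .y5, .y4, .y1, .p5, .hi, .p3, .hi, .p3, .hi,
   .p10, .hi, .p, .hi, .xii, .p10, .xii, .y4, .p6, .xii, .y3, .taui, .xii, .y2, .p, .xii, .y2, .hi, .xii, .y7, .y10,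
   .tau, .p8, .xii, .y9, .hi, .p6, .xii, .y4, .y8, .p2, .tau, .xii, .p6, .xii, .y5, .p2, .xii, .y1, .tau, .xii, .hi,
   .xii, .y9],
  [.z, .Z10, .Z7, .Z6, .Z4, .Z1, .X10, .X4, .X3, .X1, .y9, .y8, .y1, .p5, .hi, .p9, .hi, .p7, .hi, .p4, .hi, .p9, .hi,
   .xii, .p, .xii, .p7, .xii, .taui, .xii, .p3, .hi, .xii, .y3, .y5, .taui, .p10, .xii, .p5, .xii, .y1, .p2, .y3,
   .taui, .xii, .p7, .xii, .y1, .p5, .y9, .xii, .taui, .xii, .p2, .hi],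
  [.Z10, .Z8, .Z5, .Z4, .Z3, .Z2, .X9, .X7, .X5, .X3, .X2, .X1, .y1, .hi, .p4, .hi, .p5, .hi, .p4, .hi, .p, .hi, .p4,
   .hi, .p6, .xii, .y2, .hi, .p8, .xii, .y2, .p10, .tau, .xii, .y1, .p, .xii, .p, .xii, .y3, .tau, .p7, .xii, .y2,
   .p9, .xii, .y4, .y10, .p6, .taui, .xii, .p8, .xii, .y3, .p2, .y7, .xii, .y8, .tau, .xii, .y6, .p4, .hi]⟩

theorem h204 : Hd F (g wAd) b204 := hdD (by decide +kernel)
theorem r204_0 : R9 F (g wAd) b204 [] 0 0 := .of (startD 0 1) (by decide +kernel)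
theorem r204_1 : R9 F (g wAd) b204 [] 0 1 := .of (startD 0 1) (by decide +kernel)
theorem r204_2 : R9 F (g wAd) b204 [] 0 2 := .of (startD 0 1) (by decide +kernel)
theorem r204_3 : R9 F (g wAd) b204 [] 1 0 := .of (startD 0 1) (by decide +kernel)
theorem r204_4 : R9 F (g wAd) b204 [] 1 1 := .of (startD 0 1) (by decide +kernel)
theorem r204_5 : R9 F (g wAd) b204 [] 1 2 := .of (startD 0 1) (by decide +kernel)
theorem r204_6 : R9 F (g wAd) b204 [] 2 0 := .of (startD 0 1) (by decide +kernel)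
theorem r204_7 : R9 F (g wAd) b204 [] 2 1 := .of (startD 0 1) (by decide +kernel)
theorem r204_8 : R9 F (g wAd) b204 [] 2 2 := .of (startD 0 1) (by decide +kernel)
theorem g204 : Gd F (g wAd) (0, d204) [] :=
  good9 ok h204 r204_0 r204_1 r204_2 r204_3 r204_4 r204_5 r204_6 r204_7 r204_8

def b205 : Wd := ⟨0, d205,
  [.Z9, .Z6, .Z5, .Z4, .X9, .X6, .X1, .X0, .y7, .y6, .p5, .hi, .p7, .hi, .p8, .hi, .p7, .hi, .p3, .xii, .hi, .xii,
   .y6, .p10, .xii, .tau, .xii, .y6, .p, .xii, .p, .xii, .y3, .y4, .tau, .p9, .xii, .hi, .p8, .xii, .p10, .y9, .y10,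
   .tau, .xii, .p5, .xii, .p4, .hi, .y8, .p9, .tau, .xii, .hi, .p8],
  [.Z10, .Z9, .Z8, .X7, .X6, .X4, .X2, .X1, .X0, .y10, .y9, .y6, .y5, .y2, .p6, .hi, .p9, .hi, .p10, .hi, .p4, .hi,
   .p4, .hi, .p10, .hi, .xii, .p2, .hi, .p3, .hi, .taui, .y1, .xii, .p10, .xii, .y5, .p10, .xii, .y4, .y9, .taui, .p7,
   .xii, .p7, .y9, .xii, .y1, .tau, .xii, .p5, .xii, .y1, .p8, .xii, .y4, .tau],
  [.Z10, .Z8, .Z6, .Z2, .Z0, .X9, .X8, .X3, .X0, .y9, .y8, .y7, .y5, .p9, .hi, .p9, .hi, .p8, .hi, .p8, .hi, .p2, .hi,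
   .xii, .p10, .xii, .p5, .y5, .hi, .p8, .tau, .xii, .p, .xii, .y1, .hi, .xii, .y3, .y8, .tau, .p7, .xii, .p4, .xii,
   .p10, .xii, .y1, .y10, .taui, .xii, .p8, .xii, .y3, .p2, .xii, .y8, .tau, .xii, .hi, .xii, .y8]⟩

theorem h205 : Hd F (g wAd) b205 := hdD (by decide +kernel)
theorem r205_0 : R9 F (g wAd) b205 [] 0 0 := .of (startD 0 1) (by decide +kernel)
theorem r205_1 : R9 F (g wAd) b205 [] 0 1 := .of (startD 0 1) (by decide +kernel)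
theorem r205_2 : R9 F (g wAd) b205 [] 0 2 := .of (startD 0 2) (by decide +kernel)
theorem r205_3 : R9 F (g wAd) b205 [] 1 0 := .of (startD 0 1) (by decide +kernel)
theorem r205_4 : R9 F (g wAd) b205 [] 1 1 := .of (startD 0 1) (by decide +kernel)
theorem r205_5 : R9 F (g wAd) b205 [] 1 2 := .of (startD 0 1) (by decide +kernel)
theorem r205_6 : R9 F (g wAd) b205 [] 2 0 := .of (startD 0 1) (by decide +kernel)
theorem r205_7 : R9 F (g wAd) b205 [] 2 1 := .of (startD 0 1) (by decide +kernel)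
theorem r205_8 : R9 F (g wAd) b205 [] 2 2 := .of (startD 0 1) (by decide +kernel)
theorem g205 : Gd F (g wAd) (0, d205) [] :=
  good9 ok h205 r205_0 r205_1 r205_2 r205_3 r205_4 r205_5 r205_6 r205_7 r205_8

def b206 : Wd := ⟨0, d206,
  [.Z10, .Z9, .Z8, .Z7, .Z6, .Z4, .Z2, .Z0, .X9, .X8, .X7, .X1, .y10, .y7, .y4, .y3, .y2, .y1, .p6, .hi, .p5, .hi,
   .p9, .hi, .p7, .hi, .p3, .hi, .p3, .xii, .y2, .p2, .hi, .xii, .y8, .p3, .tau, .xii, .p, .xii, .hi, .y8, .xii, .y5,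
   .tau, .X0, .p5, .xii, .hi, .p7, .y3, .xii, .y10, .p2, .tau, .xii, .hi, .p7, .xii, .hi, .y10, .p4, .taui, .xii, .p5,
   .xii, .y6],
  [.Z8, .Z3, .X9, .X8, .X7, .X6, .X4, .X2, .X0, .y10, .y7, .y4, .y3, .y1, .p6, .hi, .p4, .hi, .p4, .hi, .p7, .hi, .p3,
   .hi, .p, .xii, .y2, .p10, .taui, .y1, .xii, .p10, .xii, .y2, .p10, .xii, .y4, .y8, .tau, .xii, .p7, .xii, .y7, .p9,
   .y2, .xii, .p10, .y1, .tau, .xii, .p9, .xii, .y4, .y6, .hi, .xii, .y1, .taui, .xii],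
  [.z, .Z9, .Z7, .Z6, .Z5, .Z4, .Z3, .Z0, .X9, .X8, .X6, .X4, .X3, .X0, .y10, .y5, .p8, .hi, .p9, .hi, .p4, .hi, .p7,
   .hi, .p5, .hi, .xii, .p, .xii, .y6, .p7, .xii, .y4, .tau, .y1, .xii, .p10, .xii, .y4, .p10, .xii, .y4, .y8, .taui,
   .X0, .p4, .xii, .p4, .xii, .y1, .y7, .hi, .p9, .taui, .xii, .p8, .xii, .p10, .y1, .taui, .xii, .y2, .p, .hi]⟩

theorem h206 : Hd F (g wAd) b206 := hdD (by decide +kernel)
theorem r206_0 : R9 F (g wAd) b206 [] 0 0 := .of (startD 0 1) (by decide +kernel)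
theorem r206_1 : R9 F (g wAd) b206 [] 0 1 := .of (startD 0 1) (by decide +kernel)
theorem r206_2 : R9 F (g wAd) b206 [] 0 2 := .of (startD 0 1) (by decide +kernel)
theorem r206_3 : R9 F (g wAd) b206 [] 1 0 := .of (startD 0 1) (by decide +kernel)
theorem r206_4 : R9 F (g wAd) b206 [] 1 1 := .of (startD 0 1) (by decide +kernel)
theorem r206_5 : R9 F (g wAd) b206 [] 1 2 := .of (startD 0 1) (by decide +kernel)
theorem r206_6 : R9 F (g wAd) b206 [] 2 0 := .of (startD 0 1) (by decide +kernel)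
theorem r206_7 : R9 F (g wAd) b206 [] 2 1 := .of (startD 0 1) (by decide +kernel)
theorem r206_8 : R9 F (g wAd) b206 [] 2 2 := .of (startD 0 1) (by decide +kernel)
theorem g206 : Gd F (g wAd) (0, d206) [] :=
  good9 ok h206 r206_0 r206_1 r206_2 r206_3 r206_4 r206_5 r206_6 r206_7 r206_8

def b207 : Wd := ⟨0, d207,
  [.z, .Z10, .Z6, .Z2, .Z0, .X7, .X6, .X1, .X0, .y5, .p6, .hi, .p8, .hi, .p3, .hi, .p7, .hi, .p4, .hi, .p4, .xii, .y2,
   .p, .hi, .xii, .y5, .p3, .taui, .p10, .xii, .y10, .p3, .hi, .xii, .y1, .y8, .tau, .xii, .p6, .xii, .y2, .y3, .p,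
   .xii, .y7, .y10, .tau, .xii, .y2, .hi, .p5],
  [.z, .Z10, .Z9, .Z7, .Z6, .Z5, .Z4, .Z3, .Z0, .X9, .X8, .X7, .X5, .X0, .y10, .y6, .y4, .hi, .p4, .hi, .p, .hi, .p8,
   .hi, .p5, .hi, .p7, .hi, .p9, .xii, .p10, .xii, .y4, .p10, .xii, .y4, .taui, .y1, .xii, .p10, .xii, .y1, .y9, .p10,
   .xii, .y8, .taui, .p5, .xii, .p5, .y7, .xii, .y1, .y6, .p3, .taui, .xii, .y2, .p2, .hi],
  [.z, .Z10, .Z9, .Z7, .Z3, .Z2, .X9, .X8, .X7, .X3, .X2, .X1, .X0, .y10, .y5, .y4, .y1, .p10, .hi, .p10, .hi, .p10,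
   .hi, .p4, .hi, .p8, .hi, .p2, .xii, .p3, .hi, .xii, .y8, .y9, .taui, .xii, .p, .xii, .y1, .y10, .hi, .xii, .y7,
   .tau, .X0, .xii, .p9, .xii, .p3, .xii, .p, .y7, .y8, .tau, .xii, .p6, .xii, .p7, .y8, .tau, .xii, .y2, .hi, .p10]⟩

theorem h207 : Hd F (g wAd) b207 := hdD (by decide +kernel)
theorem r207_0 : R9 F (g wAd) b207 [] 0 0 := .of (startD 0 1) (by decide +kernel)
theorem r207_1 : R9 F (g wAd) b207 [] 0 1 := .of (startD 0 1) (by decide +kernel)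
theorem r207_2 : R9 F (g wAd) b207 [] 0 2 := .of (startD 0 1) (by decide +kernel)
theorem r207_3 : R9 F (g wAd) b207 [] 1 0 := .of (startD 0 1) (by decide +kernel)
theorem r207_4 : R9 F (g wAd) b207 [] 1 1 := .of (startD 0 1) (by decide +kernel)
theorem r207_5 : R9 F (g wAd) b207 [] 1 2 := .of (startD 0 1) (by decide +kernel)
theorem r207_6 : R9 F (g wAd) b207 [] 2 0 := .of (startD 0 1) (by decide +kernel)
theorem r207_7 : R9 F (g wAd) b207 [] 2 1 := .of (startD 0 1) (by decide +kernel)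
theorem r207_8 : R9 F (g wAd) b207 [] 2 2 := .of (startD 0 1) (by decide +kernel)
theorem g207 : Gd F (g wAd) (0, d207) [] :=
  good9 ok h207 r207_0 r207_1 r207_2 r207_3 r207_4 r207_5 r207_6 r207_7 r207_8

def b208 : Wd := ⟨0, d208,
  [.Z10, .Z9, .Z8, .Z7, .Z6, .Z4, .Z2, .X8, .X4, .X3, .X0, .y9, .y8, .y7, .y4, .p3, .hi, .p10, .hi, .p2, .hi, .p8,
   .hi, .p3, .hi, .xii, .p, .xii, .y1, .hi, .p8, .taui, .xii, .p, .xii, .hi, .y8, .xii, .y1, .y4, .taui, .y1, .xii,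
   .p9, .xii, .y2, .y7, .p8, .xii, .y4, .y5, .y8, .y9, .taui, .xii, .p9, .xii, .p3, .y2, .xii, .y8, .y9, .tau, .xii,
   .y2, .p8],
  [.z, .Z9, .Z8, .Z6, .Z5, .Z4, .Z1, .X10, .X9, .X8, .X7, .X5, .X4, .y7, .y5, .y2, .y1, .p4, .hi, .p8, .hi, .p9, .hi,
   .p7, .hi, .p4, .hi, .p9, .xii, .y2, .hi, .p8, .xii, .y3, .p10, .tau, .xii, .y6, .p, .xii, .p, .xii, .y7, .y8, .y10,
   .tau, .X0, .xii, .p7, .xii, .p9, .y2, .xii, .y4, .y5, .p10, .tau, .xii, .p3, .xii, .y1, .y2, .p2, .xii, .y2, .tau,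
   .xii, .p8],
  [.z, .Z9, .Z7, .Z6, .Z1, .X10, .X9, .X8, .X7, .X6, .X5, .X3, .X1, .y9, .y8, .y5, .y1, .p, .hi, .p7, .hi, .p10, .hi,
   .p4, .hi, .p5, .hi, .p7, .xii, .y2, .p10, .xii, .y10, .p8, .taui, .xii, .y1, .p, .xii, .p, .xii, .y5, .y8, .tau,
   .X0, .p7, .xii, .p4, .xii, .y10, .hi, .y5, .p5, .taui, .xii, .p7, .xii, .y7, .p, .y8, .hi, .p5]⟩

theorem h208 : Hd F (g wAd) b208 := hdD (by decide +kernel)
theorem r208_0 : R9 F (g wAd) b208 [] 0 0 := .of (startD 0 1) (by decide +kernel)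
theorem r208_1 : R9 F (g wAd) b208 [] 0 1 := .of (startD 0 1) (by decide +kernel)
theorem r208_2 : R9 F (g wAd) b208 [] 0 2 := .of (startD 0 1) (by decide +kernel)
theorem r208_3 : R9 F (g wAd) b208 [] 1 0 := .of (startD 0 1) (by decide +kernel)
theorem r208_4 : R9 F (g wAd) b208 [] 1 1 := .of (startD 0 1) (by decide +kernel)
theorem r208_5 : R9 F (g wAd) b208 [] 1 2 := .of (startD 0 1) (by decide +kernel)
theorem r208_6 : R9 F (g wAd) b208 [] 2 0 := .of (startD 0 2) (by decide +kernel)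
theorem r208_7 : R9 F (g wAd) b208 [] 2 1 := .of (startD 0 1) (by decide +kernel)
theorem r208_8 : R9 F (g wAd) b208 [] 2 2 := .of (startD 0 1) (by decide +kernel)
theorem g208 : Gd F (g wAd) (0, d208) [] :=
  good9 ok h208 r208_0 r208_1 r208_2 r208_3 r208_4 r208_5 r208_6 r208_7 r208_8

def b209 : Wd := ⟨0, d209,
  [.z, .Z10, .Z7, .Z6, .Z4, .Z3, .X8, .X7, .X6, .X5, .X4, .X3, .y10, .y9, .y7, .y5, .y4, .p3, .hi, .p7, .hi, .p7, .hi,
   .p7, .hi, .p, .hi, .p7, .xii, .p10, .xii, .y8, .p8, .xii, .y4, .taui, .xii, .y1, .p, .xii, .p, .xii, .y3, .y4, .y9,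
   .tau, .X0, .p8, .xii, .y2, .p10, .xii, .p5, .hi, .p, .taui, .xii, .p6, .xii, .hi, .p5, .y5, .hi, .taui, .xii, .p10,
   .hi, .p4],
  [.Z8, .Z7, .Z6, .Z2, .Z1, .Z0, .X9, .X6, .X5, .X4, .X3, .X1, .y9, .y8, .y6, .y5, .y4, .p, .hi, .p10, .hi, .p10, .hi,
   .p10, .hi, .p2, .xii, .p10, .xii, .y6, .p3, .hi, .p2, .taui, .p9, .xii, .y6, .hi, .xii, .p3, .hi, .p, .tau, .xii,
   .p4, .xii, .p3, .hi, .y4, .p2, .tau, .xii, .hi, .p10],
  [.z, .Z10, .Z9, .Z8, .Z7, .X10, .X7, .X6, .X5, .X3, .y9, .y5, .y3, .y1, .hi, .p2, .hi, .p5, .hi, .p10, .hi, .p4,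
   .hi, .p4, .hi, .p2, .xii, .p10, .xii, .y5, .p10, .xii, .y2, .taui, .xii, .p, .xii, .hi, .y8, .xii, .y7, .y10,
   .taui, .y1, .xii, .p10, .xii, .y1, .p10, .xii, .y3, .y7, .taui, .p9, .xii, .y2, .p10, .xii, .y5, .taui, .xii, .y2,
   .p7, .xii, .y9, .p3, .xii, .y2, .tau, .xii, .p3]⟩

theorem h209 : Hd F (g wAd) b209 := hdD (by decide +kernel)
theorem r209_0 : R9 F (g wAd) b209 [] 0 0 := .of (startD 0 1) (by decide +kernel)
theorem r209_1 : R9 F (g wAd) b209 [] 0 1 := .of (startD 0 1) (by decide +kernel)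
theorem r209_2 : R9 F (g wAd) b209 [] 0 2 := .of (startD 0 1) (by decide +kernel)
theorem r209_3 : R9 F (g wAd) b209 [] 1 0 := .of (startD 0 1) (by decide +kernel)
theorem r209_4 : R9 F (g wAd) b209 [] 1 1 := .of (startD 0 1) (by decide +kernel)
theorem r209_5 : R9 F (g wAd) b209 [] 1 2 := .of (startD 0 1) (by decide +kernel)
theorem r209_6 : R9 F (g wAd) b209 [] 2 0 := .of (startD 0 2) (by decide +kernel)
theorem r209_7 : R9 F (g wAd) b209 [] 2 1 := .of (startD 0 1) (by decide +kernel)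
theorem r209_8 : R9 F (g wAd) b209 [] 2 2 := .of (startD 0 1) (by decide +kernel)
theorem g209 : Gd F (g wAd) (0, d209) [] :=
  good9 ok h209 r209_0 r209_1 r209_2 r209_3 r209_4 r209_5 r209_6 r209_7 r209_8

theorem all : AllG F (g wAd) LD20 :=
  .cons g200 (.cons g201 (.cons g202 (.cons g203 (.cons g204 (.cons g205 (.cons g206 (.cons g207 (.cons g208 (.cons g209 (.nil))))))))))

end Cfsg.Agent.BX.No33.Bk.D20
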