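import Cfsg.Agent.BX.No33.Cheap
set_option linter.all false

/-!
# Tests, diagonal case, part 21 (helper5; generated)
-/

set_option autoImplicit false
set_option maxRecDepth 100000
set_option Elab.async false

namespace Cfsg.Agent.BX.No33.Bk.D21

open Cfsg.Agent.H819.U33 Cfsg.Agent.BX.No33.Front

def b210 : Wd := ⟨0, d210,
  [.Z3, .Z2, .Z1, .Z0, .X10, .X9, .X5, .X3, .X2, .X1, .y10, .y9, .y7, .y6, .y5, .y4, .hi, .p3, .hi, .p3, .hi, .p10,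
   .hi, .p4, .hi, .p10, .xii, .y2, .hi, .p8, .hi, .p2, .taui, .xii, .y6, .p, .xii, .y2, .p, .xii, .y7, .y10, .taui,
   .xii, .y2, .p5, .xii, .y6, .p7, .xii, .y9, .hi, .taui, .xii, .p7, .xii, .y2, .y4, .p7, .xii, .y6, .tau, .xii, .y7,
   .p6],
  [.z, .Z10, .Z9, .Z4, .Z2, .Z1, .Z0, .X10, .X9, .X8, .X5, .X3, .X2, .X0, .y10, .y9, .y7, .y6, .y4, .p3, .hi, .p3,
   .hi, .p9, .hi, .p6, .hi, .xii, .hi, .p8, .xii, .p2, .y8, .taui, .xii, .p, .xii, .y2, .hi, .xii, .y1, .y2, .taui,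
   .xii, .p9, .xii, .hi, .xii, .y2, .y9, .taui, .xii, .p3, .xii, .p2, .xii, .y7, .y10],
  [.Z9, .Z8, .Z7, .Z6, .Z4, .Z3, .Z1, .X7, .X5, .X4, .X3, .X2, .y9, .y7, .y2, .p8, .hi, .p8, .hi, .p4, .hi, .p4, .hi,
   .p7, .hi, .p10, .hi, .xii, .p, .xii, .p7, .xii, .y4, .y9, .taui, .xii, .y6, .p, .xii, .y4, .p, .xii, .y1, .y10,
   .taui, .p8, .xii, .y6, .p2, .xii, .y4, .p6, .xii, .y7, .taui, .xii, .p7, .xii, .y1, .p7, .xii, .y8, .taui, .xii,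
   .y2, .hi, .p4]⟩

theorem h210 : Hd F (g wAd) b210 := hdD (by decide +kernel)
theorem r210_0 : R9 F (g wAd) b210 [] 0 0 := .of (startD 0 1) (by decide +kernel)
theorem r210_1 : R9 F (g wAd) b210 [] 0 1 := .of (startD 0 1) (by decide +kernel)
theorem r210_2 : R9 F (g wAd) b210 [] 0 2 := .of (startD 0 1) (by decide +kernel)
theorem r210_3 : R9 F (g wAd) b210 [] 1 0 := .of (startD 0 1) (by decide +kernel)
theorem r210_4 : R9 F (g wAd) b210 [] 1 1 := .of (startD 0 1) (by decide +kernel)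
theorem r210_5 : R9 F (g wAd) b210 [] 1 2 := .of (startD 0 1) (by decide +kernel)
theorem r210_6 : R9 F (g wAd) b210 [] 2 0 := .of (startD 0 1) (by decide +kernel)
theorem r210_7 : R9 F (g wAd) b210 [] 2 1 := .of (startD 0 1) (by decide +kernel)
theorem r210_8 : R9 F (g wAd) b210 [] 2 2 := .of (startD 0 1) (by decide +kernel)
theorem g210 : Gd F (g wAd) (0, d210) [] :=
  good9 ok h210 r210_0 r210_1 r210_2 r210_3 r210_4 r210_5 r210_6 r210_7 r210_8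

def b211 : Wd := ⟨0, d211,
  [.z, .Z9, .Z8, .Z6, .Z4, .Z2, .Z1, .X10, .X8, .X6, .X5, .X3, .X1, .y7, .y3, .y2, .p2, .hi, .p8, .hi, .p10, .hi, .p2,
   .hi, .p7, .hi, .p8, .hi, .xii, .y2, .p, .xii, .hi, .p4, .y3, .taui, .xii, .y1, .p, .xii, .y2, .p, .xii, .y3, .y4,
   .taui, .X0, .xii, .y6, .p4, .xii, .p9, .y4, .xii, .y5, .y9, .y10, .taui, .xii, .p2, .xii, .y6, .p6, .xii, .y7,
   .y10, .tau, .xii, .p4, .hi, .p9],
  [.Z10, .Z5, .Z4, .Z3, .X10, .X9, .X8, .X7, .X6, .X5, .X2, .X1, .X0, .y9, .y8, .y5, .y2, .hi, .p6, .hi, .p5, .hi,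
   .p10, .hi, .p, .hi, .p7, .xii, .y2, .p, .xii, .p9, .xii, .y10, .tau, .xii, .y1, .p, .xii, .p, .xii, .y1, .y9, .tau,
   .X0, .xii, .y1, .p4, .xii, .p4, .y8, .xii, .y1, .p, .tau, .xii, .p5, .xii, .y1, .hi, .y7, .p, .hi],
  [.Z10, .Z2, .Z1, .X10, .X9, .X7, .X5, .X4, .X3, .X2, .X0, .y10, .y9, .y8, .y6, .y5, .y3, .y1, .p, .hi, .p7, .hi,
   .p3, .hi, .p4, .hi, .p5, .xii, .hi, .xii, .p10, .y8, .xii, .y10, .taui, .y1, .xii, .p10, .xii, .y1, .y7, .p10,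
   .xii, .y9, .taui, .p9, .xii, .y3, .p3, .xii, .y1, .hi, .tau, .xii, .p9, .xii, .p6, .y5, .xii, .y10, .taui, .xii,
   .y8, .p2]⟩

theorem h211 : Hd F (g wAd) b211 := hdD (by decide +kernel)
theorem r211_0 : R9 F (g wAd) b211 [] 0 0 := .of (startD 0 1) (by decide +kernel)
theorem r211_1 : R9 F (g wAd) b211 [] 0 1 := .of (startD 0 1) (by decide +kernel)
theorem r211_2 : R9 F (g wAd) b211 [] 0 2 := .of (startD 0 1) (by decide +kernel)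
theorem r211_3 : R9 F (g wAd) b211 [] 1 0 := .of (startD 0 1) (by decide +kernel)
theorem r211_4 : R9 F (g wAd) b211 [] 1 1 := .of (startD 0 1) (by decide +kernel)
theorem r211_5 : R9 F (g wAd) b211 [] 1 2 := .of (startD 0 1) (by decide +kernel)
theorem r211_6 : R9 F (g wAd) b211 [] 2 0 := .of (startD 0 1) (by decide +kernel)
theorem r211_7 : R9 F (g wAd) b211 [] 2 1 := .of (startD 0 1) (by decide +kernel)
theorem r211_8 : R9 F (g wAd) b211 [] 2 2 := .of (startD 0 1) (by decide +kernel)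
theorem g211 : Gd F (g wAd) (0, d211) [] :=
  good9 ok h211 r211_0 r211_1 r211_2 r211_3 r211_4 r211_5 r211_6 r211_7 r211_8

def b212 : Wd := ⟨0, d212,
  [.Z9, .Z8, .Z7, .Z6, .Z5, .Z4, .Z1, .X10, .X5, .X3, .X2, .y9, .y3, .p4, .hi, .p10, .hi, .p9, .hi, .p, .hi, .p6, .hi,
   .xii, .y2, .p, .xii, .p, .xii, .y3, .taui, .xii, .y6, .p, .xii, .p, .xii, .y1, .y9, .taui, .X0, .p5, .xii, .p,
   .xii, .hi, .y4, .p, .hi, .tau, .xii, .p7, .xii, .y1, .p9, .y5, .xii, .y8, .taui, .xii, .p],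
  [.z, .Z10, .Z9, .Z6, .Z4, .Z3, .Z1, .X10, .X8, .X7, .X5, .X2, .X1, .y8, .y7, .y6, .y5, .y4, .y3, .y2, .p9, .hi, .p3,
   .hi, .p6, .hi, .p10, .hi, .p6, .hi, .p10, .tau, .xii, .p, .xii, .y2, .hi, .xii, .y6, .taui, .xii, .p, .xii, .y3,
   .y10, .hi, .xii, .y5, .taui, .X0, .p2, .xii, .p5, .xii, .y3, .y4, .taui, .xii, .p3, .xii, .p2, .y3, .xii, .y5,
   .tau],
  [.Z10, .Z8, .Z3, .Z1, .Z0, .X6, .X4, .X3, .X0, .y10, .y8, .y6, .y5, .y4, .y1, .p6, .hi, .p8, .hi, .p8, .hi, .p9,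
   .xii, .p, .xii, .y2, .p4, .xii, .y2, .tau, .xii, .p, .xii, .y2, .hi, .xii, .y3, .y10, .tau, .X0, .xii, .p7, .xii,
   .p9, .xii, .y1, .y10, .p7, .taui, .xii, .y2, .p5, .xii, .y5, .p9, .xii, .y9, .taui, .xii, .y7]⟩

theorem h212 : Hd F (g wAd) b212 := hdD (by decide +kernel)
theorem r212_0 : R9 F (g wAd) b212 [] 0 0 := .of (startD 0 1) (by decide +kernel)
theorem r212_1 : R9 F (g wAd) b212 [] 0 1 := .of (startD 0 1) (by decide +kernel)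
theorem r212_2 : R9 F (g wAd) b212 [] 0 2 := .of (startD 0 1) (by decide +kernel)
theorem r212_3 : R9 F (g wAd) b212 [] 1 0 := .of (startD 0 1) (by decide +kernel)
theorem r212_4 : R9 F (g wAd) b212 [] 1 1 := .of (startD 0 1) (by decide +kernel)
theorem r212_5 : R9 F (g wAd) b212 [] 1 2 := .of (startD 0 1) (by decide +kernel)
theorem r212_6 : R9 F (g wAd) b212 [] 2 0 := .of (startD 0 1) (by decide +kernel)
theorem r212_7 : R9 F (g wAd) b212 [] 2 1 := .of (startD 0 1) (by decide +kernel)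
theorem r212_8 : R9 F (g wAd) b212 [] 2 2 := .of (startD 0 1) (by decide +kernel)
theorem g212 : Gd F (g wAd) (0, d212) [] :=
  good9 ok h212 r212_0 r212_1 r212_2 r212_3 r212_4 r212_5 r212_6 r212_7 r212_8

def b213 : Wd := ⟨0, d213,
  [.Z9, .Z5, .Z3, .Z2, .Z1, .Z0, .X10, .X5, .X4, .X3, .X0, .y10, .y9, .y8, .y5, .y4, .y2, .y1, .p5, .hi, .p6, .hi,
   .p3, .hi, .p7, .hi, .p6, .hi, .xii, .p10, .xii, .y7, .p6, .xii, .y7, .y10, .tau, .xii, .y6, .p, .xii, .p, .xii,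
   .y5, .y8, .y10, .taui, .p7, .xii, .y2, .p4, .xii, .p2, .y5, .y7, .hi, .p9, .taui, .xii, .p4, .xii, .y1, .y8, .p2,
   .hi, .p2, .taui, .xii, .p2],
  [.Z10, .Z9, .Z8, .Z7, .Z0, .X9, .y9, .y8, .y7, .y6, .hi, .p7, .hi, .p9, .hi, .p6, .hi, .p6, .hi, .p6, .xii, .p10,
   .xii, .tau, .y1, .xii, .y2, .hi, .xii, .y7, .p10, .xii, .y10, .tau, .xii, .p2, .xii, .y9, .p7, .y5, .xii, .y1, .p6,
   .tau, .xii, .p2, .xii, .y4, .p4, .xii, .y8, .tau, .xii, .y4],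
  [.Z10, .Z9, .Z8, .Z6, .Z2, .X8, .X7, .X5, .X4, .X3, .X2, .y9, .y7, .y6, .y4, .y3, .hi, .p6, .hi, .p7, .hi, .p10,
   .hi, .p3, .hi, .p4, .xii, .p2, .hi, .xii, .y7, .p3, .tau, .y1, .xii, .p10, .xii, .p10, .y7, .xii, .y4, .y10, .tau,
   .p9, .xii, .y6, .p10, .xii, .y9, .p6, .tau, .xii, .p9, .xii, .y7, .y8, .p3, .xii, .y6, .taui, .xii, .hi, .p9]⟩

theorem h213 : Hd F (g wAd) b213 := hdD (by decide +kernel)
theorem r213_0 : R9 F (g wAd) b213 [] 0 0 := .of (startD 0 1) (by decide +kernel)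
theorem r213_1 : R9 F (g wAd) b213 [] 0 1 := .of (startD 0 1) (by decide +kernel)
theorem r213_2 : R9 F (g wAd) b213 [] 0 2 := .of (startD 0 1) (by decide +kernel)
theorem r213_3 : R9 F (g wAd) b213 [] 1 0 := .of (startD 0 1) (by decide +kernel)
theorem r213_4 : R9 F (g wAd) b213 [] 1 1 := .of (startD 0 1) (by decide +kernel)
theorem r213_5 : R9 F (g wAd) b213 [] 1 2 := .of (startD 0 1) (by decide +kernel)
theorem r213_6 : R9 F (g wAd) b213 [] 2 0 := .of (startD 0 1) (by decide +kernel)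
theorem r213_7 : R9 F (g wAd) b213 [] 2 1 := .of (startD 0 1) (by decide +kernel)
theorem r213_8 : R9 F (g wAd) b213 [] 2 2 := .of (startD 0 2) (by decide +kernel)
theorem g213 : Gd F (g wAd) (0, d213) [] :=
  good9 ok h213 r213_0 r213_1 r213_2 r213_3 r213_4 r213_5 r213_6 r213_7 r213_8

def b214 : Wd := ⟨0, d214,
  [.Z10, .Z8, .Z7, .Z6, .Z5, .Z4, .X10, .X5, .X3, .X2, .X1, .X0, .y9, .y7, .y5, .y4, .y3, .y2, .p6, .hi, .p10, .hi,
   .p8, .hi, .p5, .hi, .p3, .hi, .p9, .hi, .xii, .p, .xii, .y2, .y4, .hi, .p4, .taui, .y1, .xii, .p10, .xii, .y1, .y7,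
   .p10, .xii, .y10, .tau, .y1, .xii, .p5, .xii, .y5, .p2, .xii, .y6, .taui, .xii, .p9, .xii, .y4, .p8, .xii, .y2,
   .taui, .xii, .p6],
  [.z, .Z8, .Z4, .Z3, .X8, .X6, .X4, .X3, .X2, .X1, .X0, .y8, .y7, .y6, .y2, .p5, .hi, .p10, .hi, .p, .hi, .p, .hi,
   .p3, .hi, .p10, .xii, .hi, .p10, .taui, .y1, .xii, .p10, .xii, .y2, .p10, .xii, .y2, .taui, .y1, .p6, .xii, .p5,
   .xii, .y7, .y10, .p10, .taui, .xii, .p7, .xii, .p7, .y9, .xii, .y9, .taui],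
  [.Z10, .Z5, .Z4, .Z3, .Z2, .Z0, .X8, .X2, .X1, .y9, .y8, .y7, .p8, .hi, .p8, .hi, .p6, .hi, .p8, .hi, .p7, .hi, .p,
   .xii, .p, .xii, .y4, .p8, .xii, .y1, .tau, .y1, .xii, .p10, .xii, .y8, .p10, .xii, .y1, .y5, .tau, .X0, .p4, .xii,
   .p7, .xii, .y6, .y7, .hi, .p8, .taui, .xii, .p4, .xii, .y8, .p2, .y6, .hi, .p3, .tau, .xii, .p, .hi, .p4]⟩

theorem h214 : Hd F (g wAd) b214 := hdD (by decide +kernel)
theorem r214_0 : R9 F (g wAd) b214 [] 0 0 := .of (startD 0 1) (by decide +kernel)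
theorem r214_1 : R9 F (g wAd) b214 [] 0 1 := .of (startD 0 1) (by decide +kernel)
theorem r214_2 : R9 F (g wAd) b214 [] 0 2 := .of (startD 0 1) (by decide +kernel)
theorem r214_3 : R9 F (g wAd) b214 [] 1 0 := .of (startD 0 1) (by decide +kernel)
theorem r214_4 : R9 F (g wAd) b214 [] 1 1 := .of (startD 0 1) (by decide +kernel)
theorem r214_5 : R9 F (g wAd) b214 [] 1 2 := .of (startD 0 1) (by decide +kernel)
theorem r214_6 : R9 F (g wAd) b214 [] 2 0 := .of (startD 0 1) (by decide +kernel)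
theorem r214_7 : R9 F (g wAd) b214 [] 2 1 := .of (startD 0 1) (by decide +kernel)
theorem r214_8 : R9 F (g wAd) b214 [] 2 2 := .of (startD 0 1) (by decide +kernel)
theorem g214 : Gd F (g wAd) (0, d214) [] :=
  good9 ok h214 r214_0 r214_1 r214_2 r214_3 r214_4 r214_5 r214_6 r214_7 r214_8

def b215 : Wd := ⟨0, d215,
  [.z, .Z10, .Z9, .Z8, .Z5, .Z3, .Z2, .X8, .X5, .X4, .X2, .y9, .y7, .y2, .hi, .p3, .hi, .p4, .hi, .p5, .hi, .p, .hi,
   .p5, .hi, .p8, .hi, .xii, .hi, .xii, .p2, .xii, .y5, .taui, .y1, .xii, .p10, .xii, .y5, .p10, .xii, .tau, .y1,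
   .xii, .p10, .xii, .y4, .p10, .xii, .y8, .y9, .taui, .y1, .p7, .xii, .p5, .xii, .y8, .tau, .xii, .p8, .xii, .y9,
   .p2, .y5, .xii, .y6, .taui, .xii, .y7, .p3],
  [.z, .Z10, .Z8, .Z1, .Z0, .X9, .X6, .X5, .X4, .X3, .X1, .y8, .y5, .y4, .y2, .y1, .hi, .p8, .hi, .p9, .hi, .p8, .hi,
   .p, .xii, .p, .xii, .y6, .p9, .xii, .y8, .tau, .xii, .p, .xii, .hi, .y8, .xii, .y6, .taui, .X0, .p10, .xii, .y5,
   .p8, .xii, .y1, .y5, .y9, .tau, .xii, .p9, .xii, .y7, .p6, .xii, .y1, .tau],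
  [.Z9, .Z8, .Z6, .Z4, .Z3, .Z2, .Z1, .X10, .X7, .X6, .X5, .X3, .X2, .X0, .y10, .y9, .y8, .y7, .y5, .p4, .hi, .p10,
   .hi, .p5, .hi, .p8, .hi, .p10, .hi, .xii, .p10, .hi, .p8, .tau, .xii, .y2, .p, .xii, .y1, .hi, .xii, .y1, .y10,
   .tau, .X0, .p8, .xii, .p4, .xii, .y10, .hi, .p9, .y4, .taui, .xii, .p9, .xii, .hi, .p3, .y3, .taui, .xii, .hi, .p6]⟩

theorem h215 : Hd F (g wAd) b215 := hdD (by decide +kernel)
theorem r215_0 : R9 F (g wAd) b215 [] 0 0 := .of (startD 0 1) (by decide +kernel)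
theorem r215_1 : R9 F (g wAd) b215 [] 0 1 := .of (startD 0 1) (by decide +kernel)
theorem r215_2 : R9 F (g wAd) b215 [] 0 2 := .of (startD 0 1) (by decide +kernel)
theorem r215_3 : R9 F (g wAd) b215 [] 1 0 := .of (startD 0 1) (by decide +kernel)
theorem r215_4 : R9 F (g wAd) b215 [] 1 1 := .of (startD 0 2) (by decide +kernel)
theorem r215_5 : R9 F (g wAd) b215 [] 1 2 := .of (startD 0 1) (by decide +kernel)
theorem r215_6 : R9 F (g wAd) b215 [] 2 0 := .of (startD 0 1) (by decide +kernel)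
theorem r215_7 : R9 F (g wAd) b215 [] 2 1 := .of (startD 0 1) (by decide +kernel)
theorem r215_8 : R9 F (g wAd) b215 [] 2 2 := .of (startD 0 1) (by decide +kernel)
theorem g215 : Gd F (g wAd) (0, d215) [] :=
  good9 ok h215 r215_0 r215_1 r215_2 r215_3 r215_4 r215_5 r215_6 r215_7 r215_8

def b216 : Wd := ⟨0, d216,
  [.Z10, .Z6, .Z5, .Z4, .Z0, .X10, .X8, .X4, .y10, .y9, .y6, .y5, .y3, .hi, .p, .hi, .p3, .hi, .p6, .hi, .p6, .hi,
   .p4, .hi, .p6, .hi, .xii, .p, .xii, .p4, .xii, .tau, .y1, .xii, .y2, .hi, .xii, .p10, .xii, .y2, .y10, .tau, .X0,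
   .p8, .xii, .y8, .p4, .xii, .p8, .y3, .xii, .tau, .xii, .p9, .xii, .y5, .p6, .xii, .y2, .y10, .taui, .xii, .p7],
  [.Z10, .Z6, .Z3, .Z1, .X10, .X8, .X7, .X3, .X2, .X0, .y9, .y8, .y7, .y5, .y4, .y3, .y1, .p9, .hi, .p9, .hi, .p, .hi,
   .p4, .hi, .p10, .hi, .p9, .xii, .p5, .hi, .p5, .taui, .xii, .p, .xii, .y1, .y10, .hi, .xii, .y4, .y5, .taui, .p6,
   .xii, .y8, .p8, .xii, .y9, .p6, .hi, .taui, .xii, .y2, .hi, .xii, .p8, .xii, .y4],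
  [.Z9, .Z8, .Z6, .Z5, .Z3, .Z1, .Z0, .X10, .X9, .X8, .X7, .X6, .X0, .y9, .y6, .y3, .y2, .hi, .p6, .hi, .p4, .hi, .p3,
   .hi, .p4, .hi, .p, .hi, .p5, .xii, .p, .xii, .y1, .y2, .hi, .p10, .tau, .y1, .xii, .p10, .xii, .y1, .p10, .xii,
   .y1, .y7, .taui, .p9, .xii, .p5, .hi, .xii, .p3, .tau, .xii, .y2, .p3, .xii, .y2, .p3, .hi, .tau, .xii, .y2]⟩

theorem h216 : Hd F (g wAd) b216 := hdD (by decide +kernel)
theorem r216_0 : R9 F (g wAd) b216 [] 0 0 := .of (startD 0 1) (by decide +kernel)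
theorem r216_1 : R9 F (g wAd) b216 [] 0 1 := .of (startD 0 1) (by decide +kernel)
theorem r216_2 : R9 F (g wAd) b216 [] 0 2 := .of (startD 0 1) (by decide +kernel)
theorem r216_3 : R9 F (g wAd) b216 [] 1 0 := .of (startD 0 1) (by decide +kernel)
theorem r216_4 : R9 F (g wAd) b216 [] 1 1 := .of (startD 0 1) (by decide +kernel)
theorem r216_5 : R9 F (g wAd) b216 [] 1 2 := .of (startD 0 1) (by decide +kernel)
theorem r216_6 : R9 F (g wAd) b216 [] 2 0 := .of (startD 0 1) (by decide +kernel)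
theorem r216_7 : R9 F (g wAd) b216 [] 2 1 := .of (startD 0 2) (by decide +kernel)
theorem r216_8 : R9 F (g wAd) b216 [] 2 2 := .of (startD 0 1) (by decide +kernel)
theorem g216 : Gd F (g wAd) (0, d216) [] :=
  good9 ok h216 r216_0 r216_1 r216_2 r216_3 r216_4 r216_5 r216_6 r216_7 r216_8

def b217 : Wd := ⟨0, d217,
  [.Z7, .Z5, .Z2, .Z1, .Z0, .X10, .X9, .X8, .X5, .y10, .y8, .y2, .y1, .p6, .hi, .p10, .hi, .p10, .hi, .p5, .hi, .p9,
   .hi, .p7, .xii, .p3, .hi, .xii, .y8, .p6, .taui, .xii, .p, .xii, .hi, .y8, .xii, .y1, .taui, .X0, .p4, .xii, .p9,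
   .xii, .y2, .p2, .y10, .tau, .xii, .p5, .xii, .p5, .y7, .xii, .y9, .tau, .xii, .p10],
  [.z, .Z9, .Z8, .Z7, .Z6, .Z5, .Z2, .Z1, .Z0, .X7, .X6, .X5, .X3, .X2, .X1, .y10, .y7, .y6, .y5, .y4, .y3, .y2, .y1,
   .hi, .p7, .hi, .p6, .hi, .p5, .hi, .p, .hi, .xii, .p3, .hi, .xii, .y3, .y7, .p6, .taui, .xii, .y6, .p, .xii, .hi,
   .y8, .p8, .tau, .X0, .p4, .xii, .p4, .xii, .y8, .p6, .tau, .xii, .p4, .xii, .y2, .y8, .hi, .tau, .xii, .y2, .p2,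
   .hi],
  [.Z9, .Z5, .Z4, .Z1, .X7, .X5, .X4, .X1, .y10, .y8, .y1, .p10, .hi, .p6, .hi, .p9, .hi, .p10, .hi, .p4, .hi, .p10,
   .hi, .xii, .p10, .xii, .y5, .p10, .xii, .y8, .taui, .y1, .xii, .y1, .hi, .xii, .p10, .xii, .y3, .y7, .tau, .xii,
   .y2, .p3, .xii, .y2, .p2, .xii, .y9, .taui, .xii, .p4, .xii, .y4, .y6, .p4, .xii, .y8, .taui, .xii, .y6, .hi, .p7]⟩

theorem h217 : Hd F (g wAd) b217 := hdD (by decide +kernel)
theorem r217_0 : R9 F (g wAd) b217 [] 0 0 := .of (startD 0 1) (by decide +kernel)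
theorem r217_1 : R9 F (g wAd) b217 [] 0 1 := .of (startD 0 1) (by decide +kernel)
theorem r217_2 : R9 F (g wAd) b217 [] 0 2 := .of (startD 0 1) (by decide +kernel)
theorem r217_3 : R9 F (g wAd) b217 [] 1 0 := .of (startD 0 1) (by decide +kernel)
theorem r217_4 : R9 F (g wAd) b217 [] 1 1 := .of (startD 0 1) (by decide +kernel)
theorem r217_5 : R9 F (g wAd) b217 [] 1 2 := .of (startD 0 1) (by decide +kernel)
theorem r217_6 : R9 F (g wAd) b217 [] 2 0 := .of (startD 0 1) (by decide +kernel)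
theorem r217_7 : R9 F (g wAd) b217 [] 2 1 := .of (startD 0 1) (by decide +kernel)
theorem r217_8 : R9 F (g wAd) b217 [] 2 2 := .of (startD 0 1) (by decide +kernel)
theorem g217 : Gd F (g wAd) (0, d217) [] :=
  good9 ok h217 r217_0 r217_1 r217_2 r217_3 r217_4 r217_5 r217_6 r217_7 r217_8

def b218 : Wd := ⟨0, d218,
  [.Z9, .Z5, .Z3, .Z0, .X9, .X4, .X3, .X2, .X0, .y10, .y9, .y8, .y6, .y5, .p3, .hi, .p8, .hi, .p9, .hi, .p3, .hi, .p9,
   .hi, .p8, .xii, .p10, .xii, .p9, .xii, .y1, .y2, .tau, .xii, .p, .xii, .y1, .y10, .hi, .xii, .y4, .y5, .tau, .xii,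
   .p2, .xii, .p4, .y6, .xii, .y4, .y9, .p9, .tau, .xii, .p7, .xii, .y4, .p3, .xii, .y2, .taui],
  [.z, .Z10, .Z8, .Z2, .Z1, .Z0, .X10, .X8, .X6, .X4, .y10, .y9, .y8, .y7, .y6, .y5, .hi, .p, .hi, .p3, .hi, .p9, .hi,
   .p4, .hi, .p10, .xii, .hi, .p8, .xii, .y1, .p10, .tau, .y1, .xii, .y2, .hi, .xii, .p10, .xii, .y8, .y10, .tau,
   .p10, .xii, .p10, .xii, .p9, .y6, .tau, .xii, .p9, .xii, .y7, .y8, .p9, .tau, .xii, .p],
  [.Z10, .Z6, .Z5, .Z3, .Z2, .Z1, .X10, .X8, .X5, .X3, .X2, .X1, .y10, .y9, .y8, .y7, .y6, .y3, .y1, .p10, .hi, .p3,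
   .hi, .p4, .hi, .p3, .hi, .p7, .hi, .p, .hi, .p8, .hi, .xii, .hi, .p10, .taui, .xii, .p, .xii, .y3, .hi, .xii, .y4,
   .y6, .taui, .X0, .p2, .xii, .hi, .xii, .y3, .p5, .hi, .p10, .taui, .xii, .p4, .xii, .p5, .xii, .y1, .y7, .y10,
   .tau, .xii, .y6]⟩

theorem h218 : Hd F (g wAd) b218 := hdD (by decide +kernel)
theorem r218_0 : R9 F (g wAd) b218 [] 0 0 := .of (startD 0 1) (by decide +kernel)
theorem r218_1 : R9 F (g wAd) b218 [] 0 1 := .of (startD 0 1) (by decide +kernel)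
theorem r218_2 : R9 F (g wAd) b218 [] 0 2 := .of (startD 0 1) (by decide +kernel)
theorem r218_3 : R9 F (g wAd) b218 [] 1 0 := .of (startD 0 1) (by decide +kernel)
theorem r218_4 : R9 F (g wAd) b218 [] 1 1 := .of (startD 0 1) (by decide +kernel)
theorem r218_5 : R9 F (g wAd) b218 [] 1 2 := .of (startD 0 1) (by decide +kernel)
theorem r218_6 : R9 F (g wAd) b218 [] 2 0 := .of (startD 0 1) (by decide +kernel)
theorem r218_7 : R9 F (g wAd) b218 [] 2 1 := .of (startD 0 1) (by decide +kernel)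
theorem r218_8 : R9 F (g wAd) b218 [] 2 2 := .of (startD 0 1) (by decide +kernel)
theorem g218 : Gd F (g wAd) (0, d218) [] :=
  good9 ok h218 r218_0 r218_1 r218_2 r218_3 r218_4 r218_5 r218_6 r218_7 r218_8

def b219 : Wd := ⟨0, d219,
  [.z, .Z6, .Z4, .Z1, .Z0, .X9, .X7, .X6, .X4, .X3, .X2, .X0, .y7, .y6, .y5, .y4, .y3, .y2, .y1, .p10, .hi, .p6, .hi,
   .p6, .hi, .p4, .hi, .p7, .hi, .p3, .xii, .p, .xii, .y3, .y4, .tau, .y1, .xii, .y1, .hi, .xii, .y6, .p10, .xii, .y8,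
   .taui, .xii, .y2, .p, .xii, .y1, .hi, .xii, .y5, .tau, .X0, .p10, .xii, .y5, .p6, .xii, .y4, .taui, .xii, .p4,
   .xii, .hi, .p3, .y2, .hi, .tau, .xii, .p3, .hi, .p10],
  [.z, .Z10, .Z9, .Z7, .Z6, .Z5, .Z4, .Z3, .X10, .X6, .X5, .X3, .X2, .X1, .y10, .y5, .y2, .y1, .p9, .hi, .p5, .hi,
   .p3, .hi, .p9, .hi, .p, .xii, .y2, .hi, .xii, .p9, .xii, .y1, .tau, .xii, .y1, .p, .hi, .xii, .y5, .taui, .X0,
   .p10, .xii, .y8, .p9, .xii, .y3, .y10, .tau, .xii, .y2, .p8, .xii, .p7, .y9, .taui, .xii, .hi],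
  [.z, .Z9, .Z8, .Z3, .X7, .X6, .X5, .X4, .X3, .X2, .X1, .y10, .y3, .y2, .p6, .hi, .p10, .hi, .p5, .hi, .p6, .hi, .p3,
   .hi, .p4, .hi, .xii, .p, .xii, .y1, .y2, .tau, .xii, .p, .xii, .y3, .hi, .xii, .y2, .y7, .tau, .X0, .y1, .p2, .xii,
   .p9, .xii, .y10, .p4, .hi, .p8, .taui, .xii, .p5, .hi, .p10, .xii, .y9]⟩

theorem h219 : Hd F (g wAd) b219 := hdD (by decide +kernel)
theorem r219_0 : R9 F (g wAd) b219 [] 0 0 := .of (startD 0 1) (by decide +kernel)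
theorem r219_1 : R9 F (g wAd) b219 [] 0 1 := .of (startD 0 1) (by decide +kernel)
theorem r219_2 : R9 F (g wAd) b219 [] 0 2 := .of (startD 0 1) (by decide +kernel)
theorem r219_3 : R9 F (g wAd) b219 [] 1 0 := .of (startD 0 1) (by decide +kernel)
theorem r219_4 : R9 F (g wAd) b219 [] 1 1 := .of (startD 0 1) (by decide +kernel)
theorem r219_5 : R9 F (g wAd) b219 [] 1 2 := .of (startD 0 1) (by decide +kernel)
theorem r219_6 : R9 F (g wAd) b219 [] 2 0 := .of (startD 0 1) (by decide +kernel)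
theorem r219_7 : R9 F (g wAd) b219 [] 2 1 := .of (startD 0 1) (by decide +kernel)
theorem r219_8 : R9 F (g wAd) b219 [] 2 2 := .of (startD 0 1) (by decide +kernel)
theorem g219 : Gd F (g wAd) (0, d219) [] :=
  good9 ok h219 r219_0 r219_1 r219_2 r219_3 r219_4 r219_5 r219_6 r219_7 r219_8

theorem all : AllG F (g wAd) LD21 :=
  .cons g210 (.cons g211 (.cons g212 (.cons g213 (.cons g214 (.cons g215 (.cons g216 (.cons g217 (.cons g218 (.cons g219 (.nil))))))))))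

end Cfsg.Agent.BX.No33.Bk.D21
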