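import Cfsg.Agent.BX.No33.Cheap
set_option linter.all false

/-!
# Tests, diagonal case, part 22 (helper5; generated)
-/

set_option autoImplicit false
set_option maxRecDepth 100000
set_option Elab.async false

namespace Cfsg.Agent.BX.No33.Bk.D22

open Cfsg.Agent.H819.U33 Cfsg.Agent.BX.No33.Front

def b220 : Wd := ⟨0, d220,
  [.Z7, .Z6, .Z2, .X9, .X3, .X1, .y10, .y9, .y2, .y1, .p10, .hi, .p9, .hi, .p3, .hi, .p, .hi, .p8, .hi, .p9, .hi,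
   .xii, .p10, .xii, .y4, .p5, .hi, .p5, .tau, .y1, .xii, .y1, .hi, .xii, .p10, .xii, .y9, .y10, .tau, .X0, .p10,
   .xii, .y4, .p5, .xii, .y4, .tau, .xii, .p4, .xii, .y2, .p9, .xii, .taui, .xii, .p4, .xii, .y1],
  [.z, .Z6, .Z5, .Z3, .Z2, .Z1, .X7, .X4, .X3, .X1, .X0, .y6, .y4, .y1, .hi, .p4, .hi, .p7, .hi, .p8, .hi, .p10, .hi,
   .p7, .hi, .xii, .y2, .p10, .hi, .p, .taui, .xii, .p, .xii, .y4, .y10, .hi, .xii, .y4, .y5, .tau, .X0, .y1, .p10,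
   .xii, .hi, .p5, .xii, .y8, .p10, .tau, .xii, .hi, .p7, .xii, .hi, .y10, .p4, .tau, .xii, .y2, .p7],
  [.z, .Z10, .Z9, .Z5, .Z4, .Z3, .X10, .X9, .X4, .X3, .X1, .y10, .y9, .y8, .y7, .y3, .p8, .hi, .p6, .hi, .p3, .xii,
   .hi, .xii, .y8, .p9, .xii, .y6, .tau, .y1, .xii, .y2, .hi, .xii, .y10, .p10, .xii, .y4, .tau, .xii, .p4, .xii, .p8,
   .y5, .xii, .y1, .tau, .xii, .hi, .p7, .xii, .y8, .p6, .tau, .xii, .y2, .p8]⟩

theorem h220 : Hd F (g wAd) b220 := hdD (by decide +kernel)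
theorem r220_0 : R9 F (g wAd) b220 [] 0 0 := .of (startD 0 1) (by decide +kernel)
theorem r220_1 : R9 F (g wAd) b220 [] 0 1 := .of (startD 0 1) (by decide +kernel)
theorem r220_2 : R9 F (g wAd) b220 [] 0 2 := .of (startD 0 1) (by decide +kernel)
theorem r220_3 : R9 F (g wAd) b220 [] 1 0 := .of (startD 0 1) (by decide +kernel)
theorem r220_4 : R9 F (g wAd) b220 [] 1 1 := .of (startD 0 1) (by decide +kernel)
theorem r220_5 : R9 F (g wAd) b220 [] 1 2 := .of (startD 0 1) (by decide +kernel)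
theorem r220_6 : R9 F (g wAd) b220 [] 2 0 := .of (startD 0 1) (by decide +kernel)
theorem r220_7 : R9 F (g wAd) b220 [] 2 1 := .of (startD 0 1) (by decide +kernel)
theorem r220_8 : R9 F (g wAd) b220 [] 2 2 := .of (startD 0 1) (by decide +kernel)
theorem g220 : Gd F (g wAd) (0, d220) [] :=
  good9 ok h220 r220_0 r220_1 r220_2 r220_3 r220_4 r220_5 r220_6 r220_7 r220_8

def b221 : Wd := ⟨0, d221,
  [.Z10, .Z8, .Z2, .Z0, .X10, .X8, .X6, .X3, .X0, .y8, .y7, .y6, .y4, .y3, .y1, .hi, .p2, .hi, .p3, .hi, .p3, .hi,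
   .p7, .hi, .xii, .y2, .p10, .hi, .p, .taui, .xii, .p, .xii, .y3, .hi, .xii, .y4, .y6, .tau, .X0, .p2, .xii, .p,
   .xii, .y4, .y5, .taui, .xii, .p10, .xii, .y10, .p8],
  [.Z8, .Z5, .Z1, .Z0, .X10, .X7, .X4, .X3, .X2, .y9, .y8, .y1, .hi, .p7, .hi, .p5, .hi, .p7, .hi, .p5, .hi, .p7,
   .xii, .p10, .xii, .y5, .p5, .hi, .p5, .tau, .xii, .p, .xii, .y2, .y10, .hi, .xii, .y5, .taui, .xii, .p7, .xii, .p8,
   .y8, .xii, .y7, .y10, .p8, .tau, .xii, .p, .xii, .y1, .hi, .p, .y5],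
  [.z, .Z10, .Z8, .Z6, .Z4, .Z2, .Z1, .Z0, .X10, .X8, .X5, .X4, .X2, .X1, .X0, .y10, .y8, .y3, .p4, .hi, .p, .hi, .p4,
   .hi, .p5, .hi, .p4, .hi, .xii, .p10, .xii, .y8, .p5, .hi, .p5, .taui, .xii, .p, .xii, .y2, .y10, .hi, .xii, .y4,
   .y5, .tau, .X0, .p8, .xii, .p2, .hi, .xii, .y5, .p7, .taui, .xii, .p2, .xii, .p7, .y8, .xii, .y7, .tau, .xii, .y7,
   .p9]⟩

theorem h221 : Hd F (g wAd) b221 := hdD (by decide +kernel)
theorem r221_0 : R9 F (g wAd) b221 [] 0 0 := .of (startD 0 1) (by decide +kernel)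
theorem r221_1 : R9 F (g wAd) b221 [] 0 1 := .of (startD 0 1) (by decide +kernel)
theorem r221_2 : R9 F (g wAd) b221 [] 0 2 := .of (startD 0 1) (by decide +kernel)
theorem r221_3 : R9 F (g wAd) b221 [] 1 0 := .of (startD 0 1) (by decide +kernel)
theorem r221_4 : R9 F (g wAd) b221 [] 1 1 := .of (startD 0 1) (by decide +kernel)
theorem r221_5 : R9 F (g wAd) b221 [] 1 2 := .of (startD 0 1) (by decide +kernel)
theorem r221_6 : R9 F (g wAd) b221 [] 2 0 := .of (startD 0 1) (by decide +kernel)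
theorem r221_7 : R9 F (g wAd) b221 [] 2 1 := .of (startD 0 1) (by decide +kernel)
theorem r221_8 : R9 F (g wAd) b221 [] 2 2 := .of (startD 0 1) (by decide +kernel)
theorem g221 : Gd F (g wAd) (0, d221) [] :=
  good9 ok h221 r221_0 r221_1 r221_2 r221_3 r221_4 r221_5 r221_6 r221_7 r221_8

def b222 : Wd := ⟨0, d222,
  [.z, .Z9, .Z7, .Z5, .Z4, .Z3, .Z1, .X9, .X8, .X6, .X4, .X3, .y3, .p8, .hi, .p4, .hi, .p10, .hi, .p4, .hi, .p, .hi,
   .p6, .hi, .xii, .y2, .p5, .hi, .p8, .hi, .taui, .xii, .y6, .p, .xii, .p, .xii, .y1, .y2, .y4, .tau, .X0, .p7, .xii,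
   .p4, .xii, .y10, .p2, .hi, .y9, .p5, .taui, .xii, .p3, .xii, .p10, .y3, .xii, .y2, .tau, .xii, .p4],
  [.Z10, .Z5, .Z4, .Z3, .Z2, .Z1, .Z0, .X10, .X7, .X5, .X0, .y10, .y7, .y4, .y3, .p6, .hi, .p4, .hi, .p8, .hi, .p5,
   .xii, .hi, .xii, .p5, .hi, .p5, .tau, .y1, .xii, .p10, .xii, .y8, .p10, .xii, .taui, .X0, .p8, .xii, .y6, .hi, .p8,
   .xii, .y3, .p10, .tau, .xii, .hi, .p6, .xii, .y7, .p9, .tau, .xii, .p, .hi, .p4],
  [.Z10, .Z7, .Z1, .Z0, .X10, .X8, .X6, .X3, .X2, .X1, .X0, .y8, .y7, .y6, .y5, .y1, .p10, .hi, .p10, .hi, .p5, .hi,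
   .p3, .hi, .p4, .hi, .p10, .hi, .p3, .xii, .y2, .hi, .xii, .p5, .xii, .tau, .xii, .y2, .p, .xii, .y1, .hi, .xii,
   .y1, .tau, .xii, .p4, .xii, .y8, .y9, .p5, .xii, .y3, .tau, .xii, .p5, .xii, .y2, .y7, .p5, .xii, .y1, .taui, .xii,
   .y7, .hi]⟩

theorem h222 : Hd F (g wAd) b222 := hdD (by decide +kernel)
theorem r222_0 : R9 F (g wAd) b222 [] 0 0 := .of (startD 0 1) (by decide +kernel)
theorem r222_1 : R9 F (g wAd) b222 [] 0 1 := .of (startD 0 1) (by decide +kernel)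
theorem r222_2 : R9 F (g wAd) b222 [] 0 2 := .of (startD 0 1) (by decide +kernel)
theorem r222_3 : R9 F (g wAd) b222 [] 1 0 := .of (startD 0 1) (by decide +kernel)
theorem r222_4 : R9 F (g wAd) b222 [] 1 1 := .of (startD 0 1) (by decide +kernel)
theorem r222_5 : R9 F (g wAd) b222 [] 1 2 := .of (startD 0 1) (by decide +kernel)
theorem r222_6 : R9 F (g wAd) b222 [] 2 0 := .of (startD 0 1) (by decide +kernel)
theorem r222_7 : R9 F (g wAd) b222 [] 2 1 := .of (startD 0 1) (by decide +kernel)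
theorem r222_8 : R9 F (g wAd) b222 [] 2 2 := .of (startD 0 1) (by decide +kernel)
theorem g222 : Gd F (g wAd) (0, d222) [] :=
  good9 ok h222 r222_0 r222_1 r222_2 r222_3 r222_4 r222_5 r222_6 r222_7 r222_8

def b223 : Wd := ⟨0, d223,
  [.Z10, .Z9, .Z7, .Z6, .Z4, .Z3, .Z2, .X10, .X9, .X8, .X6, .X5, .X4, .X3, .X1, .y8, .y6, .hi, .p5, .hi, .p, .hi, .p8,
   .hi, .p, .hi, .p10, .xii, .p, .xii, .hi, .y7, .p4, .tau, .xii, .y2, .p, .xii, .y3, .hi, .xii, .y7, .taui, .p10,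
   .xii, .p8, .xii, .p3, .y10, .hi, .tau, .xii, .p7, .xii, .p, .y1, .y3, .hi, .p8, .taui, .xii, .p4],
  [.Z5, .Z4, .Z1, .Z0, .X6, .X2, .X1, .y8, .y6, .y3, .p3, .hi, .p6, .hi, .p4, .hi, .p, .xii, .p, .xii, .y2, .hi, .xii,
   .y1, .y2, .tau, .xii, .y2, .p, .xii, .y3, .y10, .hi, .xii, .y5, .tau, .p10, .xii, .y5, .hi, .p8, .xii, .y7, .y10,
   .p9, .taui, .xii, .p3, .xii, .p2, .y3, .hi],
  [.Z9, .Z8, .Z7, .Z6, .Z5, .Z3, .Z2, .Z1, .X9, .X5, .X4, .y9, .y3, .y1, .p10, .hi, .p6, .hi, .p3, .hi, .p4, .hi, .p,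
   .hi, .p3, .hi, .xii, .hi, .xii, .p10, .xii, .y4, .taui, .y1, .xii, .p10, .xii, .y5, .p10, .xii, .y4, .y9, .tau,
   .X0, .xii, .y2, .hi, .xii, .y5, .p8, .xii, .y2, .p2, .tau, .xii, .p3, .xii, .y1, .y7, .p, .hi, .tau, .xii, .y2,
   .p4, .hi, .p2]⟩

theorem h223 : Hd F (g wAd) b223 := hdD (by decide +kernel)
theorem r223_0 : R9 F (g wAd) b223 [] 0 0 := .of (startD 0 1) (by decide +kernel)
theorem r223_1 : R9 F (g wAd) b223 [] 0 1 := .of (startD 0 1) (by decide +kernel)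
theorem r223_2 : R9 F (g wAd) b223 [] 0 2 := .of (startD 0 2) (by decide +kernel)
theorem r223_3 : R9 F (g wAd) b223 [] 1 0 := .of (startD 0 1) (by decide +kernel)
theorem r223_4 : R9 F (g wAd) b223 [] 1 1 := .of (startD 0 1) (by decide +kernel)
theorem r223_5 : R9 F (g wAd) b223 [] 1 2 := .of (startD 0 1) (by decide +kernel)
theorem r223_6 : R9 F (g wAd) b223 [] 2 0 := .of (startD 0 1) (by decide +kernel)
theorem r223_7 : R9 F (g wAd) b223 [] 2 1 := .of (startD 0 1) (by decide +kernel)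
theorem r223_8 : R9 F (g wAd) b223 [] 2 2 := .of (startD 0 1) (by decide +kernel)
theorem g223 : Gd F (g wAd) (0, d223) [] :=
  good9 ok h223 r223_0 r223_1 r223_2 r223_3 r223_4 r223_5 r223_6 r223_7 r223_8

def b224 : Wd := ⟨0, d224,
  [.z, .Z9, .Z6, .Z3, .X9, .X5, .X4, .X3, .y9, .y6, .y5, .y4, .y2, .p2, .hi, .p8, .hi, .p6, .hi, .p9, .hi, .p3, .hi,
   .p5, .xii, .hi, .xii, .p10, .y9, .taui, .y1, .xii, .p10, .xii, .y4, .p10, .xii, .y1, .y5, .taui, .X0, .y1, .xii,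
   .p9, .xii, .y9, .y10, .p8, .xii, .y10, .tau, .xii, .p7, .xii, .y1, .y5, .y9, .p7, .tau, .xii, .hi, .p7],
  [.z, .Z7, .Z6, .Z3, .Z1, .X9, .X8, .X1, .X0, .y10, .y9, .y6, .y4, .y2, .y1, .hi, .p7, .hi, .p7, .hi, .p5, .hi, .p8,
   .hi, .p8, .hi, .xii, .hi, .xii, .y8, .p9, .xii, .y5, .tau, .X0, .p5, .xii, .y2, .y8, .p, .xii, .y1, .hi, .taui,
   .xii, .p5, .xii, .y6, .p4, .hi, .p3, .tau, .xii, .p3, .hi, .p8, .hi],
  [.z, .Z9, .Z8, .Z4, .Z3, .Z2, .Z0, .X10, .X9, .X8, .X6, .X3, .X1, .X0, .y6, .y5, .y4, .y3, .y2, .y1, .p9, .hi, .p8,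
   .hi, .p8, .hi, .p4, .hi, .p8, .hi, .p7, .xii, .hi, .xii, .p10, .y9, .xii, .y8, .tau, .xii, .y6, .p, .xii, .p, .xii,
   .y2, .y6, .taui, .y1, .p9, .xii, .p10, .xii, .y6, .p3, .taui, .xii, .p5, .xii, .p, .y5, .xii, .y3, .taui, .xii,
   .y6, .hi, .p4]⟩

theorem h224 : Hd F (g wAd) b224 := hdD (by decide +kernel)
theorem r224_0 : R9 F (g wAd) b224 [] 0 0 := .of (startD 0 1) (by decide +kernel)
theorem r224_1 : R9 F (g wAd) b224 [] 0 1 := .of (startD 0 1) (by decide +kernel)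
theorem r224_2 : R9 F (g wAd) b224 [] 0 2 := .of (startD 0 1) (by decide +kernel)
theorem r224_3 : R9 F (g wAd) b224 [] 1 0 := .of (startD 0 1) (by decide +kernel)
theorem r224_4 : R9 F (g wAd) b224 [] 1 1 := .of (startD 0 1) (by decide +kernel)
theorem r224_5 : R9 F (g wAd) b224 [] 1 2 := .of (startD 0 1) (by decide +kernel)
theorem r224_6 : R9 F (g wAd) b224 [] 2 0 := .of (startD 0 1) (by decide +kernel)
theorem r224_7 : R9 F (g wAd) b224 [] 2 1 := .of (startD 0 1) (by decide +kernel)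
theorem r224_8 : R9 F (g wAd) b224 [] 2 2 := .of (startD 0 1) (by decide +kernel)
theorem g224 : Gd F (g wAd) (0, d224) [] :=
  good9 ok h224 r224_0 r224_1 r224_2 r224_3 r224_4 r224_5 r224_6 r224_7 r224_8

def b225 : Wd := ⟨0, d225,
  [.z, .Z8, .Z3, .Z1, .X10, .X8, .X6, .X4, .X1, .X0, .y9, .y8, .y7, .hi, .p7, .hi, .p6, .hi, .p8, .hi, .p7, .hi, .p10,
   .hi, .p9, .hi, .xii, .p, .xii, .p8, .y1, .xii, .y1, .tau, .y1, .xii, .y2, .hi, .xii, .p10, .xii, .y4, .y10, .tau,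
   .X0, .xii, .p7, .xii, .y8, .y10, .p5, .xii, .y1, .y5, .taui, .xii, .p3, .xii, .y4, .p3, .taui, .xii, .y2, .p7],
  [.Z10, .Z9, .Z8, .Z7, .Z4, .Z3, .Z0, .X10, .X4, .X3, .X1, .X0, .y10, .y9, .y8, .y7, .y1, .p8, .hi, .p9, .hi, .p6,
   .hi, .p9, .hi, .p, .xii, .p10, .hi, .p, .taui, .y1, .xii, .p10, .xii, .y1, .y9, .p10, .xii, .taui, .p4, .xii, .y1,
   .p8, .xii, .y2, .y4, .p, .hi, .tau, .xii, .p5, .xii, .p5, .y10, .xii, .y4, .y9, .tau, .xii, .hi, .p7],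
  [.Z10, .Z9, .Z8, .Z6, .Z4, .Z3, .Z1, .X10, .X9, .X7, .X6, .X5, .X4, .X1, .y8, .y5, .y3, .p5, .hi, .p10, .hi, .p,
   .hi, .p3, .hi, .p2, .xii, .p10, .xii, .y9, .p3, .hi, .p5, .tau, .y1, .xii, .y2, .hi, .xii, .p10, .xii, .y2, .y4,
   .tau, .X0, .p4, .xii, .y1, .p7, .xii, .p9, .xii, .y9, .tau, .xii, .p9, .xii, .y3, .p4, .tau, .xii, .y2, .p7]⟩

theorem h225 : Hd F (g wAd) b225 := hdD (by decide +kernel)
theorem r225_0 : R9 F (g wAd) b225 [] 0 0 := .of (startD 0 1) (by decide +kernel)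
theorem r225_1 : R9 F (g wAd) b225 [] 0 1 := .of (startD 0 1) (by decide +kernel)
theorem r225_2 : R9 F (g wAd) b225 [] 0 2 := .of (startD 0 1) (by decide +kernel)
theorem r225_3 : R9 F (g wAd) b225 [] 1 0 := .of (startD 0 1) (by decide +kernel)
theorem r225_4 : R9 F (g wAd) b225 [] 1 1 := .of (startD 0 1) (by decide +kernel)
theorem r225_5 : R9 F (g wAd) b225 [] 1 2 := .of (startD 0 1) (by decide +kernel)
theorem r225_6 : R9 F (g wAd) b225 [] 2 0 := .of (startD 0 1) (by decide +kernel)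
theorem r225_7 : R9 F (g wAd) b225 [] 2 1 := .of (startD 0 1) (by decide +kernel)
theorem r225_8 : R9 F (g wAd) b225 [] 2 2 := .of (startD 0 1) (by decide +kernel)
theorem g225 : Gd F (g wAd) (0, d225) [] :=
  good9 ok h225 r225_0 r225_1 r225_2 r225_3 r225_4 r225_5 r225_6 r225_7 r225_8

def b226 : Wd := ⟨0, d226,
  [.Z8, .Z6, .Z3, .Z2, .Z1, .X10, .X8, .X7, .X4, .X2, .y9, .y8, .y6, .y5, .y4, .y2, .hi, .p10, .hi, .p2, .hi, .p6,
   .hi, .p7, .hi, .p, .hi, .p4, .xii, .p, .hi, .xii, .p5, .hi, .y8, .p5, .taui, .xii, .y1, .p, .xii, .y1, .y6, .p,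
   .xii, .y6, .tau, .p2, .xii, .p7, .xii, .y2, .y9, .p6, .tau, .xii, .p6, .xii, .p, .y5, .xii, .y9, .y10, .taui, .xii,
   .hi],
  [.z, .Z10, .Z9, .Z8, .Z7, .Z1, .Z0, .X9, .X3, .X1, .X0, .y6, .y4, .p, .hi, .p10, .hi, .p4, .hi, .p5, .hi, .p5, .xii,
   .p, .xii, .p4, .xii, .y4, .tau, .xii, .p, .xii, .hi, .y8, .xii, .y7, .y8, .tau, .y1, .p7, .xii, .p4, .xii, .p9,
   .y9, .xii, .y9, .taui, .xii, .y2, .p5, .xii, .y9, .p5, .hi],
  [.z, .Z10, .Z9, .Z3, .Z0, .X10, .X8, .X3, .X1, .y10, .y7, .y6, .y4, .y1, .p, .hi, .p7, .hi, .p3, .hi, .p5, .hi, .p4,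
   .xii, .p3, .hi, .xii, .y3, .y9, .p10, .taui, .y1, .xii, .p10, .xii, .y5, .p10, .xii, .y2, .y10, .taui, .X0, .p5,
   .xii, .p7, .xii, .hi, .p8, .hi, .taui, .xii, .hi, .p5, .xii, .y10, .p9, .taui, .xii, .y2, .p3, .hi, .p2]⟩

theorem h226 : Hd F (g wAd) b226 := hdD (by decide +kernel)
theorem r226_0 : R9 F (g wAd) b226 [] 0 0 := .of (startD 0 1) (by decide +kernel)
theorem r226_1 : R9 F (g wAd) b226 [] 0 1 := .of (startD 0 1) (by decide +kernel)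
theorem r226_2 : R9 F (g wAd) b226 [] 0 2 := .of (startD 0 1) (by decide +kernel)
theorem r226_3 : R9 F (g wAd) b226 [] 1 0 := .of (startD 0 1) (by decide +kernel)
theorem r226_4 : R9 F (g wAd) b226 [] 1 1 := .of (startD 0 1) (by decide +kernel)
theorem r226_5 : R9 F (g wAd) b226 [] 1 2 := .of (startD 0 1) (by decide +kernel)
theorem r226_6 : R9 F (g wAd) b226 [] 2 0 := .of (startD 0 1) (by decide +kernel)
theorem r226_7 : R9 F (g wAd) b226 [] 2 1 := .of (startD 0 1) (by decide +kernel)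
theorem r226_8 : R9 F (g wAd) b226 [] 2 2 := .of (startD 0 1) (by decide +kernel)
theorem g226 : Gd F (g wAd) (0, d226) [] :=
  good9 ok h226 r226_0 r226_1 r226_2 r226_3 r226_4 r226_5 r226_6 r226_7 r226_8

def b227 : Wd := ⟨0, d227,
  [.z, .Z2, .Z1, .Z0, .X10, .X8, .X3, .X2, .X0, .y10, .y8, .y5, .y4, .y2, .y1, .p10, .hi, .p9, .hi, .p5, .hi, .p10,
   .hi, .p, .hi, .p6, .hi, .xii, .p10, .xii, .taui, .xii, .p, .xii, .y3, .hi, .xii, .y6, .tau, .xii, .p4, .xii, .p5,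
   .y4, .y7, .xii, .y9, .tau, .xii, .p5, .xii, .y1, .y8, .p, .xii, .taui, .xii, .p9, .xii, .y10],
  [.Z10, .Z7, .Z5, .Z4, .Z3, .Z2, .Z0, .X9, .X8, .X7, .X6, .X5, .X3, .y9, .y6, .y5, .hi, .p10, .hi, .p4, .hi, .p9,
   .hi, .p3, .hi, .p4, .xii, .y2, .p10, .hi, .p, .tau, .y1, .xii, .y1, .hi, .xii, .p10, .xii, .y2, .y10, .tau, .X0,
   .p9, .xii, .p6, .y6, .xii, .p2, .xii, .y2, .tau, .xii, .p7, .xii, .p5, .y1, .y3, .xii, .y9, .tau, .xii, .p9],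
  [.z, .Z7, .Z6, .Z5, .Z4, .Z3, .Z2, .Z0, .X5, .X4, .X3, .X2, .y8, .y7, .y3, .y2, .p9, .hi, .p8, .hi, .p4, .hi, .p6,
   .hi, .p4, .hi, .p7, .hi, .xii, .p10, .xii, .y7, .p8, .taui, .X0, .p7, .xii, .p10, .xii, .p5, .y7, .taui, .X0, .p4,
   .xii, .p9, .xii, .y1, .y7, .taui, .xii, .p7, .xii, .y2, .y7, .p7, .xii, .y8, .tau, .xii, .hi, .p6]⟩

theorem h227 : Hd F (g wAd) b227 := hdD (by decide +kernel)
theorem r227_0 : R9 F (g wAd) b227 [] 0 0 := .of (startD 0 1) (by decide +kernel)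
theorem r227_1 : R9 F (g wAd) b227 [] 0 1 := .of (startD 0 1) (by decide +kernel)
theorem r227_2 : R9 F (g wAd) b227 [] 0 2 := .of (startD 0 1) (by decide +kernel)
theorem r227_3 : R9 F (g wAd) b227 [] 1 0 := .of (startD 0 1) (by decide +kernel)
theorem r227_4 : R9 F (g wAd) b227 [] 1 1 := .of (startD 0 1) (by decide +kernel)
theorem r227_5 : R9 F (g wAd) b227 [] 1 2 := .of (startD 0 1) (by decide +kernel)
theorem r227_6 : R9 F (g wAd) b227 [] 2 0 := .of (startD 0 1) (by decide +kernel)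
theorem r227_7 : R9 F (g wAd) b227 [] 2 1 := .of (startD 0 1) (by decide +kernel)
theorem r227_8 : R9 F (g wAd) b227 [] 2 2 := .of (startD 0 2) (by decide +kernel)
theorem g227 : Gd F (g wAd) (0, d227) [] :=
  good9 ok h227 r227_0 r227_1 r227_2 r227_3 r227_4 r227_5 r227_6 r227_7 r227_8

def b228 : Wd := ⟨0, d228,
  [.Z9, .Z7, .Z6, .Z4, .Z2, .X10, .X9, .X7, .X5, .X4, .X2, .X1, .y4, .y3, .y1, .p10, .hi, .p2, .hi, .p10, .hi, .p7,
   .xii, .p, .xii, .p9, .y1, .tau, .y1, .xii, .p10, .xii, .y4, .p10, .xii, .y4, .y9, .tau, .xii, .y2, .p4, .xii, .y3,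
   .p5, .xii, .y1, .y3, .y7, .taui, .xii, .p3, .xii, .p2, .y9, .xii, .y10, .taui, .xii, .p3, .xii, .y4],
  [.z, .Z10, .Z6, .Z2, .Z1, .X10, .X9, .X8, .X7, .X6, .X4, .X3, .X1, .y7, .y6, .y4, .y2, .y1, .p5, .hi, .p9, .hi, .p5,
   .hi, .p8, .hi, .p4, .hi, .p7, .hi, .xii, .p, .xii, .y1, .taui, .xii, .p, .xii, .hi, .y8, .xii, .y1, .tau, .X0,
   .xii, .p5, .xii, .y3, .y5, .hi, .xii, .y6, .tau, .xii, .p5, .xii, .y5, .p9, .xii, .y4],
  [.z, .Z9, .Z5, .Z3, .Z1, .X10, .X9, .X0, .y10, .y9, .y8, .y6, .y3, .y1, .p7, .hi, .p10, .hi, .p9, .hi, .p10, .hi,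
   .p, .hi, .p3, .hi, .p4, .hi, .xii, .p, .xii, .y10, .p7, .xii, .tau, .y1, .xii, .p10, .xii, .y8, .p10, .xii, .y8,
   .y10, .taui, .p7, .xii, .y4, .p8, .xii, .p7, .y4, .taui, .xii, .p9, .xii, .y1, .y8, .p6, .xii, .y9, .taui, .xii,
   .y2, .p2]⟩

theorem h228 : Hd F (g wAd) b228 := hdD (by decide +kernel)
theorem r228_0 : R9 F (g wAd) b228 [] 0 0 := .of (startD 0 1) (by decide +kernel)
theorem r228_1 : R9 F (g wAd) b228 [] 0 1 := .of (startD 0 1) (by decide +kernel)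
theorem r228_2 : R9 F (g wAd) b228 [] 0 2 := .of (startD 0 1) (by decide +kernel)
theorem r228_3 : R9 F (g wAd) b228 [] 1 0 := .of (startD 0 1) (by decide +kernel)
theorem r228_4 : R9 F (g wAd) b228 [] 1 1 := .of (startD 0 1) (by decide +kernel)
theorem r228_5 : R9 F (g wAd) b228 [] 1 2 := .of (startD 0 1) (by decide +kernel)
theorem r228_6 : R9 F (g wAd) b228 [] 2 0 := .of (startD 0 1) (by decide +kernel)
theorem r228_7 : R9 F (g wAd) b228 [] 2 1 := .of (startD 0 1) (by decide +kernel)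
theorem r228_8 : R9 F (g wAd) b228 [] 2 2 := .of (startD 0 1) (by decide +kernel)
theorem g228 : Gd F (g wAd) (0, d228) [] :=
  good9 ok h228 r228_0 r228_1 r228_2 r228_3 r228_4 r228_5 r228_6 r228_7 r228_8

def b229 : Wd := ⟨0, d229,
  [.Z10, .Z8, .Z6, .Z2, .Z0, .X10, .X9, .X8, .X4, .X2, .y9, .y6, .y2, .y1, .p7, .hi, .p, .hi, .p7, .hi, .p5, .hi, .p6,
   .hi, .p, .hi, .xii, .p3, .hi, .xii, .y1, .y3, .taui, .xii, .p, .xii, .y3, .y10, .hi, .xii, .y5, .taui, .p4, .xii,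
   .p4, .xii, .y4, .y8, .p3, .taui, .xii, .p5, .xii, .p8, .y1, .xii, .y9, .tau, .xii, .p8, .xii, .y6],
  [.z, .Z10, .Z9, .Z3, .Z2, .X9, .X7, .X6, .X5, .X2, .X1, .X0, .y7, .y6, .y4, .y3, .p2, .hi, .p, .hi, .p8, .hi, .p5,
   .hi, .p7, .xii, .y2, .hi, .p2, .hi, .taui, .y1, .xii, .p10, .xii, .y4, .p10, .xii, .y2, .taui, .p6, .xii, .p9,
   .xii, .y3, .p4, .y9, .tau, .xii, .y2, .p7, .xii, .y2, .p9, .xii, .y5, .y7, .taui, .xii, .p],
  [.Z9, .Z7, .Z5, .Z4, .Z2, .Z0, .X10, .X7, .X5, .X4, .X2, .X0, .y9, .y8, .y7, .y5, .y3, .p10, .hi, .p10, .hi, .p5,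
   .hi, .p10, .hi, .p8, .hi, .p5, .hi, .xii, .y2, .p, .xii, .y3, .hi, .p8, .tau, .xii, .y6, .p, .xii, .y10, .p, .xii,
   .y1, .y10, .tau, .X0, .xii, .hi, .xii, .y10, .p8, .xii, .y8, .p4, .tau, .xii, .y2, .p4, .xii, .p5, .xii, .y8,
   .taui, .xii, .p8]⟩

theorem h229 : Hd F (g wAd) b229 := hdD (by decide +kernel)
theorem r229_0 : R9 F (g wAd) b229 [] 0 0 := .of (startD 0 1) (by decide +kernel)
theorem r229_1 : R9 F (g wAd) b229 [] 0 1 := .of (startD 0 1) (by decide +kernel)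
theorem r229_2 : R9 F (g wAd) b229 [] 0 2 := .of (startD 0 1) (by decide +kernel)
theorem r229_3 : R9 F (g wAd) b229 [] 1 0 := .of (startD 0 1) (by decide +kernel)
theorem r229_4 : R9 F (g wAd) b229 [] 1 1 := .of (startD 0 1) (by decide +kernel)
theorem r229_5 : R9 F (g wAd) b229 [] 1 2 := .of (startD 0 1) (by decide +kernel)
theorem r229_6 : R9 F (g wAd) b229 [] 2 0 := .of (startD 0 1) (by decide +kernel)
theorem r229_7 : R9 F (g wAd) b229 [] 2 1 := .of (startD 0 1) (by decide +kernel)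
theorem r229_8 : R9 F (g wAd) b229 [] 2 2 := .of (startD 0 1) (by decide +kernel)
theorem g229 : Gd F (g wAd) (0, d229) [] :=
  good9 ok h229 r229_0 r229_1 r229_2 r229_3 r229_4 r229_5 r229_6 r229_7 r229_8

theorem all : AllG F (g wAd) LD22 :=
  .cons g220 (.cons g221 (.cons g222 (.cons g223 (.cons g224 (.cons g225 (.cons g226 (.cons g227 (.cons g228 (.cons g229 (.nil))))))))))

end Cfsg.Agent.BX.No33.Bk.D22
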