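import Cfsg.Agent.BX.No33.Cheap
set_option linter.all false

/-!
# Tests, diagonal case, part 26 (helper5; generated)
-/

set_option autoImplicit false
set_option maxRecDepth 100000
set_option Elab.async false

namespace Cfsg.Agent.BX.No33.Bk.D26

open Cfsg.Agent.H819.U33 Cfsg.Agent.BX.No33.Front

def b260 : Wd := ⟨0, d260,
  [.Z8, .Z7, .Z6, .Z3, .Z1, .Z0, .X9, .X8, .X7, .X2, .X1, .y10, .y9, .y7, .y4, .hi, .p8, .hi, .p7, .hi, .p8, .hi, .p9,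
   .hi, .p3, .hi, .p7, .hi, .xii, .p, .xii, .y2, .p7, .xii, .y4, .tau, .y1, .xii, .p10, .xii, .y1, .y7, .p10, .xii,
   .y4, .taui, .p7, .xii, .y4, .p4, .xii, .y6, .p9, .taui, .xii, .p7, .xii, .p, .hi, .p8, .tau, .xii, .hi, .p8],
  [.Z10, .Z8, .Z5, .Z2, .X9, .X8, .X5, .X3, .X0, .y9, .y5, .y1, .hi, .p6, .hi, .p8, .hi, .p6, .hi, .p3, .hi, .p5,
   .xii, .y2, .p3, .hi, .xii, .p6, .tau, .xii, .hi, .p8, .xii, .y3, .y7, .tau, .y1, .p7, .xii, .p, .xii, .p8, .tau,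
   .xii, .y2, .p9, .xii, .y4, .p8, .tau, .xii, .p3],
  [.z, .Z10, .Z3, .X9, .X7, .X5, .X3, .X0, .y10, .y7, .y6, .y3, .p10, .hi, .p4, .hi, .p6, .hi, .p5, .hi, .p7, .hi, .p,
   .xii, .p10, .xii, .y8, .p10, .xii, .taui, .y1, .xii, .y2, .hi, .xii, .p10, .xii, .y2, .y10, .tau, .X0, .xii, .p4,
   .xii, .p9, .xii, .y1, .hi, .y9, .tau, .xii, .p4, .xii, .p3, .hi, .p2, .y2, .taui, .xii, .p, .hi, .p4]⟩

theorem h260 : Hd F (g wAd) b260 := hdD (by decide +kernel)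
theorem r260_0 : R9 F (g wAd) b260 [] 0 0 := .of (startD 0 1) (by decide +kernel)
theorem r260_1 : R9 F (g wAd) b260 [] 0 1 := .of (startD 0 1) (by decide +kernel)
theorem r260_2 : R9 F (g wAd) b260 [] 0 2 := .of (startD 0 1) (by decide +kernel)
theorem r260_3 : R9 F (g wAd) b260 [] 1 0 := .of (startD 0 1) (by decide +kernel)
theorem r260_4 : R9 F (g wAd) b260 [] 1 1 := .of (startD 0 1) (by decide +kernel)
theorem r260_5 : R9 F (g wAd) b260 [] 1 2 := .of (startD 0 1) (by decide +kernel)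
theorem r260_6 : R9 F (g wAd) b260 [] 2 0 := .of (startD 0 1) (by decide +kernel)
theorem r260_7 : R9 F (g wAd) b260 [] 2 1 := .of (startD 0 1) (by decide +kernel)
theorem r260_8 : R9 F (g wAd) b260 [] 2 2 := .of (startD 0 1) (by decide +kernel)
theorem g260 : Gd F (g wAd) (0, d260) [] :=
  good9 ok h260 r260_0 r260_1 r260_2 r260_3 r260_4 r260_5 r260_6 r260_7 r260_8

def b261 : Wd := ⟨0, d261,
  [.z, .Z10, .Z9, .Z6, .Z4, .X9, .X5, .X4, .X3, .X0, .y10, .y7, .y5, .y4, .y3, .y2, .p9, .hi, .p3, .hi, .p10, .hi,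
   .p9, .hi, .p6, .hi, .p3, .hi, .xii, .hi, .xii, .y6, .p4, .hi, .tau, .xii, .p, .xii, .p2, .hi, .xii, .taui, .xii,
   .p, .xii, .y2, .hi, .xii, .y2, .y3, .taui, .p4, .xii, .p, .xii, .taui, .xii, .p7, .xii, .y1, .p8, .y1, .xii, .y2,
   .taui, .xii, .y7, .p3],
  [.z, .Z8, .Z6, .Z3, .Z1, .X9, .X8, .X7, .X6, .X5, .X4, .X3, .X1, .y8, .y3, .y1, .p9, .hi, .p6, .hi, .p7, .hi, .p3,
   .hi, .p, .hi, .p7, .xii, .p10, .xii, .p5, .y1, .taui, .X0, .y1, .xii, .p9, .xii, .y1, .y3, .p9, .xii, .y5, .tau,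
   .xii, .p5, .xii, .y2, .p, .tau, .xii, .hi, .p8, .hi],
  [.Z9, .Z8, .Z6, .Z5, .Z4, .Z2, .Z1, .X6, .X5, .X4, .X3, .X1, .X0, .y6, .y4, .y3, .y2, .p9, .hi, .p6, .hi, .p10, .hi,
   .p, .hi, .p8, .hi, .xii, .hi, .xii, .y6, .p10, .xii, .taui, .xii, .y6, .p, .xii, .p, .xii, .y1, .y5, .y7, .tau,
   .xii, .y1, .p, .xii, .p, .xii, .y6, .taui, .X0, .p2, .xii, .p5, .xii, .y8, .tau, .xii, .p5, .xii, .p8, .y6, .xii,
   .y1, .tau, .xii, .p, .xii, .y10]⟩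

theorem h261 : Hd F (g wAd) b261 := hdD (by decide +kernel)
theorem r261_0 : R9 F (g wAd) b261 [] 0 0 := .of (startD 0 1) (by decide +kernel)
theorem r261_1 : R9 F (g wAd) b261 [] 0 1 := .of (startD 0 1) (by decide +kernel)
theorem r261_2 : R9 F (g wAd) b261 [] 0 2 := .of (startD 0 1) (by decide +kernel)
theorem r261_3 : R9 F (g wAd) b261 [] 1 0 := .of (startD 0 1) (by decide +kernel)
theorem r261_4 : R9 F (g wAd) b261 [] 1 1 := .of (startD 0 1) (by decide +kernel)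
theorem r261_5 : R9 F (g wAd) b261 [] 1 2 := .of (startD 0 1) (by decide +kernel)
theorem r261_6 : R9 F (g wAd) b261 [] 2 0 := .of (startD 0 1) (by decide +kernel)
theorem r261_7 : R9 F (g wAd) b261 [] 2 1 := .of (startD 0 1) (by decide +kernel)
theorem r261_8 : R9 F (g wAd) b261 [] 2 2 := .of (startD 0 1) (by decide +kernel)
theorem g261 : Gd F (g wAd) (0, d261) [] :=
  good9 ok h261 r261_0 r261_1 r261_2 r261_3 r261_4 r261_5 r261_6 r261_7 r261_8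

def b262 : Wd := ⟨0, d262,
  [.Z8, .Z3, .Z2, .Z1, .X9, .X6, .X5, .X4, .X2, .X1, .y8, .y7, .y6, .y5, .y2, .y1, .hi, .p9, .hi, .p8, .hi, .p, .hi,
   .p, .hi, .p4, .hi, .p5, .hi, .xii, .p10, .xii, .tau, .xii, .y2, .p, .xii, .y1, .hi, .xii, .y4, .y5, .taui, .p8,
   .xii, .y7, .p, .hi, .xii, .p2, .taui, .xii, .p5, .xii, .y7, .p8, .xii, .y1, .y9, .taui, .xii, .p8, .xii, .y5],
  [.z, .Z7, .Z5, .Z4, .Z3, .X10, .X9, .X8, .X6, .X4, .X3, .X2, .X1, .y8, .y7, .y5, .y4, .y3, .p7, .hi, .p6, .hi, .p10,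
   .hi, .p4, .hi, .p, .hi, .p3, .xii, .p10, .xii, .y5, .p2, .xii, .y5, .tau, .X0, .p6, .xii, .p2, .xii, .y2, .p5, .hi,
   .p7, .taui, .xii, .p7, .xii, .y9, .p8, .xii, .y9, .y10, .taui, .xii, .y6, .p7, .xii, .y8],
  [.Z9, .Z6, .Z4, .Z2, .Z1, .X6, .X4, .X3, .X2, .X0, .y10, .y9, .y8, .y6, .y4, .y3, .p10, .hi, .p4, .hi, .p10, .hi,
   .p2, .hi, .p8, .hi, .p3, .xii, .hi, .xii, .y6, .p5, .hi, .p5, .taui, .X0, .p7, .xii, .p10, .xii, .p5, .y3, .tau,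
   .p9, .xii, .p2, .xii, .p, .y10, .taui, .xii, .p9, .xii, .p3, .y9, .xii, .y10, .tau, .xii, .y2, .p10]⟩

theorem h262 : Hd F (g wAd) b262 := hdD (by decide +kernel)
theorem r262_0 : R9 F (g wAd) b262 [] 0 0 := .of (startD 0 1) (by decide +kernel)
theorem r262_1 : R9 F (g wAd) b262 [] 0 1 := .of (startD 0 1) (by decide +kernel)
theorem r262_2 : R9 F (g wAd) b262 [] 0 2 := .of (startD 0 1) (by decide +kernel)
theorem r262_3 : R9 F (g wAd) b262 [] 1 0 := .of (startD 0 1) (by decide +kernel)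
theorem r262_4 : R9 F (g wAd) b262 [] 1 1 := .of (startD 0 1) (by decide +kernel)
theorem r262_5 : R9 F (g wAd) b262 [] 1 2 := .of (startD 0 2) (by decide +kernel)
theorem r262_6 : R9 F (g wAd) b262 [] 2 0 := .of (startD 0 2) (by decide +kernel)
theorem r262_7 : R9 F (g wAd) b262 [] 2 1 := .of (startD 0 1) (by decide +kernel)
theorem r262_8 : R9 F (g wAd) b262 [] 2 2 := .of (startD 0 1) (by decide +kernel)
theorem g262 : Gd F (g wAd) (0, d262) [] :=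
  good9 ok h262 r262_0 r262_1 r262_2 r262_3 r262_4 r262_5 r262_6 r262_7 r262_8

def b263 : Wd := ⟨0, d263,
  [.z, .Z10, .Z9, .Z4, .Z3, .X9, .X8, .X7, .X6, .X2, .y10, .y9, .y7, .y6, .y5, .y4, .p9, .hi, .p, .hi, .p7, .hi, .p8,
   .hi, .xii, .p10, .xii, .y4, .p5, .hi, .p5, .tau, .xii, .y1, .p, .xii, .p, .xii, .y7, .taui, .X0, .y1, .xii, .p9,
   .xii, .y8, .p5, .xii, .p6, .y3, .taui, .xii, .p5, .xii, .p5, .y5, .xii, .y7, .y10, .taui, .xii, .y6, .hi, .p7],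
  [.Z10, .Z9, .Z8, .Z6, .Z5, .Z4, .Z3, .Z2, .Z0, .X6, .X5, .X1, .y5, .y4, .y1, .p2, .hi, .p8, .hi, .p10, .hi, .p, .hi,
   .p6, .tau, .xii, .p, .xii, .hi, .y8, .xii, .y1, .y9, .taui, .y1, .xii, .p3, .xii, .y1, .p, .xii, .y1, .y2, .taui,
   .xii, .p8, .xii, .p4, .xii, .y1, .y4, .tau, .xii, .p4, .hi, .p],
  [.Z10, .Z8, .Z6, .Z3, .X9, .X5, .X1, .X0, .y7, .y4, .y3, .y2, .p10, .hi, .p4, .hi, .p7, .hi, .p9, .hi, .p4, .hi,
   .p5, .hi, .p, .hi, .xii, .p, .xii, .y10, .hi, .p10, .tau, .xii, .y6, .p, .xii, .p, .xii, .y7, .y10, .taui, .X0,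
   .hi, .xii, .p10, .xii, .y7, .p5, .hi, .p9, .tau, .xii, .y2, .p4, .xii, .p5, .xii, .y5, .y9, .tau, .xii, .p8]⟩

theorem h263 : Hd F (g wAd) b263 := hdD (by decide +kernel)
theorem r263_0 : R9 F (g wAd) b263 [] 0 0 := .of (startD 0 1) (by decide +kernel)
theorem r263_1 : R9 F (g wAd) b263 [] 0 1 := .of (startD 0 1) (by decide +kernel)
theorem r263_2 : R9 F (g wAd) b263 [] 0 2 := .of (startD 0 1) (by decide +kernel)
theorem r263_3 : R9 F (g wAd) b263 [] 1 0 := .of (startD 0 1) (by decide +kernel)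
theorem r263_4 : R9 F (g wAd) b263 [] 1 1 := .of (startD 0 1) (by decide +kernel)
theorem r263_5 : R9 F (g wAd) b263 [] 1 2 := .of (startD 0 1) (by decide +kernel)
theorem r263_6 : R9 F (g wAd) b263 [] 2 0 := .of (startD 0 1) (by decide +kernel)
theorem r263_7 : R9 F (g wAd) b263 [] 2 1 := .of (startD 0 1) (by decide +kernel)
theorem r263_8 : R9 F (g wAd) b263 [] 2 2 := .of (startD 0 1) (by decide +kernel)
theorem g263 : Gd F (g wAd) (0, d263) [] :=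
  good9 ok h263 r263_0 r263_1 r263_2 r263_3 r263_4 r263_5 r263_6 r263_7 r263_8

def b264 : Wd := ⟨0, d264,
  [.z, .Z10, .Z9, .Z7, .Z6, .Z3, .Z2, .X10, .X8, .X7, .X2, .y10, .y8, .y6, .y4, .p7, .hi, .p8, .hi, .p7, .hi, .p3,
   .hi, .p10, .hi, .p5, .xii, .p2, .hi, .xii, .y7, .p3, .tau, .xii, .y2, .p, .xii, .y1, .hi, .xii, .y4, .y7, .tau,
   .X0, .p7, .xii, .p8, .xii, .p3, .hi, .p5, .y5, .taui, .xii, .p7, .xii, .y1, .p8, .y9, .xii, .y2, .tau, .xii, .p6,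
   .xii, .y8],
  [.Z10, .Z9, .Z7, .Z5, .Z4, .Z1, .X10, .X7, .X6, .X3, .X1, .X0, .y7, .y4, .y2, .y1, .p4, .hi, .p, .hi, .p3, .hi, .p3,
   .hi, .p6, .hi, .p9, .xii, .y2, .p, .xii, .p5, .xii, .y7, .taui, .xii, .p, .xii, .y3, .hi, .xii, .y6, .y10, .taui,
   .p9, .xii, .y2, .p, .xii, .y1, .hi, .p4, .tau, .xii, .y2, .p, .xii, .y3, .hi, .p],
  [.z, .Z9, .Z8, .Z7, .Z4, .Z3, .Z2, .Z1, .X10, .X9, .X8, .X7, .X5, .X1, .y9, .y6, .y4, .y1, .p10, .hi, .p6, .hi, .p7,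
   .hi, .p7, .hi, .p7, .hi, .p3, .hi, .xii, .hi, .p8, .xii, .p2, .y8, .tau, .xii, .y6, .p, .xii, .p, .xii, .y2, .y6,
   .y10, .tau, .y1, .xii, .p9, .xii, .y1, .y4, .p5, .xii, .y1, .y8, .taui, .xii, .p9, .xii, .y7, .y10, .hi, .xii, .y7]⟩

theorem h264 : Hd F (g wAd) b264 := hdD (by decide +kernel)
theorem r264_0 : R9 F (g wAd) b264 [] 0 0 := .of (startD 0 1) (by decide +kernel)
theorem r264_1 : R9 F (g wAd) b264 [] 0 1 := .of (startD 0 1) (by decide +kernel)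
theorem r264_2 : R9 F (g wAd) b264 [] 0 2 := .of (startD 0 1) (by decide +kernel)
theorem r264_3 : R9 F (g wAd) b264 [] 1 0 := .of (startD 0 1) (by decide +kernel)
theorem r264_4 : R9 F (g wAd) b264 [] 1 1 := .of (startD 0 2) (by decide +kernel)
theorem r264_5 : R9 F (g wAd) b264 [] 1 2 := .of (startD 0 1) (by decide +kernel)
theorem r264_6 : R9 F (g wAd) b264 [] 2 0 := .of (startD 0 2) (by decide +kernel)
theorem r264_7 : R9 F (g wAd) b264 [] 2 1 := .of (startD 0 1) (by decide +kernel)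
theorem r264_8 : R9 F (g wAd) b264 [] 2 2 := .of (startD 0 1) (by decide +kernel)
theorem g264 : Gd F (g wAd) (0, d264) [] :=
  good9 ok h264 r264_0 r264_1 r264_2 r264_3 r264_4 r264_5 r264_6 r264_7 r264_8

def b265 : Wd := ⟨0, d265,
  [.Z10, .Z4, .X10, .X7, .X4, .X1, .X0, .y10, .y8, .y7, .y6, .y5, .y2, .p10, .hi, .p9, .hi, .p4, .hi, .p6, .hi, .p10,
   .hi, .p6, .xii, .p, .xii, .p, .xii, .y1, .y8, .taui, .xii, .p, .xii, .y1, .hi, .xii, .y5, .taui, .xii, .p10, .xii,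
   .y6, .p6, .xii, .y7, .y8, .taui, .xii, .p6, .xii, .p6, .xii, .y1, .y5, .y8, .taui, .xii, .y6, .p10],
  [.Z9, .Z7, .Z6, .Z4, .X9, .X8, .X7, .X6, .X4, .X1, .X0, .y10, .y9, .y6, .y4, .y2, .y1, .hi, .p7, .hi, .p8, .hi, .p7,
   .hi, .p10, .hi, .xii, .p, .xii, .y6, .p9, .tau, .y1, .xii, .p10, .xii, .y5, .p10, .xii, .y2, .y4, .taui, .y1, .p2,
   .xii, .p4, .xii, .y9, .p9, .xii, .y7, .tau, .xii, .p7, .xii, .y1, .hi, .y4],
  [.z, .Z8, .Z7, .Z6, .Z3, .Z2, .Z1, .X9, .X3, .X2, .X1, .X0, .y10, .y8, .y7, .y6, .y4, .y3, .y1, .hi, .p, .hi, .p3,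
   .hi, .p3, .hi, .p6, .xii, .p, .xii, .y2, .hi, .xii, .y3, .y4, .taui, .xii, .y6, .p, .xii, .p, .xii, .y5, .y8,
   .taui, .p4, .xii, .p7, .xii, .p10, .y8, .hi, .p4, .y7, .taui, .xii, .p9, .xii, .y6, .hi, .xii, .y6, .taui]⟩

theorem h265 : Hd F (g wAd) b265 := hdD (by decide +kernel)
theorem r265_0 : R9 F (g wAd) b265 [] 0 0 := .of (startD 0 1) (by decide +kernel)
theorem r265_1 : R9 F (g wAd) b265 [] 0 1 := .of (startD 0 1) (by decide +kernel)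
theorem r265_2 : R9 F (g wAd) b265 [] 0 2 := .of (startD 0 1) (by decide +kernel)
theorem r265_3 : R9 F (g wAd) b265 [] 1 0 := .of (startD 0 1) (by decide +kernel)
theorem r265_4 : R9 F (g wAd) b265 [] 1 1 := .of (startD 0 1) (by decide +kernel)
theorem r265_5 : R9 F (g wAd) b265 [] 1 2 := .of (startD 0 1) (by decide +kernel)
theorem r265_6 : R9 F (g wAd) b265 [] 2 0 := .of (startD 0 1) (by decide +kernel)
theorem r265_7 : R9 F (g wAd) b265 [] 2 1 := .of (startD 0 1) (by decide +kernel)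
theorem r265_8 : R9 F (g wAd) b265 [] 2 2 := .of (startD 0 1) (by decide +kernel)
theorem g265 : Gd F (g wAd) (0, d265) [] :=
  good9 ok h265 r265_0 r265_1 r265_2 r265_3 r265_4 r265_5 r265_6 r265_7 r265_8

def b266 : Wd := ⟨0, d266,
  [.z, .Z10, .Z9, .Z8, .Z7, .Z5, .Z4, .X7, .X6, .X4, .X2, .X1, .y5, .y4, .y1, .p3, .hi, .p7, .hi, .p10, .hi, .p4, .hi,
   .p7, .hi, .p, .xii, .p10, .xii, .p6, .xii, .y4, .y7, .y8, .taui, .xii, .p, .xii, .y1, .hi, .xii, .y3, .y9, .taui,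
   .X0, .hi, .xii, .p8, .xii, .y4, .y5, .y9, .p, .taui, .xii, .p8, .xii, .y5, .y8, .p2, .xii, .y4, .taui, .xii, .y7,
   .p6, .xii],
  [.Z7, .Z6, .Z4, .Z0, .X9, .X6, .X4, .X3, .X1, .y10, .y9, .y5, .y4, .y2, .p10, .hi, .p, .hi, .p8, .hi, .p6, .hi,
   .p10, .hi, .p4, .xii, .p, .xii, .y4, .p, .xii, .y5, .taui, .xii, .y1, .p, .xii, .y10, .p, .xii, .y6, .tau, .X0,
   .p7, .xii, .y2, .p7, .xii, .y4, .p8, .y10, .taui, .xii, .p4, .xii, .y1, .y10, .p7],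
  [.Z7, .Z6, .Z5, .Z4, .Z2, .Z1, .Z0, .X7, .X6, .X4, .X2, .X1, .X0, .y6, .y4, .y2, .y1, .p3, .hi, .p8, .hi, .p6, .hi,
   .p3, .hi, .p10, .hi, .p4, .hi, .xii, .p3, .hi, .xii, .tau, .y1, .xii, .p10, .xii, .y1, .y7, .p10, .xii, .y9, .y10,
   .tau, .xii, .y2, .p, .xii, .y1, .hi, .xii, .y4, .y5, .tau, .X0, .y1, .p8, .xii, .p3, .xii, .y8, .tau, .xii, .p10,
   .hi, .p6, .xii, .y5, .hi, .tau, .xii, .p2]⟩

theorem h266 : Hd F (g wAd) b266 := hdD (by decide +kernel)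
theorem r266_0 : R9 F (g wAd) b266 [] 0 0 := .of (startD 0 1) (by decide +kernel)
theorem r266_1 : R9 F (g wAd) b266 [] 0 1 := .of (startD 0 1) (by decide +kernel)
theorem r266_2 : R9 F (g wAd) b266 [] 0 2 := .of (startD 0 1) (by decide +kernel)
theorem r266_3 : R9 F (g wAd) b266 [] 1 0 := .of (startD 0 1) (by decide +kernel)
theorem r266_4 : R9 F (g wAd) b266 [] 1 1 := .of (startD 0 1) (by decide +kernel)
theorem r266_5 : R9 F (g wAd) b266 [] 1 2 := .of (startD 0 1) (by decide +kernel)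
theorem r266_6 : R9 F (g wAd) b266 [] 2 0 := .of (startD 0 1) (by decide +kernel)
theorem r266_7 : R9 F (g wAd) b266 [] 2 1 := .of (startD 0 1) (by decide +kernel)
theorem r266_8 : R9 F (g wAd) b266 [] 2 2 := .of (startD 0 1) (by decide +kernel)
theorem g266 : Gd F (g wAd) (0, d266) [] :=
  good9 ok h266 r266_0 r266_1 r266_2 r266_3 r266_4 r266_5 r266_6 r266_7 r266_8

def b267 : Wd := ⟨0, d267,
  [.z, .Z10, .Z9, .Z5, .Z3, .Z2, .Z1, .X8, .X6, .X1, .y7, .y6, .y5, .y2, .p10, .hi, .p4, .hi, .p5, .hi, .p7, .hi, .p3,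
   .hi, .p7, .hi, .p, .xii, .hi, .xii, .p6, .xii, .y7, .y10, .taui, .xii, .y1, .p, .xii, .y1, .y6, .p, .xii, .y6,
   .taui, .X0, .p8, .xii, .hi, .xii, .p6, .xii, .y4, .y5, .tau, .xii, .p7, .xii, .y2, .p5, .xii, .y1, .y7, .tau, .xii,
   .p9, .xii, .y6],
  [.Z8, .Z5, .Z4, .Z2, .Z0, .X9, .X7, .X5, .X4, .X3, .X2, .y10, .y9, .y7, .y4, .y2, .y1, .p7, .hi, .p, .hi, .p7, .hi,
   .p9, .hi, .p10, .hi, .p6, .hi, .xii, .p10, .xii, .p6, .xii, .y3, .y4, .taui, .xii, .y2, .p, .xii, .y1, .hi, .xii,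
   .y6, .taui, .p2, .xii, .p9, .xii, .y1, .y2, .y9, .tau, .xii, .p5, .xii, .hi, .p, .hi, .p6, .y8],
  [.Z9, .Z8, .Z6, .Z5, .Z2, .X10, .X8, .X7, .X6, .X5, .X3, .X2, .X1, .X0, .y9, .y7, .y4, .y2, .p3, .hi, .p4, .hi, .p4,
   .hi, .p8, .hi, .p9, .hi, .p9, .xii, .y2, .p, .xii, .y3, .y10, .tau, .xii, .p, .xii, .hi, .y8, .xii, .y7, .y8, .tau,
   .X0, .p10, .xii, .p9, .xii, .y1, .y10, .p7, .tau, .xii, .p9, .xii, .p5, .y7, .xii, .y3]⟩

theorem h267 : Hd F (g wAd) b267 := hdD (by decide +kernel)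
theorem r267_0 : R9 F (g wAd) b267 [] 0 0 := .of (startD 0 1) (by decide +kernel)
theorem r267_1 : R9 F (g wAd) b267 [] 0 1 := .of (startD 0 1) (by decide +kernel)
theorem r267_2 : R9 F (g wAd) b267 [] 0 2 := .of (startD 0 1) (by decide +kernel)
theorem r267_3 : R9 F (g wAd) b267 [] 1 0 := .of (startD 0 1) (by decide +kernel)
theorem r267_4 : R9 F (g wAd) b267 [] 1 1 := .of (startD 0 1) (by decide +kernel)
theorem r267_5 : R9 F (g wAd) b267 [] 1 2 := .of (startD 0 1) (by decide +kernel)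
theorem r267_6 : R9 F (g wAd) b267 [] 2 0 := .of (startD 0 1) (by decide +kernel)
theorem r267_7 : R9 F (g wAd) b267 [] 2 1 := .of (startD 0 1) (by decide +kernel)
theorem r267_8 : R9 F (g wAd) b267 [] 2 2 := .of (startD 0 1) (by decide +kernel)
theorem g267 : Gd F (g wAd) (0, d267) [] :=
  good9 ok h267 r267_0 r267_1 r267_2 r267_3 r267_4 r267_5 r267_6 r267_7 r267_8

def b268 : Wd := ⟨0, d268,
  [.z, .Z7, .Z6, .Z5, .Z4, .Z2, .Z1, .Z0, .X7, .X4, .X3, .X1, .y9, .y8, .y7, .y6, .y3, .y1, .p6, .hi, .p10, .hi, .p5,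
   .hi, .p5, .hi, .p5, .hi, .xii, .p10, .xii, .p9, .y6, .xii, .y7, .taui, .xii, .p, .xii, .y1, .y4, .p2, .hi, .tau,
   .X0, .p2, .xii, .y6, .p5, .xii, .p10, .taui, .xii, .p4, .xii, .y1, .p3, .hi, .p6, .taui, .xii, .p],
  [.z, .Z10, .Z9, .Z8, .Z3, .X10, .X6, .X5, .X0, .y10, .y9, .y8, .y7, .y3, .p7, .hi, .p3, .hi, .p4, .hi, .p10, .hi,
   .p4, .hi, .p3, .xii, .hi, .xii, .p8, .y10, .taui, .y1, .xii, .y2, .hi, .xii, .p10, .xii, .y2, .tau, .X0, .p10,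
   .xii, .p5, .xii, .y5, .p4, .y8, .tau, .xii, .y2, .p3, .hi, .xii, .y2, .p2],
  [.Z9, .Z6, .Z5, .Z4, .Z0, .X10, .X8, .X7, .X0, .y9, .y7, .y6, .y4, .y3, .p6, .hi, .p9, .hi, .p6, .hi, .p3, .hi, .p,
   .hi, .p2, .hi, .xii, .p, .xii, .y3, .y10, .hi, .p4, .taui, .y1, .xii, .y2, .hi, .xii, .p10, .xii, .y8, .taui, .p10,
   .xii, .y2, .p9, .xii, .y10, .tau, .xii, .p7, .xii, .p3, .y6, .y8, .xii, .y2, .tau, .xii, .p, .xii, .y4]⟩

theorem h268 : Hd F (g wAd) b268 := hdD (by decide +kernel)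
theorem r268_0 : R9 F (g wAd) b268 [] 0 0 := .of (startD 0 1) (by decide +kernel)
theorem r268_1 : R9 F (g wAd) b268 [] 0 1 := .of (startD 0 1) (by decide +kernel)
theorem r268_2 : R9 F (g wAd) b268 [] 0 2 := .of (startD 0 1) (by decide +kernel)
theorem r268_3 : R9 F (g wAd) b268 [] 1 0 := .of (startD 0 1) (by decide +kernel)
theorem r268_4 : R9 F (g wAd) b268 [] 1 1 := .of (startD 0 1) (by decide +kernel)
theorem r268_5 : R9 F (g wAd) b268 [] 1 2 := .of (startD 0 1) (by decide +kernel)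
theorem r268_6 : R9 F (g wAd) b268 [] 2 0 := .of (startD 0 1) (by decide +kernel)
theorem r268_7 : R9 F (g wAd) b268 [] 2 1 := .of (startD 0 1) (by decide +kernel)
theorem r268_8 : R9 F (g wAd) b268 [] 2 2 := .of (startD 0 1) (by decide +kernel)
theorem g268 : Gd F (g wAd) (0, d268) [] :=
  good9 ok h268 r268_0 r268_1 r268_2 r268_3 r268_4 r268_5 r268_6 r268_7 r268_8

def b269 : Wd := ⟨0, d269,
  [.Z9, .Z7, .Z6, .Z5, .Z4, .Z1, .X8, .X7, .X5, .X3, .X1, .X0, .y10, .y9, .y8, .y5, .y4, .y3, .p7, .hi, .p7, .hi, .p,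
   .hi, .p6, .hi, .p5, .hi, .xii, .hi, .xii, .p10, .xii, .taui, .y1, .xii, .y1, .hi, .xii, .p10, .xii, .y8, .y9,
   .taui, .xii, .p7, .xii, .p, .xii, .y1, .tau, .xii, .p7, .xii, .y9, .p9, .y5, .xii, .y8, .tau, .xii, .p7, .xii, .y8],
  [.Z10, .Z7, .Z5, .Z4, .Z3, .Z2, .Z1, .X10, .X9, .X8, .X6, .y8, .y4, .y2, .p6, .hi, .p3, .hi, .p6, .hi, .p10, .hi,
   .p7, .hi, .p4, .hi, .xii, .p10, .xii, .y6, .p8, .xii, .tau, .xii, .y6, .p, .xii, .p, .xii, .y5, .y8, .taui, .X0,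
   .p10, .xii, .y5, .p6, .xii, .p2, .y7, .hi, .p, .taui, .xii, .p2, .xii, .p10, .y10, .xii, .y1],
  [.Z5, .Z3, .Z2, .Z1, .X9, .X8, .X7, .X5, .X4, .X3, .X1, .y10, .y7, .y3, .hi, .p10, .hi, .p, .hi, .p, .hi, .p8, .xii,
   .p2, .hi, .tau, .xii, .p, .xii, .y1, .y10, .hi, .xii, .y7, .y10, .taui, .y1, .xii, .p3, .xii, .y3, .hi, .xii, .y1,
   .p4, .tau, .xii, .p8, .xii, .y3, .y5, .p6, .hi]⟩

theorem h269 : Hd F (g wAd) b269 := hdD (by decide +kernel)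
theorem r269_0 : R9 F (g wAd) b269 [] 0 0 := .of (startD 0 1) (by decide +kernel)
theorem r269_1 : R9 F (g wAd) b269 [] 0 1 := .of (startD 0 1) (by decide +kernel)
theorem r269_2 : R9 F (g wAd) b269 [] 0 2 := .of (startD 0 1) (by decide +kernel)
theorem r269_3 : R9 F (g wAd) b269 [] 1 0 := .of (startD 0 1) (by decide +kernel)
theorem r269_4 : R9 F (g wAd) b269 [] 1 1 := .of (startD 0 1) (by decide +kernel)
theorem r269_5 : R9 F (g wAd) b269 [] 1 2 := .of (startD 0 1) (by decide +kernel)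
theorem r269_6 : R9 F (g wAd) b269 [] 2 0 := .of (startD 0 1) (by decide +kernel)
theorem r269_7 : R9 F (g wAd) b269 [] 2 1 := .of (startD 0 1) (by decide +kernel)
theorem r269_8 : R9 F (g wAd) b269 [] 2 2 := .of (startD 0 1) (by decide +kernel)
theorem g269 : Gd F (g wAd) (0, d269) [] :=
  good9 ok h269 r269_0 r269_1 r269_2 r269_3 r269_4 r269_5 r269_6 r269_7 r269_8

theorem all : AllG F (g wAd) LD26 :=
  .cons g260 (.cons g261 (.cons g262 (.cons g263 (.cons g264 (.cons g265 (.cons g266 (.cons g267 (.cons g268 (.cons g269 (.nil))))))))))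

end Cfsg.Agent.BX.No33.Bk.D26
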