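import Cfsg.Agent.BX.No33.Cheap
set_option linter.all false

/-!
# Tests, diagonal case, part 28 (helper5; generated)
-/

set_option autoImplicit false
set_option maxRecDepth 100000
set_option Elab.async false

namespace Cfsg.Agent.BX.No33.Bk.D28

open Cfsg.Agent.H819.U33 Cfsg.Agent.BX.No33.Front

def b280 : Wd := ⟨0, d280,
  [.Z10, .Z8, .Z5, .Z1, .Z0, .X10, .X4, .X3, .X2, .X1, .X0, .y10, .y9, .y7, .p6, .hi, .p6, .hi, .p6, .hi, .p4, .hi,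
   .xii, .p, .xii, .p7, .xii, .y9, .tau, .p4, .xii, .y1, .p4, .xii, .y1, .y8, .tau, .xii, .p9, .xii, .y7, .hi, .y7,
   .p10, .tau, .xii, .y2, .p2, .hi],
  [.z, .Z9, .Z6, .Z3, .Z2, .Z0, .X10, .X8, .X6, .X5, .X1, .y9, .y6, .y3, .hi, .p8, .hi, .p7, .hi, .p4, .hi, .p, .hi,
   .xii, .p2, .hi, .tau, .xii, .p, .xii, .hi, .y8, .xii, .y1, .y9, .taui, .X0, .y1, .xii, .y2, .p7, .xii, .p, .xii,
   .y2, .taui, .xii, .p5, .xii, .p8, .y2, .y7, .xii, .y2, .tau, .xii, .y2, .p5],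
  [.z, .Z8, .Z7, .Z6, .Z5, .Z4, .Z3, .Z0, .X9, .X8, .X7, .X5, .X2, .X1, .y9, .y7, .y6, .y4, .y1, .hi, .p6, .hi, .p8,
   .hi, .p3, .hi, .p9, .hi, .p5, .xii, .p, .xii, .y4, .p, .xii, .y6, .y10, .tau, .xii, .p, .xii, .y4, .hi, .xii, .y3,
   .tau, .X0, .p10, .xii, .y2, .p9, .xii, .y5, .p3, .hi, .tau, .xii, .p7, .xii, .p7, .y8, .xii, .y4, .taui, .xii, .y4,
   .p4]⟩

theorem h280 : Hd F (g wAd) b280 := hdD (by decide +kernel)
theorem r280_0 : R9 F (g wAd) b280 [] 0 0 := .of (startD 0 1) (by decide +kernel)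
theorem r280_1 : R9 F (g wAd) b280 [] 0 1 := .of (startD 0 1) (by decide +kernel)
theorem r280_2 : R9 F (g wAd) b280 [] 0 2 := .of (startD 0 1) (by decide +kernel)
theorem r280_3 : R9 F (g wAd) b280 [] 1 0 := .of (startD 0 1) (by decide +kernel)
theorem r280_4 : R9 F (g wAd) b280 [] 1 1 := .of (startD 0 1) (by decide +kernel)
theorem r280_5 : R9 F (g wAd) b280 [] 1 2 := .of (startD 0 1) (by decide +kernel)
theorem r280_6 : R9 F (g wAd) b280 [] 2 0 := .of (startD 0 1) (by decide +kernel)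
theorem r280_7 : R9 F (g wAd) b280 [] 2 1 := .of (startD 0 1) (by decide +kernel)
theorem r280_8 : R9 F (g wAd) b280 [] 2 2 := .of (startD 0 1) (by decide +kernel)
theorem g280 : Gd F (g wAd) (0, d280) [] :=
  good9 ok h280 r280_0 r280_1 r280_2 r280_3 r280_4 r280_5 r280_6 r280_7 r280_8

def b281 : Wd := ⟨0, d281,
  [.z, .Z8, .Z7, .Z6, .Z3, .Z2, .Z1, .X10, .X9, .X8, .X4, .X2, .y10, .y7, .y5, .y4, .y3, .hi, .p7, .hi, .p6, .hi, .p6,
   .hi, .p3, .hi, .p7, .hi, .p2, .hi, .xii, .p10, .xii, .y4, .p10, .xii, .y9, .y10, .taui, .y1, .xii, .p10, .xii, .y5,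
   .p10, .xii, .y2, .y8, .tau, .p8, .xii, .p2, .y3, .xii, .p, .xii, .y7, .tau, .xii, .p2, .xii, .p5, .hi, .p7, .y5,
   .taui, .xii, .p10, .hi, .p7],
  [.Z10, .Z8, .Z7, .Z6, .Z5, .Z3, .X10, .X5, .X3, .X0, .y9, .y8, .y3, .y2, .y1, .hi, .p5, .hi, .p, .hi, .p3, .hi, .p6,
   .hi, .p7, .hi, .tau, .xii, .p, .xii, .hi, .y8, .xii, .y4, .y7, .y8, .taui, .p5, .xii, .y2, .p7, .xii, .hi, .y5,
   .p6, .taui, .xii, .p9, .xii, .y5, .p, .y1, .taui, .xii, .y2, .p, .hi, .p4],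
  [.Z10, .Z5, .Z4, .Z3, .X10, .X7, .X6, .X5, .X3, .X1, .X0, .y9, .y8, .y5, .y4, .y2, .y1, .p9, .hi, .p10, .hi, .p4,
   .hi, .p3, .hi, .p5, .hi, .p8, .xii, .hi, .p8, .xii, .p2, .y10, .tau, .xii, .y2, .p, .xii, .y2, .hi, .xii, .y3,
   .taui, .X0, .y1, .xii, .p, .xii, .y3, .p7, .xii, .p8, .tau, .xii, .p7, .xii, .y1, .y4, .p, .hi, .p10, .tau, .xii,
   .y2, .p]⟩

theorem h281 : Hd F (g wAd) b281 := hdD (by decide +kernel)
theorem r281_0 : R9 F (g wAd) b281 [] 0 0 := .of (startD 0 1) (by decide +kernel)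
theorem r281_1 : R9 F (g wAd) b281 [] 0 1 := .of (startD 0 1) (by decide +kernel)
theorem r281_2 : R9 F (g wAd) b281 [] 0 2 := .of (startD 0 1) (by decide +kernel)
theorem r281_3 : R9 F (g wAd) b281 [] 1 0 := .of (startD 0 1) (by decide +kernel)
theorem r281_4 : R9 F (g wAd) b281 [] 1 1 := .of (startD 0 1) (by decide +kernel)
theorem r281_5 : R9 F (g wAd) b281 [] 1 2 := .of (startD 0 1) (by decide +kernel)
theorem r281_6 : R9 F (g wAd) b281 [] 2 0 := .of (startD 0 1) (by decide +kernel)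
theorem r281_7 : R9 F (g wAd) b281 [] 2 1 := .of (startD 0 1) (by decide +kernel)
theorem r281_8 : R9 F (g wAd) b281 [] 2 2 := .of (startD 0 1) (by decide +kernel)
theorem g281 : Gd F (g wAd) (0, d281) [] :=
  good9 ok h281 r281_0 r281_1 r281_2 r281_3 r281_4 r281_5 r281_6 r281_7 r281_8

def b282 : Wd := ⟨0, d282,
  [.z, .Z10, .Z9, .Z6, .Z3, .Z2, .Z0, .X10, .X8, .X7, .X5, .X4, .X3, .X0, .y8, .y5, .y3, .p8, .hi, .p7, .hi, .p4, .hi,
   .p4, .hi, .p5, .hi, .p, .hi, .p8, .xii, .hi, .xii, .p8, .xii, .y4, .taui, .y1, .xii, .p10, .xii, .y4, .p10, .xii,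
   .y8, .y9, .taui, .y1, .xii, .p9, .xii, .y4, .p5, .xii, .y4, .taui, .xii, .y2, .p5, .xii, .y6, .p10, .taui, .xii,
   .p7],
  [.Z10, .Z9, .Z5, .Z4, .Z3, .X7, .X6, .X5, .X3, .X1, .y5, .y3, .y2, .p9, .hi, .p7, .hi, .p7, .hi, .p8, .hi, .p5, .hi,
   .p7, .hi, .xii, .p, .xii, .hi, .p10, .taui, .xii, .y1, .p, .xii, .y4, .y10, .p, .xii, .y7, .taui, .y1, .p7, .xii,
   .p7, .xii, .y8, .p6, .taui, .xii, .y2, .p5, .hi, .xii, .y1, .p2],
  [.Z9, .Z7, .Z5, .Z3, .Z1, .Z0, .X10, .X8, .X7, .X6, .X5, .X1, .X0, .y10, .y4, .y3, .p7, .hi, .p8, .hi, .p5, .hi,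
   .p7, .hi, .p9, .hi, .p, .hi, .xii, .hi, .xii, .p6, .xii, .y6, .taui, .xii, .y2, .p, .xii, .y1, .hi, .xii, .y7,
   .tau, .X0, .xii, .p7, .xii, .y6, .p9, .xii, .y2, .taui, .xii, .p5, .xii, .p8, .xii, .y2, .y8, .tau, .xii, .y2, .hi]⟩

theorem h282 : Hd F (g wAd) b282 := hdD (by decide +kernel)
theorem r282_0 : R9 F (g wAd) b282 [] 0 0 := .of (startD 0 1) (by decide +kernel)
theorem r282_1 : R9 F (g wAd) b282 [] 0 1 := .of (startD 0 1) (by decide +kernel)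
theorem r282_2 : R9 F (g wAd) b282 [] 0 2 := .of (startD 0 1) (by decide +kernel)
theorem r282_3 : R9 F (g wAd) b282 [] 1 0 := .of (startD 0 1) (by decide +kernel)
theorem r282_4 : R9 F (g wAd) b282 [] 1 1 := .of (startD 0 1) (by decide +kernel)
theorem r282_5 : R9 F (g wAd) b282 [] 1 2 := .of (startD 0 1) (by decide +kernel)
theorem r282_6 : R9 F (g wAd) b282 [] 2 0 := .of (startD 0 1) (by decide +kernel)
theorem r282_7 : R9 F (g wAd) b282 [] 2 1 := .of (startD 0 1) (by decide +kernel)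
theorem r282_8 : R9 F (g wAd) b282 [] 2 2 := .of (startD 0 1) (by decide +kernel)
theorem g282 : Gd F (g wAd) (0, d282) [] :=
  good9 ok h282 r282_0 r282_1 r282_2 r282_3 r282_4 r282_5 r282_6 r282_7 r282_8

def b283 : Wd := ⟨0, d283,
  [.z, .Z9, .Z8, .Z3, .Z1, .X10, .X3, .X1, .X0, .y7, .y6, .y2, .p10, .hi, .p3, .hi, .p10, .hi, .p10, .hi, .p8, .hi,
   .p7, .hi, .p3, .xii, .p10, .xii, .p9, .xii, .y2, .y7, .tau, .y1, .xii, .y2, .hi, .xii, .p10, .xii, .taui, .hi,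
   .xii, .p2, .xii, .y9, .hi, .p5, .tau, .xii, .p7, .xii, .p3, .hi, .y5, .taui, .xii, .y2, .p2, .hi],
  [.Z9, .Z6, .Z3, .Z1, .X10, .X9, .X4, .X2, .y7, .y6, .p7, .hi, .p5, .hi, .p10, .hi, .p7, .hi, .p, .xii, .y2, .hi,
   .p8, .xii, .y2, .tau, .y1, .xii, .y1, .hi, .xii, .p10, .xii, .y9, .tau, .p5, .xii, .y7, .p6, .xii, .y2, .p3, .hi,
   .tau, .xii, .y2, .p4, .xii, .y6, .p10, .xii, .taui, .xii, .y6, .p8],
  [.z, .Z7, .Z6, .Z5, .Z3, .Z2, .X7, .X6, .X5, .X4, .X1, .X0, .y9, .y8, .y2, .p8, .hi, .p6, .hi, .p7, .hi, .p3, .hi,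
   .p4, .hi, .xii, .y2, .p, .xii, .y2, .hi, .xii, .y1, .tau, .xii, .p, .xii, .y1, .hi, .xii, .y1, .y10, .tau, .xii,
   .p2, .xii, .p4, .xii, .p, .y8, .y9, .tau, .xii, .y2, .p8, .xii, .y6, .p2, .xii, .y4, .tau, .xii, .p3]⟩

theorem h283 : Hd F (g wAd) b283 := hdD (by decide +kernel)
theorem r283_0 : R9 F (g wAd) b283 [] 0 0 := .of (startD 0 1) (by decide +kernel)
theorem r283_1 : R9 F (g wAd) b283 [] 0 1 := .of (startD 0 1) (by decide +kernel)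
theorem r283_2 : R9 F (g wAd) b283 [] 0 2 := .of (startD 0 1) (by decide +kernel)
theorem r283_3 : R9 F (g wAd) b283 [] 1 0 := .of (startD 0 1) (by decide +kernel)
theorem r283_4 : R9 F (g wAd) b283 [] 1 1 := .of (startD 0 1) (by decide +kernel)
theorem r283_5 : R9 F (g wAd) b283 [] 1 2 := .of (startD 0 1) (by decide +kernel)
theorem r283_6 : R9 F (g wAd) b283 [] 2 0 := .of (startD 0 1) (by decide +kernel)
theorem r283_7 : R9 F (g wAd) b283 [] 2 1 := .of (startD 0 1) (by decide +kernel)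
theorem r283_8 : R9 F (g wAd) b283 [] 2 2 := .of (startD 0 1) (by decide +kernel)
theorem g283 : Gd F (g wAd) (0, d283) [] :=
  good9 ok h283 r283_0 r283_1 r283_2 r283_3 r283_4 r283_5 r283_6 r283_7 r283_8

def b284 : Wd := ⟨0, d284,
  [.Z8, .Z7, .Z6, .Z4, .Z2, .Z1, .X10, .X7, .X6, .X5, .X1, .p5, .hi, .p7, .hi, .p10, .hi, .p5, .hi, .p3, .hi, .p2,
   .hi, .xii, .hi, .p4, .hi, .p4, .tau, .X0, .xii, .p5, .xii, .y8, .p7, .xii, .y8, .taui, .xii, .y2, .p7, .xii, .y2,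
   .taui, .xii, .p],
  [.Z10, .Z7, .Z6, .Z5, .Z4, .Z3, .Z1, .X9, .X7, .X5, .X3, .X0, .y9, .y8, .y5, .y4, .y3, .y1, .p2, .hi, .p8, .hi, .p9,
   .hi, .p8, .hi, .p10, .hi, .xii, .y2, .hi, .xii, .p10, .taui, .xii, .y6, .p, .xii, .y2, .p, .xii, .y4, .y5, .tau,
   .X0, .p8, .xii, .p3, .xii, .y1, .hi, .p4, .hi, .tau, .xii, .p5, .xii, .y4, .y8, .p5, .xii, .y10, .tau],
  [.z, .Z10, .Z6, .Z3, .Z2, .Z1, .Z0, .X10, .X2, .X0, .y10, .y7, .y6, .y5, .y4, .y3, .p6, .hi, .p4, .hi, .p8, .hi,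
   .p10, .hi, .p5, .xii, .p3, .hi, .xii, .y8, .tau, .xii, .p, .xii, .y4, .hi, .xii, .y1, .y10, .taui, .xii, .p6, .xii,
   .y1, .y9, .p10, .xii, .y1, .y9, .tau, .xii, .p9, .xii, .y3, .p9, .xii, .y2, .tau, .xii, .p, .xii, .y8]⟩

theorem h284 : Hd F (g wAd) b284 := hdD (by decide +kernel)
theorem r284_0 : R9 F (g wAd) b284 [] 0 0 := .of (startD 0 1) (by decide +kernel)
theorem r284_1 : R9 F (g wAd) b284 [] 0 1 := .of (startD 0 1) (by decide +kernel)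
theorem r284_2 : R9 F (g wAd) b284 [] 0 2 := .of (startD 0 1) (by decide +kernel)
theorem r284_3 : R9 F (g wAd) b284 [] 1 0 := .of (startD 0 1) (by decide +kernel)
theorem r284_4 : R9 F (g wAd) b284 [] 1 1 := .of (startD 0 1) (by decide +kernel)
theorem r284_5 : R9 F (g wAd) b284 [] 1 2 := .of (startD 0 1) (by decide +kernel)
theorem r284_6 : R9 F (g wAd) b284 [] 2 0 := .of (startD 0 1) (by decide +kernel)
theorem r284_7 : R9 F (g wAd) b284 [] 2 1 := .of (startD 0 1) (by decide +kernel)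
theorem r284_8 : R9 F (g wAd) b284 [] 2 2 := .of (startD 0 1) (by decide +kernel)
theorem g284 : Gd F (g wAd) (0, d284) [] :=
  good9 ok h284 r284_0 r284_1 r284_2 r284_3 r284_4 r284_5 r284_6 r284_7 r284_8

def b285 : Wd := ⟨0, d285,
  [.Z6, .Z3, .Z1, .X10, .X7, .X3, .X2, .X1, .X0, .y10, .y8, .y7, .y6, .y2, .p3, .hi, .p10, .hi, .p8, .hi, .p3, .hi,
   .p10, .hi, .p3, .hi, .xii, .hi, .xii, .p10, .y8, .xii, .y10, .taui, .xii, .p, .xii, .y2, .hi, .xii, .y5, .tau, .X0,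
   .hi, .xii, .p4, .xii, .p5, .y8, .xii, .tau, .xii, .p10, .hi, .p6, .xii, .hi, .y4, .p7, .tau, .xii, .y2, .hi, .p6],
  [.Z8, .Z6, .Z4, .Z3, .Z1, .Z0, .X6, .X5, .X4, .X3, .X2, .X0, .y10, .y9, .y8, .y7, .y4, .y3, .y2, .hi, .p4, .hi, .p,
   .hi, .p2, .xii, .y2, .hi, .xii, .p9, .xii, .y1, .tau, .xii, .y2, .p, .xii, .y1, .hi, .xii, .y5, .tau, .p5, .xii,
   .y7, .p7, .xii, .y6, .y10, .p, .taui, .xii, .p7, .xii, .p, .hi, .p5],
  [.Z1, .Z0, .X10, .X8, .X7, .X5, .X3, .X1, .y10, .y9, .y8, .y7, .y5, .y4, .y2, .hi, .p5, .hi, .p5, .hi, .p, .hi, .p,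
   .hi, .p6, .xii, .p, .xii, .p9, .y1, .xii, .taui, .xii, .y2, .p, .xii, .y1, .hi, .xii, .y2, .y3, .taui, .X0, .p7,
   .xii, .y2, .p5, .hi, .xii, .p8, .taui, .xii, .p7, .xii, .y4, .y10, .p3, .xii, .y2, .taui, .xii]⟩

theorem h285 : Hd F (g wAd) b285 := hdD (by decide +kernel)
theorem r285_0 : R9 F (g wAd) b285 [] 0 0 := .of (startD 0 1) (by decide +kernel)
theorem r285_1 : R9 F (g wAd) b285 [] 0 1 := .of (startD 0 1) (by decide +kernel)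
theorem r285_2 : R9 F (g wAd) b285 [] 0 2 := .of (startD 0 1) (by decide +kernel)
theorem r285_3 : R9 F (g wAd) b285 [] 1 0 := .of (startD 0 1) (by decide +kernel)
theorem r285_4 : R9 F (g wAd) b285 [] 1 1 := .of (startD 0 1) (by decide +kernel)
theorem r285_5 : R9 F (g wAd) b285 [] 1 2 := .of (startD 0 1) (by decide +kernel)
theorem r285_6 : R9 F (g wAd) b285 [] 2 0 := .of (startD 0 1) (by decide +kernel)
theorem r285_7 : R9 F (g wAd) b285 [] 2 1 := .of (startD 0 1) (by decide +kernel)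
theorem r285_8 : R9 F (g wAd) b285 [] 2 2 := .of (startD 0 1) (by decide +kernel)
theorem g285 : Gd F (g wAd) (0, d285) [] :=
  good9 ok h285 r285_0 r285_1 r285_2 r285_3 r285_4 r285_5 r285_6 r285_7 r285_8

def b286 : Wd := ⟨0, d286,
  [.z, .Z10, .Z9, .Z8, .Z7, .Z2, .Z1, .Z0, .X9, .X5, .X1, .y10, .y8, .y7, .y6, .y5, .y3, .y2, .y1, .p9, .hi, .p10,
   .hi, .p6, .hi, .p8, .hi, .p, .hi, .p5, .xii, .p, .xii, .p8, .y1, .xii, .y1, .taui, .xii, .p6, .xii, .y6, .hi, .xii,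
   .p, .tau, .p7, .xii, .p2, .y7, .xii, .p2, .xii, .y4, .taui, .xii, .hi, .p6, .xii, .p4, .hi, .p4, .y10, .taui, .xii,
   .y2, .hi, .p6],
  [.Z9, .Z8, .Z6, .Z3, .Z1, .Z0, .X9, .X7, .X6, .X3, .X2, .X0, .y8, .y5, .y4, .y2, .p6, .hi, .p9, .hi, .p4, .hi, .p,
   .hi, .p7, .hi, .p4, .xii, .p2, .hi, .xii, .y5, .y9, .p3, .taui, .xii, .p, .xii, .y1, .hi, .xii, .y6, .y10, .taui,
   .X0, .p10, .xii, .y4, .p9, .xii, .p4, .y8, .taui, .xii, .p3, .xii, .y3, .p7, .xii, .y2, .taui, .xii, .p8],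
  [.Z10, .Z8, .Z7, .Z6, .Z5, .Z3, .Z2, .X9, .X8, .X4, .X1, .X0, .y9, .y5, .y3, .hi, .p9, .hi, .p10, .hi, .p3, .hi,
   .p4, .hi, .p, .xii, .hi, .p8, .tau, .xii, .p, .xii, .y1, .y6, .hi, .xii, .y4, .y7, .taui, .p4, .xii, .p9, .xii,
   .y3, .p2, .hi, .y7, .p6, .taui, .xii, .hi, .p6, .xii, .y1, .y2, .p6, .tau, .xii, .y2, .p3]⟩

theorem h286 : Hd F (g wAd) b286 := hdD (by decide +kernel)
theorem r286_0 : R9 F (g wAd) b286 [] 0 0 := .of (startD 0 2) (by decide +kernel)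
theorem r286_1 : R9 F (g wAd) b286 [] 0 1 := .of (startD 0 1) (by decide +kernel)
theorem r286_2 : R9 F (g wAd) b286 [] 0 2 := .of (startD 0 1) (by decide +kernel)
theorem r286_3 : R9 F (g wAd) b286 [] 1 0 := .of (startD 0 1) (by decide +kernel)
theorem r286_4 : R9 F (g wAd) b286 [] 1 1 := .of (startD 0 1) (by decide +kernel)
theorem r286_5 : R9 F (g wAd) b286 [] 1 2 := .of (startD 0 1) (by decide +kernel)
theorem r286_6 : R9 F (g wAd) b286 [] 2 0 := .of (startD 0 1) (by decide +kernel)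
theorem r286_7 : R9 F (g wAd) b286 [] 2 1 := .of (startD 0 1) (by decide +kernel)
theorem r286_8 : R9 F (g wAd) b286 [] 2 2 := .of (startD 0 1) (by decide +kernel)
theorem g286 : Gd F (g wAd) (0, d286) [] :=
  good9 ok h286 r286_0 r286_1 r286_2 r286_3 r286_4 r286_5 r286_6 r286_7 r286_8

def b287 : Wd := ⟨0, d287,
  [.z, .Z9, .Z8, .Z7, .Z3, .Z1, .Z0, .X9, .X8, .X6, .X3, .X1, .X0, .y6, .y5, .y2, .p5, .hi, .p8, .hi, .p4, .hi, .p4,
   .hi, .p10, .hi, .p, .hi, .taui, .y1, .xii, .p10, .xii, .y4, .p10, .xii, .y2, .y10, .taui, .y1, .xii, .p10, .xii,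
   .p10, .y7, .xii, .y4, .y8, .taui, .X0, .p5, .xii, .y2, .p7, .xii, .y7, .tau, .xii, .y2, .p4, .xii, .y3, .p8, .xii,
   .y4, .tau, .xii, .p4],
  [.z, .Z10, .Z9, .Z8, .Z7, .Z5, .Z2, .Z0, .X9, .X7, .X6, .y10, .y9, .y8, .y7, .y6, .y1, .p2, .hi, .p8, .hi, .p9, .hi,
   .p8, .hi, .p7, .hi, .xii, .p, .xii, .y10, .p7, .xii, .tau, .y1, .xii, .y2, .hi, .xii, .p10, .xii, .y10, .taui, .X0,
   .y1, .xii, .p5, .xii, .y6, .p5, .xii, .y10, .taui, .xii, .p8, .xii, .y6, .p7, .taui, .xii, .y2],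
  [.Z10, .Z8, .Z4, .Z0, .X10, .X3, .X2, .X1, .y10, .y9, .y8, .y7, .y6, .y5, .y3, .y2, .p8, .hi, .p9, .hi, .p4, .hi,
   .p4, .hi, .p10, .hi, .p5, .xii, .p10, .xii, .y7, .p8, .tau, .X0, .xii, .p3, .xii, .hi, .xii, .p8, .taui, .y1, .p6,
   .xii, .p6, .xii, .hi, .p10, .taui, .xii, .p4, .xii, .p4, .y6, .xii, .y2, .tau, .xii, .p9]⟩

theorem h287 : Hd F (g wAd) b287 := hdD (by decide +kernel)
theorem r287_0 : R9 F (g wAd) b287 [] 0 0 := .of (startD 0 1) (by decide +kernel)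
theorem r287_1 : R9 F (g wAd) b287 [] 0 1 := .of (startD 0 1) (by decide +kernel)
theorem r287_2 : R9 F (g wAd) b287 [] 0 2 := .of (startD 0 2) (by decide +kernel)
theorem r287_3 : R9 F (g wAd) b287 [] 1 0 := .of (startD 0 1) (by decide +kernel)
theorem r287_4 : R9 F (g wAd) b287 [] 1 1 := .of (startD 0 1) (by decide +kernel)
theorem r287_5 : R9 F (g wAd) b287 [] 1 2 := .of (startD 0 1) (by decide +kernel)
theorem r287_6 : R9 F (g wAd) b287 [] 2 0 := .of (startD 0 1) (by decide +kernel)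
theorem r287_7 : R9 F (g wAd) b287 [] 2 1 := .of (startD 0 1) (by decide +kernel)
theorem r287_8 : R9 F (g wAd) b287 [] 2 2 := .of (startD 0 1) (by decide +kernel)
theorem g287 : Gd F (g wAd) (0, d287) [] :=
  good9 ok h287 r287_0 r287_1 r287_2 r287_3 r287_4 r287_5 r287_6 r287_7 r287_8

def b288 : Wd := ⟨0, d288,
  [.Z10, .Z9, .Z7, .Z6, .Z4, .X8, .X6, .X5, .X4, .X3, .X0, .y8, .y7, .y5, .y3, .y2, .p7, .hi, .p10, .hi, .p3, .hi,
   .p3, .hi, .p6, .hi, .p5, .xii, .p, .xii, .y3, .taui, .y1, .xii, .y1, .hi, .xii, .p10, .xii, .y9, .taui, .y1, .p9,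
   .xii, .y9, .p2, .hi, .xii, .y2, .tau, .xii, .p9, .xii, .y9, .p8, .xii, .y4, .y6, .taui, .xii, .y7, .p10],
  [.Z10, .Z9, .Z8, .Z7, .Z5, .Z3, .Z0, .X10, .X8, .X6, .X2, .y10, .y9, .y5, .y3, .y2, .p7, .hi, .p5, .hi, .p10, .hi,
   .p9, .xii, .p10, .xii, .y9, .taui, .xii, .y6, .p, .xii, .y10, .p, .xii, .y7, .y10, .tau, .y1, .xii, .p9, .xii, .y2,
   .p9, .xii, .y2, .y3, .tau, .xii, .p2, .xii, .y4, .hi, .p8, .taui, .xii, .y2, .p],
  [.Z5, .Z4, .Z2, .Z1, .Z0, .X10, .X8, .X7, .X6, .X5, .X0, .y10, .y8, .y4, .y3, .y2, .y1, .p9, .hi, .p7, .hi, .p6,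
   .hi, .p7, .hi, .p4, .hi, .p10, .xii, .p10, .xii, .p9, .xii, .y1, .taui, .y1, .xii, .y2, .hi, .xii, .y10, .p10,
   .xii, .y4, .taui, .xii, .p3, .xii, .y3, .p2, .xii, .y6, .p2, .tau, .xii, .p6, .xii, .y2, .p10, .xii, .y8, .y9,
   .taui, .xii, .p2, .xii]⟩

theorem h288 : Hd F (g wAd) b288 := hdD (by decide +kernel)
theorem r288_0 : R9 F (g wAd) b288 [] 0 0 := .of (startD 0 1) (by decide +kernel)
theorem r288_1 : R9 F (g wAd) b288 [] 0 1 := .of (startD 0 1) (by decide +kernel)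
theorem r288_2 : R9 F (g wAd) b288 [] 0 2 := .of (startD 0 1) (by decide +kernel)
theorem r288_3 : R9 F (g wAd) b288 [] 1 0 := .of (startD 0 1) (by decide +kernel)
theorem r288_4 : R9 F (g wAd) b288 [] 1 1 := .of (startD 0 1) (by decide +kernel)
theorem r288_5 : R9 F (g wAd) b288 [] 1 2 := .of (startD 0 1) (by decide +kernel)
theorem r288_6 : R9 F (g wAd) b288 [] 2 0 := .of (startD 0 1) (by decide +kernel)
theorem r288_7 : R9 F (g wAd) b288 [] 2 1 := .of (startD 0 1) (by decide +kernel)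
theorem r288_8 : R9 F (g wAd) b288 [] 2 2 := .of (startD 0 1) (by decide +kernel)
theorem g288 : Gd F (g wAd) (0, d288) [] :=
  good9 ok h288 r288_0 r288_1 r288_2 r288_3 r288_4 r288_5 r288_6 r288_7 r288_8

def b289 : Wd := ⟨0, d289,
  [.Z10, .Z9, .Z6, .Z4, .X10, .X0, .y10, .y8, .y7, .y5, .y4, .hi, .p2, .hi, .p10, .hi, .p8, .hi, .p3, .hi, .p6, .hi,
   .p7, .hi, .xii, .p, .xii, .p9, .y1, .xii, .tau, .xii, .p, .xii, .y1, .y6, .hi, .xii, .y5, .tau, .p10, .xii, .p9,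
   .xii, .p3, .y5, .xii, .y9, .taui, .xii, .p2, .xii, .y3, .p, .hi, .p6, .taui, .xii, .p8],
  [.z, .Z10, .Z8, .Z7, .Z6, .Z3, .Z2, .Z0, .X5, .X2, .y8, .y7, .y5, .y4, .y3, .y1, .p7, .hi, .p10, .hi, .p2, .hi, .p6,
   .hi, .p10, .hi, .p, .xii, .y2, .p3, .hi, .taui, .xii, .y2, .p, .xii, .y3, .y10, .hi, .xii, .y6, .tau, .X0, .xii,
   .p2, .xii, .p4, .y8, .xii, .p4, .y6, .taui, .xii, .p5, .xii, .y4, .y8, .y9, .hi, .tau, .xii, .p7],
  [.z, .Z10, .Z9, .Z8, .Z6, .Z5, .Z4, .Z0, .X9, .X7, .X5, .X3, .p9, .hi, .p8, .hi, .p8, .hi, .p4, .hi, .p8, .hi, .p2,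
   .hi, .xii, .p10, .xii, .y4, .p6, .xii, .y7, .y10, .tau, .xii, .p, .xii, .y4, .hi, .xii, .y7, .y8, .tau, .p4, .xii,
   .p4, .xii, .y7, .p10, .y1, .hi, .p5, .tau, .xii, .p9, .xii, .y4, .p3, .y6, .xii, .y1, .tau, .xii, .y7]⟩

theorem h289 : Hd F (g wAd) b289 := hdD (by decide +kernel)
theorem r289_0 : R9 F (g wAd) b289 [] 0 0 := .of (startD 0 1) (by decide +kernel)
theorem r289_1 : R9 F (g wAd) b289 [] 0 1 := .of (startD 0 1) (by decide +kernel)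
theorem r289_2 : R9 F (g wAd) b289 [] 0 2 := .of (startD 0 1) (by decide +kernel)
theorem r289_3 : R9 F (g wAd) b289 [] 1 0 := .of (startD 0 1) (by decide +kernel)
theorem r289_4 : R9 F (g wAd) b289 [] 1 1 := .of (startD 0 1) (by decide +kernel)
theorem r289_5 : R9 F (g wAd) b289 [] 1 2 := .of (startD 0 1) (by decide +kernel)
theorem r289_6 : R9 F (g wAd) b289 [] 2 0 := .of (startD 0 1) (by decide +kernel)
theorem r289_7 : R9 F (g wAd) b289 [] 2 1 := .of (startD 0 1) (by decide +kernel)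
theorem r289_8 : R9 F (g wAd) b289 [] 2 2 := .of (startD 0 1) (by decide +kernel)
theorem g289 : Gd F (g wAd) (0, d289) [] :=
  good9 ok h289 r289_0 r289_1 r289_2 r289_3 r289_4 r289_5 r289_6 r289_7 r289_8

theorem all : AllG F (g wAd) LD28 :=
  .cons g280 (.cons g281 (.cons g282 (.cons g283 (.cons g284 (.cons g285 (.cons g286 (.cons g287 (.cons g288 (.cons g289 (.nil))))))))))

end Cfsg.Agent.BX.No33.Bk.D28
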