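import Cfsg.Agent.BX.No33.Cheap
set_option linter.all false

/-!
# Tests, diagonal case, part 30 (helper5; generated)
-/

set_option autoImplicit false
set_option maxRecDepth 100000
set_option Elab.async false

namespace Cfsg.Agent.BX.No33.Bk.D30

open Cfsg.Agent.H819.U33 Cfsg.Agent.BX.No33.Front

def b300 : Wd := ⟨0, d300,
  [.z, .Z9, .Z7, .Z6, .Z5, .Z4, .Z1, .Z0, .X9, .X4, .X3, .X2, .X0, .y10, .y7, .y6, .y5, .y1, .hi, .p5, .hi, .p10, .hi,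
   .p10, .hi, .p, .hi, .p8, .xii, .p10, .xii, .y4, .p8, .taui, .y1, .xii, .p10, .xii, .p10, .y7, .xii, .y10, .tau,
   .X0, .xii, .y2, .p4, .xii, .y3, .p4, .xii, .p7, .tau, .xii, .p9, .xii, .p8, .y6, .xii, .y3, .tau, .xii, .y8],
  [.z, .Z10, .Z9, .Z8, .Z7, .Z5, .Z4, .Z3, .Z2, .Z0, .X10, .X9, .X3, .X2, .X0, .y8, .y3, .p3, .hi, .p7, .hi, .p5, .hi,
   .p8, .hi, .p8, .hi, .p8, .hi, .xii, .y2, .hi, .p2, .hi, .taui, .xii, .y6, .p, .xii, .y10, .p, .xii, .y4, .y6,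
   .taui, .xii, .hi, .xii, .p9, .xii, .p9, .y7, .tau, .xii, .p5, .xii, .y2, .hi, .p8, .tau, .xii, .p],
  [.Z9, .Z8, .Z3, .Z2, .Z1, .Z0, .X8, .X6, .X5, .X4, .X2, .y10, .y9, .y7, .y6, .y4, .y3, .y1, .hi, .p3, .hi, .p10,
   .hi, .p7, .hi, .p8, .hi, .p4, .hi, .xii, .y2, .p, .xii, .p5, .xii, .y6, .tau, .xii, .p, .xii, .y2, .hi, .xii, .y5,
   .y10, .taui, .X0, .xii, .p2, .xii, .y1, .y7, .p4, .xii, .p9, .taui, .xii, .p3, .hi, .xii, .y8, .p4, .hi]⟩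

theorem h300 : Hd F (g wAd) b300 := hdD (by decide +kernel)
theorem r300_0 : R9 F (g wAd) b300 [] 0 0 := .of (startD 0 1) (by decide +kernel)
theorem r300_1 : R9 F (g wAd) b300 [] 0 1 := .of (startD 0 1) (by decide +kernel)
theorem r300_2 : R9 F (g wAd) b300 [] 0 2 := .of (startD 0 1) (by decide +kernel)
theorem r300_3 : R9 F (g wAd) b300 [] 1 0 := .of (startD 0 1) (by decide +kernel)
theorem r300_4 : R9 F (g wAd) b300 [] 1 1 := .of (startD 0 1) (by decide +kernel)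
theorem r300_5 : R9 F (g wAd) b300 [] 1 2 := .of (startD 0 1) (by decide +kernel)
theorem r300_6 : R9 F (g wAd) b300 [] 2 0 := .of (startD 0 1) (by decide +kernel)
theorem r300_7 : R9 F (g wAd) b300 [] 2 1 := .of (startD 0 1) (by decide +kernel)
theorem r300_8 : R9 F (g wAd) b300 [] 2 2 := .of (startD 0 1) (by decide +kernel)
theorem g300 : Gd F (g wAd) (0, d300) [] :=
  good9 ok h300 r300_0 r300_1 r300_2 r300_3 r300_4 r300_5 r300_6 r300_7 r300_8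

def b301 : Wd := ⟨0, d301,
  [.Z9, .Z7, .Z5, .Z4, .Z2, .X9, .X8, .X7, .X4, .X1, .y9, .y7, .y6, .y5, .y4, .y3, .y2, .y1, .hi, .p6, .hi, .p6, .hi,
   .p4, .hi, .p7, .hi, .p5, .hi, .xii, .hi, .xii, .p2, .y7, .xii, .y6, .taui, .xii, .p, .xii, .y4, .y10, .hi, .xii,
   .y5, .y10, .taui, .X0, .y1, .p5, .xii, .y8, .p9, .xii, .y4, .p8, .xii, .taui, .xii, .y2, .p5, .xii, .hi, .p7, .y9,
   .taui, .xii, .hi, .p7],
  [.Z6, .Z4, .Z3, .Z1, .X9, .X8, .X6, .X4, .y10, .y8, .y6, .y4, .y3, .p9, .hi, .p7, .hi, .p, .hi, .p6, .hi, .p6, .hi,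
   .xii, .p, .xii, .p2, .hi, .taui, .X0, .p4, .xii, .p10, .xii, .p8, .y3, .taui, .X0, .p8, .xii, .y4, .p4, .xii, .y8,
   .tau, .xii, .hi, .p7, .xii, .p9, .y9, .taui, .xii, .y2, .p7],
  [.z, .Z9, .Z3, .X10, .X9, .X7, .X2, .X0, .y10, .y9, .y7, .y4, .y3, .y2, .p4, .hi, .p, .hi, .p4, .hi, .p, .hi, .p5,
   .xii, .p3, .hi, .xii, .y9, .tau, .xii, .y2, .p, .xii, .y2, .hi, .xii, .y3, .y4, .tau, .xii, .p3, .xii, .p2, .y5,
   .xii, .y2, .p7, .y4, .tau, .xii, .p7, .xii, .y2, .p8, .y3, .xii, .y3, .tau, .xii, .y7, .p4]⟩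

theorem h301 : Hd F (g wAd) b301 := hdD (by decide +kernel)
theorem r301_0 : R9 F (g wAd) b301 [] 0 0 := .of (startD 0 1) (by decide +kernel)
theorem r301_1 : R9 F (g wAd) b301 [] 0 1 := .of (startD 0 2) (by decide +kernel)
theorem r301_2 : R9 F (g wAd) b301 [] 0 2 := .of (startD 0 1) (by decide +kernel)
theorem r301_3 : R9 F (g wAd) b301 [] 1 0 := .of (startD 0 1) (by decide +kernel)
theorem r301_4 : R9 F (g wAd) b301 [] 1 1 := .of (startD 0 1) (by decide +kernel)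
theorem r301_5 : R9 F (g wAd) b301 [] 1 2 := .of (startD 0 1) (by decide +kernel)
theorem r301_6 : R9 F (g wAd) b301 [] 2 0 := .of (startD 0 1) (by decide +kernel)
theorem r301_7 : R9 F (g wAd) b301 [] 2 1 := .of (startD 0 1) (by decide +kernel)
theorem r301_8 : R9 F (g wAd) b301 [] 2 2 := .of (startD 0 1) (by decide +kernel)
theorem g301 : Gd F (g wAd) (0, d301) [] :=
  good9 ok h301 r301_0 r301_1 r301_2 r301_3 r301_4 r301_5 r301_6 r301_7 r301_8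

def b302 : Wd := ⟨0, d302,
  [.z, .Z7, .Z5, .Z3, .Z1, .Z0, .X7, .X6, .X5, .X3, .X0, .y10, .p3, .hi, .p8, .hi, .p4, .hi, .p6, .hi, .p, .hi, .p6,
   .xii, .hi, .xii, .p8, .xii, .taui, .xii, .hi, .p8, .xii, .y9, .y10, .tau, .X0, .p7, .xii, .y4, .p7, .xii, .y4, .y8,
   .taui, .xii, .p4, .xii, .y2, .p4, .xii, .y7, .taui, .xii, .hi, .p5],
  [.z, .Z10, .Z9, .Z6, .Z4, .Z3, .Z2, .X10, .X9, .X8, .X7, .X5, .X1, .X0, .y6, .y3, .y1, .hi, .p10, .hi, .p4, .hi,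
   .p8, .hi, .p10, .hi, .p10, .hi, .xii, .y2, .p, .xii, .y6, .tau, .xii, .p, .xii, .y2, .hi, .xii, .y3, .y9, .tau,
   .p6, .xii, .p8, .xii, .y2, .y7, .p5, .hi, .p9, .tau, .xii, .y2, .p7, .xii, .y9, .p8, .xii, .y3, .tau],
  [.Z9, .Z7, .Z6, .X10, .X9, .X8, .X6, .X0, .y7, .y4, .y2, .y1, .p8, .hi, .p, .hi, .p7, .hi, .p7, .hi, .p7, .hi, .p6,
   .hi, .xii, .y2, .p, .xii, .p8, .xii, .y4, .y6, .tau, .xii, .p, .xii, .y1, .y10, .hi, .xii, .y5, .tau, .p4, .xii,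
   .p9, .xii, .hi, .y5, .y7, .p2, .tau, .xii, .y2, .p9, .xii, .p5, .hi, .taui, .xii, .p10, .hi, .p2, .hi]⟩

theorem h302 : Hd F (g wAd) b302 := hdD (by decide +kernel)
theorem r302_0 : R9 F (g wAd) b302 [] 0 0 := .of (startD 0 1) (by decide +kernel)
theorem r302_1 : R9 F (g wAd) b302 [] 0 1 := .of (startD 0 1) (by decide +kernel)
theorem r302_2 : R9 F (g wAd) b302 [] 0 2 := .of (startD 0 1) (by decide +kernel)
theorem r302_3 : R9 F (g wAd) b302 [] 1 0 := .of (startD 0 1) (by decide +kernel)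
theorem r302_4 : R9 F (g wAd) b302 [] 1 1 := .of (startD 0 1) (by decide +kernel)
theorem r302_5 : R9 F (g wAd) b302 [] 1 2 := .of (startD 0 2) (by decide +kernel)
theorem r302_6 : R9 F (g wAd) b302 [] 2 0 := .of (startD 0 2) (by decide +kernel)
theorem r302_7 : R9 F (g wAd) b302 [] 2 1 := .of (startD 0 2) (by decide +kernel)
theorem r302_8 : R9 F (g wAd) b302 [] 2 2 := .of (startD 0 2) (by decide +kernel)
theorem g302 : Gd F (g wAd) (0, d302) [] :=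
  good9 ok h302 r302_0 r302_1 r302_2 r302_3 r302_4 r302_5 r302_6 r302_7 r302_8

def b303 : Wd := ⟨0, d303,
  [.z, .Z10, .Z9, .Z7, .Z6, .Z5, .Z4, .Z2, .Z1, .Z0, .X9, .X8, .X6, .X5, .X4, .X3, .X2, .X0, .y9, .y7, .y6, .y3, .y1,
   .p9, .hi, .p10, .hi, .p6, .hi, .p7, .hi, .p, .hi, .p10, .xii, .p10, .xii, .p6, .xii, .y4, .y6, .tau, .X0, .p6,
   .xii, .y8, .hi, .p6, .xii, .y4, .hi, .p6, .taui, .xii, .p5, .xii, .y2, .y9, .tau, .xii, .p10, .hi, .p4],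
  [.z, .Z10, .Z9, .Z7, .Z6, .Z5, .Z3, .Z2, .Z1, .Z0, .X10, .X9, .X8, .X7, .X5, .X4, .X3, .X1, .X0, .y10, .y9, .y8,
   .y4, .y3, .y2, .y1, .p8, .hi, .p7, .hi, .p10, .hi, .p3, .hi, .p7, .hi, .p8, .xii, .p, .xii, .p9, .y7, .taui, .y1,
   .xii, .y2, .hi, .xii, .y9, .p10, .xii, .taui, .p2, .xii, .hi, .xii, .p6, .taui, .xii, .p4, .xii, .p5, .y2, .y7,
   .xii, .y6, .tau, .xii, .y2, .p8],
  [.Z10, .Z9, .Z8, .Z6, .Z4, .Z3, .Z2, .Z1, .Z0, .X9, .X7, .X4, .X3, .X2, .X1, .X0, .y10, .y9, .y5, .y3, .y2, .p9,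
   .hi, .p3, .hi, .p9, .hi, .p5, .xii, .p10, .xii, .y1, .p8, .xii, .taui, .xii, .p, .xii, .hi, .y8, .xii, .y3, .tau,
   .X0, .hi, .xii, .y7, .p4, .xii, .p10, .y4, .xii, .taui, .xii, .p7, .xii, .y4, .y6, .p7, .taui, .xii, .y2, .hi, .p6]⟩

theorem h303 : Hd F (g wAd) b303 := hdD (by decide +kernel)
theorem r303_0 : R9 F (g wAd) b303 [] 0 0 := .of (startD 0 1) (by decide +kernel)
theorem r303_1 : R9 F (g wAd) b303 [] 0 1 := .of (startD 0 1) (by decide +kernel)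
theorem r303_2 : R9 F (g wAd) b303 [] 0 2 := .of (startD 0 1) (by decide +kernel)
theorem r303_3 : R9 F (g wAd) b303 [] 1 0 := .of (startD 0 1) (by decide +kernel)
theorem r303_4 : R9 F (g wAd) b303 [] 1 1 := .of (startD 0 1) (by decide +kernel)
theorem r303_5 : R9 F (g wAd) b303 [] 1 2 := .of (startD 0 1) (by decide +kernel)
theorem r303_6 : R9 F (g wAd) b303 [] 2 0 := .of (startD 0 1) (by decide +kernel)
theorem r303_7 : R9 F (g wAd) b303 [] 2 1 := .of (startD 0 1) (by decide +kernel)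
theorem r303_8 : R9 F (g wAd) b303 [] 2 2 := .of (startD 0 1) (by decide +kernel)
theorem g303 : Gd F (g wAd) (0, d303) [] :=
  good9 ok h303 r303_0 r303_1 r303_2 r303_3 r303_4 r303_5 r303_6 r303_7 r303_8

def b304 : Wd := ⟨0, d304,
  [.Z9, .Z8, .Z7, .Z5, .Z4, .Z3, .Z2, .Z1, .Z0, .X10, .X9, .X6, .X3, .X1, .X0, .y10, .y6, .y4, .p5, .hi, .p3, .hi,
   .p7, .hi, .p9, .hi, .p10, .hi, .p8, .xii, .hi, .xii, .y6, .taui, .y1, .xii, .p10, .xii, .y1, .p10, .xii, .y4, .y9,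
   .tau, .X0, .xii, .p7, .xii, .y5, .y7, .p8, .xii, .y10, .p4, .taui, .xii, .y2, .p4, .xii, .p5, .xii, .y6, .tau,
   .xii, .y4, .p2],
  [.Z9, .Z4, .X9, .X7, .X4, .X2, .X1, .y10, .y4, .y2, .y1, .hi, .p6, .hi, .p8, .hi, .p6, .hi, .p7, .hi, .p4, .hi,
   .p10, .xii, .y2, .p2, .hi, .taui, .xii, .p, .xii, .y1, .y6, .hi, .xii, .y5, .y10, .tau, .y1, .p10, .xii, .p9, .xii,
   .y6, .p2, .hi, .p4, .taui, .xii, .y2, .p9, .xii, .p3, .xii, .y4, .tau, .xii, .y6, .p4],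
  [.z, .Z10, .Z9, .Z7, .Z6, .Z5, .Z4, .Z3, .Z1, .Z0, .X8, .X7, .X5, .X4, .X3, .X2, .X0, .y7, .y6, .y3, .y1, .p6, .hi,
   .p4, .hi, .p, .hi, .p8, .xii, .p, .xii, .y2, .y10, .hi, .xii, .y5, .taui, .xii, .p, .xii, .y4, .y10, .hi, .xii,
   .y5, .y10, .taui, .xii, .p, .xii, .hi, .y8, .xii, .y3, .y10, .tau, .y1, .p5, .xii, .p6, .xii, .y6, .tau, .xii, .hi,
   .p5, .xii, .p5, .y5]⟩

theorem h304 : Hd F (g wAd) b304 := hdD (by decide +kernel)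
theorem r304_0 : R9 F (g wAd) b304 [] 0 0 := .of (startD 0 1) (by decide +kernel)
theorem r304_1 : R9 F (g wAd) b304 [] 0 1 := .of (startD 0 1) (by decide +kernel)
theorem r304_2 : R9 F (g wAd) b304 [] 0 2 := .of (startD 0 1) (by decide +kernel)
theorem r304_3 : R9 F (g wAd) b304 [] 1 0 := .of (startD 0 1) (by decide +kernel)
theorem r304_4 : R9 F (g wAd) b304 [] 1 1 := .of (startD 0 1) (by decide +kernel)
theorem r304_5 : R9 F (g wAd) b304 [] 1 2 := .of (startD 0 1) (by decide +kernel)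
theorem r304_6 : R9 F (g wAd) b304 [] 2 0 := .of (startD 0 1) (by decide +kernel)
theorem r304_7 : R9 F (g wAd) b304 [] 2 1 := .of (startD 0 1) (by decide +kernel)
theorem r304_8 : R9 F (g wAd) b304 [] 2 2 := .of (startD 0 1) (by decide +kernel)
theorem g304 : Gd F (g wAd) (0, d304) [] :=
  good9 ok h304 r304_0 r304_1 r304_2 r304_3 r304_4 r304_5 r304_6 r304_7 r304_8

def b305 : Wd := ⟨0, d305,
  [.Z10, .Z5, .Z4, .Z2, .Z0, .X8, .X6, .X4, .X2, .y10, .y8, .y5, .y4, .y3, .y1, .hi, .p4, .hi, .p5, .hi, .p5, .hi,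
   .p7, .xii, .p10, .xii, .y8, .p4, .hi, .taui, .xii, .p, .xii, .y1, .y10, .hi, .xii, .y7, .taui, .xii, .p, .xii, .y1,
   .hi, .xii, .y1, .y2, .tau, .p5, .xii, .y2, .p, .xii, .y7, .tau, .xii, .y2, .p8, .xii, .y1, .p2, .xii, .y7, .taui,
   .xii, .p3, .hi],
  [.Z8, .Z7, .Z6, .Z5, .Z4, .X6, .X5, .X2, .X1, .X0, .y10, .y9, .y6, .p9, .hi, .p10, .hi, .p9, .hi, .p6, .xii, .p,
   .xii, .y3, .taui, .xii, .y1, .p, .xii, .p, .xii, .y4, .y5, .tau, .y1, .p8, .xii, .p4, .xii, .y1, .y5, .tau, .xii,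
   .p7, .xii, .y1, .p5, .hi, .y5, .taui, .xii, .p2],
  [.z, .Z9, .Z8, .Z7, .Z6, .Z2, .Z1, .X9, .X8, .X7, .X4, .X3, .X2, .X0, .y10, .y6, .y4, .y1, .p10, .hi, .p7, .hi, .p8,
   .hi, .p10, .hi, .p, .hi, .p8, .hi, .xii, .hi, .xii, .p8, .y10, .taui, .y1, .xii, .y2, .hi, .xii, .y9, .p10, .xii,
   .taui, .xii, .p, .xii, .y1, .y6, .hi, .xii, .y7, .taui, .p10, .xii, .p10, .xii, .y7, .y10, .taui, .xii, .p7, .xii,
   .y10, .p3, .y8, .xii, .taui, .xii, .p10, .xii, .y4]⟩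

theorem h305 : Hd F (g wAd) b305 := hdD (by decide +kernel)
theorem r305_0 : R9 F (g wAd) b305 [] 0 0 := .of (startD 0 1) (by decide +kernel)
theorem r305_1 : R9 F (g wAd) b305 [] 0 1 := .of (startD 0 1) (by decide +kernel)
theorem r305_2 : R9 F (g wAd) b305 [] 0 2 := .of (startD 0 1) (by decide +kernel)
theorem r305_3 : R9 F (g wAd) b305 [] 1 0 := .of (startD 0 1) (by decide +kernel)
theorem r305_4 : R9 F (g wAd) b305 [] 1 1 := .of (startD 0 1) (by decide +kernel)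
theorem r305_5 : R9 F (g wAd) b305 [] 1 2 := .of (startD 0 1) (by decide +kernel)
theorem r305_6 : R9 F (g wAd) b305 [] 2 0 := .of (startD 0 1) (by decide +kernel)
theorem r305_7 : R9 F (g wAd) b305 [] 2 1 := .of (startD 0 1) (by decide +kernel)
theorem r305_8 : R9 F (g wAd) b305 [] 2 2 := .of (startD 0 1) (by decide +kernel)
theorem g305 : Gd F (g wAd) (0, d305) [] :=
  good9 ok h305 r305_0 r305_1 r305_2 r305_3 r305_4 r305_5 r305_6 r305_7 r305_8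

def b306 : Wd := ⟨0, d306,
  [.Z10, .Z8, .Z7, .Z5, .Z1, .X10, .X9, .X6, .X5, .X3, .X1, .y9, .y7, .y6, .y5, .y4, .y3, .p8, .hi, .p10, .hi, .p8,
   .hi, .p5, .hi, .p8, .hi, .p10, .hi, .xii, .p, .xii, .y1, .hi, .xii, .y5, .taui, .xii, .p, .xii, .hi, .y8, .xii,
   .y2, .y7, .tau, .xii, .p4, .xii, .y1, .y3, .p7, .xii, .y2, .y4, .taui, .xii, .p2, .xii, .y6, .p6, .xii, .y2, .tau,
   .xii, .p5],
  [.z, .Z10, .Z8, .Z7, .Z6, .Z3, .Z2, .Z0, .X6, .X4, .X3, .X2, .X1, .X0, .y7, .y2, .y1, .p3, .hi, .p8, .hi, .p4, .hi,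
   .p7, .hi, .p, .hi, .p3, .xii, .hi, .p2, .hi, .tau, .xii, .p, .xii, .y4, .hi, .xii, .y6, .y10, .taui, .xii, .p4,
   .xii, .y4, .y6, .p9, .xii, .y5, .y7, .y10, .tau, .xii, .p4, .xii, .p3, .y3, .hi, .p9],
  [.Z10, .Z9, .Z8, .Z7, .Z6, .Z2, .Z0, .X10, .X6, .X2, .X0, .y9, .y8, .y6, .y5, .y4, .y1, .p9, .hi, .p3, .hi, .p7,
   .hi, .p4, .hi, .p8, .hi, .p3, .hi, .p2, .xii, .p, .xii, .p7, .xii, .y8, .y9, .tau, .y1, .xii, .p10, .xii, .y1,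
   .p10, .xii, .y8, .y10, .tau, .X0, .p10, .xii, .p5, .xii, .y2, .y8, .p9, .xii, .taui, .xii, .p5, .xii, .p4, .hi,
   .p7, .y3, .taui, .xii, .y2, .p, .hi]⟩

theorem h306 : Hd F (g wAd) b306 := hdD (by decide +kernel)
theorem r306_0 : R9 F (g wAd) b306 [] 0 0 := .of (startD 0 1) (by decide +kernel)
theorem r306_1 : R9 F (g wAd) b306 [] 0 1 := .of (startD 0 1) (by decide +kernel)
theorem r306_2 : R9 F (g wAd) b306 [] 0 2 := .of (startD 0 1) (by decide +kernel)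
theorem r306_3 : R9 F (g wAd) b306 [] 1 0 := .of (startD 0 1) (by decide +kernel)
theorem r306_4 : R9 F (g wAd) b306 [] 1 1 := .of (startD 0 1) (by decide +kernel)
theorem r306_5 : R9 F (g wAd) b306 [] 1 2 := .of (startD 0 2) (by decide +kernel)
theorem r306_6 : R9 F (g wAd) b306 [] 2 0 := .of (startD 0 1) (by decide +kernel)
theorem r306_7 : R9 F (g wAd) b306 [] 2 1 := .of (startD 0 1) (by decide +kernel)
theorem r306_8 : R9 F (g wAd) b306 [] 2 2 := .of (startD 0 1) (by decide +kernel)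
theorem g306 : Gd F (g wAd) (0, d306) [] :=
  good9 ok h306 r306_0 r306_1 r306_2 r306_3 r306_4 r306_5 r306_6 r306_7 r306_8

def b307 : Wd := ⟨0, d307,
  [.Z9, .Z8, .Z5, .Z4, .Z2, .Z1, .Z0, .X7, .X5, .X1, .X0, .y10, .y8, .y7, .y4, .y1, .p8, .hi, .p5, .hi, .p7, .hi, .p5,
   .hi, .p9, .hi, .p, .hi, .xii, .p10, .xii, .y1, .y7, .p3, .hi, .tau, .xii, .p, .xii, .y3, .y10, .hi, .xii, .y5,
   .y10, .tau, .X0, .xii, .y2, .p4, .xii, .y5, .p4, .xii, .y1, .y7, .y8, .taui, .xii, .p9, .xii, .p6, .xii, .y5, .y6,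
   .taui, .xii, .y7, .p5],
  [.z, .Z10, .Z7, .Z6, .Z5, .Z3, .Z2, .Z1, .X10, .X9, .X8, .X7, .X5, .X1, .X0, .y10, .y6, .y5, .y4, .y3, .y1, .p10,
   .hi, .p5, .hi, .p9, .hi, .p10, .xii, .hi, .xii, .p10, .y9, .taui, .xii, .p, .xii, .y1, .y10, .hi, .xii, .y3, .tau,
   .p5, .xii, .p7, .y9, .xii, .y9, .hi, .p2, .tau, .xii, .y2, .p4, .xii, .y6, .p5, .xii, .y7, .tau],
  [.Z10, .Z9, .Z8, .Z4, .Z3, .Z2, .Z0, .X10, .X8, .X6, .X4, .X3, .X2, .X0, .y9, .y6, .p10, .hi, .p6, .hi, .p7, .hi,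
   .p, .hi, .p6, .hi, .p9, .hi, .xii, .y2, .p10, .xii, .y9, .taui, .y1, .xii, .p10, .xii, .p10, .y7, .xii, .y4, .y8,
   .tau, .X0, .y1, .p10, .xii, .p9, .xii, .y5, .y9, .y10, .taui, .xii, .p4, .xii, .y8, .p5, .y4, .xii, .y6, .taui,
   .xii, .hi, .p4]⟩

theorem h307 : Hd F (g wAd) b307 := hdD (by decide +kernel)
theorem r307_0 : R9 F (g wAd) b307 [] 0 0 := .of (startD 0 1) (by decide +kernel)
theorem r307_1 : R9 F (g wAd) b307 [] 0 1 := .of (startD 0 1) (by decide +kernel)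
theorem r307_2 : R9 F (g wAd) b307 [] 0 2 := .of (startD 0 2) (by decide +kernel)
theorem r307_3 : R9 F (g wAd) b307 [] 1 0 := .of (startD 0 1) (by decide +kernel)
theorem r307_4 : R9 F (g wAd) b307 [] 1 1 := .of (startD 0 1) (by decide +kernel)
theorem r307_5 : R9 F (g wAd) b307 [] 1 2 := .of (startD 0 1) (by decide +kernel)
theorem r307_6 : R9 F (g wAd) b307 [] 2 0 := .of (startD 0 1) (by decide +kernel)
theorem r307_7 : R9 F (g wAd) b307 [] 2 1 := .of (startD 0 1) (by decide +kernel)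
theorem r307_8 : R9 F (g wAd) b307 [] 2 2 := .of (startD 0 1) (by decide +kernel)
theorem g307 : Gd F (g wAd) (0, d307) [] :=
  good9 ok h307 r307_0 r307_1 r307_2 r307_3 r307_4 r307_5 r307_6 r307_7 r307_8

def b308 : Wd := ⟨0, d308,
  [.Z8, .Z6, .Z4, .Z3, .Z2, .Z1, .Z0, .X10, .X9, .X7, .X5, .y8, .y7, .y6, .y3, .y1, .p4, .hi, .p4, .hi, .p6, .hi, .p,
   .hi, .p5, .xii, .hi, .p8, .xii, .y1, .p2, .taui, .y1, .xii, .p10, .xii, .y1, .p10, .xii, .y3, .y7, .taui, .X0,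
   .xii, .p10, .xii, .y1, .y9, .p10, .xii, .y7, .taui, .xii, .p4, .xii, .y1, .p8, .xii, .y3, .y9, .tau, .xii, .y6,
   .hi, .p6],
  [.Z10, .Z9, .Z5, .Z4, .Z2, .Z1, .Z0, .X10, .X9, .X5, .X2, .y9, .y6, .y2, .y1, .p8, .hi, .p9, .hi, .p3, .hi, .p10,
   .hi, .p6, .hi, .xii, .hi, .p8, .taui, .y1, .xii, .p10, .xii, .y4, .p10, .xii, .y3, .y5, .tau, .p7, .xii, .p, .xii,
   .y1, .y7, .hi, .p8, .tau, .xii, .p3, .xii, .p, .y2, .taui, .xii, .p3, .hi, .p7],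
  [.Z10, .Z7, .Z5, .Z4, .Z3, .Z2, .Z1, .X10, .X5, .X2, .y10, .y9, .y7, .y5, .y2, .y1, .p10, .hi, .p6, .hi, .p5, .hi,
   .p6, .hi, .p7, .xii, .hi, .p8, .xii, .y1, .p10, .taui, .xii, .y6, .p, .xii, .y4, .p, .xii, .y1, .y10, .taui, .X0,
   .xii, .p3, .xii, .p2, .y9, .xii, .y1, .y6, .hi, .tau, .xii, .p4, .xii, .y5, .y8, .y10, .p5, .xii, .tau, .xii, .y2]⟩

theorem h308 : Hd F (g wAd) b308 := hdD (by decide +kernel)
theorem r308_0 : R9 F (g wAd) b308 [] 0 0 := .of (startD 0 1) (by decide +kernel)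
theorem r308_1 : R9 F (g wAd) b308 [] 0 1 := .of (startD 0 1) (by decide +kernel)
theorem r308_2 : R9 F (g wAd) b308 [] 0 2 := .of (startD 0 1) (by decide +kernel)
theorem r308_3 : R9 F (g wAd) b308 [] 1 0 := .of (startD 0 1) (by decide +kernel)
theorem r308_4 : R9 F (g wAd) b308 [] 1 1 := .of (startD 0 1) (by decide +kernel)
theorem r308_5 : R9 F (g wAd) b308 [] 1 2 := .of (startD 0 1) (by decide +kernel)
theorem r308_6 : R9 F (g wAd) b308 [] 2 0 := .of (startD 0 1) (by decide +kernel)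
theorem r308_7 : R9 F (g wAd) b308 [] 2 1 := .of (startD 0 1) (by decide +kernel)
theorem r308_8 : R9 F (g wAd) b308 [] 2 2 := .of (startD 0 1) (by decide +kernel)
theorem g308 : Gd F (g wAd) (0, d308) [] :=
  good9 ok h308 r308_0 r308_1 r308_2 r308_3 r308_4 r308_5 r308_6 r308_7 r308_8

def b309 : Wd := ⟨0, d309,
  [.z, .Z9, .Z8, .Z6, .Z5, .Z4, .Z3, .X10, .X8, .X7, .X3, .X2, .y5, .y4, .y2, .p10, .hi, .p2, .hi, .p10, .hi, .p5,
   .hi, .p5, .hi, .p7, .xii, .p3, .hi, .xii, .y7, .p6, .taui, .xii, .p, .xii, .y1, .hi, .xii, .y4, .y5, .tau, .xii,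
   .y6, .p, .xii, .p, .xii, .y4, .y7, .tau, .X0, .p10, .xii, .p2, .xii, .y8, .taui, .xii, .p9, .xii, .p9, .y2, .xii,
   .y1, .y10, .tau, .xii, .y6, .hi, .p6],
  [.Z9, .Z7, .Z5, .Z2, .Z0, .X10, .X8, .X6, .X5, .X3, .y10, .y8, .y3, .p6, .hi, .p10, .hi, .p6, .hi, .p3, .hi, .p,
   .hi, .p5, .xii, .y2, .p5, .hi, .p8, .hi, .taui, .X0, .p7, .xii, .p, .hi, .xii, .y5, .y9, .p3, .tau, .y1, .p10,
   .xii, .p2, .xii, .y5, .p6, .taui, .xii, .p7, .xii, .y4, .y7, .p, .hi, .p7, .taui, .xii, .hi, .p7],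
  [.z, .Z10, .Z9, .Z6, .Z2, .Z0, .X10, .X9, .X7, .X4, .X3, .X0, .y10, .y5, .y4, .y2, .y1, .p7, .hi, .p9, .hi, .p, .hi,
   .p4, .hi, .p, .hi, .p5, .hi, .xii, .hi, .p8, .hi, .p2, .taui, .xii, .p, .xii, .y2, .y10, .hi, .xii, .y6, .tau, .p5,
   .xii, .p7, .y7, .xii, .y1, .y5, .p7, .taui, .xii, .p5, .xii, .y2, .y3, .p2, .xii, .y8, .tau, .xii, .p4, .xii, .y10]⟩

theorem h309 : Hd F (g wAd) b309 := hdD (by decide +kernel)
theorem r309_0 : R9 F (g wAd) b309 [] 0 0 := .of (startD 0 1) (by decide +kernel)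
theorem r309_1 : R9 F (g wAd) b309 [] 0 1 := .of (startD 0 1) (by decide +kernel)
theorem r309_2 : R9 F (g wAd) b309 [] 0 2 := .of (startD 0 1) (by decide +kernel)
theorem r309_3 : R9 F (g wAd) b309 [] 1 0 := .of (startD 0 1) (by decide +kernel)
theorem r309_4 : R9 F (g wAd) b309 [] 1 1 := .of (startD 0 1) (by decide +kernel)
theorem r309_5 : R9 F (g wAd) b309 [] 1 2 := .of (startD 0 1) (by decide +kernel)
theorem r309_6 : R9 F (g wAd) b309 [] 2 0 := .of (startD 0 1) (by decide +kernel)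
theorem r309_7 : R9 F (g wAd) b309 [] 2 1 := .of (startD 0 1) (by decide +kernel)
theorem r309_8 : R9 F (g wAd) b309 [] 2 2 := .of (startD 0 1) (by decide +kernel)
theorem g309 : Gd F (g wAd) (0, d309) [] :=
  good9 ok h309 r309_0 r309_1 r309_2 r309_3 r309_4 r309_5 r309_6 r309_7 r309_8

theorem all : AllG F (g wAd) LD30 :=
  .cons g300 (.cons g301 (.cons g302 (.cons g303 (.cons g304 (.cons g305 (.cons g306 (.cons g307 (.cons g308 (.cons g309 (.nil))))))))))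

end Cfsg.Agent.BX.No33.Bk.D30
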