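import Cfsg.Agent.BX.No33.Cheap
set_option linter.all false

/-!
# Tests, diagonal case, part 32 (helper5; generated)
-/

set_option autoImplicit false
set_option maxRecDepth 100000
set_option Elab.async false

namespace Cfsg.Agent.BX.No33.Bk.D32

open Cfsg.Agent.H819.U33 Cfsg.Agent.BX.No33.Front

def b320 : Wd := ⟨0, d320,
  [.Z10, .Z9, .Z8, .X10, .X9, .X7, .X3, .X1, .y10, .y9, .y4, .y2, .hi, .p9, .hi, .p, .hi, .p5, .hi, .p4, .hi, .p4,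
   .hi, .p6, .hi, .xii, .hi, .xii, .p10, .y8, .xii, .tau, .xii, .y2, .p, .xii, .y1, .hi, .xii, .y3, .y10, .taui, .p2,
   .xii, .p4, .xii, .y4, .y8, .p5, .hi, .taui, .xii, .p7, .xii, .y2, .p5, .y8, .xii, .tau, .xii, .y2, .hi, .p5],
  [.z, .Z9, .Z8, .Z5, .Z4, .Z0, .X8, .X7, .X6, .X5, .X4, .X3, .X1, .X0, .y10, .y9, .y8, .y7, .y5, .y4, .y3, .y1, .p8,
   .hi, .p8, .hi, .p4, .hi, .p8, .hi, .p4, .hi, .p6, .xii, .tau, .y1, .xii, .y2, .hi, .xii, .p10, .xii, .y2, .y10,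
   .tau, .p7, .xii, .p4, .xii, .p2, .y6, .hi, .p, .tau, .xii, .p9, .xii, .y5, .p6, .xii, .y4, .y10, .taui],
  [.z, .Z10, .Z9, .Z8, .Z7, .Z5, .Z3, .Z2, .Z1, .X3, .y10, .y8, .y7, .y6, .y5, .y1, .hi, .p6, .hi, .p6, .hi, .p9, .hi,
   .p8, .hi, .p9, .hi, .p3, .xii, .hi, .p8, .xii, .tau, .xii, .p, .xii, .hi, .y8, .xii, .y3, .y4, .taui, .p7, .xii,
   .y4, .p8, .xii, .y5, .p3, .tau, .xii, .p9, .xii, .y4, .y6, .p3, .hi, .taui, .xii, .p10, .hi, .p2, .hi]⟩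

theorem h320 : Hd F (g wAd) b320 := hdD (by decide +kernel)
theorem r320_0 : R9 F (g wAd) b320 [] 0 0 := .of (startD 0 1) (by decide +kernel)
theorem r320_1 : R9 F (g wAd) b320 [] 0 1 := .of (startD 0 1) (by decide +kernel)
theorem r320_2 : R9 F (g wAd) b320 [] 0 2 := .of (startD 0 1) (by decide +kernel)
theorem r320_3 : R9 F (g wAd) b320 [] 1 0 := .of (startD 0 2) (by decide +kernel)
theorem r320_4 : R9 F (g wAd) b320 [] 1 1 := .of (startD 0 1) (by decide +kernel)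
theorem r320_5 : R9 F (g wAd) b320 [] 1 2 := .of (startD 0 1) (by decide +kernel)
theorem r320_6 : R9 F (g wAd) b320 [] 2 0 := .of (startD 0 1) (by decide +kernel)
theorem r320_7 : R9 F (g wAd) b320 [] 2 1 := .of (startD 0 1) (by decide +kernel)
theorem r320_8 : R9 F (g wAd) b320 [] 2 2 := .of (startD 0 1) (by decide +kernel)
theorem g320 : Gd F (g wAd) (0, d320) [] :=
  good9 ok h320 r320_0 r320_1 r320_2 r320_3 r320_4 r320_5 r320_6 r320_7 r320_8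

def b321 : Wd := ⟨0, d321,
  [.Z10, .Z9, .Z7, .Z6, .Z5, .Z4, .Z3, .X10, .X9, .X8, .X7, .X4, .X2, .X1, .X0, .y10, .y7, .y6, .y4, .y3, .hi, .p3,
   .hi, .p10, .hi, .p10, .hi, .p7, .hi, .p, .hi, .xii, .p3, .hi, .xii, .p4, .y9, .hi, .p2, .tau, .y1, .xii, .p10,
   .xii, .y5, .p10, .xii, .y4, .y8, .tau, .X0, .p8, .xii, .y6, .p4, .xii, .y4, .hi, .y9, .p8, .tau, .xii, .p9, .xii,
   .y6, .p3, .y10, .xii, .taui, .xii, .hi, .p6],
  [.z, .Z9, .Z8, .Z7, .Z6, .Z5, .Z1, .Z0, .X8, .X3, .y10, .y9, .y8, .y7, .y4, .y2, .hi, .p10, .hi, .p5, .hi, .p5, .hi,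
   .p9, .hi, .p6, .xii, .y2, .p2, .hi, .taui, .xii, .p, .xii, .y4, .hi, .xii, .y1, .y9, .taui, .X0, .p9, .xii, .y4,
   .hi, .xii, .y6, .p5, .hi, .p9, .taui, .xii, .p4, .xii, .p4, .y7, .xii, .y3, .y10, .taui, .xii, .hi, .p9],
  [.Z9, .Z8, .Z7, .Z6, .Z0, .X10, .X9, .X8, .X6, .X5, .X3, .X0, .y10, .y6, .y5, .y1, .p7, .hi, .p10, .hi, .p7, .hi,
   .p7, .hi, .p8, .hi, .p9, .xii, .p10, .xii, .y6, .p2, .xii, .y3, .y10, .taui, .xii, .y2, .p, .xii, .y4, .hi, .xii,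
   .y4, .y6, .taui, .X0, .p6, .xii, .y8, .p9, .xii, .y2, .p, .taui, .xii, .p6, .xii, .y2, .p2, .xii, .taui, .xii, .p3]⟩

theorem h321 : Hd F (g wAd) b321 := hdD (by decide +kernel)
theorem r321_0 : R9 F (g wAd) b321 [] 0 0 := .of (startD 0 1) (by decide +kernel)
theorem r321_1 : R9 F (g wAd) b321 [] 0 1 := .of (startD 0 1) (by decide +kernel)
theorem r321_2 : R9 F (g wAd) b321 [] 0 2 := .of (startD 0 1) (by decide +kernel)
theorem r321_3 : R9 F (g wAd) b321 [] 1 0 := .of (startD 0 1) (by decide +kernel)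
theorem r321_4 : R9 F (g wAd) b321 [] 1 1 := .of (startD 0 1) (by decide +kernel)
theorem r321_5 : R9 F (g wAd) b321 [] 1 2 := .of (startD 0 1) (by decide +kernel)
theorem r321_6 : R9 F (g wAd) b321 [] 2 0 := .of (startD 0 1) (by decide +kernel)
theorem r321_7 : R9 F (g wAd) b321 [] 2 1 := .of (startD 0 1) (by decide +kernel)
theorem r321_8 : R9 F (g wAd) b321 [] 2 2 := .of (startD 0 1) (by decide +kernel)
theorem g321 : Gd F (g wAd) (0, d321) [] :=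
  good9 ok h321 r321_0 r321_1 r321_2 r321_3 r321_4 r321_5 r321_6 r321_7 r321_8

def b322 : Wd := ⟨0, d322,
  [.Z8, .Z5, .Z4, .Z3, .X10, .X9, .X8, .X7, .X5, .X4, .X3, .y9, .y7, .y5, .y4, .y2, .y1, .p9, .hi, .p4, .hi, .p5, .hi,
   .p6, .hi, .p8, .xii, .p3, .hi, .xii, .y3, .p10, .taui, .y1, .xii, .p10, .xii, .y1, .p10, .xii, .y4, .y10, .taui,
   .p4, .xii, .y2, .p9, .xii, .p6, .y10, .tau, .xii, .p5, .xii, .p9, .y6, .y9, .xii, .tau, .xii, .p4, .hi, .p10],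
  [.Z10, .Z9, .Z8, .Z5, .Z4, .Z2, .Z1, .Z0, .X10, .X7, .X5, .X2, .y6, .y5, .y4, .y1, .p9, .hi, .p5, .hi, .p8, .hi, .p,
   .hi, .p5, .hi, .p3, .hi, .xii, .y2, .p10, .tau, .xii, .y6, .p, .xii, .p, .xii, .y5, .y8, .tau, .p9, .xii, .y9, .p,
   .xii, .hi, .p5, .y7, .tau, .xii, .p3, .xii, .hi, .p3, .tau, .xii, .y2, .p8],
  [.Z10, .Z8, .Z7, .Z5, .Z4, .Z0, .X10, .X9, .X7, .X6, .X4, .X2, .X1, .X0, .y8, .y7, .y6, .y5, .y3, .y2, .hi, .p7,
   .hi, .p7, .hi, .p5, .hi, .p5, .hi, .p3, .hi, .xii, .y2, .p, .xii, .p8, .xii, .y5, .tau, .xii, .y1, .p, .hi, .xii,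
   .y1, .y2, .tau, .X0, .p8, .xii, .p, .y8, .xii, .y10, .hi, .p4, .tau, .xii, .p8, .xii, .p4, .y7, .xii, .y6, .taui,
   .xii, .p4, .hi, .p2]⟩

theorem h322 : Hd F (g wAd) b322 := hdD (by decide +kernel)
theorem r322_0 : R9 F (g wAd) b322 [] 0 0 := .of (startD 0 1) (by decide +kernel)
theorem r322_1 : R9 F (g wAd) b322 [] 0 1 := .of (startD 0 1) (by decide +kernel)
theorem r322_2 : R9 F (g wAd) b322 [] 0 2 := .of (startD 0 1) (by decide +kernel)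
theorem r322_3 : R9 F (g wAd) b322 [] 1 0 := .of (startD 0 1) (by decide +kernel)
theorem r322_4 : R9 F (g wAd) b322 [] 1 1 := .of (startD 0 1) (by decide +kernel)
theorem r322_5 : R9 F (g wAd) b322 [] 1 2 := .of (startD 0 1) (by decide +kernel)
theorem r322_6 : R9 F (g wAd) b322 [] 2 0 := .of (startD 0 1) (by decide +kernel)
theorem r322_7 : R9 F (g wAd) b322 [] 2 1 := .of (startD 0 1) (by decide +kernel)
theorem r322_8 : R9 F (g wAd) b322 [] 2 2 := .of (startD 0 3) (by decide +kernel)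
theorem g322 : Gd F (g wAd) (0, d322) [] :=
  good9 ok h322 r322_0 r322_1 r322_2 r322_3 r322_4 r322_5 r322_6 r322_7 r322_8

def b323 : Wd := ⟨0, d323,
  [.Z8, .Z5, .Z3, .Z1, .X9, .X8, .X7, .X5, .X1, .X0, .y10, .y9, .y4, .y2, .y1, .p, .hi, .p5, .hi, .p8, .hi, .p10, .hi,
   .p9, .hi, .p4, .xii, .p, .xii, .y3, .p3, .hi, .taui, .xii, .y6, .p, .xii, .y4, .p, .xii, .y1, .y10, .taui, .xii,
   .p9, .xii, .y5, .y7, .hi, .xii, .y4, .p4, .tau, .xii, .p2, .xii, .p6, .xii, .y4, .y5, .y8, .tau, .xii, .hi, .xii,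
   .y10],
  [.Z10, .Z5, .Z1, .X4, .X3, .X2, .X1, .y10, .y9, .y5, .y3, .y1, .hi, .p6, .hi, .p5, .hi, .p10, .hi, .p7, .hi, .p6,
   .xii, .y2, .p, .xii, .y1, .y2, .tau, .xii, .y6, .p, .xii, .p, .y7, .xii, .y1, .taui, .X0, .xii, .p5, .xii, .y2,
   .y7, .p, .xii, .y1, .y8, .tau, .xii, .p8, .xii, .y2, .y4, .p2],
  [.Z9, .Z5, .Z4, .Z1, .X8, .X7, .X6, .X4, .X3, .X2, .X1, .y10, .y8, .y6, .y5, .y3, .y2, .y1, .p9, .hi, .p10, .hi,
   .p3, .hi, .p4, .hi, .p7, .hi, .p7, .hi, .xii, .p10, .xii, .y4, .p6, .xii, .y3, .tau, .xii, .p, .xii, .y4, .y10,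
   .hi, .xii, .y7, .y10, .tau, .X0, .xii, .y6, .p7, .xii, .y2, .p9, .xii, .y3, .y7, .taui, .xii, .y2, .p2, .xii, .p10,
   .xii, .y2, .taui, .xii, .p10, .xii, .y8]⟩

theorem h323 : Hd F (g wAd) b323 := hdD (by decide +kernel)
theorem r323_0 : R9 F (g wAd) b323 [] 0 0 := .of (startD 0 1) (by decide +kernel)
theorem r323_1 : R9 F (g wAd) b323 [] 0 1 := .of (startD 0 1) (by decide +kernel)
theorem r323_2 : R9 F (g wAd) b323 [] 0 2 := .of (startD 0 1) (by decide +kernel)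
theorem r323_3 : R9 F (g wAd) b323 [] 1 0 := .of (startD 0 1) (by decide +kernel)
theorem r323_4 : R9 F (g wAd) b323 [] 1 1 := .of (startD 0 1) (by decide +kernel)
theorem r323_5 : R9 F (g wAd) b323 [] 1 2 := .of (startD 0 1) (by decide +kernel)
theorem r323_6 : R9 F (g wAd) b323 [] 2 0 := .of (startD 0 1) (by decide +kernel)
theorem r323_7 : R9 F (g wAd) b323 [] 2 1 := .of (startD 0 1) (by decide +kernel)
theorem r323_8 : R9 F (g wAd) b323 [] 2 2 := .of (startD 0 1) (by decide +kernel)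
theorem g323 : Gd F (g wAd) (0, d323) [] :=
  good9 ok h323 r323_0 r323_1 r323_2 r323_3 r323_4 r323_5 r323_6 r323_7 r323_8

def b324 : Wd := ⟨0, d324,
  [.Z10, .Z9, .Z0, .X10, .X9, .X8, .X5, .X4, .X3, .X1, .y10, .y9, .y8, .y6, .y5, .y2, .p9, .hi, .p7, .hi, .p10, .hi,
   .p6, .hi, .p7, .hi, .p7, .xii, .hi, .p8, .xii, .y3, .y7, .taui, .y1, .xii, .y1, .hi, .xii, .y6, .p10, .xii, .y10,
   .tau, .X0, .hi, .xii, .p9, .xii, .y1, .y2, .y7, .hi, .p8, .taui, .xii, .p8, .xii, .y3, .y5, .p7, .xii, .tau, .xii,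
   .y2, .p],
  [.z, .Z10, .Z8, .Z7, .Z4, .Z1, .X8, .X6, .X4, .X2, .X0, .y10, .y6, .y5, .y3, .y1, .p2, .hi, .p10, .hi, .p6, .hi,
   .p6, .hi, .p3, .xii, .p10, .xii, .taui, .y1, .xii, .y2, .hi, .xii, .p10, .xii, .y4, .tau, .xii, .p7, .xii, .y1,
   .y2, .p7, .xii, .y3, .p8, .tau, .xii, .p2, .xii, .y1, .hi, .xii, .y8, .tau],
  [.z, .Z10, .Z8, .Z7, .Z0, .X10, .X7, .X6, .X5, .X4, .X1, .X0, .y9, .y8, .y7, .y6, .y5, .y3, .p10, .hi, .p8, .hi,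
   .p10, .hi, .p5, .hi, .p9, .hi, .p10, .hi, .p4, .hi, .xii, .y2, .p10, .xii, .y5, .p5, .xii, .y9, .tau, .xii, .p,
   .xii, .y1, .hi, .xii, .y5, .y9, .tau, .X0, .y1, .p6, .xii, .p8, .xii, .y10, .p5, .hi, .p8, .tau, .xii, .p4, .xii,
   .y6, .p10, .hi, .p5, .tau, .xii, .p7]⟩

theorem h324 : Hd F (g wAd) b324 := hdD (by decide +kernel)
theorem r324_0 : R9 F (g wAd) b324 [] 0 0 := .of (startD 0 1) (by decide +kernel)
theorem r324_1 : R9 F (g wAd) b324 [] 0 1 := .of (startD 0 1) (by decide +kernel)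
theorem r324_2 : R9 F (g wAd) b324 [] 0 2 := .of (startD 0 1) (by decide +kernel)
theorem r324_3 : R9 F (g wAd) b324 [] 1 0 := .of (startD 0 1) (by decide +kernel)
theorem r324_4 : R9 F (g wAd) b324 [] 1 1 := .of (startD 0 1) (by decide +kernel)
theorem r324_5 : R9 F (g wAd) b324 [] 1 2 := .of (startD 0 1) (by decide +kernel)
theorem r324_6 : R9 F (g wAd) b324 [] 2 0 := .of (startD 0 1) (by decide +kernel)
theorem r324_7 : R9 F (g wAd) b324 [] 2 1 := .of (startD 0 1) (by decide +kernel)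
theorem r324_8 : R9 F (g wAd) b324 [] 2 2 := .of (startD 0 1) (by decide +kernel)
theorem g324 : Gd F (g wAd) (0, d324) [] :=
  good9 ok h324 r324_0 r324_1 r324_2 r324_3 r324_4 r324_5 r324_6 r324_7 r324_8

def b325 : Wd := ⟨0, d325,
  [.Z10, .Z8, .Z7, .Z6, .Z1, .X10, .X7, .X6, .X5, .X4, .X3, .X1, .y9, .y7, .y6, .y3, .y2, .y1, .p7, .hi, .p4, .hi,
   .p5, .hi, .p3, .hi, .p4, .hi, .p7, .xii, .hi, .xii, .y6, .p9, .xii, .y5, .taui, .xii, .y6, .p, .xii, .p, .xii, .y4,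
   .y7, .taui, .X0, .xii, .p7, .xii, .p8, .xii, .y10, .tau, .xii, .p5, .xii, .p2, .y10, .xii, .y4, .taui, .xii, .y7,
   .p8],
  [.Z9, .Z7, .Z6, .Z5, .Z1, .Z0, .X9, .X8, .X7, .X5, .X3, .X2, .X1, .y9, .y8, .y4, .hi, .p, .hi, .p, .hi, .p7, .hi,
   .p10, .hi, .xii, .p, .xii, .y4, .hi, .xii, .y1, .tau, .xii, .y1, .p, .xii, .p, .xii, .y3, .y4, .tau, .p7, .xii,
   .p5, .y7, .xii, .hi, .y8, .p6, .taui, .xii, .p3, .xii, .y1, .p10, .xii, .y8, .taui],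
  [.z, .Z9, .Z4, .Z3, .Z2, .X10, .X7, .X3, .X1, .X0, .y10, .y9, .p10, .hi, .p10, .hi, .p7, .hi, .p6, .hi, .p7, .hi,
   .p7, .hi, .p6, .hi, .xii, .p, .xii, .y6, .p9, .xii, .taui, .xii, .p, .xii, .y3, .hi, .xii, .y5, .taui, .y1, .p6,
   .xii, .p3, .hi, .xii, .y3, .p, .taui, .xii, .p4, .xii, .p4, .y1, .xii, .y6, .taui, .xii, .p8]⟩

theorem h325 : Hd F (g wAd) b325 := hdD (by decide +kernel)
theorem r325_0 : R9 F (g wAd) b325 [] 0 0 := .of (startD 0 1) (by decide +kernel)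
theorem r325_1 : R9 F (g wAd) b325 [] 0 1 := .of (startD 0 1) (by decide +kernel)
theorem r325_2 : R9 F (g wAd) b325 [] 0 2 := .of (startD 0 1) (by decide +kernel)
theorem r325_3 : R9 F (g wAd) b325 [] 1 0 := .of (startD 0 1) (by decide +kernel)
theorem r325_4 : R9 F (g wAd) b325 [] 1 1 := .of (startD 0 1) (by decide +kernel)
theorem r325_5 : R9 F (g wAd) b325 [] 1 2 := .of (startD 0 1) (by decide +kernel)
theorem r325_6 : R9 F (g wAd) b325 [] 2 0 := .of (startD 0 1) (by decide +kernel)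
theorem r325_7 : R9 F (g wAd) b325 [] 2 1 := .of (startD 0 1) (by decide +kernel)
theorem r325_8 : R9 F (g wAd) b325 [] 2 2 := .of (startD 0 1) (by decide +kernel)
theorem g325 : Gd F (g wAd) (0, d325) [] :=
  good9 ok h325 r325_0 r325_1 r325_2 r325_3 r325_4 r325_5 r325_6 r325_7 r325_8

def b326 : Wd := ⟨0, d326,
  [.z, .Z10, .Z9, .Z8, .Z6, .Z5, .Z4, .Z3, .Z1, .Z0, .X10, .X6, .X5, .X4, .X3, .X2, .X1, .y10, .y9, .y6, .y4, .y2,
   .y1, .p3, .hi, .p3, .hi, .p3, .hi, .p6, .hi, .p3, .hi, .p2, .xii, .taui, .xii, .p, .xii, .y4, .hi, .xii, .y3, .y10,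
   .taui, .X0, .p5, .xii, .y8, .p, .hi, .xii, .y7, .p5, .taui, .xii, .p8, .xii, .p10, .y10, .taui, .xii, .hi, .p8],
  [.z, .Z5, .X6, .X2, .X1, .y5, .y3, .y1, .hi, .p10, .hi, .p10, .hi, .p, .hi, .p, .hi, .p4, .xii, .y2, .hi, .p8, .hi,
   .p2, .tau, .y1, .xii, .p10, .xii, .y8, .p10, .xii, .y2, .y8, .tau, .X0, .xii, .p4, .xii, .y4, .y10, .p4, .xii, .y5,
   .y8, .y10, .taui, .xii, .y2, .p3, .xii, .p6, .xii, .y2, .tau],
  [.Z10, .Z5, .Z4, .Z3, .Z1, .Z0, .X10, .X1, .X0, .y9, .y8, .y7, .y4, .y3, .y2, .y1, .hi, .p3, .hi, .p6, .hi, .p9,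
   .hi, .p3, .xii, .p10, .xii, .p2, .y1, .xii, .y5, .taui, .xii, .y1, .p, .xii, .y2, .p, .xii, .y3, .y10, .taui, .xii,
   .p9, .xii, .p3, .xii, .y2, .y3, .p6, .tau, .xii, .y2, .p4, .xii, .y3, .hi, .tau, .xii, .p10, .hi, .p4]⟩

theorem h326 : Hd F (g wAd) b326 := hdD (by decide +kernel)
theorem r326_0 : R9 F (g wAd) b326 [] 0 0 := .of (startD 0 1) (by decide +kernel)
theorem r326_1 : R9 F (g wAd) b326 [] 0 1 := .of (startD 0 1) (by decide +kernel)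
theorem r326_2 : R9 F (g wAd) b326 [] 0 2 := .of (startD 0 1) (by decide +kernel)
theorem r326_3 : R9 F (g wAd) b326 [] 1 0 := .of (startD 0 1) (by decide +kernel)
theorem r326_4 : R9 F (g wAd) b326 [] 1 1 := .of (startD 0 1) (by decide +kernel)
theorem r326_5 : R9 F (g wAd) b326 [] 1 2 := .of (startD 0 1) (by decide +kernel)
theorem r326_6 : R9 F (g wAd) b326 [] 2 0 := .of (startD 0 1) (by decide +kernel)
theorem r326_7 : R9 F (g wAd) b326 [] 2 1 := .of (startD 0 1) (by decide +kernel)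
theorem r326_8 : R9 F (g wAd) b326 [] 2 2 := .of (startD 0 1) (by decide +kernel)
theorem g326 : Gd F (g wAd) (0, d326) [] :=
  good9 ok h326 r326_0 r326_1 r326_2 r326_3 r326_4 r326_5 r326_6 r326_7 r326_8

def b327 : Wd := ⟨0, d327,
  [.Z6, .Z4, .Z2, .Z1, .X10, .X8, .X7, .X6, .X0, .y9, .y8, .y7, .y1, .hi, .p7, .hi, .p8, .hi, .p3, .hi, .p10, .hi,
   .p5, .hi, .xii, .hi, .p8, .xii, .y2, .y9, .tau, .xii, .y6, .p, .xii, .y4, .p, .xii, .y6, .taui, .p6, .xii, .p, .hi,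
   .xii, .p3, .y8, .tau, .xii, .p5, .xii, .y6, .p5, .xii, .taui, .xii, .p, .xii, .y3],
  [.Z10, .Z9, .Z4, .Z3, .Z0, .X7, .X4, .X3, .X1, .X0, .y8, .y6, .y4, .y3, .y2, .p6, .hi, .p10, .hi, .p10, .hi, .p4,
   .hi, .p, .hi, .p7, .xii, .hi, .p4, .hi, .p4, .taui, .y1, .xii, .p10, .xii, .y8, .p10, .xii, .y2, .y10, .tau, .p9,
   .xii, .y2, .p2, .xii, .hi, .p7, .taui, .xii, .y2, .p, .xii, .p, .xii, .y2, .y3, .tau],
  [.Z2, .Z1, .Z0, .X10, .X9, .X8, .X5, .X4, .X1, .y10, .y7, .y6, .y5, .y4, .y3, .hi, .p6, .hi, .p9, .hi, .p7, .hi,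
   .p3, .hi, .p6, .hi, .p6, .xii, .hi, .xii, .p10, .xii, .y8, .y9, .y10, .tau, .xii, .y2, .p, .xii, .y1, .hi, .xii,
   .y6, .y10, .taui, .p8, .xii, .p3, .y8, .xii, .y2, .p2, .hi, .p, .tau, .xii, .p9, .xii, .y8, .y9, .hi, .xii]⟩

theorem h327 : Hd F (g wAd) b327 := hdD (by decide +kernel)
theorem r327_0 : R9 F (g wAd) b327 [] 0 0 := .of (startD 0 1) (by decide +kernel)
theorem r327_1 : R9 F (g wAd) b327 [] 0 1 := .of (startD 0 1) (by decide +kernel)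
theorem r327_2 : R9 F (g wAd) b327 [] 0 2 := .of (startD 0 1) (by decide +kernel)
theorem r327_3 : R9 F (g wAd) b327 [] 1 0 := .of (startD 0 1) (by decide +kernel)
theorem r327_4 : R9 F (g wAd) b327 [] 1 1 := .of (startD 0 1) (by decide +kernel)
theorem r327_5 : R9 F (g wAd) b327 [] 1 2 := .of (startD 0 1) (by decide +kernel)
theorem r327_6 : R9 F (g wAd) b327 [] 2 0 := .of (startD 0 1) (by decide +kernel)
theorem r327_7 : R9 F (g wAd) b327 [] 2 1 := .of (startD 0 1) (by decide +kernel)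
theorem r327_8 : R9 F (g wAd) b327 [] 2 2 := .of (startD 0 1) (by decide +kernel)
theorem g327 : Gd F (g wAd) (0, d327) [] :=
  good9 ok h327 r327_0 r327_1 r327_2 r327_3 r327_4 r327_5 r327_6 r327_7 r327_8

def b328 : Wd := ⟨0, d328,
  [.z, .Z10, .Z8, .Z7, .Z5, .Z4, .Z3, .Z2, .Z1, .X10, .X9, .X1, .X0, .y7, .y6, .y5, .y1, .p5, .hi, .p6, .hi, .p8, .hi,
   .p7, .hi, .p8, .hi, .xii, .p, .xii, .y2, .p4, .hi, .p5, .tau, .y1, .xii, .p10, .xii, .y1, .y7, .p10, .xii, .y4,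
   .tau, .y1, .p4, .xii, .hi, .xii, .y2, .p3, .hi, .taui, .xii, .y2, .p8, .xii, .p8, .y5, .hi, .taui, .xii, .p2, .hi,
   .p],
  [.z, .Z10, .Z9, .Z8, .Z5, .Z1, .X8, .X5, .X3, .X0, .y3, .y1, .p3, .hi, .p8, .hi, .p10, .hi, .p4, .hi, .p3, .hi, .p6,
   .hi, .xii, .p2, .hi, .taui, .y1, .xii, .hi, .xii, .p3, .y1, .hi, .tau, .X0, .p7, .xii, .y6, .p8, .xii, .y6, .p10,
   .tau, .xii, .y2, .p8, .xii, .p2, .y7, .xii, .tau, .xii, .p],
  [.Z10, .Z9, .Z8, .Z6, .Z4, .Z3, .Z2, .Z1, .Z0, .X8, .X7, .X6, .X4, .y9, .y5, .y3, .y1, .hi, .p5, .hi, .p9, .hi, .p4,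
   .hi, .p7, .hi, .p6, .hi, .xii, .p, .xii, .hi, .y7, .p8, .taui, .y1, .xii, .p10, .xii, .y2, .p10, .xii, .y4, .tau,
   .y1, .xii, .p10, .xii, .p10, .y7, .xii, .y8, .y10, .tau, .X0, .p10, .xii, .p6, .xii, .y2, .taui, .xii, .p5, .xii,
   .p5, .xii, .y4, .y8, .tau, .xii, .y2, .hi, .p7]⟩

theorem h328 : Hd F (g wAd) b328 := hdD (by decide +kernel)
theorem r328_0 : R9 F (g wAd) b328 [] 0 0 := .of (startD 0 1) (by decide +kernel)
theorem r328_1 : R9 F (g wAd) b328 [] 0 1 := .of (startD 0 1) (by decide +kernel)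
theorem r328_2 : R9 F (g wAd) b328 [] 0 2 := .of (startD 0 1) (by decide +kernel)
theorem r328_3 : R9 F (g wAd) b328 [] 1 0 := .of (startD 0 1) (by decide +kernel)
theorem r328_4 : R9 F (g wAd) b328 [] 1 1 := .of (startD 0 1) (by decide +kernel)
theorem r328_5 : R9 F (g wAd) b328 [] 1 2 := .of (startD 0 1) (by decide +kernel)
theorem r328_6 : R9 F (g wAd) b328 [] 2 0 := .of (startD 0 1) (by decide +kernel)
theorem r328_7 : R9 F (g wAd) b328 [] 2 1 := .of (startD 0 1) (by decide +kernel)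
theorem r328_8 : R9 F (g wAd) b328 [] 2 2 := .of (startD 0 1) (by decide +kernel)
theorem g328 : Gd F (g wAd) (0, d328) [] :=
  good9 ok h328 r328_0 r328_1 r328_2 r328_3 r328_4 r328_5 r328_6 r328_7 r328_8

def b329 : Wd := ⟨0, d329,
  [.z, .Z10, .Z9, .Z8, .Z1, .X9, .X8, .X7, .X6, .X5, .X4, .X3, .X2, .y9, .y5, .y4, .hi, .p5, .hi, .p3, .hi, .p7, .hi,
   .p8, .hi, .p7, .hi, .p3, .hi, .xii, .y2, .p5, .hi, .p5, .taui, .xii, .y1, .p, .xii, .y10, .p, .xii, .y5, .y10,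
   .taui, .p10, .xii, .p8, .xii, .y7, .y10, .p5, .hi, .p4, .tau, .xii, .y2, .p4, .xii, .y8, .hi, .p4, .hi, .tau, .xii,
   .y2, .p8],
  [.Z10, .Z7, .Z6, .Z5, .Z3, .Z1, .Z0, .X9, .X8, .X7, .X6, .X4, .X3, .X2, .X1, .y9, .y8, .y7, .y6, .y5, .y4, .y3, .p6,
   .hi, .p9, .hi, .p, .hi, .p4, .hi, .p2, .xii, .p10, .xii, .p6, .xii, .y3, .y9, .tau, .xii, .y1, .p, .xii, .p, .y7,
   .xii, .y6, .taui, .X0, .y1, .hi, .xii, .p2, .xii, .y7, .y10, .tau, .xii, .p9, .xii, .hi, .p5],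
  [.z, .Z10, .Z5, .Z2, .Z1, .Z0, .X10, .X7, .X6, .X5, .X3, .X1, .y9, .y8, .y7, .y5, .y4, .y2, .y1, .p10, .hi, .p4,
   .hi, .p10, .hi, .p9, .hi, .p4, .hi, .p2, .hi, .xii, .y2, .hi, .xii, .p10, .xii, .y2, .taui, .xii, .y2, .p, .xii,
   .y1, .hi, .xii, .y1, .y4, .taui, .X0, .p5, .xii, .y2, .p5, .xii, .p9, .xii, .y2, .tau, .xii, .y2, .p9, .xii, .p,
   .y7, .xii, .y1, .tau, .xii, .hi, .xii, .y2]⟩

theorem h329 : Hd F (g wAd) b329 := hdD (by decide +kernel)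
theorem r329_0 : R9 F (g wAd) b329 [] 0 0 := .of (startD 0 1) (by decide +kernel)
theorem r329_1 : R9 F (g wAd) b329 [] 0 1 := .of (startD 0 1) (by decide +kernel)
theorem r329_2 : R9 F (g wAd) b329 [] 0 2 := .of (startD 0 1) (by decide +kernel)
theorem r329_3 : R9 F (g wAd) b329 [] 1 0 := .of (startD 0 1) (by decide +kernel)
theorem r329_4 : R9 F (g wAd) b329 [] 1 1 := .of (startD 0 1) (by decide +kernel)
theorem r329_5 : R9 F (g wAd) b329 [] 1 2 := .of (startD 0 1) (by decide +kernel)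
theorem r329_6 : R9 F (g wAd) b329 [] 2 0 := .of (startD 0 1) (by decide +kernel)
theorem r329_7 : R9 F (g wAd) b329 [] 2 1 := .of (startD 0 1) (by decide +kernel)
theorem r329_8 : R9 F (g wAd) b329 [] 2 2 := .of (startD 0 1) (by decide +kernel)
theorem g329 : Gd F (g wAd) (0, d329) [] :=
  good9 ok h329 r329_0 r329_1 r329_2 r329_3 r329_4 r329_5 r329_6 r329_7 r329_8

theorem all : AllG F (g wAd) LD32 :=
  .cons g320 (.cons g321 (.cons g322 (.cons g323 (.cons g324 (.cons g325 (.cons g326 (.cons g327 (.cons g328 (.cons g329 (.nil))))))))))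

end Cfsg.Agent.BX.No33.Bk.D32
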