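import Cfsg.Agent.BX.No33.Cheap
set_option linter.all false

/-!
# Tests, diagonal case, part 33 (helper5; generated)
-/

set_option autoImplicit false
set_option maxRecDepth 100000
set_option Elab.async false

namespace Cfsg.Agent.BX.No33.Bk.D33

open Cfsg.Agent.H819.U33 Cfsg.Agent.BX.No33.Front

def b330 : Wd := ⟨0, d330,
  [.z, .Z10, .Z9, .Z8, .Z6, .Z5, .Z4, .Z2, .Z1, .X10, .X6, .X5, .X4, .X3, .X2, .X1, .y9, .y8, .y7, .y5, .y4, .y1, .p3,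
   .hi, .p9, .hi, .p5, .hi, .p3, .hi, .p6, .hi, .p5, .xii, .y2, .hi, .p8, .hi, .p5, .hi, .tau, .y1, .xii, .p10, .xii,
   .y8, .p10, .xii, .y8, .tau, .X0, .p4, .xii, .p9, .xii, .y9, .p2, .hi, .p4, .taui, .xii, .p9, .xii, .y1, .y2, .hi,
   .p6, .tau, .xii, .y2, .p7],
  [.z, .Z9, .Z8, .Z5, .Z3, .Z1, .Z0, .X9, .X5, .X2, .X1, .y10, .y9, .y8, .y7, .y6, .y4, .y3, .p4, .hi, .p7, .hi, .p6,
   .hi, .p, .hi, .p5, .hi, .p6, .xii, .y2, .p10, .hi, .p8, .taui, .xii, .y1, .p3, .hi, .xii, .y8, .hi, .p10, .tau,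
   .p5, .xii, .p, .y7, .xii, .y4, .hi, .taui, .xii, .y2, .p7, .xii, .y4, .p8, .xii, .y8, .taui, .xii, .y2, .p9],
  [.Z10, .Z7, .Z5, .Z3, .Z2, .Z1, .Z0, .X8, .X6, .X5, .X4, .X0, .y10, .y9, .y8, .y6, .y5, .y1, .hi, .p10, .hi, .p10,
   .hi, .p6, .hi, .p8, .hi, .p9, .xii, .p, .xii, .y3, .y4, .hi, .p8, .taui, .xii, .y2, .p, .xii, .y1, .hi, .xii, .y3,
   .y4, .taui, .X0, .p4, .xii, .p4, .xii, .y2, .y3, .y10, .p5, .taui, .xii, .p4, .xii, .y5, .p5, .xii, .y7, .y10,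
   .tau, .xii, .p10]⟩

theorem h330 : Hd F (g wAd) b330 := hdD (by decide +kernel)
theorem r330_0 : R9 F (g wAd) b330 [] 0 0 := .of (startD 0 1) (by decide +kernel)
theorem r330_1 : R9 F (g wAd) b330 [] 0 1 := .of (startD 0 1) (by decide +kernel)
theorem r330_2 : R9 F (g wAd) b330 [] 0 2 := .of (startD 0 1) (by decide +kernel)
theorem r330_3 : R9 F (g wAd) b330 [] 1 0 := .of (startD 0 1) (by decide +kernel)
theorem r330_4 : R9 F (g wAd) b330 [] 1 1 := .of (startD 0 1) (by decide +kernel)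
theorem r330_5 : R9 F (g wAd) b330 [] 1 2 := .of (startD 0 1) (by decide +kernel)
theorem r330_6 : R9 F (g wAd) b330 [] 2 0 := .of (startD 0 1) (by decide +kernel)
theorem r330_7 : R9 F (g wAd) b330 [] 2 1 := .of (startD 0 1) (by decide +kernel)
theorem r330_8 : R9 F (g wAd) b330 [] 2 2 := .of (startD 0 1) (by decide +kernel)
theorem g330 : Gd F (g wAd) (0, d330) [] :=
  good9 ok h330 r330_0 r330_1 r330_2 r330_3 r330_4 r330_5 r330_6 r330_7 r330_8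

def b331 : Wd := ⟨0, d331,
  [.Z7, .Z6, .Z5, .Z4, .Z3, .X10, .X9, .X7, .X6, .X5, .X4, .X1, .y10, .y8, .y6, .y5, .y1, .p5, .hi, .p5, .hi, .p8,
   .hi, .p7, .hi, .p4, .hi, .p2, .xii, .hi, .xii, .p6, .xii, .y3, .y9, .tau, .xii, .y6, .p, .xii, .y2, .p, .xii, .y6,
   .taui, .X0, .y1, .xii, .p9, .xii, .y4, .y6, .p5, .xii, .y1, .taui, .xii, .y2, .p4, .xii, .hi, .y7, .tau, .xii, .y2,
   .p, .hi],
  [.Z8, .Z4, .Z3, .Z2, .Z1, .X8, .X6, .X5, .X1, .y9, .y8, .y6, .y5, .y3, .y1, .p8, .hi, .p10, .hi, .p2, .hi, .p5, .hi,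
   .p, .hi, .p10, .xii, .y2, .hi, .p8, .taui, .y1, .xii, .p10, .xii, .y5, .p5, .hi, .p5, .tau, .X0, .y1, .p4, .xii,
   .p5, .xii, .p3, .y10, .tau, .xii, .p10, .xii, .y6, .p9, .xii, .y2, .taui],
  [.Z10, .Z9, .Z7, .Z4, .X10, .X9, .X8, .X7, .X5, .X2, .X0, .y10, .y9, .y8, .y5, .p6, .hi, .p3, .hi, .p10, .hi, .p10,
   .hi, .p4, .hi, .p3, .hi, .xii, .p2, .hi, .xii, .y1, .p4, .hi, .p10, .tau, .y1, .xii, .p10, .xii, .y1, .y7, .p10,
   .xii, .y4, .y9, .taui, .xii, .p, .xii, .y2, .hi, .xii, .y3, .y10, .tau, .p5, .xii, .p7, .y7, .xii, .tau, .xii, .y2,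
   .p5, .xii, .y3, .hi, .p, .hi, .taui, .xii, .p10, .hi, .p4]⟩

theorem h331 : Hd F (g wAd) b331 := hdD (by decide +kernel)
theorem r331_0 : R9 F (g wAd) b331 [] 0 0 := .of (startD 0 1) (by decide +kernel)
theorem r331_1 : R9 F (g wAd) b331 [] 0 1 := .of (startD 0 1) (by decide +kernel)
theorem r331_2 : R9 F (g wAd) b331 [] 0 2 := .of (startD 0 1) (by decide +kernel)
theorem r331_3 : R9 F (g wAd) b331 [] 1 0 := .of (startD 0 1) (by decide +kernel)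
theorem r331_4 : R9 F (g wAd) b331 [] 1 1 := .of (startD 0 1) (by decide +kernel)
theorem r331_5 : R9 F (g wAd) b331 [] 1 2 := .of (startD 0 1) (by decide +kernel)
theorem r331_6 : R9 F (g wAd) b331 [] 2 0 := .of (startD 0 1) (by decide +kernel)
theorem r331_7 : R9 F (g wAd) b331 [] 2 1 := .of (startD 0 1) (by decide +kernel)
theorem r331_8 : R9 F (g wAd) b331 [] 2 2 := .of (startD 0 1) (by decide +kernel)
theorem g331 : Gd F (g wAd) (0, d331) [] :=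
  good9 ok h331 r331_0 r331_1 r331_2 r331_3 r331_4 r331_5 r331_6 r331_7 r331_8

def b332 : Wd := ⟨0, d332,
  [.Z7, .Z6, .Z4, .Z3, .Z1, .Z0, .X10, .X9, .X8, .X7, .X6, .X5, .X4, .X3, .X2, .X1, .y10, .y9, .y8, .y7, .y6, .y3,
   .y1, .hi, .p9, .hi, .p, .hi, .p3, .hi, .p5, .hi, .p9, .hi, .p8, .xii, .hi, .p4, .hi, .p4, .taui, .y1, .xii, .y2,
   .hi, .xii, .y9, .p10, .xii, .y10, .tau, .X0, .p9, .xii, .p5, .y6, .hi, .xii, .p5, .tau, .xii, .p8, .xii, .p2, .xii,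
   .y6, .taui, .xii, .y2, .p6],
  [.Z9, .Z5, .Z2, .Z0, .X10, .X6, .X5, .X4, .X3, .X2, .y10, .y9, .y6, .y5, .y4, .y2, .hi, .p8, .hi, .p7, .hi, .p10,
   .hi, .p, .hi, .p2, .xii, .hi, .xii, .p10, .y8, .taui, .X0, .p7, .xii, .y4, .p5, .hi, .xii, .y9, .hi, .p7, .taui,
   .xii, .y2, .p5, .xii, .p5, .xii, .y8, .y10, .tau, .xii],
  [.z, .Z9, .Z8, .Z7, .Z4, .Z3, .Z1, .X10, .X9, .X7, .X6, .X5, .X4, .X3, .X1, .X0, .y8, .y6, .y2, .y1, .p5, .hi, .p8,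
   .hi, .p6, .hi, .p10, .xii, .p2, .hi, .xii, .y2, .y9, .taui, .y1, .xii, .p10, .xii, .p10, .y7, .xii, .y4, .y8, .tau,
   .xii, .y2, .p3, .xii, .y4, .p6, .xii, .y10, .p9, .tau, .xii, .y2, .p6, .xii, .y1, .p5, .taui, .xii, .p3, .hi, .p7]⟩

theorem h332 : Hd F (g wAd) b332 := hdD (by decide +kernel)
theorem r332_0 : R9 F (g wAd) b332 [] 0 0 := .of (startD 0 1) (by decide +kernel)
theorem r332_1 : R9 F (g wAd) b332 [] 0 1 := .of (startD 0 1) (by decide +kernel)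
theorem r332_2 : R9 F (g wAd) b332 [] 0 2 := .of (startD 0 1) (by decide +kernel)
theorem r332_3 : R9 F (g wAd) b332 [] 1 0 := .of (startD 0 1) (by decide +kernel)
theorem r332_4 : R9 F (g wAd) b332 [] 1 1 := .of (startD 0 1) (by decide +kernel)
theorem r332_5 : R9 F (g wAd) b332 [] 1 2 := .of (startD 0 1) (by decide +kernel)
theorem r332_6 : R9 F (g wAd) b332 [] 2 0 := .of (startD 0 1) (by decide +kernel)
theorem r332_7 : R9 F (g wAd) b332 [] 2 1 := .of (startD 0 1) (by decide +kernel)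
theorem r332_8 : R9 F (g wAd) b332 [] 2 2 := .of (startD 0 1) (by decide +kernel)
theorem g332 : Gd F (g wAd) (0, d332) [] :=
  good9 ok h332 r332_0 r332_1 r332_2 r332_3 r332_4 r332_5 r332_6 r332_7 r332_8

def b333 : Wd := ⟨0, d333,
  [.Z10, .Z9, .Z8, .Z7, .Z6, .Z3, .Z2, .Z0, .X9, .X7, .X6, .X4, .X3, .X2, .X0, .y9, .y8, .y7, .y4, .y3, .y2, .hi, .p8,
   .hi, .p9, .hi, .p8, .hi, .p9, .hi, .p3, .hi, .p2, .hi, .xii, .hi, .p8, .hi, .p5, .hi, .taui, .xii, .p, .xii, .y1,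
   .y6, .hi, .xii, .y7, .y10, .taui, .X0, .p7, .xii, .hi, .p8, .xii, .y1, .y8, .p7, .tau, .xii, .y2, .p2, .xii, .y5,
   .p7, .xii, .y2, .taui],
  [.Z8, .Z6, .Z4, .Z3, .Z1, .Z0, .X9, .X7, .X6, .X5, .X2, .y8, .y7, .y3, .y2, .y1, .p5, .hi, .p5, .hi, .p6, .hi, .p6,
   .hi, .p9, .hi, .p9, .xii, .hi, .xii, .p2, .y7, .xii, .y7, .taui, .X0, .p8, .xii, .p3, .hi, .xii, .y8, .p6, .y6,
   .tau, .xii, .p4, .xii, .y1, .y10, .p, .taui, .xii, .y2, .hi, .p7],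
  [.z, .Z10, .Z9, .Z7, .Z6, .Z3, .Z2, .Z0, .X6, .X5, .X1, .X0, .y10, .y7, .y6, .y2, .y1, .p2, .hi, .p10, .hi, .p4,
   .hi, .p6, .hi, .p5, .xii, .p3, .hi, .xii, .y9, .p6, .tau, .xii, .y6, .p, .xii, .p, .xii, .y2, .y3, .tau, .X0, .xii,
   .y1, .p3, .xii, .y2, .p6, .xii, .y4, .y7, .tau, .xii, .p2, .xii, .y5, .p2, .hi, .p10, .tau, .xii, .p2]⟩

theorem h333 : Hd F (g wAd) b333 := hdD (by decide +kernel)
theorem r333_0 : R9 F (g wAd) b333 [] 0 0 := .of (startD 0 1) (by decide +kernel)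
theorem r333_1 : R9 F (g wAd) b333 [] 0 1 := .of (startD 0 1) (by decide +kernel)
theorem r333_2 : R9 F (g wAd) b333 [] 0 2 := .of (startD 0 1) (by decide +kernel)
theorem r333_3 : R9 F (g wAd) b333 [] 1 0 := .of (startD 0 1) (by decide +kernel)
theorem r333_4 : R9 F (g wAd) b333 [] 1 1 := .of (startD 0 1) (by decide +kernel)
theorem r333_5 : R9 F (g wAd) b333 [] 1 2 := .of (startD 0 1) (by decide +kernel)
theorem r333_6 : R9 F (g wAd) b333 [] 2 0 := .of (startD 0 1) (by decide +kernel)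
theorem r333_7 : R9 F (g wAd) b333 [] 2 1 := .of (startD 0 1) (by decide +kernel)
theorem r333_8 : R9 F (g wAd) b333 [] 2 2 := .of (startD 0 1) (by decide +kernel)
theorem g333 : Gd F (g wAd) (0, d333) [] :=
  good9 ok h333 r333_0 r333_1 r333_2 r333_3 r333_4 r333_5 r333_6 r333_7 r333_8

def b334 : Wd := ⟨0, d334,
  [.z, .Z6, .Z5, .Z3, .Z1, .X7, .X5, .X3, .X0, .y10, .y7, .y6, .y5, .y2, .y1, .hi, .p9, .hi, .p5, .hi, .p3, .hi, .p3,
   .hi, .p10, .hi, .p3, .xii, .y2, .p, .xii, .p5, .xii, .y3, .y4, .taui, .y1, .xii, .p10, .xii, .y8, .p10, .xii, .y9,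
   .taui, .y1, .xii, .y2, .hi, .xii, .p10, .xii, .y4, .y10, .tau, .X0, .p10, .xii, .y10, .p9, .xii, .taui, .xii, .p4,
   .hi, .p10, .xii, .p7, .taui, .xii, .y2, .hi, .p7],
  [.Z8, .Z7, .Z6, .Z4, .Z3, .Z1, .X7, .X5, .X3, .X2, .y8, .y3, .y2, .p, .hi, .p3, .hi, .p, .hi, .p4, .hi, .p, .hi,
   .p5, .xii, .hi, .xii, .y6, .tau, .xii, .y1, .p, .xii, .y2, .p, .xii, .y3, .y4, .taui, .X0, .p8, .xii, .y4, .p4,
   .xii, .y9, .p4, .y3, .tau, .xii, .p7, .xii, .y5, .y10, .p6],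
  [.Z9, .Z5, .Z1, .Z0, .X9, .X4, .X0, .y10, .y3, .y2, .y1, .hi, .p10, .hi, .p2, .hi, .p2, .hi, .xii, .y2, .p, .xii,
   .p5, .xii, .y4, .y7, .tau, .y1, .xii, .p10, .xii, .y4, .p10, .xii, .y3, .y5, .tau, .xii, .y2, .p, .xii, .y1, .hi,
   .xii, .y1, .tau, .X0, .p2, .xii, .p, .xii, .y6, .taui, .xii, .hi, .p6, .xii, .y2, .y10, .p9, .tau, .xii, .y2, .hi,
   .p10]⟩

theorem h334 : Hd F (g wAd) b334 := hdD (by decide +kernel)
theorem r334_0 : R9 F (g wAd) b334 [] 0 0 := .of (startD 0 1) (by decide +kernel)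
theorem r334_1 : R9 F (g wAd) b334 [] 0 1 := .of (startD 0 1) (by decide +kernel)
theorem r334_2 : R9 F (g wAd) b334 [] 0 2 := .of (startD 0 1) (by decide +kernel)
theorem r334_3 : R9 F (g wAd) b334 [] 1 0 := .of (startD 0 1) (by decide +kernel)
theorem r334_4 : R9 F (g wAd) b334 [] 1 1 := .of (startD 0 1) (by decide +kernel)
theorem r334_5 : R9 F (g wAd) b334 [] 1 2 := .of (startD 0 1) (by decide +kernel)
theorem r334_6 : R9 F (g wAd) b334 [] 2 0 := .of (startD 0 1) (by decide +kernel)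
theorem r334_7 : R9 F (g wAd) b334 [] 2 1 := .of (startD 0 1) (by decide +kernel)
theorem r334_8 : R9 F (g wAd) b334 [] 2 2 := .of (startD 0 1) (by decide +kernel)
theorem g334 : Gd F (g wAd) (0, d334) [] :=
  good9 ok h334 r334_0 r334_1 r334_2 r334_3 r334_4 r334_5 r334_6 r334_7 r334_8

def b335 : Wd := ⟨0, d335,
  [.z, .Z10, .Z9, .Z5, .Z1, .Z0, .X10, .X9, .X6, .X4, .X2, .X1, .y10, .y9, .y8, .y5, .y4, .y3, .y2, .p, .hi, .p7, .hi,
   .p4, .hi, .p6, .hi, .p3, .hi, .p, .hi, .xii, .hi, .xii, .p3, .hi, .p5, .taui, .y1, .xii, .p10, .xii, .y1, .p10,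
   .xii, .y1, .y6, .taui, .p9, .xii, .y9, .p5, .hi, .xii, .y7, .p3, .hi, .taui, .xii, .y2, .hi, .p6, .xii, .p3, .y4,
   .tau, .xii, .p10, .hi, .p4],
  [.Z10, .Z8, .Z4, .Z0, .X8, .X7, .X6, .X4, .X2, .X1, .X0, .y10, .y9, .y8, .p2, .hi, .p4, .hi, .p6, .hi, .p9, .hi, .p,
   .xii, .hi, .p8, .hi, .p2, .tau, .y1, .xii, .y2, .hi, .xii, .y7, .p10, .xii, .taui, .X0, .p10, .xii, .y8, .p4, .hi,
   .xii, .p3, .y6, .taui, .xii, .p9, .xii, .hi, .y5, .p10, .taui, .xii, .p],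
  [.z, .Z10, .Z9, .Z8, .Z7, .Z3, .Z2, .Z1, .X10, .X7, .X5, .X4, .y10, .y8, .y4, .y3, .y2, .y1, .p10, .hi, .p7, .hi,
   .p3, .hi, .p7, .hi, .p, .hi, .p10, .xii, .hi, .xii, .p10, .xii, .y8, .y10, .tau, .xii, .p, .xii, .y1, .hi, .xii,
   .y1, .taui, .X0, .p10, .xii, .y6, .p5, .xii, .y6, .hi, .tau, .xii, .p4, .xii, .p4, .y9, .xii, .y8, .taui, .xii,
   .y4, .p]⟩

theorem h335 : Hd F (g wAd) b335 := hdD (by decide +kernel)
theorem r335_0 : R9 F (g wAd) b335 [] 0 0 := .of (startD 0 1) (by decide +kernel)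
theorem r335_1 : R9 F (g wAd) b335 [] 0 1 := .of (startD 0 1) (by decide +kernel)
theorem r335_2 : R9 F (g wAd) b335 [] 0 2 := .of (startD 0 1) (by decide +kernel)
theorem r335_3 : R9 F (g wAd) b335 [] 1 0 := .of (startD 0 1) (by decide +kernel)
theorem r335_4 : R9 F (g wAd) b335 [] 1 1 := .of (startD 0 1) (by decide +kernel)
theorem r335_5 : R9 F (g wAd) b335 [] 1 2 := .of (startD 0 1) (by decide +kernel)
theorem r335_6 : R9 F (g wAd) b335 [] 2 0 := .of (startD 0 1) (by decide +kernel)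
theorem r335_7 : R9 F (g wAd) b335 [] 2 1 := .of (startD 0 1) (by decide +kernel)
theorem r335_8 : R9 F (g wAd) b335 [] 2 2 := .of (startD 0 1) (by decide +kernel)
theorem g335 : Gd F (g wAd) (0, d335) [] :=
  good9 ok h335 r335_0 r335_1 r335_2 r335_3 r335_4 r335_5 r335_6 r335_7 r335_8

def b336 : Wd := ⟨0, d336,
  [.Z8, .Z7, .Z5, .Z4, .Z2, .X6, .X5, .X3, .y4, .y3, .hi, .p8, .hi, .p3, .hi, .p9, .hi, .p7, .hi, .p3, .hi, .p10,
   .xii, .p, .xii, .p, .xii, .y6, .y8, .tau, .y1, .xii, .y1, .hi, .xii, .p10, .xii, .tau, .X0, .p5, .xii, .p7, .y9,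
   .xii, .y9, .p5, .xii, .taui, .xii, .p8, .xii, .y1, .p4, .y7, .xii, .y10, .taui, .xii, .hi, .xii, .y4],
  [.Z9, .Z8, .Z5, .Z4, .Z3, .Z2, .Z1, .Z0, .X8, .X6, .X5, .X4, .X0, .y9, .y2, .p8, .hi, .p6, .hi, .p8, .hi, .p10, .hi,
   .p4, .hi, .p9, .hi, .xii, .p10, .hi, .p6, .hi, .p2, .tau, .y1, .xii, .y1, .hi, .xii, .y6, .p10, .xii, .y8, .y10,
   .tau, .X0, .p5, .xii, .p, .xii, .hi, .p3, .y5, .taui, .xii, .hi, .p6, .xii, .y3, .p8],
  [.Z9, .Z5, .Z3, .Z2, .Z1, .Z0, .X10, .X6, .X4, .y9, .y8, .y7, .y6, .y5, .y4, .y2, .p10, .hi, .p8, .hi, .p8, .hi,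
   .p7, .hi, .p5, .hi, .p8, .hi, .xii, .p, .xii, .y6, .p3, .hi, .tau, .xii, .p, .xii, .y4, .y10, .hi, .xii, .y6,
   .taui, .p8, .xii, .p4, .xii, .y9, .hi, .y8, .p5, .taui, .xii, .p4, .xii, .y8, .p5, .y4, .xii, .taui, .xii, .hi,
   .p2]⟩

theorem h336 : Hd F (g wAd) b336 := hdD (by decide +kernel)
theorem r336_0 : R9 F (g wAd) b336 [] 0 0 := .of (startD 0 1) (by decide +kernel)
theorem r336_1 : R9 F (g wAd) b336 [] 0 1 := .of (startD 0 1) (by decide +kernel)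
theorem r336_2 : R9 F (g wAd) b336 [] 0 2 := .of (startD 0 1) (by decide +kernel)
theorem r336_3 : R9 F (g wAd) b336 [] 1 0 := .of (startD 0 1) (by decide +kernel)
theorem r336_4 : R9 F (g wAd) b336 [] 1 1 := .of (startD 0 1) (by decide +kernel)
theorem r336_5 : R9 F (g wAd) b336 [] 1 2 := .of (startD 0 1) (by decide +kernel)
theorem r336_6 : R9 F (g wAd) b336 [] 2 0 := .of (startD 0 1) (by decide +kernel)
theorem r336_7 : R9 F (g wAd) b336 [] 2 1 := .of (startD 0 1) (by decide +kernel)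
theorem r336_8 : R9 F (g wAd) b336 [] 2 2 := .of (startD 0 1) (by decide +kernel)
theorem g336 : Gd F (g wAd) (0, d336) [] :=
  good9 ok h336 r336_0 r336_1 r336_2 r336_3 r336_4 r336_5 r336_6 r336_7 r336_8

def b337 : Wd := ⟨0, d337,
  [.Z10, .Z3, .Z0, .X6, .X5, .X3, .X2, .X1, .X0, .y6, .y5, .y1, .p6, .hi, .p6, .hi, .p5, .hi, .p4, .hi, .p10, .hi,
   .p2, .xii, .y2, .hi, .xii, .p10, .xii, .y3, .y5, .taui, .xii, .y6, .p, .xii, .p, .xii, .y5, .tau, .X0, .xii, .y2,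
   .p9, .xii, .y8, .p3, .xii, .y9, .hi, .taui, .xii, .y2, .p5, .xii, .y4, .p, .xii, .y2, .taui, .xii, .y2, .p5],
  [.Z8, .Z6, .Z4, .Z3, .Z1, .X9, .X3, .X1, .y10, .y9, .y7, .y6, .y5, .y3, .y2, .p8, .hi, .p7, .hi, .p9, .hi, .p5, .hi,
   .p7, .hi, .p3, .hi, .xii, .p3, .hi, .xii, .y2, .tau, .xii, .p, .xii, .y1, .hi, .xii, .y5, .y10, .tau, .p8, .xii,
   .y9, .p4, .xii, .p8, .y2, .tau, .xii, .p2, .xii, .p8],
  [.Z8, .Z3, .Z0, .X9, .X3, .y10, .y9, .y7, .y6, .y2, .p, .hi, .p3, .hi, .p5, .hi, .p5, .hi, .p2, .hi, .xii, .y2,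
   .p10, .xii, .y5, .p5, .xii, .y9, .taui, .y1, .xii, .p10, .xii, .y8, .p10, .xii, .y1, .y7, .taui, .X0, .xii, .p7,
   .xii, .y2, .y9, .p9, .xii, .y4, .y6, .taui, .xii, .p, .xii, .y4, .p9, .xii, .y9]⟩

theorem h337 : Hd F (g wAd) b337 := hdD (by decide +kernel)
theorem r337_0 : R9 F (g wAd) b337 [] 0 0 := .of (startD 0 1) (by decide +kernel)
theorem r337_1 : R9 F (g wAd) b337 [] 0 1 := .of (startD 0 1) (by decide +kernel)
theorem r337_2 : R9 F (g wAd) b337 [] 0 2 := .of (startD 0 1) (by decide +kernel)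
theorem r337_3 : R9 F (g wAd) b337 [] 1 0 := .of (startD 0 1) (by decide +kernel)
theorem r337_4 : R9 F (g wAd) b337 [] 1 1 := .of (startD 0 1) (by decide +kernel)
theorem r337_5 : R9 F (g wAd) b337 [] 1 2 := .of (startD 0 1) (by decide +kernel)
theorem r337_6 : R9 F (g wAd) b337 [] 2 0 := .of (startD 0 1) (by decide +kernel)
theorem r337_7 : R9 F (g wAd) b337 [] 2 1 := .of (startD 0 1) (by decide +kernel)
theorem r337_8 : R9 F (g wAd) b337 [] 2 2 := .of (startD 0 1) (by decide +kernel)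
theorem g337 : Gd F (g wAd) (0, d337) [] :=
  good9 ok h337 r337_0 r337_1 r337_2 r337_3 r337_4 r337_5 r337_6 r337_7 r337_8

def b338 : Wd := ⟨0, d338,
  [.Z9, .Z7, .Z6, .Z5, .Z4, .Z3, .X10, .X9, .X6, .X5, .X4, .X2, .y8, .y7, .y6, .y2, .p9, .hi, .p9, .hi, .p10, .hi,
   .p4, .hi, .p, .hi, .p9, .xii, .p5, .hi, .p5, .taui, .xii, .y6, .p, .xii, .p, .xii, .y3, .y8, .tau, .X0, .p5, .xii,
   .y3, .p10, .xii, .p6, .taui, .xii, .p5, .xii, .p5, .xii, .y3, .y7, .taui, .xii, .p, .xii, .y5],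
  [.z, .Z10, .Z9, .Z6, .Z3, .Z1, .Z0, .X7, .X4, .X3, .X0, .y9, .y6, .y4, .y1, .p9, .hi, .p9, .hi, .p6, .hi, .p10, .hi,
   .p7, .hi, .p2, .hi, .xii, .p, .xii, .y1, .hi, .xii, .y5, .taui, .X0, .y1, .p6, .xii, .p, .xii, .y10, .hi, .p4,
   .tau, .p7, .xii, .p9, .xii, .p4, .y4, .taui, .xii, .p9, .xii, .y4, .y10, .p4, .hi],
  [.z, .Z6, .Z5, .Z2, .Z1, .X9, .X8, .X7, .X6, .X5, .X4, .X3, .X1, .X0, .y10, .y8, .y3, .y1, .p9, .hi, .p, .hi, .p5,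
   .hi, .p8, .hi, .p6, .hi, .p8, .xii, .hi, .p8, .xii, .taui, .y1, .xii, .p10, .xii, .y4, .p10, .xii, .y8, .tau, .y1,
   .xii, .y6, .p5, .xii, .p8, .y2, .xii, .y4, .y7, .taui, .xii, .y2, .p2, .xii, .y6, .p7, .taui, .xii, .hi, .p6]⟩

theorem h338 : Hd F (g wAd) b338 := hdD (by decide +kernel)
theorem r338_0 : R9 F (g wAd) b338 [] 0 0 := .of (startD 0 1) (by decide +kernel)
theorem r338_1 : R9 F (g wAd) b338 [] 0 1 := .of (startD 0 1) (by decide +kernel)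
theorem r338_2 : R9 F (g wAd) b338 [] 0 2 := .of (startD 0 1) (by decide +kernel)
theorem r338_3 : R9 F (g wAd) b338 [] 1 0 := .of (startD 0 1) (by decide +kernel)
theorem r338_4 : R9 F (g wAd) b338 [] 1 1 := .of (startD 0 1) (by decide +kernel)
theorem r338_5 : R9 F (g wAd) b338 [] 1 2 := .of (startD 0 1) (by decide +kernel)
theorem r338_6 : R9 F (g wAd) b338 [] 2 0 := .of (startD 0 1) (by decide +kernel)
theorem r338_7 : R9 F (g wAd) b338 [] 2 1 := .of (startD 0 1) (by decide +kernel)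
theorem r338_8 : R9 F (g wAd) b338 [] 2 2 := .of (startD 0 1) (by decide +kernel)
theorem g338 : Gd F (g wAd) (0, d338) [] :=
  good9 ok h338 r338_0 r338_1 r338_2 r338_3 r338_4 r338_5 r338_6 r338_7 r338_8

def b339 : Wd := ⟨0, d339,
  [.z, .Z10, .Z9, .Z8, .Z7, .Z6, .Z5, .Z4, .Z3, .Z2, .Z0, .X9, .X7, .X5, .X4, .X3, .y10, .y2, .y1, .p4, .hi, .p5, .hi,
   .p9, .hi, .p7, .hi, .p10, .hi, .p, .hi, .xii, .p, .xii, .y3, .tau, .xii, .p, .xii, .y1, .hi, .xii, .y1, .y4, .tau,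
   .p5, .xii, .p8, .xii, .y4, .y10, .p2, .xii, .y9, .taui, .xii, .p9, .xii, .y7, .p3, .xii, .y3, .y7, .tau, .xii, .p,
   .xii, .y3],
  [.Z9, .Z3, .Z1, .X9, .X8, .X4, .X1, .X0, .y10, .y9, .y8, .y5, .y1, .hi, .p5, .hi, .p7, .hi, .p8, .hi, .p, .hi, .p6,
   .hi, .xii, .hi, .p10, .taui, .xii, .y6, .p, .xii, .p, .y7, .xii, .y3, .tau, .hi, .xii, .p8, .xii, .y4, .p6, .y3,
   .taui, .xii, .p, .hi, .p4],
  [.Z7, .Z6, .Z5, .Z4, .Z2, .Z1, .X8, .X6, .X5, .X4, .X1, .X0, .y7, .y6, .y4, .y1, .p9, .hi, .p5, .hi, .p6, .hi, .p6,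
   .hi, .p10, .hi, .p8, .xii, .p10, .xii, .y1, .p10, .taui, .xii, .p, .xii, .y4, .hi, .xii, .y3, .tau, .X0, .y1, .xii,
   .p6, .xii, .y2, .p, .xii, .p, .taui, .xii, .y2, .p5, .xii, .y7, .p9, .xii, .taui, .xii, .y4, .p4]⟩

theorem h339 : Hd F (g wAd) b339 := hdD (by decide +kernel)
theorem r339_0 : R9 F (g wAd) b339 [] 0 0 := .of (startD 0 1) (by decide +kernel)
theorem r339_1 : R9 F (g wAd) b339 [] 0 1 := .of (startD 0 2) (by decide +kernel)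
theorem r339_2 : R9 F (g wAd) b339 [] 0 2 := .of (startD 0 1) (by decide +kernel)
theorem r339_3 : R9 F (g wAd) b339 [] 1 0 := .of (startD 0 2) (by decide +kernel)
theorem r339_4 : R9 F (g wAd) b339 [] 1 1 := .of (startD 0 1) (by decide +kernel)
theorem r339_5 : R9 F (g wAd) b339 [] 1 2 := .of (startD 0 1) (by decide +kernel)
theorem r339_6 : R9 F (g wAd) b339 [] 2 0 := .of (startD 0 1) (by decide +kernel)
theorem r339_7 : R9 F (g wAd) b339 [] 2 1 := .of (startD 0 1) (by decide +kernel)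
theorem r339_8 : R9 F (g wAd) b339 [] 2 2 := .of (startD 0 1) (by decide +kernel)
theorem g339 : Gd F (g wAd) (0, d339) [] :=
  good9 ok h339 r339_0 r339_1 r339_2 r339_3 r339_4 r339_5 r339_6 r339_7 r339_8

theorem all : AllG F (g wAd) LD33 :=
  .cons g330 (.cons g331 (.cons g332 (.cons g333 (.cons g334 (.cons g335 (.cons g336 (.cons g337 (.cons g338 (.cons g339 (.nil))))))))))

end Cfsg.Agent.BX.No33.Bk.D33
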