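import Cfsg.Agent.BX.No33.Cheap
set_option linter.all false

/-!
# Tests, diagonal case, part 34 (helper5; generated)
-/

set_option autoImplicit false
set_option maxRecDepth 100000
set_option Elab.async false

namespace Cfsg.Agent.BX.No33.Bk.D34

open Cfsg.Agent.H819.U33 Cfsg.Agent.BX.No33.Front

def b340 : Wd := ⟨0, d340,
  [.z, .Z10, .Z8, .Z5, .Z4, .Z3, .Z1, .X7, .X3, .X2, .X1, .y9, .y8, .y2, .hi, .p5, .hi, .p10, .hi, .p7, .hi, .p4,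
   .xii, .p10, .xii, .y6, .p8, .xii, .tau, .xii, .p, .xii, .y4, .hi, .xii, .y5, .y9, .y10, .taui, .X0, .xii, .p5,
   .xii, .p7, .y2, .xii, .y4, .y10, .p3, .tau, .xii, .p4, .xii, .y1, .y4, .p2, .hi, .tau, .xii, .y2, .p7],
  [.Z10, .Z8, .Z5, .Z0, .X9, .X6, .X4, .X1, .y7, .y6, .y5, .y1, .p5, .hi, .p4, .hi, .p5, .hi, .p, .hi, .p3, .hi, .tau,
   .xii, .p, .xii, .y2, .hi, .xii, .y2, .y7, .tau, .X0, .xii, .p5, .xii, .p7, .y1, .xii, .y8, .p10, .taui, .xii, .p6,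
   .xii, .y4, .p2, .hi, .p6, .tau, .xii, .p7],
  [.z, .Z8, .Z7, .Z6, .Z3, .Z1, .X10, .X7, .X6, .X4, .X3, .X2, .X1, .y10, .y8, .y5, .y2, .y1, .p6, .hi, .p3, .hi, .p4,
   .hi, .p10, .hi, .p2, .xii, .p10, .xii, .p6, .xii, .y6, .tau, .y1, .xii, .p10, .xii, .y4, .p10, .xii, .y4, .taui,
   .X0, .y1, .xii, .p9, .xii, .y3, .p9, .y5, .xii, .y3, .y4, .y9, .tau, .xii, .y2, .p9, .xii, .y2, .p6, .xii, .y5,
   .taui, .xii, .p10, .xii, .y1]⟩

theorem h340 : Hd F (g wAd) b340 := hdD (by decide +kernel)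
theorem r340_0 : R9 F (g wAd) b340 [] 0 0 := .of (startD 0 1) (by decide +kernel)
theorem r340_1 : R9 F (g wAd) b340 [] 0 1 := .of (startD 0 1) (by decide +kernel)
theorem r340_2 : R9 F (g wAd) b340 [] 0 2 := .of (startD 0 1) (by decide +kernel)
theorem r340_3 : R9 F (g wAd) b340 [] 1 0 := .of (startD 0 1) (by decide +kernel)
theorem r340_4 : R9 F (g wAd) b340 [] 1 1 := .of (startD 0 1) (by decide +kernel)
theorem r340_5 : R9 F (g wAd) b340 [] 1 2 := .of (startD 0 2) (by decide +kernel)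
theorem r340_6 : R9 F (g wAd) b340 [] 2 0 := .of (startD 0 1) (by decide +kernel)
theorem r340_7 : R9 F (g wAd) b340 [] 2 1 := .of (startD 0 1) (by decide +kernel)
theorem r340_8 : R9 F (g wAd) b340 [] 2 2 := .of (startD 0 1) (by decide +kernel)
theorem g340 : Gd F (g wAd) (0, d340) [] :=
  good9 ok h340 r340_0 r340_1 r340_2 r340_3 r340_4 r340_5 r340_6 r340_7 r340_8

def b341 : Wd := ⟨0, d341,
  [.Z10, .Z9, .Z7, .Z6, .Z4, .Z0, .X10, .X9, .X7, .X4, .X2, .X0, .y10, .y9, .y8, .y5, .y4, .y3, .y2, .hi, .p10, .hi,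
   .p3, .hi, .p6, .hi, .p, .hi, .p3, .xii, .p10, .xii, .p6, .xii, .y4, .y7, .y8, .taui, .y1, .xii, .p10, .xii, .y8,
   .p10, .xii, .y8, .tau, .p7, .xii, .p4, .xii, .y1, .y2, .y8, .hi, .p4, .taui, .xii, .y2, .p5, .xii, .y4, .y8, .p9,
   .xii, .taui, .xii, .y8, .p4, .hi, .p4],
  [.z, .Z10, .Z6, .Z5, .Z3, .Z1, .Z0, .X10, .X9, .X8, .X7, .X5, .X3, .X1, .y9, .y5, .p10, .hi, .p9, .hi, .p6, .hi,
   .p7, .hi, .p5, .hi, .p5, .hi, .xii, .p, .xii, .p4, .xii, .y4, .y8, .tau, .xii, .p4, .xii, .y4, .p5, .xii, .y1, .y9,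
   .p6, .tau, .xii, .p9, .xii, .p3, .xii, .y1, .y3, .y10, .tau, .xii, .p2, .xii],
  [.z, .Z9, .Z7, .Z5, .Z3, .Z2, .Z0, .X9, .X7, .X3, .X2, .X0, .y8, .y7, .y5, .y4, .y3, .y1, .p10, .hi, .p5, .hi, .p8,
   .hi, .p5, .hi, .p, .xii, .p, .xii, .y3, .hi, .xii, .y7, .taui, .y1, .xii, .y2, .hi, .xii, .p10, .xii, .y1, .y7,
   .taui, .xii, .p8, .xii, .y1, .p4, .y8, .xii, .y1, .tau, .xii, .p9, .xii, .y1, .y5, .p3, .xii, .y9, .tau, .xii]⟩

theorem h341 : Hd F (g wAd) b341 := hdD (by decide +kernel)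
theorem r341_0 : R9 F (g wAd) b341 [] 0 0 := .of (startD 0 1) (by decide +kernel)
theorem r341_1 : R9 F (g wAd) b341 [] 0 1 := .of (startD 0 1) (by decide +kernel)
theorem r341_2 : R9 F (g wAd) b341 [] 0 2 := .of (startD 0 1) (by decide +kernel)
theorem r341_3 : R9 F (g wAd) b341 [] 1 0 := .of (startD 0 1) (by decide +kernel)
theorem r341_4 : R9 F (g wAd) b341 [] 1 1 := .of (startD 0 1) (by decide +kernel)
theorem r341_5 : R9 F (g wAd) b341 [] 1 2 := .of (startD 0 1) (by decide +kernel)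
theorem r341_6 : R9 F (g wAd) b341 [] 2 0 := .of (startD 0 3) (by decide +kernel)
theorem r341_7 : R9 F (g wAd) b341 [] 2 1 := .of (startD 0 1) (by decide +kernel)
theorem r341_8 : R9 F (g wAd) b341 [] 2 2 := .of (startD 0 1) (by decide +kernel)
theorem g341 : Gd F (g wAd) (0, d341) [] :=
  good9 ok h341 r341_0 r341_1 r341_2 r341_3 r341_4 r341_5 r341_6 r341_7 r341_8

def b342 : Wd := ⟨0, d342,
  [.z, .Z10, .Z8, .Z6, .Z4, .Z3, .X9, .X6, .X5, .X4, .X3, .X2, .y10, .y9, .y8, .y7, .y6, .y5, .y4, .y3, .y2, .y1, .p8,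
   .hi, .p9, .hi, .p10, .hi, .p3, .hi, .p10, .hi, .p, .xii, .y2, .p, .xii, .y1, .y2, .taui, .xii, .y6, .p, .xii, .y10,
   .p, .xii, .y3, .y4, .tau, .y1, .p2, .xii, .hi, .p5, .xii, .y1, .y5, .p10, .taui, .xii, .p5, .xii, .p8, .y2, .xii,
   .tau, .xii, .p2, .hi],
  [.Z10, .Z7, .Z4, .Z3, .Z1, .Z0, .X7, .X4, .X0, .y9, .y8, .y7, .y6, .y2, .y1, .p5, .hi, .p8, .hi, .p7, .hi, .p3, .hi,
   .p7, .hi, .p9, .xii, .y2, .p10, .hi, .p8, .taui, .xii, .p, .xii, .hi, .y8, .xii, .y1, .y10, .taui, .y1, .xii, .p5,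
   .xii, .p5, .y8, .xii, .y9, .taui, .xii, .p8, .xii, .p3, .hi, .y7, .p2],
  [.z, .Z8, .Z7, .Z6, .Z3, .Z1, .X9, .X8, .X7, .X5, .X3, .X2, .X1, .X0, .y8, .y7, .y6, .y4, .p6, .hi, .p7, .hi, .p6,
   .hi, .p7, .hi, .p4, .hi, .p, .hi, .xii, .p, .xii, .y2, .p9, .xii, .taui, .y1, .xii, .p10, .xii, .y1, .p10, .xii,
   .y4, .y9, .taui, .xii, .p10, .xii, .y10, .p8, .xii, .y8, .p9, .tau, .xii, .p3, .xii, .y5, .p2, .hi, .p10, .tau,
   .xii, .p2]⟩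

theorem h342 : Hd F (g wAd) b342 := hdD (by decide +kernel)
theorem r342_0 : R9 F (g wAd) b342 [] 0 0 := .of (startD 0 1) (by decide +kernel)
theorem r342_1 : R9 F (g wAd) b342 [] 0 1 := .of (startD 0 1) (by decide +kernel)
theorem r342_2 : R9 F (g wAd) b342 [] 0 2 := .of (startD 0 1) (by decide +kernel)
theorem r342_3 : R9 F (g wAd) b342 [] 1 0 := .of (startD 0 1) (by decide +kernel)
theorem r342_4 : R9 F (g wAd) b342 [] 1 1 := .of (startD 0 1) (by decide +kernel)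
theorem r342_5 : R9 F (g wAd) b342 [] 1 2 := .of (startD 0 1) (by decide +kernel)
theorem r342_6 : R9 F (g wAd) b342 [] 2 0 := .of (startD 0 1) (by decide +kernel)
theorem r342_7 : R9 F (g wAd) b342 [] 2 1 := .of (startD 0 1) (by decide +kernel)
theorem r342_8 : R9 F (g wAd) b342 [] 2 2 := .of (startD 0 1) (by decide +kernel)
theorem g342 : Gd F (g wAd) (0, d342) [] :=
  good9 ok h342 r342_0 r342_1 r342_2 r342_3 r342_4 r342_5 r342_6 r342_7 r342_8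

def b343 : Wd := ⟨0, d343,
  [.Z6, .Z1, .Z0, .X7, .X0, .y10, .y8, .y6, .y5, .y3, .p10, .hi, .p, .hi, .p5, .hi, .p9, .hi, .p8, .xii, .p, .xii,
   .p8, .y5, .xii, .y7, .tau, .y1, .xii, .y2, .hi, .xii, .y7, .p10, .xii, .y8, .tau, .X0, .p4, .xii, .p4, .xii, .y3,
   .y10, .p10, .hi, .p, .tau, .xii, .p5, .xii, .y9, .p, .xii, .y1, .y7, .taui, .xii, .p],
  [.z, .Z10, .Z9, .Z8, .Z6, .Z5, .Z4, .Z3, .Z2, .Z1, .X10, .X8, .X7, .X2, .X0, .y8, .y7, .y1, .p9, .hi, .p5, .hi, .p3,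
   .hi, .xii, .y2, .p, .xii, .y4, .hi, .xii, .y6, .taui, .X0, .xii, .p4, .xii, .p5, .y10, .xii, .y2, .y4, .p7, .tau,
   .xii, .p2, .xii, .y4, .p10, .xii, .y10, .tau, .xii, .y6, .p3],
  [.z, .Z6, .Z5, .Z4, .Z2, .X10, .X9, .X8, .X7, .X5, .X4, .X2, .X1, .y8, .y7, .y6, .y5, .y1, .p7, .hi, .p5, .hi, .p6,
   .hi, .p5, .hi, .p9, .xii, .y2, .hi, .xii, .p9, .xii, .y1, .tau, .xii, .y1, .p, .xii, .p, .xii, .y4, .y7, .tau,
   .xii, .p, .xii, .y1, .y6, .hi, .xii, .y6, .tau, .y1, .p2, .xii, .hi, .xii, .y6, .taui, .xii, .p9, .xii, .y5, .p4,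
   .hi, .p3, .taui, .xii, .y2, .p3, .hi, .p10]⟩

theorem h343 : Hd F (g wAd) b343 := hdD (by decide +kernel)
theorem r343_0 : R9 F (g wAd) b343 [] 0 0 := .of (startD 0 1) (by decide +kernel)
theorem r343_1 : R9 F (g wAd) b343 [] 0 1 := .of (startD 0 1) (by decide +kernel)
theorem r343_2 : R9 F (g wAd) b343 [] 0 2 := .of (startD 0 1) (by decide +kernel)
theorem r343_3 : R9 F (g wAd) b343 [] 1 0 := .of (startD 0 1) (by decide +kernel)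
theorem r343_4 : R9 F (g wAd) b343 [] 1 1 := .of (startD 0 1) (by decide +kernel)
theorem r343_5 : R9 F (g wAd) b343 [] 1 2 := .of (startD 0 1) (by decide +kernel)
theorem r343_6 : R9 F (g wAd) b343 [] 2 0 := .of (startD 0 1) (by decide +kernel)
theorem r343_7 : R9 F (g wAd) b343 [] 2 1 := .of (startD 0 2) (by decide +kernel)
theorem r343_8 : R9 F (g wAd) b343 [] 2 2 := .of (startD 0 1) (by decide +kernel)
theorem g343 : Gd F (g wAd) (0, d343) [] :=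
  good9 ok h343 r343_0 r343_1 r343_2 r343_3 r343_4 r343_5 r343_6 r343_7 r343_8

def b344 : Wd := ⟨0, d344,
  [.Z10, .Z8, .Z7, .Z6, .X10, .X2, .X0, .y9, .y8, .y3, .p7, .hi, .p3, .hi, .p7, .hi, .p3, .hi, .p5, .hi, .p, .xii,
   .hi, .p8, .xii, .y3, .y7, .p10, .tau, .y1, .xii, .p10, .xii, .y1, .p10, .xii, .y8, .taui, .X0, .xii, .p8, .xii,
   .p4, .y2, .xii, .y7, .y10, .p5, .tau, .xii, .p7, .xii, .y1, .p8, .taui, .xii, .p2, .hi, .p10],
  [.Z9, .Z7, .Z3, .Z0, .X10, .X9, .X8, .X6, .X3, .X2, .y10, .y9, .y8, .y5, .y2, .y1, .p5, .hi, .p9, .hi, .p6, .hi,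
   .p9, .hi, .p3, .hi, .p4, .tau, .xii, .y1, .p, .xii, .y4, .y10, .p, .xii, .y6, .taui, .p5, .xii, .y7, .hi, .xii,
   .p5, .y5, .hi, .tau, .xii, .p6, .xii, .y1, .p, .xii, .y1, .tau, .xii, .p9],
  [.z, .Z10, .Z9, .Z7, .Z6, .X9, .X5, .X0, .y9, .y7, .y3, .y1, .p9, .hi, .p, .hi, .p3, .hi, .p5, .hi, .p4, .hi, .p8,
   .xii, .y2, .p, .xii, .p9, .xii, .y2, .tau, .xii, .p, .xii, .y3, .hi, .xii, .y7, .tau, .p4, .xii, .p7, .xii, .y10,
   .p3, .y8, .tau, .xii, .hi, .p5, .xii, .y10, .hi, .p2, .tau, .xii, .p2, .hi, .p8, .hi]⟩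

theorem h344 : Hd F (g wAd) b344 := hdD (by decide +kernel)
theorem r344_0 : R9 F (g wAd) b344 [] 0 0 := .of (startD 0 1) (by decide +kernel)
theorem r344_1 : R9 F (g wAd) b344 [] 0 1 := .of (startD 0 1) (by decide +kernel)
theorem r344_2 : R9 F (g wAd) b344 [] 0 2 := .of (startD 0 1) (by decide +kernel)
theorem r344_3 : R9 F (g wAd) b344 [] 1 0 := .of (startD 0 1) (by decide +kernel)
theorem r344_4 : R9 F (g wAd) b344 [] 1 1 := .of (startD 0 1) (by decide +kernel)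
theorem r344_5 : R9 F (g wAd) b344 [] 1 2 := .of (startD 0 1) (by decide +kernel)
theorem r344_6 : R9 F (g wAd) b344 [] 2 0 := .of (startD 0 1) (by decide +kernel)
theorem r344_7 : R9 F (g wAd) b344 [] 2 1 := .of (startD 0 2) (by decide +kernel)
theorem r344_8 : R9 F (g wAd) b344 [] 2 2 := .of (startD 0 1) (by decide +kernel)
theorem g344 : Gd F (g wAd) (0, d344) [] :=
  good9 ok h344 r344_0 r344_1 r344_2 r344_3 r344_4 r344_5 r344_6 r344_7 r344_8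

def b345 : Wd := ⟨0, d345,
  [.z, .Z4, .Z3, .Z0, .X9, .X7, .X3, .X0, .y9, .y8, .y1, .p4, .hi, .p9, .hi, .p3, .hi, .p4, .hi, .p8, .hi, .p5, .hi,
   .xii, .p10, .xii, .y6, .p2, .xii, .y4, .y5, .taui, .xii, .y1, .p, .xii, .p, .xii, .y1, .y4, .taui, .X0, .hi, .xii,
   .p9, .xii, .y7, .y8, .tau, .xii, .y2, .p9, .xii, .y3, .p9, .tau, .xii, .p, .hi, .p4],
  [.z, .Z10, .Z8, .Z6, .Z4, .X10, .X8, .X3, .X2, .y10, .y5, .y4, .y3, .y1, .p9, .hi, .p3, .hi, .p6, .hi, .p3, .hi,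
   .p5, .hi, .p5, .xii, .p3, .hi, .xii, .y3, .y9, .p6, .taui, .y1, .p10, .xii, .hi, .p5, .xii, .p5, .hi, .p3, .taui,
   .xii, .p6, .xii, .y1, .p4, .xii, .y3, .tau, .xii, .p8, .xii, .y7],
  [.Z10, .Z9, .Z6, .Z3, .Z1, .Z0, .X0, .y10, .y9, .y7, .y6, .y1, .hi, .p2, .hi, .p8, .hi, .p4, .hi, .p3, .hi, .p10,
   .hi, .p9, .hi, .xii, .hi, .xii, .p2, .xii, .y3, .y9, .tau, .xii, .p, .xii, .hi, .y8, .xii, .y1, .y9, .taui, .p5,
   .xii, .p7, .y1, .xii, .y1, .y7, .p, .hi, .p9, .tau, .xii, .p5, .xii, .y7, .y8, .p2, .taui, .xii, .y2, .p, .hi, .p4]⟩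

theorem h345 : Hd F (g wAd) b345 := hdD (by decide +kernel)
theorem r345_0 : R9 F (g wAd) b345 [] 0 0 := .of (startD 0 1) (by decide +kernel)
theorem r345_1 : R9 F (g wAd) b345 [] 0 1 := .of (startD 0 1) (by decide +kernel)
theorem r345_2 : R9 F (g wAd) b345 [] 0 2 := .of (startD 0 1) (by decide +kernel)
theorem r345_3 : R9 F (g wAd) b345 [] 1 0 := .of (startD 0 1) (by decide +kernel)
theorem r345_4 : R9 F (g wAd) b345 [] 1 1 := .of (startD 0 1) (by decide +kernel)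
theorem r345_5 : R9 F (g wAd) b345 [] 1 2 := .of (startD 0 1) (by decide +kernel)
theorem r345_6 : R9 F (g wAd) b345 [] 2 0 := .of (startD 0 1) (by decide +kernel)
theorem r345_7 : R9 F (g wAd) b345 [] 2 1 := .of (startD 0 1) (by decide +kernel)
theorem r345_8 : R9 F (g wAd) b345 [] 2 2 := .of (startD 0 1) (by decide +kernel)
theorem g345 : Gd F (g wAd) (0, d345) [] :=
  good9 ok h345 r345_0 r345_1 r345_2 r345_3 r345_4 r345_5 r345_6 r345_7 r345_8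

def b346 : Wd := ⟨0, d346,
  [.Z9, .Z7, .Z6, .Z4, .Z3, .Z2, .Z1, .X10, .X9, .X8, .X5, .X2, .X0, .y10, .y9, .y6, .p4, .hi, .p4, .hi, .p3, .hi,
   .p7, .hi, .p9, .xii, .p, .xii, .y3, .p7, .xii, .y4, .y9, .tau, .y1, .xii, .p10, .xii, .y5, .p10, .xii, .y4, .taui,
   .xii, .y6, .p, .xii, .y2, .p, .xii, .y1, .taui, .p5, .xii, .y3, .y5, .p, .xii, .taui, .xii, .p7, .xii, .y2, .p7,
   .y4, .xii, .y10, .tau, .xii, .p2, .xii, .y6],
  [.z, .Z9, .Z8, .Z6, .Z5, .Z3, .Z2, .Z0, .X10, .X6, .X5, .X3, .X1, .y8, .y7, .y5, .y4, .y3, .y1, .p8, .hi, .p10, .hi,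
   .p2, .hi, .p5, .hi, .p9, .hi, .p5, .hi, .xii, .p, .xii, .hi, .y7, .p10, .taui, .xii, .p, .xii, .p2, .hi, .xii,
   .tau, .p8, .xii, .y9, .p4, .xii, .y3, .y9, .p7, .taui, .xii, .p9, .xii, .y8, .p, .hi, .p4],
  [.Z7, .Z6, .Z0, .X7, .X6, .X4, .y10, .y9, .y8, .y5, .y4, .y2, .hi, .p, .hi, .p3, .hi, .p4, .hi, .p7, .hi, .p8, .hi,
   .p5, .xii, .p10, .xii, .y8, .p10, .taui, .y1, .xii, .y2, .hi, .xii, .p10, .xii, .y1, .y7, .tau, .xii, .p7, .xii,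
   .y2, .y9, .p5, .xii, .y7, .y8, .taui, .xii, .p7, .xii, .p, .y4, .hi, .taui, .xii, .y2, .p2, .hi, .p]⟩

theorem h346 : Hd F (g wAd) b346 := hdD (by decide +kernel)
theorem r346_0 : R9 F (g wAd) b346 [] 0 0 := .of (startD 0 1) (by decide +kernel)
theorem r346_1 : R9 F (g wAd) b346 [] 0 1 := .of (startD 0 1) (by decide +kernel)
theorem r346_2 : R9 F (g wAd) b346 [] 0 2 := .of (startD 0 1) (by decide +kernel)
theorem r346_3 : R9 F (g wAd) b346 [] 1 0 := .of (startD 0 1) (by decide +kernel)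
theorem r346_4 : R9 F (g wAd) b346 [] 1 1 := .of (startD 0 1) (by decide +kernel)
theorem r346_5 : R9 F (g wAd) b346 [] 1 2 := .of (startD 0 1) (by decide +kernel)
theorem r346_6 : R9 F (g wAd) b346 [] 2 0 := .of (startD 0 1) (by decide +kernel)
theorem r346_7 : R9 F (g wAd) b346 [] 2 1 := .of (startD 0 1) (by decide +kernel)
theorem r346_8 : R9 F (g wAd) b346 [] 2 2 := .of (startD 0 1) (by decide +kernel)
theorem g346 : Gd F (g wAd) (0, d346) [] :=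
  good9 ok h346 r346_0 r346_1 r346_2 r346_3 r346_4 r346_5 r346_6 r346_7 r346_8

def b347 : Wd := ⟨0, d347,
  [.z, .Z10, .Z7, .Z5, .Z3, .Z0, .X10, .X9, .X7, .X5, .X4, .X3, .X2, .X1, .y9, .y8, .y7, .y4, .y1, .p5, .hi, .p, .hi,
   .p6, .hi, .p4, .hi, .p6, .hi, .p8, .xii, .p10, .xii, .y10, .p9, .xii, .y1, .y9, .taui, .xii, .p, .xii, .y1, .y10,
   .hi, .xii, .y5, .y10, .taui, .p2, .xii, .y6, .p4, .xii, .y8, .y10, .p3, .taui, .xii, .p9, .xii, .p3, .y3, .xii,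
   .y3, .y10, .taui, .xii, .p2],
  [.z, .Z9, .Z8, .Z6, .Z5, .Z3, .Z0, .X9, .X7, .X3, .X2, .X0, .y9, .y6, .y4, .y2, .y1, .p7, .hi, .p5, .hi, .p3, .hi,
   .p9, .hi, .p9, .hi, .p9, .hi, .xii, .hi, .xii, .p10, .y9, .xii, .y10, .taui, .X0, .xii, .p4, .xii, .y4, .y6, .p9,
   .xii, .y2, .y9, .y10, .tau, .xii, .p7, .xii, .p7, .tau, .xii, .p8],
  [.Z9, .Z7, .Z5, .Z4, .Z1, .Z0, .X9, .X7, .X6, .X5, .X3, .y10, .y9, .y8, .y6, .y3, .y2, .p3, .hi, .p10, .hi, .p4,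
   .hi, .p9, .hi, .p10, .hi, .p4, .xii, .hi, .xii, .p10, .xii, .y4, .y9, .taui, .xii, .y6, .p, .xii, .p, .xii, .y6,
   .y10, .taui, .p2, .xii, .p9, .xii, .y3, .p10, .taui, .xii, .p2, .xii, .p6, .y6, .xii, .y1, .y3, .tau, .xii, .p3,
   .xii, .y8]⟩

theorem h347 : Hd F (g wAd) b347 := hdD (by decide +kernel)
theorem r347_0 : R9 F (g wAd) b347 [] 0 0 := .of (startD 0 1) (by decide +kernel)
theorem r347_1 : R9 F (g wAd) b347 [] 0 1 := .of (startD 0 1) (by decide +kernel)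
theorem r347_2 : R9 F (g wAd) b347 [] 0 2 := .of (startD 0 1) (by decide +kernel)
theorem r347_3 : R9 F (g wAd) b347 [] 1 0 := .of (startD 0 1) (by decide +kernel)
theorem r347_4 : R9 F (g wAd) b347 [] 1 1 := .of (startD 0 1) (by decide +kernel)
theorem r347_5 : R9 F (g wAd) b347 [] 1 2 := .of (startD 0 1) (by decide +kernel)
theorem r347_6 : R9 F (g wAd) b347 [] 2 0 := .of (startD 0 1) (by decide +kernel)
theorem r347_7 : R9 F (g wAd) b347 [] 2 1 := .of (startD 0 1) (by decide +kernel)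
theorem r347_8 : R9 F (g wAd) b347 [] 2 2 := .of (startD 0 1) (by decide +kernel)
theorem g347 : Gd F (g wAd) (0, d347) [] :=
  good9 ok h347 r347_0 r347_1 r347_2 r347_3 r347_4 r347_5 r347_6 r347_7 r347_8

def b348 : Wd := ⟨0, d348,
  [.Z10, .Z6, .Z4, .Z3, .Z1, .Z0, .X10, .X9, .X7, .X4, .X3, .X1, .X0, .y10, .y6, .y5, .y2, .p9, .hi, .p7, .hi, .p7,
   .hi, .p8, .hi, .p4, .hi, .p5, .xii, .y2, .hi, .p8, .hi, .p8, .taui, .xii, .p, .xii, .hi, .p10, .y9, .tau, .X0, .y1,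
   .p5, .xii, .y3, .p, .xii, .y7, .tau, .xii, .y2, .p6, .xii, .y7, .hi, .xii, .y3, .tau],
  [.z, .Z10, .Z9, .Z8, .Z6, .Z5, .Z3, .Z1, .Z0, .X10, .X8, .X7, .X6, .X4, .X1, .X0, .y10, .y7, .y6, .y3, .y2, .y1,
   .hi, .p4, .hi, .p5, .hi, .p6, .xii, .p10, .xii, .y7, .p6, .xii, .y4, .y7, .tau, .xii, .p, .xii, .y4, .y10, .hi,
   .xii, .y6, .taui, .xii, .p7, .xii, .y7, .p7, .xii, .p6, .y7, .taui, .xii, .p9, .xii, .p5, .y4, .xii, .taui, .xii,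
   .p3, .xii, .y9],
  [.Z7, .Z4, .Z2, .Z1, .Z0, .X8, .y10, .y8, .y7, .y6, .y5, .y4, .y3, .y1, .p10, .hi, .p7, .hi, .p6, .hi, .p10, .hi,
   .p9, .xii, .y2, .hi, .p8, .xii, .y1, .p10, .tau, .y1, .xii, .y2, .hi, .xii, .y10, .p10, .xii, .y9, .tau, .xii, .p5,
   .xii, .y9, .p7, .xii, .y1, .y5, .taui, .xii, .y2, .p3, .xii, .y3, .hi, .p4]⟩

theorem h348 : Hd F (g wAd) b348 := hdD (by decide +kernel)
theorem r348_0 : R9 F (g wAd) b348 [] 0 0 := .of (startD 0 1) (by decide +kernel)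
theorem r348_1 : R9 F (g wAd) b348 [] 0 1 := .of (startD 0 1) (by decide +kernel)
theorem r348_2 : R9 F (g wAd) b348 [] 0 2 := .of (startD 0 1) (by decide +kernel)
theorem r348_3 : R9 F (g wAd) b348 [] 1 0 := .of (startD 0 1) (by decide +kernel)
theorem r348_4 : R9 F (g wAd) b348 [] 1 1 := .of (startD 0 1) (by decide +kernel)
theorem r348_5 : R9 F (g wAd) b348 [] 1 2 := .of (startD 0 1) (by decide +kernel)
theorem r348_6 : R9 F (g wAd) b348 [] 2 0 := .of (startD 0 1) (by decide +kernel)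
theorem r348_7 : R9 F (g wAd) b348 [] 2 1 := .of (startD 0 1) (by decide +kernel)
theorem r348_8 : R9 F (g wAd) b348 [] 2 2 := .of (startD 0 1) (by decide +kernel)
theorem g348 : Gd F (g wAd) (0, d348) [] :=
  good9 ok h348 r348_0 r348_1 r348_2 r348_3 r348_4 r348_5 r348_6 r348_7 r348_8

def b349 : Wd := ⟨0, d349,
  [.z, .Z8, .Z4, .Z3, .Z1, .X9, .X6, .X5, .X1, .X0, .y9, .y8, .y6, .y2, .y1, .p4, .hi, .p10, .hi, .p9, .hi, .p10,
   .xii, .p10, .xii, .p9, .xii, .y1, .y2, .y9, .taui, .y1, .xii, .y2, .p10, .xii, .y2, .taui, .hi, .xii, .p2, .xii,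
   .y5, .p2, .tau, .xii, .y2, .p5, .xii, .y9, .p8, .xii, .y7, .tau, .xii, .hi, .p8],
  [.Z10, .Z8, .Z6, .Z5, .Z4, .Z3, .Z0, .X9, .X5, .X4, .y10, .y4, .y3, .y2, .hi, .p5, .hi, .p, .hi, .p2, .xii, .y2,
   .p2, .hi, .xii, .taui, .y1, .xii, .p10, .xii, .y1, .p10, .xii, .y2, .taui, .y1, .p6, .xii, .p5, .xii, .y9, .p5,
   .tau, .xii, .p4, .xii, .p8, .y2, .tau, .xii, .y2, .hi, .p10],
  [.z, .Z10, .Z9, .Z8, .Z7, .Z6, .Z3, .Z1, .Z0, .X10, .X5, .X4, .X2, .X1, .X0, .y10, .y9, .y8, .y7, .y5, .y4, .y3,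
   .y2, .y1, .p3, .hi, .p, .hi, .p8, .hi, .p8, .hi, .p8, .hi, .xii, .hi, .p8, .xii, .y10, .taui, .xii, .y1, .p, .xii,
   .p, .xii, .y3, .y4, .taui, .p8, .xii, .hi, .y10, .p7, .xii, .p5, .hi, .p4, .tau, .xii, .p8, .xii, .y4, .p2, .xii,
   .y2, .y7, .tau, .xii, .p6, .xii]⟩

theorem h349 : Hd F (g wAd) b349 := hdD (by decide +kernel)
theorem r349_0 : R9 F (g wAd) b349 [] 0 0 := .of (startD 0 1) (by decide +kernel)
theorem r349_1 : R9 F (g wAd) b349 [] 0 1 := .of (startD 0 1) (by decide +kernel)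
theorem r349_2 : R9 F (g wAd) b349 [] 0 2 := .of (startD 0 1) (by decide +kernel)
theorem r349_3 : R9 F (g wAd) b349 [] 1 0 := .of (startD 0 1) (by decide +kernel)
theorem r349_4 : R9 F (g wAd) b349 [] 1 1 := .of (startD 0 1) (by decide +kernel)
theorem r349_5 : R9 F (g wAd) b349 [] 1 2 := .of (startD 0 1) (by decide +kernel)
theorem r349_6 : R9 F (g wAd) b349 [] 2 0 := .of (startD 0 1) (by decide +kernel)
theorem r349_7 : R9 F (g wAd) b349 [] 2 1 := .of (startD 0 2) (by decide +kernel)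
theorem r349_8 : R9 F (g wAd) b349 [] 2 2 := .of (startD 0 1) (by decide +kernel)
theorem g349 : Gd F (g wAd) (0, d349) [] :=
  good9 ok h349 r349_0 r349_1 r349_2 r349_3 r349_4 r349_5 r349_6 r349_7 r349_8

theorem all : AllG F (g wAd) LD34 :=
  .cons g340 (.cons g341 (.cons g342 (.cons g343 (.cons g344 (.cons g345 (.cons g346 (.cons g347 (.cons g348 (.cons g349 (.nil))))))))))

end Cfsg.Agent.BX.No33.Bk.D34
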