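import Cfsg.Agent.BX.No33.Cheap
set_option linter.all false

/-!
# Tests, diagonal case, part 36 (helper5; generated)
-/

set_option autoImplicit false
set_option maxRecDepth 100000
set_option Elab.async false

namespace Cfsg.Agent.BX.No33.Bk.D36

open Cfsg.Agent.H819.U33 Cfsg.Agent.BX.No33.Front

def b360 : Wd := ⟨0, d360,
  [.Z8, .Z3, .Z0, .X9, .X8, .X7, .X5, .X4, .X2, .X1, .X0, .y9, .y7, .y2, .y1, .hi, .p6, .hi, .p9, .hi, .p, .hi, .p,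
   .hi, .p2, .xii, .p3, .hi, .xii, .y3, .y5, .taui, .xii, .p, .xii, .y4, .hi, .xii, .y1, .y10, .taui, .xii, .y2, .p,
   .xii, .y2, .hi, .xii, .y3, .y4, .tau, .X0, .p10, .xii, .p9, .xii, .y1, .tau, .xii, .p4, .xii, .p3, .hi, .y10, .p2,
   .tau, .xii, .p10, .hi, .p9],
  [.z, .Z10, .Z9, .Z7, .Z6, .Z5, .Z1, .Z0, .X10, .X7, .X4, .X0, .y10, .y8, .y6, .y5, .y2, .y1, .hi, .p10, .hi, .p10,
   .hi, .p9, .hi, .p6, .hi, .p6, .hi, .p2, .hi, .xii, .y2, .p10, .xii, .y10, .tau, .xii, .y6, .p, .xii, .y10, .p,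
   .xii, .y5, .taui, .X0, .y1, .xii, .p5, .xii, .p9, .y1, .xii, .y8, .tau, .xii, .p5, .xii, .y4, .p10, .hi, .p8],
  [.Z10, .Z4, .Z3, .Z2, .Z1, .Z0, .X9, .X5, .X1, .X0, .y8, .y7, .y4, .y3, .y1, .hi, .p10, .hi, .p8, .hi, .p4, .hi,
   .p10, .hi, .p8, .hi, .p4, .hi, .xii, .p, .xii, .y3, .p3, .hi, .taui, .y1, .xii, .p10, .xii, .y5, .p10, .xii, .y2,
   .y4, .tau, .y1, .p7, .xii, .p8, .xii, .y3, .y5, .p10, .tau, .xii, .p9, .xii, .y8, .p9, .xii, .y2, .tau]⟩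

theorem h360 : Hd F (g wAd) b360 := hdD (by decide +kernel)
theorem r360_0 : R9 F (g wAd) b360 [] 0 0 := .of (startD 0 1) (by decide +kernel)
theorem r360_1 : R9 F (g wAd) b360 [] 0 1 := .of (startD 0 1) (by decide +kernel)
theorem r360_2 : R9 F (g wAd) b360 [] 0 2 := .of (startD 0 1) (by decide +kernel)
theorem r360_3 : R9 F (g wAd) b360 [] 1 0 := .of (startD 0 1) (by decide +kernel)
theorem r360_4 : R9 F (g wAd) b360 [] 1 1 := .of (startD 0 1) (by decide +kernel)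
theorem r360_5 : R9 F (g wAd) b360 [] 1 2 := .of (startD 0 1) (by decide +kernel)
theorem r360_6 : R9 F (g wAd) b360 [] 2 0 := .of (startD 0 1) (by decide +kernel)
theorem r360_7 : R9 F (g wAd) b360 [] 2 1 := .of (startD 0 1) (by decide +kernel)
theorem r360_8 : R9 F (g wAd) b360 [] 2 2 := .of (startD 0 1) (by decide +kernel)
theorem g360 : Gd F (g wAd) (0, d360) [] :=
  good9 ok h360 r360_0 r360_1 r360_2 r360_3 r360_4 r360_5 r360_6 r360_7 r360_8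

def b361 : Wd := ⟨0, d361,
  [.z, .Z9, .Z8, .Z7, .Z2, .Z0, .X10, .X9, .X8, .X7, .X6, .X4, .X3, .X2, .X1, .X0, .y9, .y5, .y4, .y3, .hi, .p4, .hi,
   .p3, .hi, .p, .hi, .p4, .hi, .p7, .hi, .xii, .p, .xii, .y2, .hi, .xii, .y3, .tau, .X0, .y1, .p6, .xii, .p, .xii,
   .y4, .hi, .p4, .taui, .X0, .p5, .xii, .y6, .p, .xii, .y1, .y2, .tau, .xii, .p9, .xii, .p2, .hi, .y7, .taui, .xii,
   .p5, .hi, .p2],
  [.Z10, .Z8, .Z7, .Z3, .Z1, .X8, .X7, .X6, .X5, .X4, .X3, .X0, .y8, .y5, .y4, .y2, .y1, .hi, .p7, .hi, .p10, .hi,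
   .p4, .hi, .p8, .hi, .p, .hi, .p7, .xii, .p10, .xii, .y2, .taui, .xii, .y2, .p, .xii, .y2, .hi, .xii, .y3, .tau,
   .X0, .p9, .xii, .p2, .y2, .xii, .y4, .p3, .hi, .p4, .tau, .xii, .y2, .hi, .xii, .p9, .xii, .y1, .y5, .tau],
  [.Z7, .Z6, .Z5, .Z3, .Z2, .X9, .X6, .X4, .X2, .X1, .y9, .y8, .y7, .y4, .y1, .p7, .hi, .p4, .hi, .p, .hi, .p7, .hi,
   .p5, .hi, .p3, .xii, .p10, .xii, .p6, .xii, .y7, .y8, .tau, .xii, .p, .xii, .y3, .hi, .xii, .y7, .tau, .X0, .p5,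
   .xii, .y5, .p7, .xii, .y1, .y2, .taui, .xii, .p2, .xii, .y3, .p2, .hi, .p5, .tau, .xii, .p3]⟩

theorem h361 : Hd F (g wAd) b361 := hdD (by decide +kernel)
theorem r361_0 : R9 F (g wAd) b361 [] 0 0 := .of (startD 0 1) (by decide +kernel)
theorem r361_1 : R9 F (g wAd) b361 [] 0 1 := .of (startD 0 1) (by decide +kernel)
theorem r361_2 : R9 F (g wAd) b361 [] 0 2 := .of (startD 0 1) (by decide +kernel)
theorem r361_3 : R9 F (g wAd) b361 [] 1 0 := .of (startD 0 1) (by decide +kernel)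
theorem r361_4 : R9 F (g wAd) b361 [] 1 1 := .of (startD 0 1) (by decide +kernel)
theorem r361_5 : R9 F (g wAd) b361 [] 1 2 := .of (startD 0 1) (by decide +kernel)
theorem r361_6 : R9 F (g wAd) b361 [] 2 0 := .of (startD 0 1) (by decide +kernel)
theorem r361_7 : R9 F (g wAd) b361 [] 2 1 := .of (startD 0 1) (by decide +kernel)
theorem r361_8 : R9 F (g wAd) b361 [] 2 2 := .of (startD 0 1) (by decide +kernel)
theorem g361 : Gd F (g wAd) (0, d361) [] :=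
  good9 ok h361 r361_0 r361_1 r361_2 r361_3 r361_4 r361_5 r361_6 r361_7 r361_8

def b362 : Wd := ⟨0, d362,
  [.Z10, .Z9, .Z8, .Z5, .Z1, .X10, .X7, .X6, .X5, .X4, .X3, .X2, .X0, .y8, .y7, .y5, .y2, .y1, .p2, .hi, .p7, .hi,
   .p3, .hi, .p4, .hi, .p8, .hi, .p5, .xii, .hi, .xii, .p5, .y1, .taui, .y1, .xii, .y2, .hi, .xii, .y9, .p10, .xii,
   .tau, .p8, .xii, .p, .y10, .xii, .p2, .taui, .xii, .p9, .xii, .hi, .p5, .y5, .tau, .xii, .y2, .p],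
  [.Z9, .Z8, .Z7, .Z6, .Z4, .Z3, .Z1, .Z0, .X8, .X5, .X4, .X2, .X0, .y6, .y5, .y2, .p7, .hi, .p3, .hi, .p4, .hi, .p8,
   .hi, .p6, .hi, .p3, .hi, .xii, .y2, .hi, .p8, .xii, .taui, .y1, .xii, .p10, .xii, .p10, .y7, .xii, .y1, .y6, .taui,
   .X0, .p9, .xii, .y9, .p3, .xii, .p2, .y8, .taui, .xii, .p4, .xii, .y4, .p4, .xii, .y2, .y8, .tau, .xii, .p10, .xii,
   .y4],
  [.Z6, .Z2, .Z1, .Z0, .X10, .X6, .X4, .X3, .X2, .X1, .X0, .y10, .y8, .y5, .y4, .y1, .hi, .p, .hi, .p3, .hi, .p4, .hi,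
   .p6, .hi, .p4, .xii, .hi, .xii, .p10, .y8, .xii, .y9, .taui, .xii, .y6, .p, .xii, .p, .xii, .y6, .y10, .taui, .X0,
   .p9, .xii, .p10, .xii, .p4, .y7, .hi, .tau, .xii, .p3, .xii, .y4, .hi, .p2]⟩

theorem h362 : Hd F (g wAd) b362 := hdD (by decide +kernel)
theorem r362_0 : R9 F (g wAd) b362 [] 0 0 := .of (startD 0 1) (by decide +kernel)
theorem r362_1 : R9 F (g wAd) b362 [] 0 1 := .of (startD 0 1) (by decide +kernel)
theorem r362_2 : R9 F (g wAd) b362 [] 0 2 := .of (startD 0 1) (by decide +kernel)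
theorem r362_3 : R9 F (g wAd) b362 [] 1 0 := .of (startD 0 1) (by decide +kernel)
theorem r362_4 : R9 F (g wAd) b362 [] 1 1 := .of (startD 0 1) (by decide +kernel)
theorem r362_5 : R9 F (g wAd) b362 [] 1 2 := .of (startD 0 1) (by decide +kernel)
theorem r362_6 : R9 F (g wAd) b362 [] 2 0 := .of (startD 0 1) (by decide +kernel)
theorem r362_7 : R9 F (g wAd) b362 [] 2 1 := .of (startD 0 1) (by decide +kernel)
theorem r362_8 : R9 F (g wAd) b362 [] 2 2 := .of (startD 0 1) (by decide +kernel)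
theorem g362 : Gd F (g wAd) (0, d362) [] :=
  good9 ok h362 r362_0 r362_1 r362_2 r362_3 r362_4 r362_5 r362_6 r362_7 r362_8

def b363 : Wd := ⟨0, d363,
  [.Z7, .Z5, .Z4, .Z2, .X10, .X9, .X8, .X2, .X0, .y9, .y6, .y5, .y4, .y2, .p7, .hi, .p7, .hi, .p8, .hi, .p10, .hi,
   .p5, .hi, .xii, .hi, .xii, .p10, .y9, .xii, .y8, .tau, .xii, .p, .xii, .hi, .y8, .xii, .y3, .y9, .tau, .p10, .xii,
   .y4, .hi, .p6, .xii, .y4, .y10, .tau, .xii, .p6, .xii, .p10, .y5, .xii, .y9, .tau, .xii, .p9],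
  [.Z6, .Z0, .X5, .X4, .X1, .y10, .y8, .y5, .y4, .y2, .y1, .p10, .hi, .p4, .hi, .p9, .hi, .p10, .hi, .p4, .hi, .p10,
   .xii, .hi, .p8, .xii, .y10, .tau, .xii, .y1, .p, .xii, .p, .xii, .y3, .tau, .xii, .p4, .xii, .y8, .y10, .p5, .xii,
   .y3, .y9, .taui, .xii, .p2, .xii, .p2, .y5, .xii, .y4, .y8, .taui],
  [.Z10, .Z7, .Z5, .Z3, .Z2, .Z1, .X10, .X7, .X5, .X4, .X3, .X2, .X0, .y10, .y9, .y6, .y3, .p2, .hi, .p10, .hi, .p4,
   .hi, .p, .hi, .p4, .hi, .p, .xii, .p10, .hi, .p8, .taui, .y1, .xii, .y1, .hi, .xii, .p10, .xii, .taui, .xii, .y6,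
   .p, .xii, .p, .xii, .y7, .y10, .tau, .X0, .p10, .xii, .y4, .p8, .xii, .y8, .taui, .xii, .p4, .xii, .p8, .y5, .xii,
   .y5, .tau, .xii]⟩

theorem h363 : Hd F (g wAd) b363 := hdD (by decide +kernel)
theorem r363_0 : R9 F (g wAd) b363 [] 0 0 := .of (startD 0 1) (by decide +kernel)
theorem r363_1 : R9 F (g wAd) b363 [] 0 1 := .of (startD 0 1) (by decide +kernel)
theorem r363_2 : R9 F (g wAd) b363 [] 0 2 := .of (startD 0 1) (by decide +kernel)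
theorem r363_3 : R9 F (g wAd) b363 [] 1 0 := .of (startD 0 1) (by decide +kernel)
theorem r363_4 : R9 F (g wAd) b363 [] 1 1 := .of (startD 0 1) (by decide +kernel)
theorem r363_5 : R9 F (g wAd) b363 [] 1 2 := .of (startD 0 1) (by decide +kernel)
theorem r363_6 : R9 F (g wAd) b363 [] 2 0 := .of (startD 0 1) (by decide +kernel)
theorem r363_7 : R9 F (g wAd) b363 [] 2 1 := .of (startD 0 1) (by decide +kernel)
theorem r363_8 : R9 F (g wAd) b363 [] 2 2 := .of (startD 0 1) (by decide +kernel)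
theorem g363 : Gd F (g wAd) (0, d363) [] :=
  good9 ok h363 r363_0 r363_1 r363_2 r363_3 r363_4 r363_5 r363_6 r363_7 r363_8

def b364 : Wd := ⟨0, d364,
  [.Z7, .Z6, .Z4, .Z3, .Z2, .Z1, .X10, .X9, .X7, .X4, .X1, .y10, .y9, .y7, .y6, .y5, .y1, .hi, .p9, .hi, .p10, .hi,
   .p4, .hi, .p9, .hi, .p3, .hi, .xii, .p10, .xii, .y6, .p8, .xii, .y4, .taui, .xii, .y2, .p, .xii, .y1, .hi, .xii,
   .y7, .y10, .taui, .p8, .xii, .y1, .p3, .hi, .xii, .y1, .y8, .p7, .taui, .xii, .y2, .p3, .hi, .p5, .xii, .hi, .tau,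
   .xii],
  [.z, .Z10, .Z9, .Z7, .Z5, .Z4, .Z2, .Z1, .X9, .X6, .X2, .y10, .y7, .y4, .y3, .p7, .hi, .p4, .hi, .p4, .hi, .p5, .hi,
   .p10, .xii, .p3, .hi, .xii, .tau, .xii, .y6, .p, .xii, .p, .xii, .y5, .taui, .X0, .y1, .p2, .xii, .p8, .xii, .y1,
   .p, .taui, .xii, .y2, .p4, .xii, .y6, .p4, .tau, .xii, .y2, .hi, .p10],
  [.z, .Z8, .Z3, .Z0, .X9, .X8, .X7, .X6, .X4, .X3, .X2, .X1, .X0, .y10, .y8, .y7, .y3, .y2, .p7, .hi, .p4, .hi, .p8,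
   .hi, .p6, .hi, .p3, .hi, .p10, .xii, .p, .xii, .hi, .p10, .y8, .taui, .y1, .xii, .y1, .hi, .xii, .y6, .p10, .xii,
   .y4, .y10, .taui, .X0, .xii, .y2, .p3, .xii, .p6, .xii, .y3, .y10, .p5, .tau, .xii, .p4, .xii, .y2, .p9, .y8, .xii,
   .y10, .tau, .xii, .hi, .xii, .y5]⟩

theorem h364 : Hd F (g wAd) b364 := hdD (by decide +kernel)
theorem r364_0 : R9 F (g wAd) b364 [] 0 0 := .of (startD 0 1) (by decide +kernel)
theorem r364_1 : R9 F (g wAd) b364 [] 0 1 := .of (startD 0 1) (by decide +kernel)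
theorem r364_2 : R9 F (g wAd) b364 [] 0 2 := .of (startD 0 1) (by decide +kernel)
theorem r364_3 : R9 F (g wAd) b364 [] 1 0 := .of (startD 0 1) (by decide +kernel)
theorem r364_4 : R9 F (g wAd) b364 [] 1 1 := .of (startD 0 1) (by decide +kernel)
theorem r364_5 : R9 F (g wAd) b364 [] 1 2 := .of (startD 0 1) (by decide +kernel)
theorem r364_6 : R9 F (g wAd) b364 [] 2 0 := .of (startD 0 3) (by decide +kernel)
theorem r364_7 : R9 F (g wAd) b364 [] 2 1 := .of (startD 0 1) (by decide +kernel)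
theorem r364_8 : R9 F (g wAd) b364 [] 2 2 := .of (startD 0 1) (by decide +kernel)
theorem g364 : Gd F (g wAd) (0, d364) [] :=
  good9 ok h364 r364_0 r364_1 r364_2 r364_3 r364_4 r364_5 r364_6 r364_7 r364_8

def b365 : Wd := ⟨0, d365,
  [.Z7, .Z6, .Z4, .Z2, .Z1, .X10, .X9, .X7, .X6, .X4, .X3, .X2, .X1, .X0, .y10, .y9, .y7, .y6, .y3, .y1, .p9, .hi,
   .p6, .hi, .p7, .hi, .p10, .hi, .p5, .hi, .p6, .xii, .y2, .hi, .p8, .xii, .taui, .xii, .y6, .p, .xii, .p, .y7, .xii,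
   .y6, .taui, .X0, .p6, .xii, .hi, .p6, .xii, .y3, .p4, .y4, .hi, .taui, .xii, .p5, .xii, .y3, .p5, .y3, .xii, .y4,
   .tau, .xii, .p6],
  [.Z8, .Z7, .Z3, .Z0, .X7, .X1, .y9, .y8, .y7, .y1, .hi, .p3, .hi, .p7, .hi, .p5, .hi, .p6, .hi, .p8, .xii, .hi,
   .xii, .p10, .xii, .y2, .y9, .tau, .y1, .xii, .p9, .xii, .y4, .y9, .p8, .xii, .y4, .y7, .taui, .xii, .p5, .xii, .p,
   .y8, .xii, .tau, .xii, .p8, .xii, .y8],
  [.z, .Z10, .Z9, .Z7, .Z6, .Z5, .Z3, .X8, .X6, .X5, .X4, .X3, .y10, .y7, .y6, .y4, .y3, .y1, .p9, .hi, .p9, .hi, .p8,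
   .hi, .p8, .hi, .p, .hi, .p9, .xii, .p10, .xii, .y4, .p8, .tau, .y1, .xii, .p10, .xii, .y1, .y7, .p10, .xii, .y10,
   .taui, .X0, .xii, .y1, .p5, .xii, .p7, .y5, .xii, .y4, .y7, .taui, .xii, .p6, .xii, .p7, .y5, .xii, .y9, .taui,
   .xii, .p6]⟩

theorem h365 : Hd F (g wAd) b365 := hdD (by decide +kernel)
theorem r365_0 : R9 F (g wAd) b365 [] 0 0 := .of (startD 0 1) (by decide +kernel)
theorem r365_1 : R9 F (g wAd) b365 [] 0 1 := .of (startD 0 1) (by decide +kernel)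
theorem r365_2 : R9 F (g wAd) b365 [] 0 2 := .of (startD 0 1) (by decide +kernel)
theorem r365_3 : R9 F (g wAd) b365 [] 1 0 := .of (startD 0 1) (by decide +kernel)
theorem r365_4 : R9 F (g wAd) b365 [] 1 1 := .of (startD 0 1) (by decide +kernel)
theorem r365_5 : R9 F (g wAd) b365 [] 1 2 := .of (startD 0 1) (by decide +kernel)
theorem r365_6 : R9 F (g wAd) b365 [] 2 0 := .of (startD 0 1) (by decide +kernel)
theorem r365_7 : R9 F (g wAd) b365 [] 2 1 := .of (startD 0 1) (by decide +kernel)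
theorem r365_8 : R9 F (g wAd) b365 [] 2 2 := .of (startD 0 1) (by decide +kernel)
theorem g365 : Gd F (g wAd) (0, d365) [] :=
  good9 ok h365 r365_0 r365_1 r365_2 r365_3 r365_4 r365_5 r365_6 r365_7 r365_8

def b366 : Wd := ⟨0, d366,
  [.z, .Z10, .Z6, .Z4, .Z1, .Z0, .X10, .X9, .X8, .X7, .X4, .X0, .y10, .y9, .y7, .y4, .y1, .p7, .hi, .p5, .hi, .p5,
   .hi, .p, .hi, .p7, .hi, .xii, .y2, .p, .xii, .y10, .hi, .p10, .taui, .xii, .y1, .p, .xii, .p, .xii, .y6, .taui,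
   .p6, .xii, .p2, .xii, .p3, .y5, .tau, .xii, .p9, .xii, .y1, .y8, .p6, .xii, .y8, .taui, .xii, .y7, .p10],
  [.Z8, .Z6, .Z5, .Z4, .Z3, .Z2, .X10, .X9, .X5, .X3, .X0, .y10, .y9, .y8, .y5, .y3, .hi, .p5, .hi, .p5, .hi, .p7,
   .hi, .p6, .hi, .p10, .xii, .p2, .hi, .xii, .tau, .y1, .xii, .y2, .hi, .xii, .p10, .xii, .y4, .tau, .X0, .p6, .xii,
   .p2, .xii, .p2, .y6, .hi, .p10, .tau, .xii, .p7, .xii, .y5, .p3, .y3, .xii, .y8, .taui, .xii, .p3],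
  [.Z9, .Z8, .Z0, .X8, .X7, .X6, .X5, .X4, .X3, .X2, .X1, .y10, .y9, .y6, .y5, .y4, .p6, .hi, .p7, .hi, .p10, .hi,
   .p6, .xii, .hi, .p3, .hi, .p5, .taui, .xii, .p, .xii, .y3, .hi, .xii, .y5, .y8, .tau, .X0, .p8, .xii, .p, .xii,
   .y6, .p5, .tau, .xii, .p8, .xii, .y9, .p2, .xii, .y5, .taui, .xii, .y2, .hi, .xii]⟩

theorem h366 : Hd F (g wAd) b366 := hdD (by decide +kernel)
theorem r366_0 : R9 F (g wAd) b366 [] 0 0 := .of (startD 0 1) (by decide +kernel)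
theorem r366_1 : R9 F (g wAd) b366 [] 0 1 := .of (startD 0 1) (by decide +kernel)
theorem r366_2 : R9 F (g wAd) b366 [] 0 2 := .of (startD 0 1) (by decide +kernel)
theorem r366_3 : R9 F (g wAd) b366 [] 1 0 := .of (startD 0 1) (by decide +kernel)
theorem r366_4 : R9 F (g wAd) b366 [] 1 1 := .of (startD 0 1) (by decide +kernel)
theorem r366_5 : R9 F (g wAd) b366 [] 1 2 := .of (startD 0 1) (by decide +kernel)
theorem r366_6 : R9 F (g wAd) b366 [] 2 0 := .of (startD 0 1) (by decide +kernel)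
theorem r366_7 : R9 F (g wAd) b366 [] 2 1 := .of (startD 0 1) (by decide +kernel)
theorem r366_8 : R9 F (g wAd) b366 [] 2 2 := .of (startD 0 1) (by decide +kernel)
theorem g366 : Gd F (g wAd) (0, d366) [] :=
  good9 ok h366 r366_0 r366_1 r366_2 r366_3 r366_4 r366_5 r366_6 r366_7 r366_8

def b367 : Wd := ⟨0, d367,
  [.Z10, .Z9, .Z8, .Z7, .Z6, .Z5, .Z2, .X10, .X8, .X6, .X3, .y9, .y8, .y7, .y6, .y5, .y4, .y2, .y1, .hi, .p2, .hi,
   .p8, .hi, .p4, .hi, .p8, .hi, .p6, .hi, .xii, .p10, .xii, .y9, .p8, .taui, .xii, .p, .xii, .y3, .hi, .xii, .y7,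
   .y10, .tau, .p8, .xii, .y5, .hi, .xii, .p9, .xii, .tau, .xii, .y2, .p7, .xii, .p5, .xii, .y8, .taui, .xii, .y2,
   .hi],
  [.Z8, .Z6, .Z5, .Z4, .Z1, .X8, .X6, .X2, .y8, .y3, .y1, .p3, .hi, .p5, .hi, .p3, .hi, .p2, .xii, .y2, .p, .xii, .p5,
   .xii, .y3, .y4, .taui, .xii, .y6, .p, .xii, .y3, .y4, .taui, .p2, .xii, .hi, .p5, .xii, .p9, .y3, .tau, .xii, .p3,
   .xii, .y1, .p6, .xii, .y7, .tau, .xii, .y2, .p],
  [.Z9, .Z8, .Z7, .Z2, .Z1, .X10, .X9, .X8, .X7, .X3, .X0, .y10, .y6, .y5, .y3, .y2, .y1, .hi, .p9, .hi, .p10, .hi,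
   .p9, .hi, .p5, .hi, .p8, .hi, .p10, .xii, .p, .xii, .p9, .y1, .xii, .y10, .taui, .y1, .xii, .p10, .xii, .y5, .p10,
   .xii, .y4, .tau, .p5, .xii, .y7, .p, .hi, .xii, .p, .y8, .tau, .xii, .p3, .xii, .y2, .p, .xii, .y7, .y10, .tau,
   .xii, .p]⟩

theorem h367 : Hd F (g wAd) b367 := hdD (by decide +kernel)
theorem r367_0 : R9 F (g wAd) b367 [] 0 0 := .of (startD 0 1) (by decide +kernel)
theorem r367_1 : R9 F (g wAd) b367 [] 0 1 := .of (startD 0 1) (by decide +kernel)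
theorem r367_2 : R9 F (g wAd) b367 [] 0 2 := .of (startD 0 1) (by decide +kernel)
theorem r367_3 : R9 F (g wAd) b367 [] 1 0 := .of (startD 0 1) (by decide +kernel)
theorem r367_4 : R9 F (g wAd) b367 [] 1 1 := .of (startD 0 1) (by decide +kernel)
theorem r367_5 : R9 F (g wAd) b367 [] 1 2 := .of (startD 0 1) (by decide +kernel)
theorem r367_6 : R9 F (g wAd) b367 [] 2 0 := .of (startD 0 1) (by decide +kernel)
theorem r367_7 : R9 F (g wAd) b367 [] 2 1 := .of (startD 0 1) (by decide +kernel)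
theorem r367_8 : R9 F (g wAd) b367 [] 2 2 := .of (startD 0 1) (by decide +kernel)
theorem g367 : Gd F (g wAd) (0, d367) [] :=
  good9 ok h367 r367_0 r367_1 r367_2 r367_3 r367_4 r367_5 r367_6 r367_7 r367_8

def b368 : Wd := ⟨0, d368,
  [.Z9, .Z6, .Z5, .Z4, .Z3, .Z2, .Z0, .X6, .X5, .y9, .y8, .y6, .y2, .p6, .hi, .p5, .hi, .p7, .hi, .p, .hi, .p7, .hi,
   .p4, .hi, .xii, .p10, .xii, .y8, .p10, .taui, .xii, .y6, .p, .xii, .y2, .p, .xii, .y4, .y5, .tau, .p4, .xii, .p4,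
   .y4, .xii, .p10, .hi, .y10, .p5, .taui, .xii, .p8, .xii, .p4, .y1, .xii, .y2, .taui, .xii, .hi, .xii, .y10],
  [.Z10, .Z9, .Z8, .Z6, .Z2, .Z1, .X6, .X3, .X0, .y8, .y3, .y1, .p5, .hi, .p9, .hi, .p4, .hi, .p4, .hi, .p, .hi, .p3,
   .hi, .xii, .p10, .taui, .xii, .y1, .p, .xii, .p, .xii, .y1, .y10, .taui, .X0, .p4, .xii, .p7, .xii, .y1, .hi, .p10,
   .y5, .tau, .xii, .p4, .xii, .y1, .y8, .p8, .xii, .taui, .xii, .p4],
  [.z, .Z8, .Z7, .Z5, .Z4, .Z3, .Z0, .X10, .X6, .X5, .X2, .X1, .X0, .y9, .y8, .y6, .y4, .y3, .y1, .hi, .p10, .hi, .p,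
   .hi, .p3, .hi, .p6, .hi, .p, .hi, .p8, .hi, .xii, .y2, .p2, .hi, .p3, .hi, .tau, .xii, .y2, .p, .xii, .y2, .hi,
   .xii, .y4, .y7, .taui, .xii, .p7, .xii, .p9, .xii, .y2, .y3, .y4, .y7, .y10, .tau, .xii, .y2, .p7, .xii, .p7, .xii,
   .y10, .tau, .xii]⟩

theorem h368 : Hd F (g wAd) b368 := hdD (by decide +kernel)
theorem r368_0 : R9 F (g wAd) b368 [] 0 0 := .of (startD 0 1) (by decide +kernel)
theorem r368_1 : R9 F (g wAd) b368 [] 0 1 := .of (startD 0 1) (by decide +kernel)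
theorem r368_2 : R9 F (g wAd) b368 [] 0 2 := .of (startD 0 1) (by decide +kernel)
theorem r368_3 : R9 F (g wAd) b368 [] 1 0 := .of (startD 0 1) (by decide +kernel)
theorem r368_4 : R9 F (g wAd) b368 [] 1 1 := .of (startD 0 1) (by decide +kernel)
theorem r368_5 : R9 F (g wAd) b368 [] 1 2 := .of (startD 0 1) (by decide +kernel)
theorem r368_6 : R9 F (g wAd) b368 [] 2 0 := .of (startD 0 1) (by decide +kernel)
theorem r368_7 : R9 F (g wAd) b368 [] 2 1 := .of (startD 0 1) (by decide +kernel)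
theorem r368_8 : R9 F (g wAd) b368 [] 2 2 := .of (startD 0 1) (by decide +kernel)
theorem g368 : Gd F (g wAd) (0, d368) [] :=
  good9 ok h368 r368_0 r368_1 r368_2 r368_3 r368_4 r368_5 r368_6 r368_7 r368_8

def b369 : Wd := ⟨0, d369,
  [.Z9, .Z5, .Z2, .Z0, .X9, .X5, .X4, .X3, .X0, .y6, .y5, .y3, .p10, .hi, .p, .hi, .p4, .hi, .p8, .hi, .p6, .hi, .p9,
   .xii, .p3, .hi, .xii, .y3, .y9, .p6, .tau, .xii, .p, .xii, .y4, .hi, .xii, .y5, .taui, .y1, .xii, .p10, .xii, .y1,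
   .p10, .xii, .y8, .y10, .taui, .p5, .xii, .y9, .p6, .xii, .tau, .xii, .p6, .xii, .y2, .p6, .xii, .y9, .taui, .xii,
   .p5, .hi, .p],
  [.z, .Z10, .Z0, .X10, .X9, .X8, .X6, .X4, .X3, .X2, .X0, .y7, .y6, .y5, .y3, .y1, .p2, .hi, .p8, .hi, .p10, .hi,
   .p6, .hi, .p6, .hi, .p5, .hi, .xii, .y2, .p, .xii, .p9, .xii, .y3, .y7, .tau, .X0, .y1, .p7, .xii, .p8, .xii, .y5,
   .p5, .hi, .p6, .taui, .xii, .p8, .xii, .y1, .p6, .taui, .xii, .p7],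
  [.z, .Z10, .Z9, .Z8, .Z7, .Z6, .Z4, .Z1, .Z0, .X10, .X9, .X7, .X5, .X2, .X0, .y6, .y5, .y2, .hi, .p3, .hi, .p9, .hi,
   .p5, .hi, .p6, .hi, .p5, .hi, .xii, .p10, .xii, .p5, .y3, .tau, .xii, .p, .xii, .y1, .hi, .xii, .y3, .y8, .tau,
   .X0, .y1, .p5, .xii, .p7, .xii, .y4, .p4, .hi, .tau, .xii, .p9, .xii, .p6, .y5, .xii, .y2, .y10, .taui, .xii, .y8,
   .p2, .hi]⟩

theorem h369 : Hd F (g wAd) b369 := hdD (by decide +kernel)
theorem r369_0 : R9 F (g wAd) b369 [] 0 0 := .of (startD 0 1) (by decide +kernel)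
theorem r369_1 : R9 F (g wAd) b369 [] 0 1 := .of (startD 0 1) (by decide +kernel)
theorem r369_2 : R9 F (g wAd) b369 [] 0 2 := .of (startD 0 1) (by decide +kernel)
theorem r369_3 : R9 F (g wAd) b369 [] 1 0 := .of (startD 0 1) (by decide +kernel)
theorem r369_4 : R9 F (g wAd) b369 [] 1 1 := .of (startD 0 1) (by decide +kernel)
theorem r369_5 : R9 F (g wAd) b369 [] 1 2 := .of (startD 0 1) (by decide +kernel)
theorem r369_6 : R9 F (g wAd) b369 [] 2 0 := .of (startD 0 1) (by decide +kernel)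
theorem r369_7 : R9 F (g wAd) b369 [] 2 1 := .of (startD 0 1) (by decide +kernel)
theorem r369_8 : R9 F (g wAd) b369 [] 2 2 := .of (startD 0 1) (by decide +kernel)
theorem g369 : Gd F (g wAd) (0, d369) [] :=
  good9 ok h369 r369_0 r369_1 r369_2 r369_3 r369_4 r369_5 r369_6 r369_7 r369_8

theorem all : AllG F (g wAd) LD36 :=
  .cons g360 (.cons g361 (.cons g362 (.cons g363 (.cons g364 (.cons g365 (.cons g366 (.cons g367 (.cons g368 (.cons g369 (.nil))))))))))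

end Cfsg.Agent.BX.No33.Bk.D36
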