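import Cfsg.Agent.BX.No33.Cheap
set_option linter.all false

/-!
# Tests, diagonal case, part 37 (helper5; generated)
-/

set_option autoImplicit false
set_option maxRecDepth 100000
set_option Elab.async false

namespace Cfsg.Agent.BX.No33.Bk.D37

open Cfsg.Agent.H819.U33 Cfsg.Agent.BX.No33.Front

def b370 : Wd := ⟨0, d370,
  [.Z10, .Z8, .Z6, .Z3, .X9, .X7, .X6, .X5, .X4, .X2, .y10, .y9, .y8, .y7, .y4, .y3, .y1, .hi, .p3, .hi, .p4, .hi,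
   .p2, .hi, .xii, .y2, .p, .xii, .y1, .y2, .tau, .p10, .xii, .y6, .hi, .xii, .p5, .hi, .p8, .taui, .X0, .p2, .xii,
   .p4, .xii, .y3, .y9, .p5, .taui, .xii, .p4, .xii, .p10, .y9, .hi, .p3, .taui, .xii, .y2, .p7],
  [.z, .Z10, .Z7, .Z6, .Z1, .X8, .X7, .X6, .X5, .X3, .y10, .y7, .y6, .y4, .y2, .p10, .hi, .p, .hi, .p6, .hi, .p8, .hi,
   .p4, .hi, .p, .xii, .p, .xii, .y1, .y10, .hi, .xii, .y6, .taui, .y1, .xii, .p10, .xii, .y2, .p10, .xii, .y10,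
   .taui, .X0, .xii, .p7, .xii, .p9, .xii, .y2, .y3, .y10, .p4, .tau, .xii, .p5, .hi, .xii, .y5, .hi, .p8],
  [.z, .Z9, .Z6, .Z5, .Z3, .Z2, .Z0, .X5, .X4, .X3, .X2, .X0, .y8, .y6, .y5, .y1, .hi, .p10, .hi, .p4, .hi, .p3, .hi,
   .p6, .hi, .p8, .hi, .p2, .hi, .xii, .y2, .p, .xii, .y3, .y10, .tau, .xii, .p, .xii, .y6, .hi, .p10, .taui, .hi,
   .xii, .y7, .p10, .xii, .taui, .xii, .p9, .xii, .y8, .p, .xii, .y6, .tau, .xii, .hi, .p2]⟩

theorem h370 : Hd F (g wAd) b370 := hdD (by decide +kernel)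
theorem r370_0 : R9 F (g wAd) b370 [] 0 0 := .of (startD 0 1) (by decide +kernel)
theorem r370_1 : R9 F (g wAd) b370 [] 0 1 := .of (startD 0 1) (by decide +kernel)
theorem r370_2 : R9 F (g wAd) b370 [] 0 2 := .of (startD 0 1) (by decide +kernel)
theorem r370_3 : R9 F (g wAd) b370 [] 1 0 := .of (startD 0 2) (by decide +kernel)
theorem r370_4 : R9 F (g wAd) b370 [] 1 1 := .of (startD 0 1) (by decide +kernel)
theorem r370_5 : R9 F (g wAd) b370 [] 1 2 := .of (startD 0 1) (by decide +kernel)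
theorem r370_6 : R9 F (g wAd) b370 [] 2 0 := .of (startD 0 1) (by decide +kernel)
theorem r370_7 : R9 F (g wAd) b370 [] 2 1 := .of (startD 0 1) (by decide +kernel)
theorem r370_8 : R9 F (g wAd) b370 [] 2 2 := .of (startD 0 1) (by decide +kernel)
theorem g370 : Gd F (g wAd) (0, d370) [] :=
  good9 ok h370 r370_0 r370_1 r370_2 r370_3 r370_4 r370_5 r370_6 r370_7 r370_8

def b371 : Wd := ⟨0, d371,
  [.z, .Z10, .Z7, .Z5, .Z4, .Z0, .X7, .X5, .X2, .X1, .X0, .y10, .y9, .y8, .y7, .y3, .y1, .p8, .hi, .p4, .hi, .p10,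
   .hi, .p3, .hi, .p6, .hi, .p10, .hi, .xii, .p, .xii, .y4, .p8, .xii, .y7, .tau, .xii, .p, .xii, .y4, .hi, .xii, .y3,
   .y10, .taui, .xii, .hi, .xii, .p5, .xii, .y3, .p6, .y4, .taui, .xii, .p4, .xii, .y3, .y4, .hi, .p3, .hi, .tau,
   .xii, .p10, .hi, .p8],
  [.z, .Z8, .Z6, .Z5, .Z3, .Z0, .X10, .X7, .X6, .X4, .X3, .X2, .X1, .X0, .y8, .y7, .y6, .y5, .y3, .y2, .p10, .hi, .p3,
   .hi, .p3, .hi, .p4, .hi, .p7, .hi, .p10, .taui, .xii, .p, .xii, .y2, .y10, .hi, .xii, .y4, .y7, .tau, .y1, .xii,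
   .p9, .xii, .y2, .p5, .xii, .y3, .p2, .tau, .xii, .p7, .xii, .y5, .y9, .y10, .p7, .xii, .tau, .xii, .p8],
  [.Z10, .Z9, .Z6, .Z3, .Z2, .Z1, .X4, .X2, .X1, .X0, .y9, .y7, .y6, .y3, .y2, .y1, .hi, .p8, .hi, .p7, .hi, .p3, .hi,
   .p6, .hi, .p7, .hi, .p2, .xii, .p10, .xii, .y1, .p6, .xii, .y7, .tau, .xii, .y2, .p, .xii, .y2, .hi, .xii, .y4,
   .y7, .tau, .X0, .xii, .p5, .xii, .p, .xii, .y2, .y8, .y10, .tau, .xii, .p2, .xii, .y7, .p10, .xii, .y7, .tau, .xii,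
   .p5, .xii, .y8]⟩

theorem h371 : Hd F (g wAd) b371 := hdD (by decide +kernel)
theorem r371_0 : R9 F (g wAd) b371 [] 0 0 := .of (startD 0 1) (by decide +kernel)
theorem r371_1 : R9 F (g wAd) b371 [] 0 1 := .of (startD 0 1) (by decide +kernel)
theorem r371_2 : R9 F (g wAd) b371 [] 0 2 := .of (startD 0 1) (by decide +kernel)
theorem r371_3 : R9 F (g wAd) b371 [] 1 0 := .of (startD 0 1) (by decide +kernel)
theorem r371_4 : R9 F (g wAd) b371 [] 1 1 := .of (startD 0 1) (by decide +kernel)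
theorem r371_5 : R9 F (g wAd) b371 [] 1 2 := .of (startD 0 1) (by decide +kernel)
theorem r371_6 : R9 F (g wAd) b371 [] 2 0 := .of (startD 0 1) (by decide +kernel)
theorem r371_7 : R9 F (g wAd) b371 [] 2 1 := .of (startD 0 1) (by decide +kernel)
theorem r371_8 : R9 F (g wAd) b371 [] 2 2 := .of (startD 0 1) (by decide +kernel)
theorem g371 : Gd F (g wAd) (0, d371) [] :=
  good9 ok h371 r371_0 r371_1 r371_2 r371_3 r371_4 r371_5 r371_6 r371_7 r371_8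

def b372 : Wd := ⟨0, d372,
  [.Z10, .Z8, .Z7, .Z5, .Z2, .Z1, .Z0, .X10, .X9, .X5, .X4, .X3, .X2, .X1, .X0, .y10, .y6, .y5, .y3, .y1, .p8, .hi,
   .p4, .hi, .p4, .hi, .p10, .hi, .p3, .hi, .p10, .hi, .xii, .p10, .xii, .y2, .tau, .xii, .y6, .p, .xii, .y10, .p,
   .xii, .y4, .y6, .tau, .X0, .p2, .xii, .p, .xii, .y4, .hi, .y5, .p5, .taui, .xii, .p8, .xii, .p, .y1, .y3, .taui,
   .xii, .p8],
  [.z, .Z8, .Z2, .Z0, .X10, .X7, .X5, .X4, .X3, .y10, .y8, .y6, .y5, .y4, .y3, .y2, .p5, .hi, .p5, .hi, .p8, .hi, .p,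
   .hi, .p8, .xii, .hi, .p8, .xii, .y2, .p10, .taui, .xii, .y1, .p, .xii, .y4, .p, .xii, .y1, .tau, .p10, .xii, .p9,
   .xii, .y2, .p2, .hi, .p7, .tau, .xii, .y2, .p9, .xii, .y1, .y3, .p5],
  [.Z10, .Z8, .Z6, .Z5, .Z3, .Z2, .X8, .X5, .X3, .X2, .y10, .y9, .y8, .y7, .y6, .y4, .y3, .y2, .p, .hi, .p4, .hi, .p3,
   .hi, .p3, .hi, .p10, .hi, .p6, .xii, .hi, .p8, .xii, .y1, .p10, .taui, .xii, .y6, .p, .xii, .y10, .p, .xii, .y3,
   .y4, .tau, .p10, .xii, .y7, .p9, .xii, .y1, .hi, .p8, .hi, .taui, .xii, .y2, .p2, .xii, .y5, .p, .hi, .taui, .xii,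
   .y2, .p3]⟩

theorem h372 : Hd F (g wAd) b372 := hdD (by decide +kernel)
theorem r372_0 : R9 F (g wAd) b372 [] 0 0 := .of (startD 0 1) (by decide +kernel)
theorem r372_1 : R9 F (g wAd) b372 [] 0 1 := .of (startD 0 1) (by decide +kernel)
theorem r372_2 : R9 F (g wAd) b372 [] 0 2 := .of (startD 0 1) (by decide +kernel)
theorem r372_3 : R9 F (g wAd) b372 [] 1 0 := .of (startD 0 1) (by decide +kernel)
theorem r372_4 : R9 F (g wAd) b372 [] 1 1 := .of (startD 0 1) (by decide +kernel)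
theorem r372_5 : R9 F (g wAd) b372 [] 1 2 := .of (startD 0 1) (by decide +kernel)
theorem r372_6 : R9 F (g wAd) b372 [] 2 0 := .of (startD 0 1) (by decide +kernel)
theorem r372_7 : R9 F (g wAd) b372 [] 2 1 := .of (startD 0 1) (by decide +kernel)
theorem r372_8 : R9 F (g wAd) b372 [] 2 2 := .of (startD 0 1) (by decide +kernel)
theorem g372 : Gd F (g wAd) (0, d372) [] :=
  good9 ok h372 r372_0 r372_1 r372_2 r372_3 r372_4 r372_5 r372_6 r372_7 r372_8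

def b373 : Wd := ⟨0, d373,
  [.z, .Z10, .Z9, .Z8, .Z7, .Z6, .Z3, .Z2, .X10, .X9, .X8, .X7, .X3, .X0, .y9, .y8, .y5, .p4, .hi, .p7, .hi, .p3, .hi,
   .p9, .hi, .xii, .p, .xii, .p8, .y4, .xii, .y1, .taui, .xii, .y6, .p, .xii, .p, .xii, .y1, .taui, .p10, .xii, .p6,
   .xii, .y3, .p10, .xii, .tau, .xii, .p9, .xii, .y1, .y3, .p9, .xii, .y8, .tau, .xii, .y6, .hi, .p9],
  [.z, .Z7, .Z6, .Z4, .Z2, .Z1, .Z0, .X9, .X8, .X6, .X4, .X3, .X2, .X1, .X0, .y10, .y9, .y6, .y5, .y3, .y1, .p2, .hi,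
   .p8, .hi, .p5, .hi, .p7, .hi, .p10, .hi, .tau, .xii, .y2, .p, .xii, .y4, .hi, .xii, .y5, .taui, .p7, .xii, .p7,
   .xii, .y1, .y10, .p7, .hi, .taui, .xii, .p4, .xii, .y2, .p6, .xii, .y6, .tau, .xii, .p5, .hi, .p7],
  [.z, .Z10, .Z9, .Z7, .Z4, .Z0, .X8, .X7, .X6, .X4, .X3, .y10, .y7, .y6, .y5, .y4, .p4, .hi, .p8, .hi, .p4, .hi, .p8,
   .hi, .p3, .hi, .p3, .hi, .xii, .p, .xii, .y6, .p3, .hi, .tau, .xii, .p, .xii, .hi, .y8, .xii, .y1, .y9, .taui, .y1,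
   .xii, .y6, .p9, .xii, .y9, .p8, .xii, .y4, .y8, .y9, .taui, .xii, .p6, .xii, .y7, .p6, .xii, .taui, .xii, .p3]⟩

theorem h373 : Hd F (g wAd) b373 := hdD (by decide +kernel)
theorem r373_0 : R9 F (g wAd) b373 [] 0 0 := .of (startD 0 2) (by decide +kernel)
theorem r373_1 : R9 F (g wAd) b373 [] 0 1 := .of (startD 0 1) (by decide +kernel)
theorem r373_2 : R9 F (g wAd) b373 [] 0 2 := .of (startD 0 1) (by decide +kernel)
theorem r373_3 : R9 F (g wAd) b373 [] 1 0 := .of (startD 0 1) (by decide +kernel)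
theorem r373_4 : R9 F (g wAd) b373 [] 1 1 := .of (startD 0 1) (by decide +kernel)
theorem r373_5 : R9 F (g wAd) b373 [] 1 2 := .of (startD 0 1) (by decide +kernel)
theorem r373_6 : R9 F (g wAd) b373 [] 2 0 := .of (startD 0 1) (by decide +kernel)
theorem r373_7 : R9 F (g wAd) b373 [] 2 1 := .of (startD 0 1) (by decide +kernel)
theorem r373_8 : R9 F (g wAd) b373 [] 2 2 := .of (startD 0 1) (by decide +kernel)
theorem g373 : Gd F (g wAd) (0, d373) [] :=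
  good9 ok h373 r373_0 r373_1 r373_2 r373_3 r373_4 r373_5 r373_6 r373_7 r373_8

def b374 : Wd := ⟨0, d374,
  [.z, .Z10, .Z9, .Z7, .Z5, .Z4, .Z3, .Z0, .X10, .X2, .X1, .X0, .y10, .y8, .y6, .y5, .y4, .y3, .p6, .hi, .p5, .hi, .p,
   .hi, .p3, .hi, .p6, .hi, .p8, .xii, .p, .xii, .y4, .p, .xii, .y5, .taui, .y1, .xii, .p10, .xii, .y1, .p10, .xii,
   .y4, .y9, .tau, .X0, .p6, .xii, .p5, .xii, .p4, .y5, .y10, .tau, .xii, .p9, .xii, .p2, .y8, .hi, .p, .taui, .xii,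
   .p],
  [.z, .Z8, .Z6, .Z1, .Z0, .X10, .X5, .X4, .X2, .X0, .y10, .y8, .y7, .y6, .y2, .p2, .hi, .p, .hi, .p3, .hi, .p7, .hi,
   .p9, .xii, .p3, .hi, .taui, .y1, .xii, .p10, .xii, .y4, .p10, .xii, .y2, .y4, .taui, .X0, .xii, .p4, .xii, .y2,
   .p8, .xii, .y1, .y7, .p2, .taui, .xii, .y2, .p4, .xii, .y2, .p8, .xii, .y4, .tau, .xii],
  [.Z7, .Z4, .Z3, .Z2, .Z1, .X10, .X8, .X7, .X3, .X0, .y10, .y9, .y8, .y6, .y5, .y4, .hi, .p, .hi, .p7, .hi, .p9, .hi,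
   .p10, .hi, .p7, .hi, .xii, .hi, .xii, .p9, .y4, .xii, .y6, .tau, .xii, .y1, .p, .xii, .p, .xii, .y3, .y10, .taui,
   .xii, .y2, .p2, .xii, .y1, .hi, .xii, .y9, .p9, .taui, .xii, .p9, .xii, .y2, .p2, .y10, .hi, .taui, .xii, .y2, .p5,
   .hi, .p2]⟩

theorem h374 : Hd F (g wAd) b374 := hdD (by decide +kernel)
theorem r374_0 : R9 F (g wAd) b374 [] 0 0 := .of (startD 0 1) (by decide +kernel)
theorem r374_1 : R9 F (g wAd) b374 [] 0 1 := .of (startD 0 1) (by decide +kernel)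
theorem r374_2 : R9 F (g wAd) b374 [] 0 2 := .of (startD 0 1) (by decide +kernel)
theorem r374_3 : R9 F (g wAd) b374 [] 1 0 := .of (startD 0 1) (by decide +kernel)
theorem r374_4 : R9 F (g wAd) b374 [] 1 1 := .of (startD 0 1) (by decide +kernel)
theorem r374_5 : R9 F (g wAd) b374 [] 1 2 := .of (startD 0 1) (by decide +kernel)
theorem r374_6 : R9 F (g wAd) b374 [] 2 0 := .of (startD 0 1) (by decide +kernel)
theorem r374_7 : R9 F (g wAd) b374 [] 2 1 := .of (startD 0 1) (by decide +kernel)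
theorem r374_8 : R9 F (g wAd) b374 [] 2 2 := .of (startD 0 1) (by decide +kernel)
theorem g374 : Gd F (g wAd) (0, d374) [] :=
  good9 ok h374 r374_0 r374_1 r374_2 r374_3 r374_4 r374_5 r374_6 r374_7 r374_8

def b375 : Wd := ⟨0, d375,
  [.z, .Z7, .Z5, .Z4, .Z3, .Z0, .X10, .X9, .X7, .X4, .X2, .X0, .y10, .y9, .y8, .y7, .y6, .y2, .p7, .hi, .p7, .hi, .p6,
   .hi, .p8, .hi, .p, .hi, .p3, .xii, .p10, .xii, .y8, .p8, .tau, .xii, .y2, .p, .xii, .y1, .hi, .xii, .y5, .y10,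
   .tau, .X0, .p9, .xii, .p2, .y4, .xii, .p5, .y3, .hi, .p8, .taui, .xii, .y2, .p5, .xii, .y6, .p7, .xii, .tau, .xii,
   .p10, .xii, .y7],
  [.z, .Z10, .Z6, .Z5, .Z3, .Z0, .X8, .X6, .X3, .X1, .X0, .y9, .y6, .y4, .y3, .y1, .p5, .hi, .p7, .hi, .p4, .hi, .p6,
   .hi, .p9, .xii, .y2, .hi, .p10, .hi, .p8, .tau, .xii, .y6, .p, .xii, .p, .xii, .y7, .y10, .tau, .y1, .p8, .xii,
   .y2, .p3, .xii, .hi, .p3, .taui, .xii, .p5, .hi, .xii, .p, .y8, .taui, .xii, .p2, .hi, .p8],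
  [.Z10, .Z8, .Z7, .Z5, .Z2, .Z0, .X9, .X8, .X6, .X5, .X4, .X2, .X1, .y3, .y2, .hi, .p10, .hi, .p6, .hi, .p10, .hi,
   .p2, .hi, .p, .hi, .p7, .hi, .xii, .y2, .p10, .xii, .y2, .taui, .y1, .xii, .p10, .xii, .y1, .p10, .y9, .xii, .y4,
   .tau, .X0, .xii, .hi, .xii, .p5, .y4, .xii, .hi, .tau, .xii, .p9, .xii, .y5, .y9, .p2, .hi, .tau, .xii, .y2, .p4,
   .hi, .p2]⟩

theorem h375 : Hd F (g wAd) b375 := hdD (by decide +kernel)
theorem r375_0 : R9 F (g wAd) b375 [] 0 0 := .of (startD 0 1) (by decide +kernel)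
theorem r375_1 : R9 F (g wAd) b375 [] 0 1 := .of (startD 0 1) (by decide +kernel)
theorem r375_2 : R9 F (g wAd) b375 [] 0 2 := .of (startD 0 1) (by decide +kernel)
theorem r375_3 : R9 F (g wAd) b375 [] 1 0 := .of (startD 0 1) (by decide +kernel)
theorem r375_4 : R9 F (g wAd) b375 [] 1 1 := .of (startD 0 1) (by decide +kernel)
theorem r375_5 : R9 F (g wAd) b375 [] 1 2 := .of (startD 0 1) (by decide +kernel)
theorem r375_6 : R9 F (g wAd) b375 [] 2 0 := .of (startD 0 2) (by decide +kernel)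
theorem r375_7 : R9 F (g wAd) b375 [] 2 1 := .of (startD 0 1) (by decide +kernel)
theorem r375_8 : R9 F (g wAd) b375 [] 2 2 := .of (startD 0 1) (by decide +kernel)
theorem g375 : Gd F (g wAd) (0, d375) [] :=
  good9 ok h375 r375_0 r375_1 r375_2 r375_3 r375_4 r375_5 r375_6 r375_7 r375_8

def b376 : Wd := ⟨0, d376,
  [.z, .Z9, .Z5, .Z2, .Z1, .X10, .X9, .X7, .X5, .X4, .X2, .y10, .y7, .y6, .y4, .y3, .y2, .y1, .p7, .hi, .p4, .hi,
   .p10, .hi, .p, .hi, .p, .hi, .p3, .xii, .p10, .xii, .y6, .p5, .tau, .xii, .p, .xii, .y4, .hi, .xii, .y4, .y5, .y9,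
   .taui, .X0, .hi, .xii, .y7, .p9, .xii, .hi, .p9, .y8, .tau, .xii, .p4, .xii, .y2, .y10, .p2, .hi, .p8, .tau, .xii,
   .y2, .p8],
  [.Z5, .Z4, .Z3, .Z2, .Z1, .Z0, .X6, .X3, .X0, .y9, .y8, .y7, .y6, .y5, .y2, .p5, .hi, .p9, .hi, .p4, .hi, .p6, .hi,
   .p2, .hi, .xii, .p3, .hi, .xii, .y3, .p10, .taui, .xii, .y2, .p, .xii, .y2, .hi, .xii, .y6, .taui, .xii, .p9, .xii,
   .p3, .xii, .y1, .y2, .p7, .y7, .taui, .xii, .p2, .xii, .y4, .hi, .p5],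
  [.Z7, .Z6, .Z5, .Z3, .X10, .X9, .X7, .X6, .X4, .X3, .X2, .X1, .y7, .y4, .y3, .y2, .y1, .hi, .p8, .hi, .p6, .hi, .p9,
   .hi, .p7, .hi, .p6, .xii, .hi, .xii, .p5, .y1, .xii, .tau, .xii, .y6, .p, .xii, .y10, .p, .xii, .y1, .y2, .taui,
   .hi, .xii, .p2, .xii, .p3, .hi, .p10, .taui, .xii, .p3, .xii, .y2, .y7, .p5, .hi, .p5, .tau, .xii, .p10, .hi, .p8]⟩

theorem h376 : Hd F (g wAd) b376 := hdD (by decide +kernel)
theorem r376_0 : R9 F (g wAd) b376 [] 0 0 := .of (startD 0 1) (by decide +kernel)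
theorem r376_1 : R9 F (g wAd) b376 [] 0 1 := .of (startD 0 1) (by decide +kernel)
theorem r376_2 : R9 F (g wAd) b376 [] 0 2 := .of (startD 0 1) (by decide +kernel)
theorem r376_3 : R9 F (g wAd) b376 [] 1 0 := .of (startD 0 1) (by decide +kernel)
theorem r376_4 : R9 F (g wAd) b376 [] 1 1 := .of (startD 0 1) (by decide +kernel)
theorem r376_5 : R9 F (g wAd) b376 [] 1 2 := .of (startD 0 1) (by decide +kernel)
theorem r376_6 : R9 F (g wAd) b376 [] 2 0 := .of (startD 0 1) (by decide +kernel)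
theorem r376_7 : R9 F (g wAd) b376 [] 2 1 := .of (startD 0 1) (by decide +kernel)
theorem r376_8 : R9 F (g wAd) b376 [] 2 2 := .of (startD 0 1) (by decide +kernel)
theorem g376 : Gd F (g wAd) (0, d376) [] :=
  good9 ok h376 r376_0 r376_1 r376_2 r376_3 r376_4 r376_5 r376_6 r376_7 r376_8

def b377 : Wd := ⟨0, d377,
  [.Z10, .Z9, .Z7, .Z3, .Z2, .Z0, .X10, .X8, .X4, .X3, .X2, .X1, .y10, .y9, .y7, .y2, .hi, .p8, .hi, .p8, .hi, .p4,
   .hi, .p7, .hi, .p6, .hi, .p4, .hi, .xii, .y2, .p, .xii, .p9, .xii, .y8, .taui, .xii, .p, .xii, .y4, .hi, .xii, .y6,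
   .tau, .X0, .p10, .xii, .y8, .p5, .xii, .hi, .y10, .xii, .y8, .tau, .xii, .p9, .xii, .y3, .p9, .xii, .y7, .taui,
   .xii, .p8, .xii, .y9],
  [.z, .Z7, .Z5, .Z4, .Z3, .Z2, .Z0, .X10, .X9, .X8, .X6, .X2, .y9, .y8, .y3, .y2, .p5, .hi, .p6, .hi, .p3, .hi, .p,
   .hi, .p, .hi, .p5, .hi, .xii, .p, .xii, .y1, .y4, .tau, .xii, .p, .xii, .y2, .y10, .hi, .xii, .y7, .y10, .tau, .X0,
   .p8, .xii, .y5, .p4, .xii, .y8, .p3, .tau, .xii, .p4, .hi, .xii, .y10, .p8],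
  [.z, .Z10, .Z9, .Z7, .Z5, .Z4, .Z1, .Z0, .X10, .X7, .X5, .X1, .y10, .y9, .y7, .y6, .y2, .p10, .hi, .p5, .hi, .p5,
   .hi, .p7, .hi, .p, .hi, .p6, .hi, .xii, .p, .xii, .y10, .p9, .xii, .y8, .taui, .xii, .p, .xii, .y1, .y6, .hi, .xii,
   .y7, .taui, .xii, .p8, .xii, .y5, .p4, .xii, .y10, .p, .tau, .xii, .y2, .hi, .p6, .xii, .y4, .hi, .p9, .taui, .xii,
   .p7]⟩

theorem h377 : Hd F (g wAd) b377 := hdD (by decide +kernel)
theorem r377_0 : R9 F (g wAd) b377 [] 0 0 := .of (startD 0 1) (by decide +kernel)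
theorem r377_1 : R9 F (g wAd) b377 [] 0 1 := .of (startD 0 1) (by decide +kernel)
theorem r377_2 : R9 F (g wAd) b377 [] 0 2 := .of (startD 0 1) (by decide +kernel)
theorem r377_3 : R9 F (g wAd) b377 [] 1 0 := .of (startD 0 1) (by decide +kernel)
theorem r377_4 : R9 F (g wAd) b377 [] 1 1 := .of (startD 0 1) (by decide +kernel)
theorem r377_5 : R9 F (g wAd) b377 [] 1 2 := .of (startD 0 1) (by decide +kernel)
theorem r377_6 : R9 F (g wAd) b377 [] 2 0 := .of (startD 0 1) (by decide +kernel)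
theorem r377_7 : R9 F (g wAd) b377 [] 2 1 := .of (startD 0 1) (by decide +kernel)
theorem r377_8 : R9 F (g wAd) b377 [] 2 2 := .of (startD 0 1) (by decide +kernel)
theorem g377 : Gd F (g wAd) (0, d377) [] :=
  good9 ok h377 r377_0 r377_1 r377_2 r377_3 r377_4 r377_5 r377_6 r377_7 r377_8

def b378 : Wd := ⟨0, d378,
  [.z, .Z9, .Z8, .Z6, .Z4, .Z1, .Z0, .X9, .X8, .X7, .X5, .X4, .X2, .y8, .y6, .y4, .y3, .y2, .hi, .p2, .hi, .p3, .hi,
   .p7, .hi, .p5, .hi, .p2, .hi, .xii, .p, .xii, .p9, .y7, .xii, .tau, .xii, .p, .xii, .hi, .y8, .xii, .y7, .y8, .y10,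
   .taui, .p6, .xii, .y8, .p5, .xii, .hi, .p3, .taui, .xii, .p7, .xii, .y6, .y10, .p9, .tau, .xii, .p4, .hi, .p2],
  [.z, .Z7, .Z5, .Z3, .Z2, .Z1, .X8, .X6, .X5, .X4, .X1, .X0, .y10, .y6, .y5, .y4, .y3, .y2, .p8, .hi, .p9, .hi, .p6,
   .hi, .p9, .hi, .p4, .hi, .p, .xii, .y2, .p, .xii, .y1, .taui, .y1, .xii, .p10, .xii, .y4, .p10, .xii, .y2, .y8,
   .tau, .X0, .hi, .xii, .p9, .xii, .y9, .p4, .y3, .hi, .tau, .xii, .p10, .xii, .y6, .p9],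
  [.Z9, .Z7, .Z6, .Z5, .Z4, .Z2, .Z1, .Z0, .X7, .X2, .X1, .y10, .y8, .y7, .y6, .y5, .y2, .p9, .hi, .p9, .hi, .p7, .hi,
   .p7, .hi, .p4, .hi, .p8, .hi, .p10, .xii, .p10, .xii, .p2, .y5, .xii, .y5, .taui, .y1, .xii, .y2, .hi, .xii, .p10,
   .xii, .y8, .taui, .xii, .p9, .xii, .p3, .xii, .y2, .y8, .p9, .taui, .xii, .hi, .p6, .xii, .p5, .y3, .taui, .xii,
   .p3]⟩

theorem h378 : Hd F (g wAd) b378 := hdD (by decide +kernel)
theorem r378_0 : R9 F (g wAd) b378 [] 0 0 := .of (startD 0 1) (by decide +kernel)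
theorem r378_1 : R9 F (g wAd) b378 [] 0 1 := .of (startD 0 1) (by decide +kernel)
theorem r378_2 : R9 F (g wAd) b378 [] 0 2 := .of (startD 0 2) (by decide +kernel)
theorem r378_3 : R9 F (g wAd) b378 [] 1 0 := .of (startD 0 1) (by decide +kernel)
theorem r378_4 : R9 F (g wAd) b378 [] 1 1 := .of (startD 0 1) (by decide +kernel)
theorem r378_5 : R9 F (g wAd) b378 [] 1 2 := .of (startD 0 1) (by decide +kernel)
theorem r378_6 : R9 F (g wAd) b378 [] 2 0 := .of (startD 0 1) (by decide +kernel)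
theorem r378_7 : R9 F (g wAd) b378 [] 2 1 := .of (startD 0 1) (by decide +kernel)
theorem r378_8 : R9 F (g wAd) b378 [] 2 2 := .of (startD 0 1) (by decide +kernel)
theorem g378 : Gd F (g wAd) (0, d378) [] :=
  good9 ok h378 r378_0 r378_1 r378_2 r378_3 r378_4 r378_5 r378_6 r378_7 r378_8

def b379 : Wd := ⟨0, d379,
  [.Z10, .Z8, .Z6, .Z3, .Z2, .X9, .X6, .X5, .X1, .X0, .y10, .y8, .y4, .y2, .p10, .hi, .p6, .hi, .p, .hi, .p5, .hi,
   .p3, .hi, .p4, .hi, .p7, .hi, .xii, .p10, .xii, .y4, .p6, .xii, .y7, .y10, .taui, .xii, .p, .xii, .y1, .hi, .xii,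
   .y2, .y3, .taui, .X0, .p10, .xii, .p9, .xii, .p2, .y4, .y6, .hi, .p5, .tau, .xii, .p4, .xii, .p8, .y2, .xii, .y2,
   .y4, .tau, .xii, .hi, .p4],
  [.z, .Z8, .Z7, .Z5, .Z3, .Z2, .Z1, .X9, .X5, .X2, .X1, .y10, .y7, .y3, .hi, .p5, .hi, .p8, .hi, .p5, .hi, .p9, .hi,
   .p7, .xii, .y2, .p, .xii, .p2, .hi, .tau, .xii, .p, .xii, .y1, .hi, .xii, .y4, .y5, .taui, .p2, .xii, .y6, .p5,
   .hi, .p10, .xii, .p9, .taui, .xii, .p8, .xii, .p2, .y10, .xii, .y3, .tau, .xii, .y2, .p3],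
  [.Z9, .Z8, .Z7, .Z4, .Z2, .Z1, .Z0, .X9, .X7, .X6, .X4, .X3, .X0, .y9, .y8, .y5, .y4, .y1, .p9, .hi, .p3, .hi, .p,
   .hi, .p6, .hi, .p10, .hi, .p6, .hi, .xii, .p, .xii, .p9, .y1, .xii, .y10, .tau, .y1, .xii, .p10, .xii, .y1, .p10,
   .xii, .y4, .y8, .tau, .p10, .xii, .y5, .p10, .xii, .p8, .xii, .y3, .tau, .xii, .p3, .hi, .p5, .hi]⟩

theorem h379 : Hd F (g wAd) b379 := hdD (by decide +kernel)
theorem r379_0 : R9 F (g wAd) b379 [] 0 0 := .of (startD 0 1) (by decide +kernel)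
theorem r379_1 : R9 F (g wAd) b379 [] 0 1 := .of (startD 0 1) (by decide +kernel)
theorem r379_2 : R9 F (g wAd) b379 [] 0 2 := .of (startD 0 1) (by decide +kernel)
theorem r379_3 : R9 F (g wAd) b379 [] 1 0 := .of (startD 0 1) (by decide +kernel)
theorem r379_4 : R9 F (g wAd) b379 [] 1 1 := .of (startD 0 1) (by decide +kernel)
theorem r379_5 : R9 F (g wAd) b379 [] 1 2 := .of (startD 0 1) (by decide +kernel)
theorem r379_6 : R9 F (g wAd) b379 [] 2 0 := .of (startD 0 1) (by decide +kernel)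
theorem r379_7 : R9 F (g wAd) b379 [] 2 1 := .of (startD 0 1) (by decide +kernel)
theorem r379_8 : R9 F (g wAd) b379 [] 2 2 := .of (startD 0 1) (by decide +kernel)
theorem g379 : Gd F (g wAd) (0, d379) [] :=
  good9 ok h379 r379_0 r379_1 r379_2 r379_3 r379_4 r379_5 r379_6 r379_7 r379_8

theorem all : AllG F (g wAd) LD37 :=
  .cons g370 (.cons g371 (.cons g372 (.cons g373 (.cons g374 (.cons g375 (.cons g376 (.cons g377 (.cons g378 (.cons g379 (.nil))))))))))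

end Cfsg.Agent.BX.No33.Bk.D37
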