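import Cfsg.Agent.BX.No33.Cheap
set_option linter.all false

/-!
# Tests, diagonal case, part 38 (helper5; generated)
-/

set_option autoImplicit false
set_option maxRecDepth 100000
set_option Elab.async false

namespace Cfsg.Agent.BX.No33.Bk.D38

open Cfsg.Agent.H819.U33 Cfsg.Agent.BX.No33.Front

def b380 : Wd := ⟨0, d380,
  [.z, .Z10, .Z9, .Z4, .Z3, .Z1, .Z0, .X10, .X9, .X8, .X6, .X5, .X4, .X1, .X0, .y10, .y8, .y2, .y1, .hi, .p8, .hi,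
   .p8, .hi, .p6, .hi, .p10, .hi, .p4, .xii, .p, .xii, .y6, .y10, .taui, .xii, .p, .xii, .y1, .hi, .xii, .y5, .y8,
   .taui, .X0, .xii, .hi, .xii, .p10, .xii, .y8, .p5, .y3, .taui, .xii, .p8, .xii, .p4, .y5, .xii, .y2, .taui, .xii,
   .p2],
  [.z, .Z10, .Z9, .Z7, .Z4, .Z2, .X9, .X7, .y8, .p10, .hi, .p3, .hi, .p, .hi, .p7, .hi, .p, .hi, .p6, .xii, .y2,
   .taui, .X0, .p7, .xii, .p, .hi, .xii, .y5, .y9, .p3, .taui, .X0, .p2, .xii, .p5, .xii, .y2, .y8, .p, .taui, .xii,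
   .p9, .xii, .hi, .y7, .p5, .taui, .xii, .hi, .p8],
  [.z, .Z10, .Z9, .Z4, .Z1, .X10, .X9, .X7, .X6, .X5, .X1, .y9, .y8, .y3, .y2, .y1, .p8, .hi, .p6, .hi, .p10, .hi,
   .p5, .hi, .p8, .hi, .p9, .hi, .xii, .y2, .p3, .hi, .xii, .y1, .y3, .tau, .y1, .xii, .y2, .hi, .xii, .p10, .xii,
   .y1, .y7, .taui, .p7, .xii, .y4, .p7, .xii, .p6, .y7, .tau, .xii, .p9, .xii, .p2, .y2, .y8, .hi, .p10, .taui, .xii,
   .p5, .xii, .y6]⟩

theorem h380 : Hd F (g wAd) b380 := hdD (by decide +kernel)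
theorem r380_0 : R9 F (g wAd) b380 [] 0 0 := .of (startD 0 1) (by decide +kernel)
theorem r380_1 : R9 F (g wAd) b380 [] 0 1 := .of (startD 0 2) (by decide +kernel)
theorem r380_2 : R9 F (g wAd) b380 [] 0 2 := .of (startD 0 1) (by decide +kernel)
theorem r380_3 : R9 F (g wAd) b380 [] 1 0 := .of (startD 0 1) (by decide +kernel)
theorem r380_4 : R9 F (g wAd) b380 [] 1 1 := .of (startD 0 1) (by decide +kernel)
theorem r380_5 : R9 F (g wAd) b380 [] 1 2 := .of (startD 0 1) (by decide +kernel)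
theorem r380_6 : R9 F (g wAd) b380 [] 2 0 := .of (startD 0 1) (by decide +kernel)
theorem r380_7 : R9 F (g wAd) b380 [] 2 1 := .of (startD 0 1) (by decide +kernel)
theorem r380_8 : R9 F (g wAd) b380 [] 2 2 := .of (startD 0 1) (by decide +kernel)
theorem g380 : Gd F (g wAd) (0, d380) [] :=
  good9 ok h380 r380_0 r380_1 r380_2 r380_3 r380_4 r380_5 r380_6 r380_7 r380_8

def b381 : Wd := ⟨0, d381,
  [.z, .Z10, .Z9, .Z8, .Z6, .Z4, .Z1, .Z0, .X10, .X9, .X8, .X6, .X5, .X4, .X3, .X2, .y8, .y7, .y5, .hi, .p10, .hi,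
   .p9, .hi, .p5, .hi, .p, .hi, .p3, .hi, .p8, .xii, .p2, .hi, .xii, .y8, .tau, .y1, .xii, .y1, .hi, .xii, .p10, .xii,
   .y4, .y9, .taui, .p10, .xii, .y4, .p3, .hi, .p5, .xii, .p3, .tau, .xii, .p5, .xii, .hi, .y7, .p3, .taui, .xii, .hi],
  [.z, .Z9, .Z7, .Z6, .Z5, .Z4, .X8, .X7, .y3, .y2, .p3, .hi, .p10, .hi, .p4, .hi, .p8, .hi, .p4, .xii, .hi, .p8,
   .xii, .y4, .y7, .p10, .taui, .xii, .y1, .p, .xii, .y10, .p, .xii, .y6, .y10, .taui, .xii, .p8, .xii, .p4, .y10,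
   .xii, .y6, .p3, .taui, .xii, .p9, .xii, .p, .y3, .taui, .xii, .p2, .hi, .p],
  [.Z9, .Z8, .Z7, .Z6, .Z4, .Z2, .Z0, .X10, .X8, .X6, .X5, .X4, .X3, .X1, .y10, .y9, .y3, .p2, .hi, .p6, .hi, .p5,
   .hi, .p4, .hi, .p2, .xii, .p, .xii, .y3, .y4, .hi, .p4, .taui, .xii, .y6, .p, .xii, .p, .y7, .xii, .y3, .taui, .p9,
   .xii, .p5, .y10, .hi, .xii, .y6, .p8, .taui, .xii, .p5, .xii, .y1, .p9, .y1, .xii, .y1, .taui, .xii, .p7]⟩

theorem h381 : Hd F (g wAd) b381 := hdD (by decide +kernel)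
theorem r381_0 : R9 F (g wAd) b381 [] 0 0 := .of (startD 0 1) (by decide +kernel)
theorem r381_1 : R9 F (g wAd) b381 [] 0 1 := .of (startD 0 1) (by decide +kernel)
theorem r381_2 : R9 F (g wAd) b381 [] 0 2 := .of (startD 0 1) (by decide +kernel)
theorem r381_3 : R9 F (g wAd) b381 [] 1 0 := .of (startD 0 1) (by decide +kernel)
theorem r381_4 : R9 F (g wAd) b381 [] 1 1 := .of (startD 0 2) (by decide +kernel)
theorem r381_5 : R9 F (g wAd) b381 [] 1 2 := .of (startD 0 1) (by decide +kernel)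
theorem r381_6 : R9 F (g wAd) b381 [] 2 0 := .of (startD 0 1) (by decide +kernel)
theorem r381_7 : R9 F (g wAd) b381 [] 2 1 := .of (startD 0 2) (by decide +kernel)
theorem r381_8 : R9 F (g wAd) b381 [] 2 2 := .of (startD 0 1) (by decide +kernel)
theorem g381 : Gd F (g wAd) (0, d381) [] :=
  good9 ok h381 r381_0 r381_1 r381_2 r381_3 r381_4 r381_5 r381_6 r381_7 r381_8

def b382 : Wd := ⟨0, d382,
  [.Z8, .Z6, .Z5, .Z4, .Z2, .Z1, .X9, .X7, .X5, .X2, .X1, .y8, .y6, .y4, .y3, .y2, .y1, .p10, .hi, .p6, .hi, .p, .hi,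
   .p3, .hi, .p3, .hi, .p10, .hi, .xii, .p10, .xii, .y4, .p10, .xii, .y3, .y7, .taui, .xii, .y6, .p, .xii, .y3, .y4,
   .hi, .p8, .tau, .p10, .xii, .y5, .p2, .hi, .p2, .hi, .tau, .xii, .p3, .xii, .y5],
  [.z, .Z10, .Z9, .Z8, .Z6, .Z3, .X9, .X7, .X6, .X5, .X3, .y8, .y7, .y2, .y1, .p10, .hi, .p3, .hi, .p7, .hi, .p7, .hi,
   .p7, .hi, .p, .hi, .p7, .xii, .p5, .hi, .p8, .hi, .taui, .xii, .y6, .p, .xii, .y10, .p, .xii, .y3, .tau, .p6, .xii,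
   .p5, .xii, .hi, .p10, .y3, .y9, .tau, .xii, .p4, .xii, .y2, .p5, .hi, .taui, .xii, .p2, .hi, .p],
  [.z, .Z8, .Z6, .Z5, .Z4, .Z3, .Z2, .Z1, .Z0, .X10, .X7, .X2, .X0, .y6, .y5, .p7, .hi, .p3, .hi, .p7, .hi, .p7, .hi,
   .p10, .hi, .p9, .hi, .xii, .y2, .taui, .xii, .p, .xii, .hi, .y8, .xii, .y5, .taui, .X0, .y1, .p4, .xii, .hi, .p8,
   .xii, .y5, .p6, .taui, .xii, .y2, .p4, .hi, .xii, .hi, .p5, .tau, .xii, .y2, .p8]⟩

theorem h382 : Hd F (g wAd) b382 := hdD (by decide +kernel)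
theorem r382_0 : R9 F (g wAd) b382 [] 0 0 := .of (startD 0 1) (by decide +kernel)
theorem r382_1 : R9 F (g wAd) b382 [] 0 1 := .of (startD 0 1) (by decide +kernel)
theorem r382_2 : R9 F (g wAd) b382 [] 0 2 := .of (startD 0 1) (by decide +kernel)
theorem r382_3 : R9 F (g wAd) b382 [] 1 0 := .of (startD 0 1) (by decide +kernel)
theorem r382_4 : R9 F (g wAd) b382 [] 1 1 := .of (startD 0 1) (by decide +kernel)
theorem r382_5 : R9 F (g wAd) b382 [] 1 2 := .of (startD 0 1) (by decide +kernel)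
theorem r382_6 : R9 F (g wAd) b382 [] 2 0 := .of (startD 0 1) (by decide +kernel)
theorem r382_7 : R9 F (g wAd) b382 [] 2 1 := .of (startD 0 1) (by decide +kernel)
theorem r382_8 : R9 F (g wAd) b382 [] 2 2 := .of (startD 0 1) (by decide +kernel)
theorem g382 : Gd F (g wAd) (0, d382) [] :=
  good9 ok h382 r382_0 r382_1 r382_2 r382_3 r382_4 r382_5 r382_6 r382_7 r382_8

def b383 : Wd := ⟨0, d383,
  [.z, .Z9, .Z8, .Z7, .Z6, .Z4, .Z0, .X10, .X8, .X7, .X6, .X1, .X0, .y9, .y5, .y4, .p7, .hi, .p7, .hi, .p, .hi, .p7,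
   .hi, .p, .hi, .p3, .hi, .xii, .hi, .p8, .xii, .y1, .p10, .taui, .y1, .xii, .p10, .xii, .y1, .p10, .y9, .xii, .y10,
   .taui, .xii, .y1, .p, .xii, .y4, .p, .xii, .y1, .y9, .taui, .p5, .xii, .p, .y7, .xii, .taui, .xii, .p7, .xii, .y2,
   .y10, .p9, .xii, .y10, .tau, .xii, .p4],
  [.z, .Z10, .Z7, .Z6, .Z1, .Z0, .X10, .X8, .X7, .X6, .X4, .X3, .X2, .X1, .X0, .y7, .y6, .y5, .y4, .p7, .hi, .p8, .hi,
   .p9, .hi, .p9, .hi, .p8, .xii, .y2, .p10, .xii, .y10, .tau, .xii, .y2, .p, .xii, .y1, .hi, .xii, .y5, .taui, .xii,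
   .p9, .xii, .p3, .y7, .xii, .y1, .y2, .y3, .tau, .xii, .p7, .xii, .y1, .p7, .xii, .y7, .tau, .xii, .y2, .hi, .p6],
  [.Z9, .Z7, .Z5, .Z4, .Z3, .Z2, .Z1, .X10, .X6, .y10, .y6, .p7, .hi, .p4, .hi, .p4, .hi, .p7, .hi, .p10, .hi, .p3,
   .xii, .p10, .xii, .y4, .p2, .xii, .y6, .y10, .taui, .xii, .p, .xii, .y3, .hi, .xii, .y4, .y7, .taui, .X0, .p8,
   .xii, .p6, .y3, .xii, .hi, .xii, .y1, .y5, .taui, .xii, .p7, .xii, .y4, .y7, .p10, .hi, .p4, .tau, .xii, .y2, .p]⟩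

theorem h383 : Hd F (g wAd) b383 := hdD (by decide +kernel)
theorem r383_0 : R9 F (g wAd) b383 [] 0 0 := .of (startD 0 1) (by decide +kernel)
theorem r383_1 : R9 F (g wAd) b383 [] 0 1 := .of (startD 0 1) (by decide +kernel)
theorem r383_2 : R9 F (g wAd) b383 [] 0 2 := .of (startD 0 1) (by decide +kernel)
theorem r383_3 : R9 F (g wAd) b383 [] 1 0 := .of (startD 0 1) (by decide +kernel)
theorem r383_4 : R9 F (g wAd) b383 [] 1 1 := .of (startD 0 1) (by decide +kernel)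
theorem r383_5 : R9 F (g wAd) b383 [] 1 2 := .of (startD 0 1) (by decide +kernel)
theorem r383_6 : R9 F (g wAd) b383 [] 2 0 := .of (startD 0 1) (by decide +kernel)
theorem r383_7 : R9 F (g wAd) b383 [] 2 1 := .of (startD 0 1) (by decide +kernel)
theorem r383_8 : R9 F (g wAd) b383 [] 2 2 := .of (startD 0 1) (by decide +kernel)
theorem g383 : Gd F (g wAd) (0, d383) [] :=
  good9 ok h383 r383_0 r383_1 r383_2 r383_3 r383_4 r383_5 r383_6 r383_7 r383_8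

def b384 : Wd := ⟨0, d384,
  [.z, .Z9, .Z8, .Z6, .Z4, .Z3, .Z1, .Z0, .X10, .X8, .X7, .X4, .X3, .X2, .X0, .y10, .y7, .y6, .y5, .y1, .p7, .hi, .p4,
   .hi, .p5, .hi, .p9, .hi, .p, .xii, .p10, .xii, .p5, .y5, .tau, .xii, .y1, .p, .xii, .p, .xii, .y5, .tau, .xii, .y2,
   .hi, .xii, .y7, .p6, .xii, .y4, .p7, .tau, .xii, .p9, .xii, .y4, .y9, .p6, .xii, .y1, .tau, .xii, .y2, .p6, .xii,
   .y3],
  [.Z10, .Z9, .Z8, .Z7, .Z6, .Z3, .Z1, .X8, .X5, .X3, .X2, .X1, .y5, .y4, .y1, .p6, .hi, .p6, .hi, .p7, .hi, .p10,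
   .hi, .p4, .xii, .tau, .xii, .y6, .p, .xii, .p, .xii, .y2, .y6, .tau, .p4, .xii, .p7, .xii, .y1, .y5, .p, .tau,
   .xii, .y2, .p5, .xii, .y7, .p8, .xii, .y4, .taui, .xii, .p8, .xii, .y1],
  [.Z10, .Z2, .Z1, .Z0, .X10, .X9, .X7, .X5, .X4, .X3, .y10, .y9, .y5, .y4, .y3, .y1, .p10, .hi, .p3, .hi, .p6, .hi,
   .p7, .hi, .p3, .hi, .p3, .xii, .y2, .hi, .xii, .p10, .xii, .y4, .taui, .y1, .xii, .hi, .xii, .y5, .taui, .p6, .xii,
   .p8, .xii, .p9, .y10, .tau, .xii, .p7, .xii, .y1, .y2, .p10, .hi, .p2, .tau, .xii, .p3, .hi, .p2]⟩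

theorem h384 : Hd F (g wAd) b384 := hdD (by decide +kernel)
theorem r384_0 : R9 F (g wAd) b384 [] 0 0 := .of (startD 0 1) (by decide +kernel)
theorem r384_1 : R9 F (g wAd) b384 [] 0 1 := .of (startD 0 1) (by decide +kernel)
theorem r384_2 : R9 F (g wAd) b384 [] 0 2 := .of (startD 0 1) (by decide +kernel)
theorem r384_3 : R9 F (g wAd) b384 [] 1 0 := .of (startD 0 1) (by decide +kernel)
theorem r384_4 : R9 F (g wAd) b384 [] 1 1 := .of (startD 0 1) (by decide +kernel)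
theorem r384_5 : R9 F (g wAd) b384 [] 1 2 := .of (startD 0 1) (by decide +kernel)
theorem r384_6 : R9 F (g wAd) b384 [] 2 0 := .of (startD 0 1) (by decide +kernel)
theorem r384_7 : R9 F (g wAd) b384 [] 2 1 := .of (startD 0 1) (by decide +kernel)
theorem r384_8 : R9 F (g wAd) b384 [] 2 2 := .of (startD 0 1) (by decide +kernel)
theorem g384 : Gd F (g wAd) (0, d384) [] :=
  good9 ok h384 r384_0 r384_1 r384_2 r384_3 r384_4 r384_5 r384_6 r384_7 r384_8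

def b385 : Wd := ⟨0, d385,
  [.Z10, .Z9, .Z8, .Z6, .Z5, .Z2, .Z0, .X10, .X9, .X7, .X4, .y10, .y8, .y7, .y5, .y4, .y1, .p10, .hi, .p, .hi, .p7,
   .hi, .p9, .hi, .p8, .hi, .p10, .hi, .p8, .hi, .xii, .p3, .hi, .xii, .y2, .y3, .p6, .tau, .xii, .y1, .p, .xii, .y2,
   .p, .xii, .y3, .y4, .tau, .xii, .y1, .p, .xii, .y4, .p, .xii, .y6, .tau, .p10, .xii, .y5, .p10, .xii, .tau, .xii,
   .p8, .xii, .y1, .y3, .p4, .xii, .y7, .taui, .xii, .p9],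
  [.z, .Z2, .Z1, .X10, .X3, .X2, .X1, .X0, .y10, .y9, .y8, .y4, .y2, .y1, .hi, .p6, .hi, .p8, .hi, .p8, .hi, .p, .hi,
   .p8, .hi, .p5, .hi, .xii, .y2, .p10, .xii, .tau, .xii, .p3, .xii, .y5, .p6, .xii, .y4, .y7, .p9, .taui, .xii, .p4,
   .xii, .y6, .p7, .taui, .xii, .p5, .xii, .y1, .y3],
  [.Z9, .Z7, .Z5, .Z4, .X10, .X7, .X2, .X0, .y10, .y9, .y8, .y6, .y5, .y3, .y1, .p8, .hi, .p4, .hi, .p7, .hi, .p4,
   .hi, .p6, .hi, .p5, .xii, .p10, .xii, .y4, .tau, .xii, .y1, .p, .xii, .p, .xii, .y1, .tau, .y1, .xii, .y1, .hi,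
   .xii, .p10, .xii, .y9, .y10, .tau, .X0, .y1, .p9, .xii, .hi, .xii, .y5, .taui, .xii, .y2, .p4, .xii, .p4, .y3,
   .xii, .tau, .xii, .y6, .hi, .p9]⟩

theorem h385 : Hd F (g wAd) b385 := hdD (by decide +kernel)
theorem r385_0 : R9 F (g wAd) b385 [] 0 0 := .of (startD 0 1) (by decide +kernel)
theorem r385_1 : R9 F (g wAd) b385 [] 0 1 := .of (startD 0 1) (by decide +kernel)
theorem r385_2 : R9 F (g wAd) b385 [] 0 2 := .of (startD 0 1) (by decide +kernel)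
theorem r385_3 : R9 F (g wAd) b385 [] 1 0 := .of (startD 0 1) (by decide +kernel)
theorem r385_4 : R9 F (g wAd) b385 [] 1 1 := .of (startD 0 1) (by decide +kernel)
theorem r385_5 : R9 F (g wAd) b385 [] 1 2 := .of (startD 0 1) (by decide +kernel)
theorem r385_6 : R9 F (g wAd) b385 [] 2 0 := .of (startD 0 1) (by decide +kernel)
theorem r385_7 : R9 F (g wAd) b385 [] 2 1 := .of (startD 0 1) (by decide +kernel)
theorem r385_8 : R9 F (g wAd) b385 [] 2 2 := .of (startD 0 1) (by decide +kernel)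
theorem g385 : Gd F (g wAd) (0, d385) [] :=
  good9 ok h385 r385_0 r385_1 r385_2 r385_3 r385_4 r385_5 r385_6 r385_7 r385_8

def b386 : Wd := ⟨0, d386,
  [.Z10, .Z8, .Z3, .Z0, .X10, .X8, .X5, .X3, .X2, .X0, .y8, .y5, .y4, .y2, .p6, .hi, .p6, .hi, .p6, .hi, .p3, .hi, .p,
   .hi, .p3, .hi, .xii, .p, .xii, .p4, .xii, .y2, .tau, .y1, .xii, .p10, .xii, .y1, .p10, .xii, .y1, .y5, .tau, .X0,
   .p8, .xii, .p4, .xii, .p5, .y6, .y8, .xii, .taui, .xii, .p4, .xii, .y4, .hi, .y4, .p6, .tau, .xii, .y2, .p8],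
  [.z, .Z10, .Z9, .Z8, .Z6, .Z5, .Z3, .Z0, .X8, .X5, .X2, .X1, .y10, .y9, .y7, .y6, .p5, .hi, .p8, .hi, .p4, .hi, .p7,
   .hi, .p9, .hi, .p10, .hi, .tau, .xii, .y6, .p, .xii, .y2, .p, .xii, .y5, .y10, .tau, .X0, .xii, .p7, .xii, .y1,
   .y10, .p7, .xii, .y4, .y5, .y8, .tau, .xii, .p8, .xii, .y2, .p, .taui, .xii, .p7],
  [.z, .Z9, .Z8, .Z7, .Z6, .Z4, .Z3, .Z2, .Z1, .Z0, .X10, .X7, .X6, .X0, .y10, .y8, .y6, .p8, .hi, .p3, .hi, .p9, .hi,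
   .p10, .hi, .p9, .hi, .p10, .xii, .y2, .p2, .hi, .xii, .y8, .taui, .xii, .y1, .p, .xii, .p, .xii, .y1, .taui, .xii,
   .p4, .xii, .y3, .y5, .p5, .xii, .y1, .taui, .xii, .p9, .xii, .y1, .y2, .p6, .xii, .taui, .xii, .p5]⟩

theorem h386 : Hd F (g wAd) b386 := hdD (by decide +kernel)
theorem r386_0 : R9 F (g wAd) b386 [] 0 0 := .of (startD 0 1) (by decide +kernel)
theorem r386_1 : R9 F (g wAd) b386 [] 0 1 := .of (startD 0 1) (by decide +kernel)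
theorem r386_2 : R9 F (g wAd) b386 [] 0 2 := .of (startD 0 1) (by decide +kernel)
theorem r386_3 : R9 F (g wAd) b386 [] 1 0 := .of (startD 0 1) (by decide +kernel)
theorem r386_4 : R9 F (g wAd) b386 [] 1 1 := .of (startD 0 1) (by decide +kernel)
theorem r386_5 : R9 F (g wAd) b386 [] 1 2 := .of (startD 0 1) (by decide +kernel)
theorem r386_6 : R9 F (g wAd) b386 [] 2 0 := .of (startD 0 1) (by decide +kernel)
theorem r386_7 : R9 F (g wAd) b386 [] 2 1 := .of (startD 0 1) (by decide +kernel)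
theorem r386_8 : R9 F (g wAd) b386 [] 2 2 := .of (startD 0 1) (by decide +kernel)
theorem g386 : Gd F (g wAd) (0, d386) [] :=
  good9 ok h386 r386_0 r386_1 r386_2 r386_3 r386_4 r386_5 r386_6 r386_7 r386_8

def b387 : Wd := ⟨0, d387,
  [.z, .Z8, .Z7, .Z4, .Z2, .Z0, .X10, .X8, .X6, .X5, .X4, .X2, .y10, .y7, .y6, .y5, .y2, .hi, .p5, .hi, .p9, .hi, .p5,
   .hi, .p7, .hi, .p4, .hi, .p3, .hi, .xii, .y2, .hi, .p10, .hi, .p8, .tau, .y1, .xii, .y2, .hi, .xii, .p10, .xii,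
   .y4, .taui, .X0, .y1, .xii, .p9, .xii, .y10, .p5, .xii, .y1, .p10, .tau, .xii, .p6, .xii, .y1, .p4, .xii, .taui,
   .xii, .p5, .hi],
  [.Z10, .Z9, .Z8, .Z4, .Z2, .Z0, .X10, .X9, .X5, .X1, .X0, .y7, .y6, .y4, .p10, .hi, .p8, .hi, .p, .hi, .p, .hi, .p2,
   .xii, .y2, .p, .xii, .hi, .p10, .taui, .X0, .xii, .hi, .xii, .p9, .y7, .xii, .y6, .tau, .xii, .p9, .xii, .y5, .p9,
   .xii, .taui, .xii, .hi, .p10],
  [.z, .Z9, .Z6, .Z5, .Z4, .Z1, .X10, .X8, .X5, .X2, .X1, .X0, .y6, .y5, .y4, .y3, .y1, .hi, .p9, .hi, .p3, .hi, .p3,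
   .hi, .p9, .hi, .p4, .hi, .p, .xii, .hi, .xii, .p8, .xii, .y1, .y3, .tau, .xii, .p, .xii, .y2, .y10, .hi, .xii, .y6,
   .tau, .xii, .y1, .p, .xii, .y10, .p, .xii, .y6, .taui, .p10, .xii, .y6, .p6, .xii, .y8, .tau, .xii, .p8, .xii, .p5,
   .y6, .hi, .p5, .tau, .xii, .y2, .p]⟩

theorem h387 : Hd F (g wAd) b387 := hdD (by decide +kernel)
theorem r387_0 : R9 F (g wAd) b387 [] 0 0 := .of (startD 0 1) (by decide +kernel)
theorem r387_1 : R9 F (g wAd) b387 [] 0 1 := .of (startD 0 1) (by decide +kernel)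
theorem r387_2 : R9 F (g wAd) b387 [] 0 2 := .of (startD 0 1) (by decide +kernel)
theorem r387_3 : R9 F (g wAd) b387 [] 1 0 := .of (startD 0 1) (by decide +kernel)
theorem r387_4 : R9 F (g wAd) b387 [] 1 1 := .of (startD 0 1) (by decide +kernel)
theorem r387_5 : R9 F (g wAd) b387 [] 1 2 := .of (startD 0 1) (by decide +kernel)
theorem r387_6 : R9 F (g wAd) b387 [] 2 0 := .of (startD 0 1) (by decide +kernel)
theorem r387_7 : R9 F (g wAd) b387 [] 2 1 := .of (startD 0 1) (by decide +kernel)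
theorem r387_8 : R9 F (g wAd) b387 [] 2 2 := .of (startD 0 1) (by decide +kernel)
theorem g387 : Gd F (g wAd) (0, d387) [] :=
  good9 ok h387 r387_0 r387_1 r387_2 r387_3 r387_4 r387_5 r387_6 r387_7 r387_8

def b388 : Wd := ⟨0, d388,
  [.Z10, .Z8, .Z6, .Z5, .Z4, .Z0, .X10, .X9, .X8, .X7, .X6, .X5, .X4, .X3, .X2, .X1, .X0, .y10, .y9, .y7, .y6, .y4,
   .y3, .y2, .p3, .hi, .p, .hi, .p6, .hi, .p5, .hi, .p5, .xii, .p, .xii, .p4, .xii, .taui, .xii, .y1, .p, .xii, .p,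
   .xii, .y6, .tau, .X0, .p10, .xii, .y10, .p9, .xii, .y4, .p2, .hi, .p6, .tau, .xii, .p4, .xii, .y4, .p4, .y7, .xii,
   .y2, .taui, .xii, .y6, .p4],
  [.z, .Z9, .Z8, .Z7, .Z5, .Z4, .Z0, .X10, .X4, .X1, .X0, .y10, .y9, .y6, .y4, .y1, .p, .hi, .p2, .hi, .xii, .hi, .p4,
   .hi, .p4, .taui, .xii, .p, .xii, .hi, .y8, .xii, .y1, .taui, .p7, .xii, .y6, .p9, .xii, .y10, .p4, .taui, .xii,
   .p8, .xii, .y3, .p2, .y10, .xii, .y4, .y8, .tau, .xii, .p4, .hi],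
  [.z, .Z2, .Z1, .Z0, .X10, .X9, .X7, .X4, .X3, .y7, .y6, .y1, .hi, .p9, .hi, .p3, .hi, .p9, .hi, .p8, .hi, .p8, .hi,
   .p7, .xii, .p, .xii, .p8, .y4, .xii, .y7, .tau, .y1, .xii, .p10, .xii, .y4, .p10, .xii, .y2, .taui, .X0, .hi, .xii,
   .y7, .p9, .xii, .p2, .hi, .y9, .p5, .taui, .xii, .p4, .xii, .y6, .p10, .y8, .hi, .p7, .tau, .xii, .p4, .hi, .p2]⟩

theorem h388 : Hd F (g wAd) b388 := hdD (by decide +kernel)
theorem r388_0 : R9 F (g wAd) b388 [] 0 0 := .of (startD 0 1) (by decide +kernel)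
theorem r388_1 : R9 F (g wAd) b388 [] 0 1 := .of (startD 0 2) (by decide +kernel)
theorem r388_2 : R9 F (g wAd) b388 [] 0 2 := .of (startD 0 1) (by decide +kernel)
theorem r388_3 : R9 F (g wAd) b388 [] 1 0 := .of (startD 0 1) (by decide +kernel)
theorem r388_4 : R9 F (g wAd) b388 [] 1 1 := .of (startD 0 1) (by decide +kernel)
theorem r388_5 : R9 F (g wAd) b388 [] 1 2 := .of (startD 0 1) (by decide +kernel)
theorem r388_6 : R9 F (g wAd) b388 [] 2 0 := .of (startD 0 1) (by decide +kernel)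
theorem r388_7 : R9 F (g wAd) b388 [] 2 1 := .of (startD 0 1) (by decide +kernel)
theorem r388_8 : R9 F (g wAd) b388 [] 2 2 := .of (startD 0 1) (by decide +kernel)
theorem g388 : Gd F (g wAd) (0, d388) [] :=
  good9 ok h388 r388_0 r388_1 r388_2 r388_3 r388_4 r388_5 r388_6 r388_7 r388_8

def b389 : Wd := ⟨0, d389,
  [.Z10, .Z5, .Z3, .X10, .X7, .X4, .X1, .y10, .y9, .y8, .y7, .y4, .y3, .y2, .y1, .hi, .p10, .hi, .p7, .hi, .p10, .hi,
   .p9, .hi, .p8, .hi, .p5, .xii, .p, .xii, .y10, .hi, .p4, .tau, .y1, .xii, .y2, .hi, .xii, .y10, .p10, .hi, .p8,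
   .taui, .p5, .xii, .p6, .xii, .taui, .xii, .p5, .xii, .y3, .hi, .p8, .taui, .xii, .y2, .p4, .hi, .p2],
  [.z, .Z9, .Z7, .Z6, .Z4, .Z3, .Z1, .Z0, .X9, .X7, .X6, .X4, .X2, .y10, .y9, .y6, .y5, .hi, .p9, .hi, .p7, .hi, .p,
   .hi, .p9, .xii, .p10, .xii, .p6, .xii, .y4, .y6, .taui, .y1, .xii, .p10, .xii, .y5, .p10, .xii, .y4, .taui, .p7,
   .xii, .y2, .hi, .p8, .xii, .y10, .p, .taui, .xii, .p9, .xii, .y8, .p3, .xii, .y9, .taui, .xii, .p],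
  [.Z8, .Z7, .Z6, .Z3, .Z0, .X9, .X8, .X6, .X3, .X2, .X1, .y9, .y8, .y7, .y6, .y3, .p9, .hi, .p6, .hi, .p9, .hi, .p9,
   .hi, .p4, .hi, .p4, .xii, .y2, .p2, .hi, .xii, .y2, .tau, .y1, .xii, .y1, .hi, .xii, .y6, .p10, .xii, .y10, .tau,
   .p10, .xii, .y2, .p2, .xii, .p5, .y3, .hi, .tau, .xii, .p4, .xii, .p3, .hi, .taui, .xii, .y2, .p8]⟩

theorem h389 : Hd F (g wAd) b389 := hdD (by decide +kernel)
theorem r389_0 : R9 F (g wAd) b389 [] 0 0 := .of (startD 0 1) (by decide +kernel)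
theorem r389_1 : R9 F (g wAd) b389 [] 0 1 := .of (startD 0 1) (by decide +kernel)
theorem r389_2 : R9 F (g wAd) b389 [] 0 2 := .of (startD 0 1) (by decide +kernel)
theorem r389_3 : R9 F (g wAd) b389 [] 1 0 := .of (startD 0 1) (by decide +kernel)
theorem r389_4 : R9 F (g wAd) b389 [] 1 1 := .of (startD 0 1) (by decide +kernel)
theorem r389_5 : R9 F (g wAd) b389 [] 1 2 := .of (startD 0 2) (by decide +kernel)
theorem r389_6 : R9 F (g wAd) b389 [] 2 0 := .of (startD 0 1) (by decide +kernel)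
theorem r389_7 : R9 F (g wAd) b389 [] 2 1 := .of (startD 0 1) (by decide +kernel)
theorem r389_8 : R9 F (g wAd) b389 [] 2 2 := .of (startD 0 2) (by decide +kernel)
theorem g389 : Gd F (g wAd) (0, d389) [] :=
  good9 ok h389 r389_0 r389_1 r389_2 r389_3 r389_4 r389_5 r389_6 r389_7 r389_8

theorem all : AllG F (g wAd) LD38 :=
  .cons g380 (.cons g381 (.cons g382 (.cons g383 (.cons g384 (.cons g385 (.cons g386 (.cons g387 (.cons g388 (.cons g389 (.nil))))))))))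

end Cfsg.Agent.BX.No33.Bk.D38
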