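import Cfsg.Agent.BX.No33.Cheap
set_option linter.all false

/-!
# Tests, diagonal case, part 39 (helper5; generated)
-/

set_option autoImplicit false
set_option maxRecDepth 100000
set_option Elab.async false

namespace Cfsg.Agent.BX.No33.Bk.D39

open Cfsg.Agent.H819.U33 Cfsg.Agent.BX.No33.Front

def b390 : Wd := ⟨0, d390,
  [.Z10, .Z8, .Z5, .Z3, .Z2, .Z1, .X9, .X8, .X7, .X4, .X3, .X2, .X1, .X0, .y10, .y9, .y5, .y4, .y2, .y1, .hi, .p9,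
   .hi, .p5, .hi, .p8, .hi, .p8, .hi, .p10, .hi, .p3, .hi, .xii, .p, .xii, .y6, .p9, .taui, .y1, .xii, .p10, .xii,
   .y8, .p10, .xii, .y8, .y9, .taui, .y1, .hi, .xii, .p8, .xii, .y5, .y8, .taui, .xii, .p4, .xii, .y1, .y5, .p4, .xii,
   .y3, .taui, .xii, .p4],
  [.z, .Z7, .Z5, .Z3, .Z1, .X9, .X7, .y8, .y7, .y6, .y5, .y4, .y1, .p7, .hi, .p9, .hi, .p10, .hi, .p2, .hi, .p3, .hi,
   .p10, .xii, .y2, .p10, .xii, .y5, .p5, .xii, .tau, .xii, .y1, .p, .xii, .y6, .y10, .tau, .X0, .p5, .xii, .p10,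
   .xii, .p8, .taui, .xii, .p2, .xii, .y1, .p2, .xii, .y4, .y8, .taui, .xii, .y6, .hi, .p2],
  [.Z9, .Z8, .Z6, .Z4, .Z2, .Z1, .Z0, .X7, .X6, .X3, .X2, .X0, .y8, .y7, .y4, .y3, .y2, .y1, .hi, .p8, .hi, .p, .hi,
   .p4, .hi, .p10, .hi, .p4, .hi, .p6, .xii, .p, .xii, .p8, .y8, .xii, .y5, .taui, .xii, .y2, .p, .xii, .y3, .hi,
   .xii, .y4, .y7, .tau, .xii, .y1, .p7, .xii, .y4, .p8, .xii, .y4, .y7, .taui, .xii, .p5, .xii, .y1, .y5, .p5, .xii,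
   .y1]⟩

theorem h390 : Hd F (g wAd) b390 := hdD (by decide +kernel)
theorem r390_0 : R9 F (g wAd) b390 [] 0 0 := .of (startD 0 1) (by decide +kernel)
theorem r390_1 : R9 F (g wAd) b390 [] 0 1 := .of (startD 0 1) (by decide +kernel)
theorem r390_2 : R9 F (g wAd) b390 [] 0 2 := .of (startD 0 1) (by decide +kernel)
theorem r390_3 : R9 F (g wAd) b390 [] 1 0 := .of (startD 0 1) (by decide +kernel)
theorem r390_4 : R9 F (g wAd) b390 [] 1 1 := .of (startD 0 1) (by decide +kernel)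
theorem r390_5 : R9 F (g wAd) b390 [] 1 2 := .of (startD 0 1) (by decide +kernel)
theorem r390_6 : R9 F (g wAd) b390 [] 2 0 := .of (startD 0 1) (by decide +kernel)
theorem r390_7 : R9 F (g wAd) b390 [] 2 1 := .of (startD 0 1) (by decide +kernel)
theorem r390_8 : R9 F (g wAd) b390 [] 2 2 := .of (startD 0 1) (by decide +kernel)
theorem g390 : Gd F (g wAd) (0, d390) [] :=
  good9 ok h390 r390_0 r390_1 r390_2 r390_3 r390_4 r390_5 r390_6 r390_7 r390_8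

def b391 : Wd := ⟨0, d391,
  [.Z8, .Z5, .Z0, .X9, .X7, .X6, .X5, .X1, .y10, .y7, .y5, .y4, .y2, .y1, .p7, .hi, .p3, .hi, .p, .hi, .p5, .hi, .p6,
   .hi, .xii, .y2, .p5, .hi, .p5, .taui, .y1, .xii, .p10, .xii, .y4, .p10, .xii, .taui, .p7, .xii, .p7, .xii, .p, .y2,
   .hi, .p5, .tau, .xii, .y2, .p4, .xii, .p5, .y4, .xii, .y1, .tau, .xii, .y6, .hi, .p2],
  [.z, .Z9, .Z7, .Z5, .Z2, .X8, .y10, .y8, .y4, .y1, .p4, .hi, .p5, .hi, .p10, .hi, .p10, .hi, .p7, .hi, .p10, .hi,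
   .xii, .y2, .p10, .xii, .y2, .tau, .xii, .y6, .p3, .hi, .xii, .p10, .y5, .tau, .p10, .xii, .y10, .p6, .xii, .p8,
   .y1, .taui, .xii, .p5, .xii, .hi, .y4, .p5, .y3, .taui, .xii, .y2, .p8],
  [.Z9, .Z5, .Z2, .Z0, .X7, .X6, .X5, .X4, .X2, .X1, .y9, .y8, .y7, .y3, .y2, .y1, .p10, .hi, .p7, .hi, .p6, .hi, .p8,
   .hi, .p9, .hi, .p4, .xii, .p10, .xii, .y4, .p10, .xii, .y8, .tau, .y1, .xii, .p10, .xii, .y1, .p10, .xii, .y2, .y4,
   .tau, .xii, .y2, .p7, .xii, .p8, .y8, .xii, .y5, .y7, .y10, .tau, .xii, .p4, .xii, .y1, .p9, .xii, .y4]⟩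

theorem h391 : Hd F (g wAd) b391 := hdD (by decide +kernel)
theorem r391_0 : R9 F (g wAd) b391 [] 0 0 := .of (startD 0 1) (by decide +kernel)
theorem r391_1 : R9 F (g wAd) b391 [] 0 1 := .of (startD 0 2) (by decide +kernel)
theorem r391_2 : R9 F (g wAd) b391 [] 0 2 := .of (startD 0 1) (by decide +kernel)
theorem r391_3 : R9 F (g wAd) b391 [] 1 0 := .of (startD 0 1) (by decide +kernel)
theorem r391_4 : R9 F (g wAd) b391 [] 1 1 := .of (startD 0 1) (by decide +kernel)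
theorem r391_5 : R9 F (g wAd) b391 [] 1 2 := .of (startD 0 1) (by decide +kernel)
theorem r391_6 : R9 F (g wAd) b391 [] 2 0 := .of (startD 0 1) (by decide +kernel)
theorem r391_7 : R9 F (g wAd) b391 [] 2 1 := .of (startD 0 1) (by decide +kernel)
theorem r391_8 : R9 F (g wAd) b391 [] 2 2 := .of (startD 0 1) (by decide +kernel)
theorem g391 : Gd F (g wAd) (0, d391) [] :=
  good9 ok h391 r391_0 r391_1 r391_2 r391_3 r391_4 r391_5 r391_6 r391_7 r391_8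

def b392 : Wd := ⟨0, d392,
  [.z, .Z5, .Z4, .X7, .X6, .X4, .X3, .X2, .X0, .y10, .y9, .y7, .y6, .hi, .p4, .hi, .p7, .hi, .p6, .hi, .p5, .hi, .p9,
   .xii, .hi, .p2, .hi, .taui, .y1, .xii, .p10, .xii, .p10, .y7, .xii, .y4, .y10, .tau, .X0, .xii, .p4, .xii, .y1,
   .p8, .y2, .xii, .y5, .taui, .xii, .p, .xii, .y6, .p7, .xii, .y8, .tau],
  [.z, .Z10, .Z8, .Z5, .Z4, .Z3, .Z0, .X9, .X7, .X5, .X3, .X2, .X0, .y10, .y9, .y3, .hi, .p6, .hi, .p10, .hi, .p8,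
   .hi, .p3, .hi, .p10, .xii, .p, .xii, .p8, .y8, .xii, .y1, .y9, .taui, .xii, .p, .xii, .y4, .hi, .xii, .y1, .y4,
   .taui, .X0, .y1, .xii, .y2, .p5, .xii, .p5, .xii, .y10, .p10, .tau, .xii, .y2, .p6, .xii, .p5],
  [.z, .Z9, .Z8, .Z6, .Z3, .Z2, .Z0, .X10, .X7, .X6, .X5, .X0, .y9, .y8, .y4, .y3, .y2, .y1, .hi, .p7, .hi, .p4, .hi,
   .p3, .hi, .p, .hi, .p8, .hi, .p5, .xii, .hi, .xii, .y4, .p9, .xii, .y1, .y9, .taui, .xii, .y1, .p, .xii, .y4, .y10,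
   .p, .xii, .y7, .taui, .X0, .xii, .p7, .xii, .p8, .xii, .y6, .p7, .y8, .tau, .xii, .p, .xii, .p9, .y4, .xii, .tau]⟩

theorem h392 : Hd F (g wAd) b392 := hdD (by decide +kernel)
theorem r392_0 : R9 F (g wAd) b392 [] 0 0 := .of (startD 0 1) (by decide +kernel)
theorem r392_1 : R9 F (g wAd) b392 [] 0 1 := .of (startD 0 1) (by decide +kernel)
theorem r392_2 : R9 F (g wAd) b392 [] 0 2 := .of (startD 0 1) (by decide +kernel)
theorem r392_3 : R9 F (g wAd) b392 [] 1 0 := .of (startD 0 1) (by decide +kernel)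
theorem r392_4 : R9 F (g wAd) b392 [] 1 1 := .of (startD 0 1) (by decide +kernel)
theorem r392_5 : R9 F (g wAd) b392 [] 1 2 := .of (startD 0 1) (by decide +kernel)
theorem r392_6 : R9 F (g wAd) b392 [] 2 0 := .of (startD 0 1) (by decide +kernel)
theorem r392_7 : R9 F (g wAd) b392 [] 2 1 := .of (startD 0 1) (by decide +kernel)
theorem r392_8 : R9 F (g wAd) b392 [] 2 2 := .of (startD 0 1) (by decide +kernel)
theorem g392 : Gd F (g wAd) (0, d392) [] :=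
  good9 ok h392 r392_0 r392_1 r392_2 r392_3 r392_4 r392_5 r392_6 r392_7 r392_8

def b393 : Wd := ⟨0, d393,
  [.z, .Z10, .Z8, .Z7, .Z3, .Z2, .X10, .X6, .X5, .X4, .X3, .X2, .X1, .y10, .y6, .y5, .hi, .p10, .hi, .p8, .hi, .p6,
   .hi, .p9, .hi, .p6, .hi, .p2, .hi, .xii, .p10, .tau, .y1, .xii, .p10, .xii, .y8, .p10, .xii, .y1, .y7, .taui, .X0,
   .p2, .xii, .p9, .xii, .y7, .p3, .hi, .p, .taui, .xii, .p9, .xii, .y6, .y10, .p8, .xii, .y10, .tau, .xii, .p10,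
   .xii, .y2],
  [.Z8, .Z5, .Z4, .Z2, .X7, .X6, .X5, .X4, .X3, .X2, .y10, .y9, .y6, .y4, .y1, .p, .hi, .p6, .hi, .p3, .hi, .p7, .hi,
   .p8, .hi, .xii, .y2, .hi, .p8, .tau, .xii, .p, .xii, .y1, .y10, .hi, .xii, .y3, .y9, .taui, .X0, .y1, .p8, .xii,
   .p3, .xii, .y3, .p10, .tau, .xii, .p9, .xii, .p5, .y2, .y8, .xii, .taui, .xii, .p4],
  [.z, .Z10, .Z5, .Z4, .Z3, .Z2, .Z1, .X8, .X7, .X4, .X3, .X2, .X0, .y9, .y3, .y2, .p9, .hi, .p9, .hi, .p, .hi, .p5,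
   .hi, .p10, .hi, .p8, .xii, .p10, .xii, .y6, .p2, .xii, .y4, .y5, .taui, .xii, .p, .xii, .y4, .hi, .xii, .y6, .tau,
   .X0, .xii, .p4, .xii, .y7, .p9, .y2, .xii, .y6, .p4, .taui, .xii, .y2, .p8, .xii, .y3, .p4, .xii, .y7, .y10, .taui,
   .xii, .p3]⟩

theorem h393 : Hd F (g wAd) b393 := hdD (by decide +kernel)
theorem r393_0 : R9 F (g wAd) b393 [] 0 0 := .of (startD 0 1) (by decide +kernel)
theorem r393_1 : R9 F (g wAd) b393 [] 0 1 := .of (startD 0 1) (by decide +kernel)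
theorem r393_2 : R9 F (g wAd) b393 [] 0 2 := .of (startD 0 1) (by decide +kernel)
theorem r393_3 : R9 F (g wAd) b393 [] 1 0 := .of (startD 0 1) (by decide +kernel)
theorem r393_4 : R9 F (g wAd) b393 [] 1 1 := .of (startD 0 1) (by decide +kernel)
theorem r393_5 : R9 F (g wAd) b393 [] 1 2 := .of (startD 0 1) (by decide +kernel)
theorem r393_6 : R9 F (g wAd) b393 [] 2 0 := .of (startD 0 1) (by decide +kernel)
theorem r393_7 : R9 F (g wAd) b393 [] 2 1 := .of (startD 0 1) (by decide +kernel)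
theorem r393_8 : R9 F (g wAd) b393 [] 2 2 := .of (startD 0 1) (by decide +kernel)
theorem g393 : Gd F (g wAd) (0, d393) [] :=
  good9 ok h393 r393_0 r393_1 r393_2 r393_3 r393_4 r393_5 r393_6 r393_7 r393_8

def b394 : Wd := ⟨0, d394,
  [.z, .Z10, .Z9, .Z7, .Z6, .Z4, .Z1, .Z0, .X10, .X9, .X6, .X4, .X2, .X1, .X0, .y10, .y9, .y6, .y5, .y3, .y1, .p9,
   .hi, .p5, .hi, .p8, .hi, .p9, .hi, .p8, .hi, .p3, .hi, .xii, .y2, .hi, .p4, .hi, .p4, .tau, .y1, .xii, .p10, .xii,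
   .y4, .p10, .xii, .y1, .y5, .tau, .X0, .hi, .xii, .p2, .xii, .y5, .p2, .xii, .y10, .tau, .xii, .p9, .xii, .p3, .y6,
   .xii, .y1, .tau, .xii, .hi, .p5],
  [.Z10, .Z9, .Z6, .Z2, .X10, .X8, .X7, .X5, .X2, .X0, .y9, .y7, .y6, .y5, .y2, .y1, .p10, .hi, .p, .hi, .p4, .hi,
   .p5, .hi, .p10, .hi, .p, .xii, .p10, .xii, .y7, .p8, .taui, .X0, .p4, .xii, .p10, .xii, .y8, .p8, .taui, .p8, .xii,
   .p4, .xii, .y4, .p7, .y1, .tau, .xii, .p9, .xii, .y5, .y9, .p6, .xii, .y1, .y9, .taui, .xii, .y8, .p8],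
  [.Z10, .Z7, .Z6, .Z5, .Z4, .Z3, .Z2, .Z0, .X10, .X9, .X8, .X7, .X6, .X4, .X0, .y9, .y2, .p9, .hi, .p5, .hi, .p5,
   .hi, .p8, .hi, .p5, .hi, .p2, .xii, .p10, .xii, .p5, .y5, .xii, .y9, .tau, .xii, .y1, .p, .xii, .y4, .p, .xii, .y3,
   .y4, .tau, .xii, .p2, .xii, .p7, .xii, .y5, .p2, .y7, .taui, .xii, .p7, .xii, .y4, .y9, .p3, .xii, .y2, .y8, .tau]⟩

theorem h394 : Hd F (g wAd) b394 := hdD (by decide +kernel)
theorem r394_0 : R9 F (g wAd) b394 [] 0 0 := .of (startD 0 1) (by decide +kernel)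
theorem r394_1 : R9 F (g wAd) b394 [] 0 1 := .of (startD 0 1) (by decide +kernel)
theorem r394_2 : R9 F (g wAd) b394 [] 0 2 := .of (startD 0 1) (by decide +kernel)
theorem r394_3 : R9 F (g wAd) b394 [] 1 0 := .of (startD 0 1) (by decide +kernel)
theorem r394_4 : R9 F (g wAd) b394 [] 1 1 := .of (startD 0 2) (by decide +kernel)
theorem r394_5 : R9 F (g wAd) b394 [] 1 2 := .of (startD 0 1) (by decide +kernel)
theorem r394_6 : R9 F (g wAd) b394 [] 2 0 := .of (startD 0 1) (by decide +kernel)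
theorem r394_7 : R9 F (g wAd) b394 [] 2 1 := .of (startD 0 1) (by decide +kernel)
theorem r394_8 : R9 F (g wAd) b394 [] 2 2 := .of (startD 0 1) (by decide +kernel)
theorem g394 : Gd F (g wAd) (0, d394) [] :=
  good9 ok h394 r394_0 r394_1 r394_2 r394_3 r394_4 r394_5 r394_6 r394_7 r394_8

def b395 : Wd := ⟨0, d395,
  [.z, .Z5, .Z3, .Z2, .X10, .X9, .X8, .X5, .X4, .X2, .X0, .y9, .y8, .y3, .y1, .p6, .hi, .p, .hi, .p8, .hi, .p8, .hi,
   .p5, .hi, .p2, .hi, .xii, .p10, .xii, .y8, .tau, .xii, .p, .xii, .y4, .hi, .xii, .y3, .y9, .tau, .X0, .p10, .xii,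
   .y10, .p3, .xii, .p2, .xii, .y7, .tau, .xii, .p9, .xii, .y1, .y2, .p6, .xii, .y8, .taui, .xii, .p4],
  [.Z7, .Z6, .Z5, .Z3, .Z2, .Z1, .X10, .X9, .X8, .X5, .X3, .X2, .X0, .y9, .y5, .y1, .p6, .hi, .p6, .hi, .p9, .xii,
   .y2, .hi, .xii, .p9, .xii, .y2, .y7, .taui, .xii, .p, .xii, .y2, .hi, .xii, .y5, .y8, .tau, .X0, .p4, .xii, .p4,
   .xii, .p9, .y8, .y9, .xii, .y10, .taui, .xii, .y2, .p3, .xii, .y2, .hi, .p3, .hi, .taui, .xii, .y2, .p2],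
  [.z, .Z9, .Z8, .Z7, .Z6, .Z5, .Z3, .Z2, .Z0, .X10, .X9, .X7, .X5, .X4, .X3, .X2, .X1, .X0, .y10, .y9, .y3, .y2,
   .p10, .hi, .p8, .hi, .p8, .hi, .p8, .hi, .p7, .xii, .y2, .p, .xii, .p, .xii, .y3, .taui, .xii, .p, .xii, .y2, .hi,
   .xii, .y5, .y10, .taui, .xii, .p7, .xii, .y10, .p8, .xii, .y8, .y10, .p2, .tau, .xii, .p4, .xii, .p5, .y7, .hi,
   .p3, .tau, .xii, .p2, .hi, .p]⟩

theorem h395 : Hd F (g wAd) b395 := hdD (by decide +kernel)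
theorem r395_0 : R9 F (g wAd) b395 [] 0 0 := .of (startD 0 1) (by decide +kernel)
theorem r395_1 : R9 F (g wAd) b395 [] 0 1 := .of (startD 0 1) (by decide +kernel)
theorem r395_2 : R9 F (g wAd) b395 [] 0 2 := .of (startD 0 1) (by decide +kernel)
theorem r395_3 : R9 F (g wAd) b395 [] 1 0 := .of (startD 0 1) (by decide +kernel)
theorem r395_4 : R9 F (g wAd) b395 [] 1 1 := .of (startD 0 1) (by decide +kernel)
theorem r395_5 : R9 F (g wAd) b395 [] 1 2 := .of (startD 0 1) (by decide +kernel)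
theorem r395_6 : R9 F (g wAd) b395 [] 2 0 := .of (startD 0 2) (by decide +kernel)
theorem r395_7 : R9 F (g wAd) b395 [] 2 1 := .of (startD 0 1) (by decide +kernel)
theorem r395_8 : R9 F (g wAd) b395 [] 2 2 := .of (startD 0 1) (by decide +kernel)
theorem g395 : Gd F (g wAd) (0, d395) [] :=
  good9 ok h395 r395_0 r395_1 r395_2 r395_3 r395_4 r395_5 r395_6 r395_7 r395_8

def b396 : Wd := ⟨0, d396,
  [.Z7, .Z5, .Z2, .X10, .X9, .X8, .X6, .X4, .X2, .X0, .y8, .y6, .y3, .y2, .p9, .hi, .p5, .hi, .p8, .hi, .p4, .hi,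
   .p10, .xii, .p10, .hi, .p2, .hi, .p10, .taui, .xii, .y6, .p, .xii, .p, .xii, .y2, .y6, .y10, .tau, .X0, .hi, .xii,
   .p4, .xii, .p10, .y10, .xii, .y5, .tau, .xii, .p5, .xii, .y1, .p5, .xii, .y1, .y5, .tau, .xii, .y6, .hi, .xii],
  [.Z9, .Z5, .Z0, .X8, .X6, .X5, .X4, .X3, .X2, .X1, .y9, .y8, .y7, .y6, .y4, .y3, .p3, .hi, .p8, .hi, .p6, .hi, .p,
   .xii, .p, .xii, .y6, .tau, .xii, .p, .xii, .y4, .hi, .xii, .y1, .y10, .tau, .xii, .p9, .xii, .p3, .y3, .xii, .y1,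
   .taui, .xii, .p8, .xii, .p4, .hi, .p6, .tau, .xii, .p2],
  [.z, .Z9, .Z6, .Z5, .Z4, .Z3, .Z1, .X10, .X6, .X5, .X1, .y8, .y7, .y6, .y4, .p3, .hi, .p9, .hi, .p9, .hi, .p10, .hi,
   .p2, .hi, .p6, .hi, .xii, .p, .hi, .xii, .p5, .hi, .p5, .tau, .X0, .p7, .xii, .p, .hi, .xii, .y1, .p3, .tau, .X0,
   .p5, .xii, .p7, .xii, .y9, .p3, .y1, .tau, .xii, .y2, .hi, .p5, .xii, .y7, .p, .tau, .xii, .y2, .p, .hi, .p4]⟩

theorem h396 : Hd F (g wAd) b396 := hdD (by decide +kernel)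
theorem r396_0 : R9 F (g wAd) b396 [] 0 0 := .of (startD 0 1) (by decide +kernel)
theorem r396_1 : R9 F (g wAd) b396 [] 0 1 := .of (startD 0 1) (by decide +kernel)
theorem r396_2 : R9 F (g wAd) b396 [] 0 2 := .of (startD 0 1) (by decide +kernel)
theorem r396_3 : R9 F (g wAd) b396 [] 1 0 := .of (startD 0 1) (by decide +kernel)
theorem r396_4 : R9 F (g wAd) b396 [] 1 1 := .of (startD 0 1) (by decide +kernel)
theorem r396_5 : R9 F (g wAd) b396 [] 1 2 := .of (startD 0 1) (by decide +kernel)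
theorem r396_6 : R9 F (g wAd) b396 [] 2 0 := .of (startD 0 1) (by decide +kernel)
theorem r396_7 : R9 F (g wAd) b396 [] 2 1 := .of (startD 0 2) (by decide +kernel)
theorem r396_8 : R9 F (g wAd) b396 [] 2 2 := .of (startD 0 1) (by decide +kernel)
theorem g396 : Gd F (g wAd) (0, d396) [] :=
  good9 ok h396 r396_0 r396_1 r396_2 r396_3 r396_4 r396_5 r396_6 r396_7 r396_8

def b397 : Wd := ⟨0, d397,
  [.Z9, .Z5, .Z4, .X9, .X2, .X1, .y3, .y1, .p, .hi, .p6, .hi, .p7, .hi, .p7, .hi, .p7, .hi, .p7, .xii, .p10, .xii,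
   .y4, .p6, .xii, .y7, .tau, .xii, .y6, .hi, .p8, .xii, .y4, .p2, .hi, .tau, .X0, .p4, .xii, .p, .xii, .p3, .hi,
   .tau, .xii, .p5, .xii, .y7, .p2, .y2, .xii, .y5, .tau, .xii, .p10, .xii, .y2],
  [.Z10, .Z8, .Z7, .Z6, .Z5, .Z2, .Z1, .X9, .X7, .X5, .X3, .X1, .X0, .y9, .y7, .y4, .y2, .p4, .hi, .p10, .hi, .p9,
   .hi, .p4, .hi, .p2, .xii, .p10, .xii, .y8, .p10, .xii, .y3, .y7, .tau, .y1, .xii, .p10, .xii, .y8, .p10, .xii, .y4,
   .y10, .taui, .xii, .p2, .xii, .y4, .hi, .y9, .xii, .tau, .xii, .p7, .xii, .y4, .y7, .p10, .xii, .tau, .xii, .p7],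
  [.Z10, .Z9, .Z6, .Z5, .Z4, .Z3, .Z1, .X10, .X7, .X3, .X1, .y10, .y8, .y7, .y5, .y4, .p9, .hi, .p5, .hi, .p7, .hi,
   .p4, .xii, .p, .xii, .y2, .hi, .xii, .y1, .taui, .xii, .p, .xii, .y1, .y4, .hi, .p10, .taui, .p5, .xii, .y3, .y7,
   .p7, .xii, .y1, .y2, .taui, .xii, .p9, .xii, .y9, .p8, .xii, .y4, .y5, .taui, .xii, .p10]⟩

theorem h397 : Hd F (g wAd) b397 := hdD (by decide +kernel)
theorem r397_0 : R9 F (g wAd) b397 [] 0 0 := .of (startD 0 1) (by decide +kernel)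
theorem r397_1 : R9 F (g wAd) b397 [] 0 1 := .of (startD 0 1) (by decide +kernel)
theorem r397_2 : R9 F (g wAd) b397 [] 0 2 := .of (startD 0 1) (by decide +kernel)
theorem r397_3 : R9 F (g wAd) b397 [] 1 0 := .of (startD 0 1) (by decide +kernel)
theorem r397_4 : R9 F (g wAd) b397 [] 1 1 := .of (startD 0 1) (by decide +kernel)
theorem r397_5 : R9 F (g wAd) b397 [] 1 2 := .of (startD 0 2) (by decide +kernel)
theorem r397_6 : R9 F (g wAd) b397 [] 2 0 := .of (startD 0 1) (by decide +kernel)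
theorem r397_7 : R9 F (g wAd) b397 [] 2 1 := .of (startD 0 1) (by decide +kernel)
theorem r397_8 : R9 F (g wAd) b397 [] 2 2 := .of (startD 0 1) (by decide +kernel)
theorem g397 : Gd F (g wAd) (0, d397) [] :=
  good9 ok h397 r397_0 r397_1 r397_2 r397_3 r397_4 r397_5 r397_6 r397_7 r397_8

def b398 : Wd := ⟨0, d398,
  [.Z8, .Z7, .Z5, .Z4, .Z2, .X9, .X8, .X6, .X5, .y10, .y6, .y5, .y2, .y1, .p7, .hi, .p6, .hi, .p5, .hi, .p6, .hi,
   .p10, .hi, .xii, .y2, .p10, .xii, .y9, .taui, .xii, .p, .xii, .y2, .hi, .xii, .y3, .y4, .tau, .X0, .xii, .y2, .p6,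
   .xii, .y2, .p2, .xii, .y5, .tau, .xii, .p7, .xii, .y1, .y4, .tau, .xii],
  [.z, .Z7, .Z5, .Z4, .Z1, .Z0, .X10, .X9, .X8, .X4, .X3, .X2, .y8, .y5, .y3, .y2, .p5, .hi, .p10, .hi, .p3, .hi, .p6,
   .hi, .p6, .hi, .xii, .tau, .y1, .xii, .p10, .xii, .y1, .p10, .xii, .y1, .y7, .tau, .p5, .xii, .p5, .y7, .xii, .p8,
   .xii, .y9, .taui, .xii, .p9, .xii, .y3, .y7, .hi, .p3, .tau, .xii, .y2, .p7],
  [.z, .Z8, .Z4, .Z3, .Z2, .Z1, .X9, .X8, .y10, .y9, .y8, .y7, .y6, .y2, .y1, .p8, .hi, .p10, .hi, .p6, .hi, .p9, .hi,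
   .p3, .hi, .p10, .xii, .hi, .p8, .xii, .y4, .p10, .tau, .y1, .xii, .y2, .hi, .xii, .y10, .p10, .xii, .tau, .xii,
   .p4, .xii, .y1, .y3, .p4, .xii, .y2, .p2, .tau, .xii, .p9, .xii, .y4, .y6, .hi, .taui, .xii, .y2, .p7]⟩

theorem h398 : Hd F (g wAd) b398 := hdD (by decide +kernel)
theorem r398_0 : R9 F (g wAd) b398 [] 0 0 := .of (startD 0 2) (by decide +kernel)
theorem r398_1 : R9 F (g wAd) b398 [] 0 1 := .of (startD 0 1) (by decide +kernel)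
theorem r398_2 : R9 F (g wAd) b398 [] 0 2 := .of (startD 0 1) (by decide +kernel)
theorem r398_3 : R9 F (g wAd) b398 [] 1 0 := .of (startD 0 1) (by decide +kernel)
theorem r398_4 : R9 F (g wAd) b398 [] 1 1 := .of (startD 0 1) (by decide +kernel)
theorem r398_5 : R9 F (g wAd) b398 [] 1 2 := .of (startD 0 1) (by decide +kernel)
theorem r398_6 : R9 F (g wAd) b398 [] 2 0 := .of (startD 0 1) (by decide +kernel)
theorem r398_7 : R9 F (g wAd) b398 [] 2 1 := .of (startD 0 1) (by decide +kernel)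
theorem r398_8 : R9 F (g wAd) b398 [] 2 2 := .of (startD 0 1) (by decide +kernel)
theorem g398 : Gd F (g wAd) (0, d398) [] :=
  good9 ok h398 r398_0 r398_1 r398_2 r398_3 r398_4 r398_5 r398_6 r398_7 r398_8

def b399 : Wd := ⟨0, d399,
  [.Z10, .Z8, .Z6, .Z5, .Z4, .Z3, .Z2, .Z1, .Z0, .X9, .X6, .X5, .X3, .X0, .y8, .y6, .y5, .y3, .y1, .p5, .hi, .p8, .hi,
   .p5, .hi, .p3, .hi, .p7, .xii, .p10, .xii, .p9, .xii, .y5, .y9, .taui, .y1, .xii, .p10, .xii, .y1, .y9, .p10, .xii,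
   .y2, .y4, .taui, .X0, .p9, .xii, .p10, .xii, .y7, .p6, .y3, .xii, .y9, .taui, .xii, .p7, .xii, .y5, .y9, .p9, .xii,
   .y7, .tau],
  [.z, .Z10, .Z9, .Z7, .Z5, .Z3, .Z1, .Z0, .X10, .X9, .X7, .X6, .X5, .X4, .X0, .y6, .y5, .y4, .y3, .y2, .y1, .p8, .hi,
   .p4, .hi, .p8, .hi, .p4, .hi, .p6, .hi, .p7, .hi, .p6, .xii, .hi, .p4, .hi, .p4, .taui, .y1, .xii, .y1, .hi, .xii,
   .p10, .xii, .y1, .y6, .taui, .y1, .p8, .xii, .p, .xii, .p4, .hi, .p8, .taui, .xii, .p9, .xii, .p2, .hi, .y9, .p9],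
  [.Z9, .Z6, .Z5, .Z1, .Z0, .X7, .X6, .X4, .X2, .X1, .y7, .y6, .y3, .y2, .y1, .hi, .p7, .hi, .p7, .hi, .p, .hi, .p7,
   .xii, .hi, .xii, .p8, .y10, .xii, .y8, .tau, .xii, .p, .xii, .y1, .hi, .xii, .y7, .y10, .tau, .X0, .p5, .xii, .y3,
   .y7, .hi, .xii, .p10, .xii, .taui, .xii, .p9, .xii, .y8, .y9, .p3, .xii, .y1, .tau, .xii, .p, .xii, .y2]⟩

theorem h399 : Hd F (g wAd) b399 := hdD (by decide +kernel)
theorem r399_0 : R9 F (g wAd) b399 [] 0 0 := .of (startD 0 1) (by decide +kernel)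
theorem r399_1 : R9 F (g wAd) b399 [] 0 1 := .of (startD 0 1) (by decide +kernel)
theorem r399_2 : R9 F (g wAd) b399 [] 0 2 := .of (startD 0 1) (by decide +kernel)
theorem r399_3 : R9 F (g wAd) b399 [] 1 0 := .of (startD 0 1) (by decide +kernel)
theorem r399_4 : R9 F (g wAd) b399 [] 1 1 := .of (startD 0 1) (by decide +kernel)
theorem r399_5 : R9 F (g wAd) b399 [] 1 2 := .of (startD 0 1) (by decide +kernel)
theorem r399_6 : R9 F (g wAd) b399 [] 2 0 := .of (startD 0 1) (by decide +kernel)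
theorem r399_7 : R9 F (g wAd) b399 [] 2 1 := .of (startD 0 1) (by decide +kernel)
theorem r399_8 : R9 F (g wAd) b399 [] 2 2 := .of (startD 0 1) (by decide +kernel)
theorem g399 : Gd F (g wAd) (0, d399) [] :=
  good9 ok h399 r399_0 r399_1 r399_2 r399_3 r399_4 r399_5 r399_6 r399_7 r399_8

theorem all : AllG F (g wAd) LD39 :=
  .cons g390 (.cons g391 (.cons g392 (.cons g393 (.cons g394 (.cons g395 (.cons g396 (.cons g397 (.cons g398 (.cons g399 (.nil))))))))))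

end Cfsg.Agent.BX.No33.Bk.D39
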