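import Cfsg.Agent.BX.No33.Cheap
set_option linter.all false

/-!
# Tests, diagonal case, part 40 (helper5; generated)
-/

set_option autoImplicit false
set_option maxRecDepth 100000
set_option Elab.async false

namespace Cfsg.Agent.BX.No33.Bk.D40

open Cfsg.Agent.H819.U33 Cfsg.Agent.BX.No33.Front

def b400 : Wd := ⟨0, d400,
  [.Z10, .Z2, .Z0, .X9, .X7, .X6, .X5, .X4, .X3, .X1, .X0, .y10, .y9, .y8, .y7, .y5, .hi, .p4, .hi, .p7, .hi, .p, .hi,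
   .p6, .hi, .p, .hi, .p3, .xii, .y2, .hi, .p3, .hi, .p5, .taui, .xii, .y1, .p, .xii, .p, .xii, .y3, .y10, .tau, .p10,
   .xii, .hi, .p6, .xii, .p4, .y8, .hi, .y7, .taui, .xii, .y2, .p7, .xii, .y4, .p3, .xii, .y6, .taui, .xii, .p10,
   .xii, .y10],
  [.z, .Z10, .Z9, .Z6, .Z3, .Z2, .X10, .X7, .X6, .X5, .X3, .X1, .X0, .y8, .y6, .y5, .y3, .y2, .hi, .p9, .hi, .p8, .hi,
   .p3, .hi, .p9, .hi, .p5, .hi, .p9, .hi, .xii, .p10, .xii, .y6, .p2, .xii, .y3, .taui, .xii, .p9, .xii, .hi, .y5,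
   .xii, .y2, .p2, .tau, .xii, .y2, .p6, .xii, .p, .xii, .y5, .taui, .xii, .p7],
  [.z, .Z9, .Z8, .Z7, .Z1, .X10, .X7, .X4, .X1, .y9, .y4, .p3, .hi, .p8, .hi, .p8, .hi, .p, .hi, .p7, .hi, .p9, .hi,
   .xii, .p10, .xii, .p6, .xii, .y7, .y10, .taui, .y1, .xii, .y1, .hi, .xii, .p10, .xii, .y8, .y10, .tau, .y1, .xii,
   .y6, .p, .xii, .p, .y7, .xii, .y10, .tau, .xii, .p7, .xii, .y9, .p9, .xii, .y1, .y5, .taui]⟩

theorem h400 : Hd F (g wAd) b400 := hdD (by decide +kernel)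
theorem r400_0 : R9 F (g wAd) b400 [] 0 0 := .of (startD 0 1) (by decide +kernel)
theorem r400_1 : R9 F (g wAd) b400 [] 0 1 := .of (startD 0 1) (by decide +kernel)
theorem r400_2 : R9 F (g wAd) b400 [] 0 2 := .of (startD 0 2) (by decide +kernel)
theorem r400_3 : R9 F (g wAd) b400 [] 1 0 := .of (startD 0 1) (by decide +kernel)
theorem r400_4 : R9 F (g wAd) b400 [] 1 1 := .of (startD 0 2) (by decide +kernel)
theorem r400_5 : R9 F (g wAd) b400 [] 1 2 := .of (startD 0 1) (by decide +kernel)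
theorem r400_6 : R9 F (g wAd) b400 [] 2 0 := .of (startD 0 2) (by decide +kernel)
theorem r400_7 : R9 F (g wAd) b400 [] 2 1 := .of (startD 0 1) (by decide +kernel)
theorem r400_8 : R9 F (g wAd) b400 [] 2 2 := .of (startD 0 1) (by decide +kernel)
theorem g400 : Gd F (g wAd) (0, d400) [] :=
  good9 ok h400 r400_0 r400_1 r400_2 r400_3 r400_4 r400_5 r400_6 r400_7 r400_8

def b401 : Wd := ⟨0, d401,
  [.Z9, .Z7, .Z5, .Z4, .Z2, .X9, .X8, .X7, .X6, .X2, .X1, .y8, .y3, .y2, .y1, .hi, .p7, .hi, .p4, .hi, .p3, .hi, .p6,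
   .hi, .p8, .hi, .p, .xii, .p10, .xii, .y1, .y7, .taui, .xii, .y1, .p, .xii, .p3, .y3, .hi, .taui, .X0, .p9, .xii,
   .p3, .y4, .xii, .y4, .taui, .xii, .p4, .xii, .y4, .y6, .p10, .tau, .xii, .y2, .p10, .hi, .p7],
  [.z, .Z9, .Z2, .Z0, .X10, .X9, .X8, .X6, .X0, .y4, .y1, .p2, .hi, .p6, .hi, .p10, .hi, .p10, .hi, .p, .xii, .hi,
   .p8, .xii, .y1, .p10, .taui, .xii, .y6, .p, .xii, .p, .xii, .y1, .y2, .y4, .taui, .X0, .p8, .xii, .y2, .hi, .p8,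
   .xii, .p2, .y2, .taui, .xii, .p8, .xii, .y6, .p2, .xii, .y9, .tau, .xii, .y7, .p],
  [.Z10, .Z7, .Z6, .Z2, .Z1, .Z0, .X10, .X9, .X7, .X5, .X3, .X2, .X0, .y9, .y8, .y7, .y6, .y1, .p4, .hi, .p, .hi, .p4,
   .hi, .p3, .hi, .p9, .xii, .p2, .hi, .xii, .y5, .y7, .p3, .taui, .xii, .y1, .p, .xii, .y4, .p, .xii, .y5, .taui,
   .X0, .xii, .p7, .xii, .y8, .p8, .xii, .p8, .y10, .taui, .xii, .y2, .p4, .xii, .y1, .p5, .xii, .y5, .taui, .xii,
   .y7]⟩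

theorem h401 : Hd F (g wAd) b401 := hdD (by decide +kernel)
theorem r401_0 : R9 F (g wAd) b401 [] 0 0 := .of (startD 0 1) (by decide +kernel)
theorem r401_1 : R9 F (g wAd) b401 [] 0 1 := .of (startD 0 1) (by decide +kernel)
theorem r401_2 : R9 F (g wAd) b401 [] 0 2 := .of (startD 0 1) (by decide +kernel)
theorem r401_3 : R9 F (g wAd) b401 [] 1 0 := .of (startD 0 1) (by decide +kernel)
theorem r401_4 : R9 F (g wAd) b401 [] 1 1 := .of (startD 0 1) (by decide +kernel)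
theorem r401_5 : R9 F (g wAd) b401 [] 1 2 := .of (startD 0 1) (by decide +kernel)
theorem r401_6 : R9 F (g wAd) b401 [] 2 0 := .of (startD 0 1) (by decide +kernel)
theorem r401_7 : R9 F (g wAd) b401 [] 2 1 := .of (startD 0 1) (by decide +kernel)
theorem r401_8 : R9 F (g wAd) b401 [] 2 2 := .of (startD 0 1) (by decide +kernel)
theorem g401 : Gd F (g wAd) (0, d401) [] :=
  good9 ok h401 r401_0 r401_1 r401_2 r401_3 r401_4 r401_5 r401_6 r401_7 r401_8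

def b402 : Wd := ⟨0, d402,
  [.z, .Z9, .Z8, .Z5, .Z4, .Z0, .X10, .X9, .X8, .X4, .X3, .X2, .y9, .y8, .y7, .y3, .hi, .p7, .hi, .p7, .hi, .p, .hi,
   .p5, .hi, .p10, .xii, .hi, .p3, .hi, .p5, .tau, .X0, .xii, .p3, .xii, .hi, .xii, .y10, .hi, .taui, .X0, .y1, .p9,
   .xii, .p3, .xii, .y8, .p5, .hi, .p, .taui, .xii, .p4, .xii, .y2, .p, .y10, .tau, .xii, .y2, .p8],
  [.Z10, .Z5, .Z3, .Z1, .Z0, .X7, .X5, .X4, .X3, .X1, .y10, .y4, .y3, .y2, .p5, .hi, .p3, .hi, .p, .hi, .p3, .hi, .p4,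
   .hi, .p3, .xii, .y2, .p5, .hi, .p5, .taui, .xii, .p, .xii, .y3, .hi, .xii, .y5, .tau, .X0, .xii, .p4, .xii, .y8,
   .p8, .y4, .xii, .tau, .xii, .p3, .xii, .y6, .hi, .p3, .hi, .tau, .xii, .hi, .p6],
  [.z, .Z10, .Z9, .Z7, .Z4, .Z2, .Z1, .Z0, .X8, .X7, .X6, .X0, .y10, .y9, .y5, .y4, .y3, .y2, .y1, .p8, .hi, .p5, .hi,
   .p10, .hi, .p9, .hi, .p, .xii, .p3, .hi, .xii, .y3, .p10, .taui, .xii, .p, .xii, .hi, .y8, .xii, .y2, .y4, .y7,
   .taui, .y1, .xii, .p9, .xii, .y10, .p5, .xii, .y3, .y5, .y9, .tau, .xii, .y2, .hi, .p8, .xii, .y9, .p7]⟩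

theorem h402 : Hd F (g wAd) b402 := hdD (by decide +kernel)
theorem r402_0 : R9 F (g wAd) b402 [] 0 0 := .of (startD 0 1) (by decide +kernel)
theorem r402_1 : R9 F (g wAd) b402 [] 0 1 := .of (startD 0 1) (by decide +kernel)
theorem r402_2 : R9 F (g wAd) b402 [] 0 2 := .of (startD 0 1) (by decide +kernel)
theorem r402_3 : R9 F (g wAd) b402 [] 1 0 := .of (startD 0 1) (by decide +kernel)
theorem r402_4 : R9 F (g wAd) b402 [] 1 1 := .of (startD 0 1) (by decide +kernel)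
theorem r402_5 : R9 F (g wAd) b402 [] 1 2 := .of (startD 0 1) (by decide +kernel)
theorem r402_6 : R9 F (g wAd) b402 [] 2 0 := .of (startD 0 1) (by decide +kernel)
theorem r402_7 : R9 F (g wAd) b402 [] 2 1 := .of (startD 0 1) (by decide +kernel)
theorem r402_8 : R9 F (g wAd) b402 [] 2 2 := .of (startD 0 1) (by decide +kernel)
theorem g402 : Gd F (g wAd) (0, d402) [] :=
  good9 ok h402 r402_0 r402_1 r402_2 r402_3 r402_4 r402_5 r402_6 r402_7 r402_8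

def b403 : Wd := ⟨0, d403,
  [.z, .Z9, .Z6, .Z5, .Z4, .Z3, .Z1, .X9, .X8, .X7, .X6, .X5, .X3, .X1, .y8, .y5, .y2, .p10, .hi, .p5, .hi, .p10, .hi,
   .p2, .hi, .p4, .hi, .p6, .xii, .y2, .hi, .p8, .hi, .p5, .hi, .tau, .xii, .y2, .p, .xii, .y2, .hi, .xii, .y5, .taui,
   .xii, .y6, .p, .xii, .y10, .p, .xii, .y4, .y7, .taui, .X0, .p2, .xii, .y6, .hi, .xii, .tau, .xii, .p5, .hi, .p10,
   .xii, .y8, .hi, .taui, .xii, .y2, .p10, .hi, .p8],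
  [.Z10, .Z8, .Z2, .Z0, .X10, .X2, .X1, .X0, .y9, .y6, .y5, .y1, .p5, .hi, .p10, .hi, .p3, .hi, .p10, .hi, .xii, .p,
   .xii, .y6, .y10, .taui, .y1, .xii, .p10, .xii, .y4, .p10, .xii, .y4, .y10, .taui, .xii, .p8, .xii, .p4, .y2, .xii,
   .p4, .y3, .taui, .xii, .p5, .xii, .y3, .p5, .hi, .tau, .xii, .hi, .p10],
  [.z, .Z10, .Z8, .Z6, .Z4, .Z2, .Z0, .X4, .X2, .X1, .y9, .y7, .y5, .y4, .y3, .p10, .hi, .p10, .hi, .p4, .hi, .p7,
   .hi, .p3, .hi, .p, .hi, .p7, .xii, .y2, .p, .xii, .p, .xii, .y7, .tau, .xii, .y2, .p, .xii, .y1, .hi, .xii, .y1,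
   .taui, .y1, .xii, .p9, .xii, .p6, .y4, .xii, .y9, .hi, .tau, .xii, .p4, .xii, .y1, .y5, .p10, .xii, .y6, .tau]⟩

theorem h403 : Hd F (g wAd) b403 := hdD (by decide +kernel)
theorem r403_0 : R9 F (g wAd) b403 [] 0 0 := .of (startD 0 1) (by decide +kernel)
theorem r403_1 : R9 F (g wAd) b403 [] 0 1 := .of (startD 0 1) (by decide +kernel)
theorem r403_2 : R9 F (g wAd) b403 [] 0 2 := .of (startD 0 1) (by decide +kernel)
theorem r403_3 : R9 F (g wAd) b403 [] 1 0 := .of (startD 0 1) (by decide +kernel)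
theorem r403_4 : R9 F (g wAd) b403 [] 1 1 := .of (startD 0 1) (by decide +kernel)
theorem r403_5 : R9 F (g wAd) b403 [] 1 2 := .of (startD 0 1) (by decide +kernel)
theorem r403_6 : R9 F (g wAd) b403 [] 2 0 := .of (startD 0 1) (by decide +kernel)
theorem r403_7 : R9 F (g wAd) b403 [] 2 1 := .of (startD 0 1) (by decide +kernel)
theorem r403_8 : R9 F (g wAd) b403 [] 2 2 := .of (startD 0 1) (by decide +kernel)
theorem g403 : Gd F (g wAd) (0, d403) [] :=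
  good9 ok h403 r403_0 r403_1 r403_2 r403_3 r403_4 r403_5 r403_6 r403_7 r403_8

def b404 : Wd := ⟨0, d404,
  [.z, .Z8, .Z4, .Z3, .Z2, .Z1, .Z0, .X10, .X8, .X7, .X4, .X2, .X1, .y10, .y9, .y5, .y4, .y2, .p3, .hi, .p7, .hi, .p5,
   .hi, .p8, .hi, .p2, .xii, .p10, .xii, .y4, .p10, .tau, .xii, .p, .xii, .y2, .hi, .xii, .y3, .taui, .X0, .y1, .p8,
   .xii, .p4, .xii, .y4, .p10, .y3, .hi, .tau, .xii, .p7, .xii, .hi, .y10, .xii, .y2, .tau, .xii, .y2, .p],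
  [.Z7, .Z6, .Z4, .Z3, .Z1, .X7, .X6, .X5, .X3, .X1, .y10, .y6, .p3, .hi, .p8, .hi, .p10, .hi, .p3, .hi, .p2, .hi,
   .xii, .p, .xii, .y1, .taui, .y1, .xii, .p10, .xii, .y2, .p10, .xii, .taui, .X0, .p5, .xii, .p10, .xii, .p10, .y7,
   .taui, .xii, .y2, .p9, .xii, .p, .y2, .xii, .y10, .tau, .xii, .hi, .p7],
  [.Z8, .Z3, .Z2, .X9, .X6, .X4, .y9, .y8, .y5, .y4, .y1, .p7, .hi, .p9, .hi, .p4, .hi, .p7, .hi, .p8, .xii, .p2, .hi,
   .taui, .y1, .xii, .p10, .xii, .y1, .y7, .p10, .xii, .y9, .taui, .p7, .xii, .p7, .xii, .y2, .p10, .y1, .hi, .p6,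
   .taui, .xii, .p7, .xii, .p9, .xii, .y1, .y9, .taui, .xii, .hi, .xii, .y4]⟩

theorem h404 : Hd F (g wAd) b404 := hdD (by decide +kernel)
theorem r404_0 : R9 F (g wAd) b404 [] 0 0 := .of (startD 0 1) (by decide +kernel)
theorem r404_1 : R9 F (g wAd) b404 [] 0 1 := .of (startD 0 1) (by decide +kernel)
theorem r404_2 : R9 F (g wAd) b404 [] 0 2 := .of (startD 0 1) (by decide +kernel)
theorem r404_3 : R9 F (g wAd) b404 [] 1 0 := .of (startD 0 2) (by decide +kernel)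
theorem r404_4 : R9 F (g wAd) b404 [] 1 1 := .of (startD 0 1) (by decide +kernel)
theorem r404_5 : R9 F (g wAd) b404 [] 1 2 := .of (startD 0 1) (by decide +kernel)
theorem r404_6 : R9 F (g wAd) b404 [] 2 0 := .of (startD 0 1) (by decide +kernel)
theorem r404_7 : R9 F (g wAd) b404 [] 2 1 := .of (startD 0 1) (by decide +kernel)
theorem r404_8 : R9 F (g wAd) b404 [] 2 2 := .of (startD 0 1) (by decide +kernel)
theorem g404 : Gd F (g wAd) (0, d404) [] :=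
  good9 ok h404 r404_0 r404_1 r404_2 r404_3 r404_4 r404_5 r404_6 r404_7 r404_8

def b405 : Wd := ⟨0, d405,
  [.Z9, .Z5, .Z4, .Z3, .Z2, .Z0, .X9, .X8, .X7, .X6, .X5, .X4, .y10, .y8, .y7, .y6, .y5, .y4, .y3, .y2, .p7, .hi, .p3,
   .hi, .p10, .hi, .p10, .hi, .p2, .hi, .xii, .y2, .hi, .xii, .p9, .xii, .y1, .y10, .taui, .xii, .y1, .p, .xii, .p,
   .xii, .y5, .y8, .taui, .y1, .xii, .p5, .xii, .p9, .y4, .xii, .y1, .taui, .xii, .p9, .xii, .y5, .p, .tau, .xii, .y2,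
   .p, .hi, .p4],
  [.Z10, .Z7, .Z4, .Z3, .X8, .X7, .X6, .X5, .X3, .X1, .X0, .y10, .y9, .y8, .y7, .y4, .p2, .hi, .p, .hi, .p, .hi, .p7,
   .hi, .xii, .p, .xii, .y2, .p7, .taui, .xii, .y2, .p, .xii, .y2, .hi, .xii, .y6, .taui, .p4, .xii, .hi, .p5, .xii,
   .y6, .hi, .p9, .tau, .xii, .p5, .xii, .y5, .p8, .hi, .taui, .xii, .y2, .p8],
  [.Z6, .Z5, .Z4, .Z3, .Z0, .X9, .X7, .X5, .X0, .y10, .y5, .y4, .y2, .y1, .p10, .hi, .p5, .hi, .p9, .hi, .p10, .hi,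
   .p2, .hi, .xii, .p10, .hi, .p2, .hi, .p10, .taui, .xii, .y1, .p, .xii, .y10, .p, .xii, .y6, .taui, .xii, .y1, .p,
   .xii, .y4, .p, .xii, .y1, .tau, .X0, .p4, .xii, .p, .xii, .y8, .taui, .xii, .y2, .p4, .xii, .p4, .y6, .xii, .y4,
   .taui, .xii, .y4, .p10]⟩

theorem h405 : Hd F (g wAd) b405 := hdD (by decide +kernel)
theorem r405_0 : R9 F (g wAd) b405 [] 0 0 := .of (startD 0 1) (by decide +kernel)
theorem r405_1 : R9 F (g wAd) b405 [] 0 1 := .of (startD 0 1) (by decide +kernel)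
theorem r405_2 : R9 F (g wAd) b405 [] 0 2 := .of (startD 0 1) (by decide +kernel)
theorem r405_3 : R9 F (g wAd) b405 [] 1 0 := .of (startD 0 1) (by decide +kernel)
theorem r405_4 : R9 F (g wAd) b405 [] 1 1 := .of (startD 0 2) (by decide +kernel)
theorem r405_5 : R9 F (g wAd) b405 [] 1 2 := .of (startD 0 1) (by decide +kernel)
theorem r405_6 : R9 F (g wAd) b405 [] 2 0 := .of (startD 0 1) (by decide +kernel)
theorem r405_7 : R9 F (g wAd) b405 [] 2 1 := .of (startD 0 1) (by decide +kernel)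
theorem r405_8 : R9 F (g wAd) b405 [] 2 2 := .of (startD 0 1) (by decide +kernel)
theorem g405 : Gd F (g wAd) (0, d405) [] :=
  good9 ok h405 r405_0 r405_1 r405_2 r405_3 r405_4 r405_5 r405_6 r405_7 r405_8

def b406 : Wd := ⟨0, d406,
  [.z, .Z8, .Z4, .Z3, .Z2, .X8, .X7, .X5, .X0, .y10, .y9, .y7, .y3, .p8, .hi, .p6, .hi, .p9, .hi, .p5, .hi, .p3, .hi,
   .p3, .hi, .xii, .y2, .p3, .hi, .xii, .y9, .tau, .y1, .xii, .p10, .xii, .y8, .p10, .xii, .y4, .y8, .taui, .y1, .p4,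
   .xii, .p9, .xii, .p6, .xii, .y6, .taui, .xii, .p6, .xii, .y3, .p7, .xii, .y8, .taui, .xii, .y7, .p7],
  [.Z8, .Z5, .Z0, .X10, .X6, .X5, .X4, .X3, .X1, .y8, .y6, .y5, .y1, .hi, .p10, .hi, .p2, .hi, .p7, .hi, .p3, .hi,
   .xii, .p, .xii, .y6, .hi, .p, .hi, .p3, .taui, .X0, .p9, .xii, .p4, .hi, .p10, .xii, .hi, .y10, .p8, .tau, .xii,
   .p6, .xii, .p3, .hi, .p7, .tau, .xii, .p10, .hi, .p10],
  [.z, .Z10, .Z9, .Z8, .Z7, .Z6, .Z5, .Z1, .X6, .X4, .X3, .X1, .X0, .y9, .y5, .y3, .hi, .p6, .hi, .p4, .hi, .p7, .hi,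
   .p8, .hi, .xii, .p10, .xii, .y8, .p8, .xii, .y4, .tau, .y1, .xii, .p10, .xii, .y5, .p10, .xii, .y4, .y9, .tau, .y1,
   .xii, .p4, .xii, .p6, .y6, .xii, .y2, .y4, .taui, .xii, .p5, .xii, .y8, .y9, .hi, .xii, .y7, .taui, .xii, .p8]⟩

theorem h406 : Hd F (g wAd) b406 := hdD (by decide +kernel)
theorem r406_0 : R9 F (g wAd) b406 [] 0 0 := .of (startD 0 1) (by decide +kernel)
theorem r406_1 : R9 F (g wAd) b406 [] 0 1 := .of (startD 0 1) (by decide +kernel)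
theorem r406_2 : R9 F (g wAd) b406 [] 0 2 := .of (startD 0 1) (by decide +kernel)
theorem r406_3 : R9 F (g wAd) b406 [] 1 0 := .of (startD 0 1) (by decide +kernel)
theorem r406_4 : R9 F (g wAd) b406 [] 1 1 := .of (startD 0 2) (by decide +kernel)
theorem r406_5 : R9 F (g wAd) b406 [] 1 2 := .of (startD 0 1) (by decide +kernel)
theorem r406_6 : R9 F (g wAd) b406 [] 2 0 := .of (startD 0 1) (by decide +kernel)
theorem r406_7 : R9 F (g wAd) b406 [] 2 1 := .of (startD 0 1) (by decide +kernel)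
theorem r406_8 : R9 F (g wAd) b406 [] 2 2 := .of (startD 0 1) (by decide +kernel)
theorem g406 : Gd F (g wAd) (0, d406) [] :=
  good9 ok h406 r406_0 r406_1 r406_2 r406_3 r406_4 r406_5 r406_6 r406_7 r406_8

def b407 : Wd := ⟨0, d407,
  [.Z10, .Z8, .Z7, .Z5, .Z4, .Z3, .Z0, .X9, .X8, .X4, .X3, .X2, .X1, .y10, .y7, .y6, .y5, .y3, .p2, .hi, .p7, .hi,
   .p6, .hi, .p, .hi, .xii, .y2, .p10, .hi, .p2, .hi, .p10, .taui, .y1, .xii, .p10, .xii, .y4, .p10, .xii, .taui, .y1,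
   .p4, .xii, .p, .xii, .hi, .p3, .y2, .tau, .xii, .y2, .p5, .xii, .y6, .p4, .hi, .p9, .taui, .xii, .hi, .p8],
  [.z, .Z10, .Z6, .Z4, .Z2, .Z0, .X10, .X4, .X3, .X1, .y10, .y9, .y7, .y6, .y5, .y4, .y3, .y1, .p8, .hi, .p7, .hi,
   .p3, .hi, .p7, .hi, .p4, .hi, .p, .xii, .p, .xii, .p4, .xii, .y8, .taui, .xii, .p, .xii, .hi, .y8, .xii, .y3, .y4,
   .tau, .xii, .p3, .xii, .y5, .p7, .xii, .p9, .y8, .taui, .xii, .y2, .p5, .xii, .y4],
  [.z, .Z8, .Z7, .Z4, .Z2, .Z1, .Z0, .X10, .X9, .X5, .X4, .X0, .y10, .y8, .y4, .y3, .y1, .p2, .hi, .p, .hi, .p5, .hi,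
   .p9, .hi, .p, .hi, .xii, .p10, .xii, .y4, .p8, .xii, .y4, .taui, .xii, .y1, .p, .xii, .y10, .p, .xii, .y6, .taui,
   .p7, .xii, .y4, .p7, .xii, .y5, .hi, .p, .taui, .xii, .p7, .xii, .y9, .y10, .hi, .p10, .hi, .tau, .xii, .p2, .hi]⟩

theorem h407 : Hd F (g wAd) b407 := hdD (by decide +kernel)
theorem r407_0 : R9 F (g wAd) b407 [] 0 0 := .of (startD 0 1) (by decide +kernel)
theorem r407_1 : R9 F (g wAd) b407 [] 0 1 := .of (startD 0 1) (by decide +kernel)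
theorem r407_2 : R9 F (g wAd) b407 [] 0 2 := .of (startD 0 1) (by decide +kernel)
theorem r407_3 : R9 F (g wAd) b407 [] 1 0 := .of (startD 0 1) (by decide +kernel)
theorem r407_4 : R9 F (g wAd) b407 [] 1 1 := .of (startD 0 1) (by decide +kernel)
theorem r407_5 : R9 F (g wAd) b407 [] 1 2 := .of (startD 0 1) (by decide +kernel)
theorem r407_6 : R9 F (g wAd) b407 [] 2 0 := .of (startD 0 1) (by decide +kernel)
theorem r407_7 : R9 F (g wAd) b407 [] 2 1 := .of (startD 0 1) (by decide +kernel)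
theorem r407_8 : R9 F (g wAd) b407 [] 2 2 := .of (startD 0 1) (by decide +kernel)
theorem g407 : Gd F (g wAd) (0, d407) [] :=
  good9 ok h407 r407_0 r407_1 r407_2 r407_3 r407_4 r407_5 r407_6 r407_7 r407_8

def b408 : Wd := ⟨0, d408,
  [.z, .Z10, .Z9, .Z8, .Z7, .Z6, .Z5, .Z4, .Z2, .Z1, .X9, .X7, .X5, .X3, .y10, .y6, .y5, .y4, .y3, .y1, .p8, .hi, .p,
   .hi, .p3, .hi, .p4, .hi, .p10, .hi, .p5, .xii, .hi, .p8, .xii, .p2, .y2, .tau, .X0, .xii, .p3, .xii, .hi, .xii,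
   .y10, .hi, .taui, .X0, .p2, .xii, .p4, .xii, .y8, .p2, .hi, .p3, .y6, .tau, .xii, .p7, .xii, .p7, .y8, .xii, .y3,
   .y7, .taui, .xii, .hi, .p6],
  [.z, .Z8, .Z5, .Z1, .Z0, .X10, .X9, .X8, .X5, .X4, .X3, .y10, .y5, .y4, .hi, .p6, .hi, .p3, .hi, .p7, .hi, .p, .hi,
   .p5, .hi, .xii, .y2, .p10, .xii, .taui, .xii, .y1, .p, .xii, .y4, .y10, .p, .xii, .y7, .tau, .X0, .xii, .p7, .xii,
   .p5, .xii, .y3, .y10, .taui, .xii, .p7, .xii, .y4, .y5, .y7, .hi, .tau, .xii, .p4, .hi, .p9],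
  [.z, .Z10, .Z6, .Z5, .Z3, .Z1, .Z0, .X8, .X6, .X5, .X3, .X0, .y10, .y9, .y8, .y6, .y4, .y3, .y2, .p4, .hi, .p9, .hi,
   .p5, .hi, .p, .hi, .p4, .hi, .p6, .xii, .p10, .xii, .y7, .p6, .xii, .y7, .taui, .xii, .p, .xii, .y1, .y4, .hi,
   .p10, .taui, .X0, .hi, .xii, .p9, .xii, .p4, .y3, .y9, .taui, .xii, .hi, .p5, .xii, .y10, .p7, .tau, .xii, .p]⟩

theorem h408 : Hd F (g wAd) b408 := hdD (by decide +kernel)
theorem r408_0 : R9 F (g wAd) b408 [] 0 0 := .of (startD 0 1) (by decide +kernel)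
theorem r408_1 : R9 F (g wAd) b408 [] 0 1 := .of (startD 0 1) (by decide +kernel)
theorem r408_2 : R9 F (g wAd) b408 [] 0 2 := .of (startD 0 1) (by decide +kernel)
theorem r408_3 : R9 F (g wAd) b408 [] 1 0 := .of (startD 0 1) (by decide +kernel)
theorem r408_4 : R9 F (g wAd) b408 [] 1 1 := .of (startD 0 1) (by decide +kernel)
theorem r408_5 : R9 F (g wAd) b408 [] 1 2 := .of (startD 0 1) (by decide +kernel)
theorem r408_6 : R9 F (g wAd) b408 [] 2 0 := .of (startD 0 1) (by decide +kernel)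
theorem r408_7 : R9 F (g wAd) b408 [] 2 1 := .of (startD 0 1) (by decide +kernel)
theorem r408_8 : R9 F (g wAd) b408 [] 2 2 := .of (startD 0 1) (by decide +kernel)
theorem g408 : Gd F (g wAd) (0, d408) [] :=
  good9 ok h408 r408_0 r408_1 r408_2 r408_3 r408_4 r408_5 r408_6 r408_7 r408_8

def b409 : Wd := ⟨0, d409,
  [.Z10, .Z9, .Z8, .Z4, .Z2, .Z1, .Z0, .X9, .X8, .X7, .X6, .X3, .X2, .X0, .y8, .y5, .p3, .hi, .p10, .hi, .p9, .hi,
   .p10, .hi, .p4, .hi, .xii, .p, .xii, .p8, .y1, .xii, .y1, .tau, .xii, .y1, .p3, .hi, .xii, .y5, .p10, .tau, .y1,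
   .p4, .xii, .p7, .xii, .p2, .y5, .taui, .xii, .p4, .xii, .y2, .p5, .xii, .y4, .y9, .tau, .xii, .p, .xii, .y6],
  [.Z10, .Z9, .Z6, .Z5, .Z4, .Z3, .Z0, .X10, .X6, .X2, .X1, .y6, .y4, .p8, .hi, .p9, .hi, .p10, .hi, .p7, .hi, .p7,
   .hi, .p5, .xii, .y2, .p, .xii, .p9, .tau, .xii, .p, .xii, .y2, .hi, .xii, .y1, .y2, .tau, .X0, .p6, .xii, .p5,
   .xii, .p6, .y5, .hi, .tau, .xii, .p8, .xii, .y5, .p5, .tau, .xii, .p7],
  [.z, .Z9, .Z7, .Z6, .Z0, .X6, .X5, .X2, .X0, .y9, .y8, .y7, .y6, .y5, .y3, .p6, .hi, .p3, .hi, .p7, .hi, .p3, .hi,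
   .p7, .hi, .p9, .xii, .p10, .xii, .p3, .hi, .tau, .xii, .p, .xii, .y1, .hi, .xii, .y5, .y8, .tau, .xii, .p4, .xii,
   .y4, .p8, .xii, .y7, .y8, .p5, .tau, .xii, .y2, .p4, .xii, .p9, .y1, .xii, .y6, .taui, .xii, .p5]⟩

theorem h409 : Hd F (g wAd) b409 := hdD (by decide +kernel)
theorem r409_0 : R9 F (g wAd) b409 [] 0 0 := .of (startD 0 1) (by decide +kernel)
theorem r409_1 : R9 F (g wAd) b409 [] 0 1 := .of (startD 0 1) (by decide +kernel)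
theorem r409_2 : R9 F (g wAd) b409 [] 0 2 := .of (startD 0 1) (by decide +kernel)
theorem r409_3 : R9 F (g wAd) b409 [] 1 0 := .of (startD 0 1) (by decide +kernel)
theorem r409_4 : R9 F (g wAd) b409 [] 1 1 := .of (startD 0 1) (by decide +kernel)
theorem r409_5 : R9 F (g wAd) b409 [] 1 2 := .of (startD 0 1) (by decide +kernel)
theorem r409_6 : R9 F (g wAd) b409 [] 2 0 := .of (startD 0 1) (by decide +kernel)
theorem r409_7 : R9 F (g wAd) b409 [] 2 1 := .of (startD 0 1) (by decide +kernel)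
theorem r409_8 : R9 F (g wAd) b409 [] 2 2 := .of (startD 0 1) (by decide +kernel)
theorem g409 : Gd F (g wAd) (0, d409) [] :=
  good9 ok h409 r409_0 r409_1 r409_2 r409_3 r409_4 r409_5 r409_6 r409_7 r409_8

theorem all : AllG F (g wAd) LD40 :=
  .cons g400 (.cons g401 (.cons g402 (.cons g403 (.cons g404 (.cons g405 (.cons g406 (.cons g407 (.cons g408 (.cons g409 (.nil))))))))))

end Cfsg.Agent.BX.No33.Bk.D40
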