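import Cfsg.Agent.BX.No33.Cheap
set_option linter.all false

/-!
# Tests, diagonal case, part 41 (helper5; generated)
-/

set_option autoImplicit false
set_option maxRecDepth 100000
set_option Elab.async false

namespace Cfsg.Agent.BX.No33.Bk.D41

open Cfsg.Agent.H819.U33 Cfsg.Agent.BX.No33.Front

def b410 : Wd := ⟨0, d410,
  [.z, .Z10, .Z9, .Z6, .Z4, .Z3, .X7, .X2, .X0, .y8, .y3, .y1, .p6, .hi, .p5, .hi, .p4, .hi, .p7, .hi, .xii, .y2, .hi,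
   .p4, .hi, .p4, .taui, .y1, .xii, .y6, .p10, .xii, .y8, .p10, .xii, .y10, .taui, .p8, .xii, .hi, .y4, .p8, .xii,
   .y9, .p5, .tau, .xii, .y2, .p5, .xii, .y7, .p9, .xii, .y2, .y9, .taui, .xii, .y6, .p3, .xii],
  [.Z10, .Z8, .Z4, .Z2, .X10, .X9, .X7, .X6, .X5, .X2, .X1, .X0, .y10, .y6, .y2, .p, .hi, .p8, .hi, .p10, .hi, .p6,
   .hi, .p3, .hi, .p, .hi, .xii, .p, .xii, .y6, .taui, .xii, .y6, .p, .xii, .hi, .y7, .p8, .taui, .X0, .hi, .xii, .p8,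
   .xii, .p, .y2, .taui, .xii, .p5, .xii, .y3, .p2, .xii, .y3, .taui, .xii, .p9],
  [.Z8, .Z7, .Z5, .Z3, .X5, .X4, .X3, .X2, .y9, .y8, .y5, .y4, .y3, .y2, .p2, .hi, .p5, .hi, .p10, .hi, .p2, .hi, .p4,
   .hi, .p5, .hi, .xii, .p10, .xii, .y8, .p6, .xii, .y3, .tau, .xii, .y6, .p, .xii, .y10, .p, .xii, .y1, .y2, .taui,
   .X0, .p5, .xii, .p7, .xii, .p3, .y5, .xii, .y6, .tau, .xii, .p8, .xii, .y5, .y8, .p2, .xii, .y6, .taui, .xii, .p2]⟩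

theorem h410 : Hd F (g wAd) b410 := hdD (by decide +kernel)
theorem r410_0 : R9 F (g wAd) b410 [] 0 0 := .of (startD 0 1) (by decide +kernel)
theorem r410_1 : R9 F (g wAd) b410 [] 0 1 := .of (startD 0 1) (by decide +kernel)
theorem r410_2 : R9 F (g wAd) b410 [] 0 2 := .of (startD 0 1) (by decide +kernel)
theorem r410_3 : R9 F (g wAd) b410 [] 1 0 := .of (startD 0 1) (by decide +kernel)
theorem r410_4 : R9 F (g wAd) b410 [] 1 1 := .of (startD 0 1) (by decide +kernel)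
theorem r410_5 : R9 F (g wAd) b410 [] 1 2 := .of (startD 0 1) (by decide +kernel)
theorem r410_6 : R9 F (g wAd) b410 [] 2 0 := .of (startD 0 1) (by decide +kernel)
theorem r410_7 : R9 F (g wAd) b410 [] 2 1 := .of (startD 0 1) (by decide +kernel)
theorem r410_8 : R9 F (g wAd) b410 [] 2 2 := .of (startD 0 1) (by decide +kernel)
theorem g410 : Gd F (g wAd) (0, d410) [] :=
  good9 ok h410 r410_0 r410_1 r410_2 r410_3 r410_4 r410_5 r410_6 r410_7 r410_8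

def b411 : Wd := ⟨0, d411,
  [.z, .Z10, .Z6, .Z5, .Z4, .Z2, .Z1, .Z0, .X10, .X8, .X6, .X4, .X3, .X1, .X0, .y7, .y6, .y1, .hi, .p4, .hi, .p5, .hi,
   .p10, .hi, .p7, .hi, .p, .hi, .p3, .xii, .hi, .xii, .p5, .y7, .tau, .xii, .y6, .p, .xii, .p, .xii, .y1, .y10, .tau,
   .xii, .y6, .p4, .xii, .y1, .p8, .xii, .y9, .p7, .taui, .xii, .p2, .xii, .y6, .hi, .p5, .taui, .xii, .p5, .xii, .y1,
   .y3],
  [.z, .Z6, .Z5, .Z3, .Z2, .Z0, .X4, .X3, .X2, .y9, .y6, .y3, .y1, .hi, .p6, .hi, .p4, .hi, .p8, .hi, .p4, .hi, .p7,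
   .xii, .hi, .xii, .p3, .y4, .hi, .tau, .p10, .xii, .y4, .p2, .hi, .xii, .p3, .taui, .y1, .p9, .xii, .y4, .p, .xii,
   .taui, .xii, .p9, .xii, .y3, .y9, .p, .xii, .y8, .taui, .xii],
  [.z, .Z9, .Z7, .Z1, .Z0, .X8, .X3, .X2, .y10, .y9, .y7, .y6, .y4, .y3, .y1, .p9, .hi, .p5, .hi, .p8, .hi, .p, .hi,
   .p9, .xii, .p10, .xii, .y10, .p6, .xii, .y3, .taui, .xii, .y6, .p, .xii, .y10, .p, .xii, .y3, .y4, .taui, .p10,
   .xii, .y5, .p9, .xii, .y1, .y6, .p2, .tau, .xii, .y2, .p3, .xii, .y1, .p6, .xii, .y3, .y10, .taui, .xii, .y2, .p5]⟩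

theorem h411 : Hd F (g wAd) b411 := hdD (by decide +kernel)
theorem r411_0 : R9 F (g wAd) b411 [] 0 0 := .of (startD 0 1) (by decide +kernel)
theorem r411_1 : R9 F (g wAd) b411 [] 0 1 := .of (startD 0 1) (by decide +kernel)
theorem r411_2 : R9 F (g wAd) b411 [] 0 2 := .of (startD 0 1) (by decide +kernel)
theorem r411_3 : R9 F (g wAd) b411 [] 1 0 := .of (startD 0 1) (by decide +kernel)
theorem r411_4 : R9 F (g wAd) b411 [] 1 1 := .of (startD 0 1) (by decide +kernel)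
theorem r411_5 : R9 F (g wAd) b411 [] 1 2 := .of (startD 0 1) (by decide +kernel)
theorem r411_6 : R9 F (g wAd) b411 [] 2 0 := .of (startD 0 1) (by decide +kernel)
theorem r411_7 : R9 F (g wAd) b411 [] 2 1 := .of (startD 0 1) (by decide +kernel)
theorem r411_8 : R9 F (g wAd) b411 [] 2 2 := .of (startD 0 1) (by decide +kernel)
theorem g411 : Gd F (g wAd) (0, d411) [] :=
  good9 ok h411 r411_0 r411_1 r411_2 r411_3 r411_4 r411_5 r411_6 r411_7 r411_8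

def b412 : Wd := ⟨0, d412,
  [.Z10, .Z9, .Z8, .Z7, .Z1, .Z0, .X10, .X9, .X8, .X5, .X4, .X3, .X0, .y9, .y8, .y3, .y2, .y1, .hi, .p9, .hi, .p9,
   .hi, .p3, .hi, .p7, .hi, .p8, .hi, .xii, .p10, .xii, .y4, .p8, .tau, .y1, .xii, .y2, .hi, .xii, .y10, .p10, .xii,
   .y4, .taui, .p4, .xii, .y1, .p4, .xii, .y4, .p, .hi, .taui, .xii, .p9, .xii, .y1, .p5, .y10, .xii, .y5, .tau, .xii,
   .y4, .p6],
  [.Z10, .Z8, .Z7, .Z5, .Z2, .Z0, .X8, .X7, .X6, .X5, .X4, .X0, .y9, .y8, .y6, .y3, .y2, .p8, .hi, .p4, .hi, .p7, .hi,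
   .p5, .hi, .p7, .hi, .p2, .xii, .y2, .p3, .hi, .xii, .p6, .taui, .xii, .y2, .p, .xii, .y1, .hi, .xii, .y6, .taui,
   .X0, .y1, .p10, .xii, .p, .hi, .xii, .y2, .y9, .p9, .taui, .xii, .p4, .hi, .xii, .p4, .y3],
  [.z, .Z8, .Z7, .Z5, .Z2, .Z1, .Z0, .X5, .X4, .X2, .X1, .y9, .y8, .y7, .y6, .y5, .y4, .p10, .hi, .p9, .hi, .p8, .hi,
   .p, .hi, .p4, .hi, .xii, .p2, .hi, .xii, .y9, .p3, .taui, .y1, .xii, .y6, .p10, .xii, .y8, .p10, .xii, .y4, .y8,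
   .taui, .X0, .xii, .y1, .p4, .xii, .p, .xii, .y5, .y7, .tau, .xii, .p7, .xii, .y1, .p10, .y10, .hi, .p10, .tau,
   .xii, .p3, .hi, .p8, .hi]⟩

theorem h412 : Hd F (g wAd) b412 := hdD (by decide +kernel)
theorem r412_0 : R9 F (g wAd) b412 [] 0 0 := .of (startD 0 1) (by decide +kernel)
theorem r412_1 : R9 F (g wAd) b412 [] 0 1 := .of (startD 0 1) (by decide +kernel)
theorem r412_2 : R9 F (g wAd) b412 [] 0 2 := .of (startD 0 1) (by decide +kernel)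
theorem r412_3 : R9 F (g wAd) b412 [] 1 0 := .of (startD 0 1) (by decide +kernel)
theorem r412_4 : R9 F (g wAd) b412 [] 1 1 := .of (startD 0 1) (by decide +kernel)
theorem r412_5 : R9 F (g wAd) b412 [] 1 2 := .of (startD 0 1) (by decide +kernel)
theorem r412_6 : R9 F (g wAd) b412 [] 2 0 := .of (startD 0 1) (by decide +kernel)
theorem r412_7 : R9 F (g wAd) b412 [] 2 1 := .of (startD 0 1) (by decide +kernel)
theorem r412_8 : R9 F (g wAd) b412 [] 2 2 := .of (startD 0 1) (by decide +kernel)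
theorem g412 : Gd F (g wAd) (0, d412) [] :=
  good9 ok h412 r412_0 r412_1 r412_2 r412_3 r412_4 r412_5 r412_6 r412_7 r412_8

def b413 : Wd := ⟨0, d413,
  [.Z10, .Z8, .Z3, .Z1, .Z0, .X8, .X6, .X5, .X4, .y9, .y7, .y3, .hi, .p10, .hi, .p8, .hi, .p8, .hi, .p, .hi, .p4, .hi,
   .p4, .hi, .xii, .p10, .xii, .y1, .p8, .xii, .y8, .y9, .taui, .y1, .xii, .y1, .hi, .xii, .p10, .xii, .y4, .taui,
   .p5, .xii, .p7, .xii, .y1, .y8, .p, .hi, .p8, .taui, .xii, .hi, .p7, .xii, .y8, .p5, .hi, .p3, .taui, .xii, .p4,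
   .hi, .p2],
  [.Z9, .Z8, .Z7, .Z6, .Z3, .Z2, .Z0, .X10, .X8, .X6, .X4, .X1, .y7, .y6, .y5, .y4, .y3, .y1, .p10, .hi, .p2, .hi,
   .p10, .hi, .p3, .hi, .p6, .hi, .xii, .y2, .p, .xii, .y3, .y4, .tau, .xii, .p, .xii, .y1, .hi, .xii, .y3, .y4,
   .taui, .X0, .hi, .xii, .p9, .xii, .y2, .y7, .p3, .hi, .tau, .xii, .p7, .xii, .p10, .y9, .hi, .y4, .p7, .tau, .xii,
   .p7],
  [.z, .Z8, .Z4, .Z0, .X7, .X6, .X3, .X2, .y9, .y8, .y3, .p4, .hi, .p10, .hi, .p3, .hi, .p, .hi, .p4, .hi, .p10, .xii,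
   .y2, .p, .xii, .p, .xii, .y3, .taui, .y1, .xii, .p10, .xii, .y1, .y7, .p10, .xii, .taui, .xii, .p7, .xii, .y8, .p5,
   .xii, .y3, .y7, .tau, .xii, .p7, .xii, .y4, .p8, .y8, .xii, .y7, .taui, .xii, .p10]⟩

theorem h413 : Hd F (g wAd) b413 := hdD (by decide +kernel)
theorem r413_0 : R9 F (g wAd) b413 [] 0 0 := .of (startD 0 1) (by decide +kernel)
theorem r413_1 : R9 F (g wAd) b413 [] 0 1 := .of (startD 0 1) (by decide +kernel)
theorem r413_2 : R9 F (g wAd) b413 [] 0 2 := .of (startD 0 1) (by decide +kernel)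
theorem r413_3 : R9 F (g wAd) b413 [] 1 0 := .of (startD 0 1) (by decide +kernel)
theorem r413_4 : R9 F (g wAd) b413 [] 1 1 := .of (startD 0 1) (by decide +kernel)
theorem r413_5 : R9 F (g wAd) b413 [] 1 2 := .of (startD 0 1) (by decide +kernel)
theorem r413_6 : R9 F (g wAd) b413 [] 2 0 := .of (startD 0 1) (by decide +kernel)
theorem r413_7 : R9 F (g wAd) b413 [] 2 1 := .of (startD 0 1) (by decide +kernel)
theorem r413_8 : R9 F (g wAd) b413 [] 2 2 := .of (startD 0 1) (by decide +kernel)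
theorem g413 : Gd F (g wAd) (0, d413) [] :=
  good9 ok h413 r413_0 r413_1 r413_2 r413_3 r413_4 r413_5 r413_6 r413_7 r413_8

def b414 : Wd := ⟨0, d414,
  [.Z9, .Z7, .Z4, .Z3, .Z1, .X10, .X9, .X3, .X2, .X1, .X0, .y8, .y7, .y6, .y5, .y3, .y1, .hi, .p6, .hi, .p5, .hi, .p3,
   .hi, .p, .hi, .p5, .hi, .p5, .xii, .y2, .hi, .xii, .p10, .xii, .y3, .y7, .tau, .xii, .p, .xii, .y2, .hi, .xii, .y3,
   .y10, .tau, .X0, .p2, .xii, .y6, .p3, .xii, .y6, .p, .xii, .y8, .taui, .xii, .p2, .xii, .p6, .y6, .xii, .y6, .tau,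
   .xii, .p4, .hi],
  [.Z9, .Z5, .Z2, .Z1, .Z0, .X9, .X7, .X4, .X2, .y8, .y7, .y2, .y1, .p10, .hi, .p8, .hi, .p7, .hi, .p8, .hi, .p9, .hi,
   .p6, .xii, .p5, .hi, .p5, .taui, .xii, .y1, .p, .xii, .y2, .p, .xii, .y3, .tau, .hi, .xii, .y7, .p9, .xii, .p, .y3,
   .xii, .tau, .xii, .p9, .xii, .y9, .taui, .xii, .p2],
  [.Z9, .Z8, .Z7, .Z5, .Z4, .Z3, .Z1, .Z0, .X10, .X7, .X4, .X1, .X0, .y9, .y7, .y5, .y4, .y3, .y2, .y1, .p, .hi, .p6,
   .hi, .p, .hi, .p, .hi, .p8, .hi, .p6, .hi, .xii, .hi, .xii, .y6, .p10, .xii, .y9, .y10, .taui, .xii, .y2, .p, .xii,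
   .y4, .hi, .xii, .y4, .y5, .taui, .X0, .xii, .p7, .xii, .y2, .y9, .p5, .xii, .y1, .y5, .taui, .xii, .p7, .xii, .y7,
   .p7, .y1, .tau, .xii, .y2, .p4, .hi, .p2]⟩

theorem h414 : Hd F (g wAd) b414 := hdD (by decide +kernel)
theorem r414_0 : R9 F (g wAd) b414 [] 0 0 := .of (startD 0 1) (by decide +kernel)
theorem r414_1 : R9 F (g wAd) b414 [] 0 1 := .of (startD 0 1) (by decide +kernel)
theorem r414_2 : R9 F (g wAd) b414 [] 0 2 := .of (startD 0 1) (by decide +kernel)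
theorem r414_3 : R9 F (g wAd) b414 [] 1 0 := .of (startD 0 1) (by decide +kernel)
theorem r414_4 : R9 F (g wAd) b414 [] 1 1 := .of (startD 0 1) (by decide +kernel)
theorem r414_5 : R9 F (g wAd) b414 [] 1 2 := .of (startD 0 1) (by decide +kernel)
theorem r414_6 : R9 F (g wAd) b414 [] 2 0 := .of (startD 0 1) (by decide +kernel)
theorem r414_7 : R9 F (g wAd) b414 [] 2 1 := .of (startD 0 1) (by decide +kernel)
theorem r414_8 : R9 F (g wAd) b414 [] 2 2 := .of (startD 0 1) (by decide +kernel)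
theorem g414 : Gd F (g wAd) (0, d414) [] :=
  good9 ok h414 r414_0 r414_1 r414_2 r414_3 r414_4 r414_5 r414_6 r414_7 r414_8

def b415 : Wd := ⟨0, d415,
  [.Z6, .Z2, .Z1, .Z0, .X8, .X7, .X6, .X5, .X4, .X3, .X2, .X1, .X0, .y10, .y9, .y7, .y6, .y5, .y4, .y2, .y1, .p8, .hi,
   .p4, .hi, .p6, .hi, .p5, .hi, .p8, .hi, .p6, .xii, .p10, .xii, .y7, .p8, .xii, .y9, .taui, .y1, .xii, .p10, .xii,
   .y5, .p10, .xii, .y4, .y9, .taui, .X0, .p5, .xii, .y6, .p2, .xii, .y10, .p4, .xii, .taui, .xii, .y2, .p9, .xii,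
   .y1, .p3, .xii, .y4, .y10, .tau, .xii, .p7],
  [.z, .Z10, .Z7, .Z5, .Z4, .Z0, .X7, .X6, .X5, .X4, .X2, .X1, .X0, .y10, .y6, .y5, .y2, .y1, .p2, .hi, .p7, .hi, .p5,
   .hi, .p, .hi, .p8, .xii, .p, .xii, .y2, .p7, .xii, .y8, .taui, .p7, .xii, .y6, .p, .hi, .xii, .y5, .p3, .taui, .p6,
   .xii, .p9, .xii, .y2, .p5, .y3, .taui, .xii, .p5, .xii, .y1, .y3, .p2, .xii, .y2, .tau, .xii, .p5],
  [.Z10, .Z9, .Z7, .Z3, .Z1, .X10, .X4, .X3, .X2, .X1, .y9, .y6, .y5, .hi, .p9, .hi, .p3, .hi, .p3, .hi, .p6, .hi,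
   .p7, .xii, .y2, .p3, .hi, .xii, .y1, .y3, .taui, .xii, .p, .xii, .y4, .hi, .xii, .y5, .taui, .xii, .y6, .p8, .xii,
   .p4, .hi, .xii, .y5, .tau, .xii, .p8, .xii, .p3, .y8, .hi, .p2, .taui, .xii, .p]⟩

theorem h415 : Hd F (g wAd) b415 := hdD (by decide +kernel)
theorem r415_0 : R9 F (g wAd) b415 [] 0 0 := .of (startD 0 1) (by decide +kernel)
theorem r415_1 : R9 F (g wAd) b415 [] 0 1 := .of (startD 0 1) (by decide +kernel)
theorem r415_2 : R9 F (g wAd) b415 [] 0 2 := .of (startD 0 1) (by decide +kernel)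
theorem r415_3 : R9 F (g wAd) b415 [] 1 0 := .of (startD 0 1) (by decide +kernel)
theorem r415_4 : R9 F (g wAd) b415 [] 1 1 := .of (startD 0 1) (by decide +kernel)
theorem r415_5 : R9 F (g wAd) b415 [] 1 2 := .of (startD 0 1) (by decide +kernel)
theorem r415_6 : R9 F (g wAd) b415 [] 2 0 := .of (startD 0 1) (by decide +kernel)
theorem r415_7 : R9 F (g wAd) b415 [] 2 1 := .of (startD 0 1) (by decide +kernel)
theorem r415_8 : R9 F (g wAd) b415 [] 2 2 := .of (startD 0 1) (by decide +kernel)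
theorem g415 : Gd F (g wAd) (0, d415) [] :=
  good9 ok h415 r415_0 r415_1 r415_2 r415_3 r415_4 r415_5 r415_6 r415_7 r415_8

def b416 : Wd := ⟨0, d416,
  [.Z10, .Z7, .Z6, .Z1, .X10, .X9, .X6, .X4, .X2, .X0, .y8, .y7, .y6, .y3, .y2, .y1, .p5, .hi, .p7, .hi, .p8, .hi,
   .p8, .hi, .p4, .hi, .xii, .y2, .p10, .hi, .p, .tau, .y1, .xii, .y1, .p10, .xii, .taui, .p2, .xii, .p7, .xii, .p4,
   .y1, .taui, .xii, .p5, .xii, .y7, .p4, .hi, .p6, .taui, .xii, .p8],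
  [.Z10, .Z8, .Z5, .Z3, .Z0, .X8, .X7, .X4, .X3, .X1, .y9, .y8, .y7, .y5, .y4, .hi, .p7, .hi, .p, .hi, .p, .hi, .p8,
   .hi, .p9, .xii, .hi, .xii, .y4, .p9, .xii, .y5, .taui, .X0, .y1, .xii, .y6, .p7, .xii, .y4, .p4, .xii, .y10, .taui,
   .xii, .y2, .p7, .xii, .p3, .y2, .xii, .y7, .tau, .xii, .y2, .p7],
  [.z, .Z9, .Z8, .Z7, .Z5, .Z1, .Z0, .X9, .X8, .X6, .X5, .X0, .y9, .y8, .y1, .p9, .hi, .p9, .hi, .p10, .hi, .p5, .hi,
   .p8, .hi, .p6, .hi, .p8, .xii, .p, .xii, .p4, .xii, .y8, .tau, .xii, .y2, .p, .xii, .y1, .hi, .xii, .y2, .y3,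
   .taui, .y1, .xii, .y2, .hi, .xii, .p10, .xii, .tau, .X0, .p8, .xii, .y2, .y4, .p10, .xii, .tau, .xii, .p9, .xii,
   .y1, .p3, .xii, .y3, .y5, .tau, .xii, .y2, .p10, .xii, .y8]⟩

theorem h416 : Hd F (g wAd) b416 := hdD (by decide +kernel)
theorem r416_0 : R9 F (g wAd) b416 [] 0 0 := .of (startD 0 1) (by decide +kernel)
theorem r416_1 : R9 F (g wAd) b416 [] 0 1 := .of (startD 0 1) (by decide +kernel)
theorem r416_2 : R9 F (g wAd) b416 [] 0 2 := .of (startD 0 1) (by decide +kernel)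
theorem r416_3 : R9 F (g wAd) b416 [] 1 0 := .of (startD 0 1) (by decide +kernel)
theorem r416_4 : R9 F (g wAd) b416 [] 1 1 := .of (startD 0 1) (by decide +kernel)
theorem r416_5 : R9 F (g wAd) b416 [] 1 2 := .of (startD 0 1) (by decide +kernel)
theorem r416_6 : R9 F (g wAd) b416 [] 2 0 := .of (startD 0 1) (by decide +kernel)
theorem r416_7 : R9 F (g wAd) b416 [] 2 1 := .of (startD 0 1) (by decide +kernel)
theorem r416_8 : R9 F (g wAd) b416 [] 2 2 := .of (startD 0 1) (by decide +kernel)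
theorem g416 : Gd F (g wAd) (0, d416) [] :=
  good9 ok h416 r416_0 r416_1 r416_2 r416_3 r416_4 r416_5 r416_6 r416_7 r416_8

def b417 : Wd := ⟨0, d417,
  [.Z6, .Z3, .X10, .X9, .X7, .X5, .X4, .X3, .y10, .y9, .y5, .y4, .y2, .p7, .hi, .p8, .hi, .p5, .hi, .p4, .hi, .p3,
   .hi, .p4, .xii, .y2, .p2, .hi, .xii, .y6, .p3, .taui, .xii, .y6, .p, .xii, .p, .xii, .y1, .y2, .y4, .tau, .X0, .p7,
   .xii, .p7, .xii, .y10, .p, .y5, .hi, .p5, .taui, .xii, .p9, .xii, .p3, .y2, .taui, .xii, .hi, .p, .hi, .p10],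
  [.Z10, .Z8, .Z7, .Z6, .Z3, .Z2, .Z0, .X10, .X8, .X5, .X4, .X3, .X1, .y6, .y5, .y4, .y2, .p10, .hi, .p4, .hi, .p4,
   .hi, .p4, .hi, .p10, .hi, .p10, .hi, .xii, .p10, .hi, .p2, .hi, .p10, .tau, .y1, .xii, .p10, .xii, .y1, .p10, .xii,
   .y4, .tau, .X0, .xii, .p8, .xii, .p4, .y7, .xii, .y5, .y10, .tau, .xii, .p2, .xii, .p2, .hi],
  [.Z9, .Z8, .Z7, .Z4, .Z3, .Z2, .X9, .X8, .X6, .X5, .X2, .y10, .y6, .y5, .y4, .y2, .y1, .p9, .hi, .p9, .hi, .p4, .hi,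
   .p4, .hi, .p4, .hi, .p3, .hi, .xii, .p, .xii, .hi, .y7, .p4, .taui, .xii, .p, .xii, .y1, .y6, .hi, .xii, .y4, .y5,
   .tau, .hi, .xii, .hi, .p6, .xii, .y7, .p9, .y8, .tau, .xii, .p8, .xii, .p2, .xii, .y4, .y5, .tau, .xii, .p10, .xii,
   .y6]⟩

theorem h417 : Hd F (g wAd) b417 := hdD (by decide +kernel)
theorem r417_0 : R9 F (g wAd) b417 [] 0 0 := .of (startD 0 1) (by decide +kernel)
theorem r417_1 : R9 F (g wAd) b417 [] 0 1 := .of (startD 0 1) (by decide +kernel)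
theorem r417_2 : R9 F (g wAd) b417 [] 0 2 := .of (startD 0 1) (by decide +kernel)
theorem r417_3 : R9 F (g wAd) b417 [] 1 0 := .of (startD 0 1) (by decide +kernel)
theorem r417_4 : R9 F (g wAd) b417 [] 1 1 := .of (startD 0 1) (by decide +kernel)
theorem r417_5 : R9 F (g wAd) b417 [] 1 2 := .of (startD 0 1) (by decide +kernel)
theorem r417_6 : R9 F (g wAd) b417 [] 2 0 := .of (startD 0 1) (by decide +kernel)
theorem r417_7 : R9 F (g wAd) b417 [] 2 1 := .of (startD 0 1) (by decide +kernel)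
theorem r417_8 : R9 F (g wAd) b417 [] 2 2 := .of (startD 0 1) (by decide +kernel)
theorem g417 : Gd F (g wAd) (0, d417) [] :=
  good9 ok h417 r417_0 r417_1 r417_2 r417_3 r417_4 r417_5 r417_6 r417_7 r417_8

def b418 : Wd := ⟨0, d418,
  [.Z10, .Z8, .Z6, .Z3, .Z1, .X7, .X5, .X4, .X1, .y9, .y8, .y3, .y2, .y1, .hi, .p6, .hi, .p3, .hi, .p10, .hi, .p5,
   .hi, .p4, .hi, .xii, .hi, .xii, .p10, .xii, .y4, .tau, .xii, .p, .xii, .hi, .y8, .xii, .y2, .y7, .y10, .taui, .xii,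
   .p4, .xii, .y3, .p5, .xii, .hi, .y4, .taui, .xii, .y2, .p4, .xii, .p8, .xii, .y2, .y4, .taui, .xii, .p],
  [.z, .Z10, .Z8, .Z5, .Z3, .Z0, .X10, .X9, .X6, .X0, .y10, .y9, .y8, .y7, .y6, .y4, .y3, .y2, .y1, .hi, .p5, .hi,
   .p4, .hi, .p8, .hi, .p3, .hi, .p10, .hi, .p8, .xii, .p, .xii, .y6, .p2, .hi, .taui, .xii, .y2, .p, .xii, .y1, .hi,
   .xii, .y4, .y6, .tau, .X0, .p4, .xii, .p4, .y4, .xii, .y3, .y10, .p5, .tau, .xii, .y2, .p7, .xii, .y2, .p5, .hi,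
   .taui, .xii, .hi, .p8],
  [.z, .Z10, .Z8, .Z7, .Z5, .Z4, .Z3, .Z2, .Z1, .Z0, .X9, .X8, .X6, .X4, .X3, .X2, .X1, .y9, .y7, .y2, .p7, .hi, .p6,
   .hi, .p3, .hi, .p6, .hi, .p4, .hi, .xii, .p3, .hi, .xii, .p6, .y5, .taui, .xii, .y2, .p, .xii, .y1, .hi, .xii, .y4,
   .y6, .taui, .X0, .p9, .xii, .y4, .p10, .xii, .p2, .y5, .tau, .xii, .hi, .p5, .xii, .y4]⟩

theorem h418 : Hd F (g wAd) b418 := hdD (by decide +kernel)
theorem r418_0 : R9 F (g wAd) b418 [] 0 0 := .of (startD 0 1) (by decide +kernel)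
theorem r418_1 : R9 F (g wAd) b418 [] 0 1 := .of (startD 0 1) (by decide +kernel)
theorem r418_2 : R9 F (g wAd) b418 [] 0 2 := .of (startD 0 1) (by decide +kernel)
theorem r418_3 : R9 F (g wAd) b418 [] 1 0 := .of (startD 0 2) (by decide +kernel)
theorem r418_4 : R9 F (g wAd) b418 [] 1 1 := .of (startD 0 1) (by decide +kernel)
theorem r418_5 : R9 F (g wAd) b418 [] 1 2 := .of (startD 0 2) (by decide +kernel)
theorem r418_6 : R9 F (g wAd) b418 [] 2 0 := .of (startD 0 1) (by decide +kernel)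
theorem r418_7 : R9 F (g wAd) b418 [] 2 1 := .of (startD 0 1) (by decide +kernel)
theorem r418_8 : R9 F (g wAd) b418 [] 2 2 := .of (startD 0 1) (by decide +kernel)
theorem g418 : Gd F (g wAd) (0, d418) [] :=
  good9 ok h418 r418_0 r418_1 r418_2 r418_3 r418_4 r418_5 r418_6 r418_7 r418_8

def b419 : Wd := ⟨0, d419,
  [.Z10, .Z9, .Z7, .Z4, .Z3, .Z2, .Z0, .X10, .X9, .X8, .X7, .X6, .X3, .X2, .X1, .X0, .y10, .y9, .y8, .y7, .y3, .p9,
   .hi, .p7, .hi, .p7, .hi, .p10, .hi, .xii, .p10, .xii, .p9, .y6, .xii, .y7, .tau, .xii, .y2, .p, .xii, .y2, .hi,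
   .xii, .y7, .tau, .p5, .xii, .p4, .xii, .y4, .y8, .p8, .xii, .y8, .taui, .xii, .p7, .xii, .y5, .p3, .y2, .xii, .y8,
   .tau, .xii, .y2, .p7, .xii],
  [.Z10, .Z7, .Z6, .Z4, .Z2, .Z0, .X10, .X7, .X4, .X1, .X0, .y10, .y9, .y8, .y6, .y1, .p9, .hi, .p5, .hi, .p, .hi,
   .p6, .hi, .p5, .hi, .xii, .p10, .taui, .y1, .xii, .y2, .hi, .xii, .y10, .p10, .xii, .y8, .taui, .p2, .xii, .p4,
   .xii, .y5, .hi, .p3, .tau, .xii, .p4, .xii, .y3, .p8, .xii, .y5, .tau, .xii, .p7],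
  [.Z9, .Z7, .Z5, .Z4, .Z3, .Z2, .X9, .X8, .X6, .X5, .X2, .X1, .X0, .y10, .y9, .y5, .y4, .y3, .hi, .p6, .hi, .p4, .hi,
   .p8, .hi, .p4, .hi, .p7, .xii, .p3, .hi, .xii, .p3, .hi, .tau, .xii, .p, .xii, .y4, .y10, .hi, .xii, .y5, .y10,
   .taui, .X0, .p10, .xii, .y10, .p9, .xii, .p2, .hi, .y9, .p9, .tau, .xii, .p5, .xii, .y4, .y5, .p8, .xii, .y2, .tau,
   .xii, .y2, .p3]⟩

theorem h419 : Hd F (g wAd) b419 := hdD (by decide +kernel)
theorem r419_0 : R9 F (g wAd) b419 [] 0 0 := .of (startD 0 1) (by decide +kernel)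
theorem r419_1 : R9 F (g wAd) b419 [] 0 1 := .of (startD 0 1) (by decide +kernel)
theorem r419_2 : R9 F (g wAd) b419 [] 0 2 := .of (startD 0 1) (by decide +kernel)
theorem r419_3 : R9 F (g wAd) b419 [] 1 0 := .of (startD 0 3) (by decide +kernel)
theorem r419_4 : R9 F (g wAd) b419 [] 1 1 := .of (startD 0 1) (by decide +kernel)
theorem r419_5 : R9 F (g wAd) b419 [] 1 2 := .of (startD 0 1) (by decide +kernel)
theorem r419_6 : R9 F (g wAd) b419 [] 2 0 := .of (startD 0 1) (by decide +kernel)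
theorem r419_7 : R9 F (g wAd) b419 [] 2 1 := .of (startD 0 1) (by decide +kernel)
theorem r419_8 : R9 F (g wAd) b419 [] 2 2 := .of (startD 0 1) (by decide +kernel)
theorem g419 : Gd F (g wAd) (0, d419) [] :=
  good9 ok h419 r419_0 r419_1 r419_2 r419_3 r419_4 r419_5 r419_6 r419_7 r419_8

theorem all : AllG F (g wAd) LD41 :=
  .cons g410 (.cons g411 (.cons g412 (.cons g413 (.cons g414 (.cons g415 (.cons g416 (.cons g417 (.cons g418 (.cons g419 (.nil))))))))))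

end Cfsg.Agent.BX.No33.Bk.D41
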