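import Cfsg.Agent.BX.No33.Cheap
set_option linter.all false

/-!
# Tests, diagonal case, part 42 (helper5; generated)
-/

set_option autoImplicit false
set_option maxRecDepth 100000
set_option Elab.async false

namespace Cfsg.Agent.BX.No33.Bk.D42

open Cfsg.Agent.H819.U33 Cfsg.Agent.BX.No33.Front

def b420 : Wd := ⟨0, d420,
  [.Z8, .Z7, .Z6, .Z4, .Z2, .Z0, .X9, .X8, .X5, .X4, .X3, .X1, .X0, .y9, .y1, .p6, .hi, .p6, .hi, .p10, .hi, .p6, .hi,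
   .p8, .hi, .xii, .p, .xii, .p4, .xii, .y4, .y8, .taui, .xii, .y1, .p, .xii, .y4, .p, .xii, .y1, .y10, .taui, .xii,
   .y6, .p, .xii, .p, .xii, .y3, .y10, .taui, .X0, .p2, .xii, .p8, .xii, .y5, .taui, .xii, .p7, .xii, .y7, .p10, .hi,
   .p, .taui, .xii, .y2, .hi, .p6],
  [.Z10, .Z9, .Z8, .Z6, .Z4, .Z3, .Z2, .Z1, .Z0, .X10, .X8, .X7, .X5, .X4, .X3, .X2, .X1, .X0, .y6, .y5, .y4, .y1,
   .hi, .p5, .hi, .p5, .hi, .p7, .hi, .p7, .hi, .p, .hi, .p7, .xii, .y2, .p10, .hi, .p8, .taui, .xii, .p, .xii, .y4,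
   .hi, .xii, .y4, .y5, .y9, .taui, .p7, .xii, .hi, .p8, .xii, .y1, .y9, .p7, .taui, .xii, .p5, .xii, .y2, .hi, .xii,
   .y5, .tau],
  [.Z8, .Z7, .Z6, .Z5, .Z4, .Z2, .Z1, .Z0, .X9, .X8, .X7, .X6, .X5, .X3, .X2, .X1, .y10, .y7, .y6, .y2, .p9, .hi, .p7,
   .hi, .p7, .hi, .p4, .hi, .p8, .hi, .p7, .hi, .xii, .hi, .xii, .y6, .p9, .xii, .y5, .y9, .taui, .y1, .xii, .p10,
   .xii, .y4, .p10, .xii, .y9, .y10, .tau, .xii, .y6, .p9, .xii, .p3, .y5, .xii, .y5, .p2, .tau, .xii, .p7, .xii, .y6,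
   .y10, .p5, .xii, .y1, .tau, .xii, .p4]⟩

theorem h420 : Hd F (g wAd) b420 := hdD (by decide +kernel)
theorem r420_0 : R9 F (g wAd) b420 [] 0 0 := .of (startD 0 1) (by decide +kernel)
theorem r420_1 : R9 F (g wAd) b420 [] 0 1 := .of (startD 0 1) (by decide +kernel)
theorem r420_2 : R9 F (g wAd) b420 [] 0 2 := .of (startD 0 1) (by decide +kernel)
theorem r420_3 : R9 F (g wAd) b420 [] 1 0 := .of (startD 0 1) (by decide +kernel)
theorem r420_4 : R9 F (g wAd) b420 [] 1 1 := .of (startD 0 1) (by decide +kernel)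
theorem r420_5 : R9 F (g wAd) b420 [] 1 2 := .of (startD 0 1) (by decide +kernel)
theorem r420_6 : R9 F (g wAd) b420 [] 2 0 := .of (startD 0 1) (by decide +kernel)
theorem r420_7 : R9 F (g wAd) b420 [] 2 1 := .of (startD 0 1) (by decide +kernel)
theorem r420_8 : R9 F (g wAd) b420 [] 2 2 := .of (startD 0 1) (by decide +kernel)
theorem g420 : Gd F (g wAd) (0, d420) [] :=
  good9 ok h420 r420_0 r420_1 r420_2 r420_3 r420_4 r420_5 r420_6 r420_7 r420_8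

def b421 : Wd := ⟨0, d421,
  [.z, .Z10, .Z9, .Z7, .Z6, .Z5, .Z2, .Z1, .Z0, .X10, .X9, .X7, .X4, .X2, .y10, .y9, .y7, .y5, .p8, .hi, .p7, .hi,
   .p9, .hi, .p4, .hi, .p8, .hi, .p9, .hi, .p9, .xii, .y2, .p10, .xii, .y5, .p5, .tau, .X0, .p7, .xii, .p, .hi, .xii,
   .y2, .p3, .tau, .X0, .p10, .xii, .p10, .xii, .y6, .p9, .y2, .taui, .xii, .y2, .hi, .p6, .xii, .y1, .p, .taui, .xii,
   .p5, .hi, .p2],
  [.z, .Z10, .Z9, .Z5, .Z4, .Z1, .Z0, .X10, .X8, .X7, .X6, .X5, .y9, .y7, .y6, .y2, .p9, .hi, .p2, .xii, .y2, .p10,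
   .hi, .p2, .hi, .p10, .taui, .xii, .p3, .hi, .xii, .p3, .y5, .hi, .tau, .X0, .p4, .xii, .y2, .p4, .xii, .y1, .p10,
   .tau, .xii, .p7, .xii, .p7, .y8, .xii, .y1, .tau, .xii, .p10, .xii, .y6],
  [.z, .Z10, .Z9, .Z5, .Z2, .X10, .X9, .X8, .X3, .X2, .y7, .y6, .y4, .y3, .hi, .p7, .hi, .p, .hi, .p4, .hi, .p4, .hi,
   .p3, .hi, .p8, .xii, .p, .xii, .y10, .p7, .xii, .y4, .taui, .xii, .p, .xii, .y1, .y10, .hi, .xii, .y5, .y10, .tau,
   .X0, .p4, .xii, .y2, .p7, .xii, .y1, .p, .y3, .tau, .xii, .p3, .xii, .y1, .p2, .xii, .y8, .y10, .tau, .xii, .hi,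
   .p]⟩

theorem h421 : Hd F (g wAd) b421 := hdD (by decide +kernel)
theorem r421_0 : R9 F (g wAd) b421 [] 0 0 := .of (startD 0 1) (by decide +kernel)
theorem r421_1 : R9 F (g wAd) b421 [] 0 1 := .of (startD 0 1) (by decide +kernel)
theorem r421_2 : R9 F (g wAd) b421 [] 0 2 := .of (startD 0 1) (by decide +kernel)
theorem r421_3 : R9 F (g wAd) b421 [] 1 0 := .of (startD 0 2) (by decide +kernel)
theorem r421_4 : R9 F (g wAd) b421 [] 1 1 := .of (startD 0 1) (by decide +kernel)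
theorem r421_5 : R9 F (g wAd) b421 [] 1 2 := .of (startD 0 1) (by decide +kernel)
theorem r421_6 : R9 F (g wAd) b421 [] 2 0 := .of (startD 0 1) (by decide +kernel)
theorem r421_7 : R9 F (g wAd) b421 [] 2 1 := .of (startD 0 1) (by decide +kernel)
theorem r421_8 : R9 F (g wAd) b421 [] 2 2 := .of (startD 0 1) (by decide +kernel)
theorem g421 : Gd F (g wAd) (0, d421) [] :=
  good9 ok h421 r421_0 r421_1 r421_2 r421_3 r421_4 r421_5 r421_6 r421_7 r421_8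

def b422 : Wd := ⟨0, d422,
  [.Z10, .Z9, .Z7, .Z6, .Z4, .Z3, .X8, .X7, .X3, .X1, .y9, .y5, .y4, .y3, .y2, .p10, .hi, .p6, .hi, .p8, .hi, .p7,
   .hi, .p4, .hi, .p9, .hi, .xii, .y2, .p3, .hi, .xii, .p6, .tau, .xii, .p, .xii, .hi, .y8, .xii, .y4, .y5, .y9, .tau,
   .X0, .p8, .xii, .y6, .p4, .xii, .p3, .y1, .hi, .p2, .taui, .xii, .p6, .xii, .y2, .p, .xii, .y2, .tau, .xii, .p3],
  [.z, .Z10, .Z9, .Z8, .Z6, .Z5, .Z3, .Z1, .X10, .X9, .X6, .X0, .y9, .y3, .y1, .p, .hi, .p7, .hi, .p, .hi, .p5, .hi,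
   .p6, .hi, .p5, .hi, .xii, .y2, .p, .xii, .p8, .xii, .y5, .tau, .xii, .y2, .p, .xii, .y2, .hi, .xii, .y3, .y4, .tau,
   .X0, .p4, .xii, .p9, .xii, .y10, .hi, .p3, .y3, .taui, .xii, .p8, .xii, .p5, .y1, .hi],
  [.z, .Z10, .Z7, .Z6, .Z5, .Z3, .Z2, .Z1, .Z0, .X10, .X9, .X8, .X7, .X5, .X4, .X3, .y8, .y6, .y4, .hi, .p, .hi, .p8,
   .hi, .p9, .hi, .p, .hi, .p10, .xii, .p10, .xii, .y8, .p10, .xii, .taui, .y1, .xii, .y1, .hi, .xii, .p10, .xii, .y2,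
   .tau, .X0, .xii, .p9, .xii, .p3, .y7, .y8, .xii, .p10, .tau, .xii, .y2, .p4, .xii, .p5, .y4, .tau, .xii, .y2, .p2]⟩

theorem h422 : Hd F (g wAd) b422 := hdD (by decide +kernel)
theorem r422_0 : R9 F (g wAd) b422 [] 0 0 := .of (startD 0 1) (by decide +kernel)
theorem r422_1 : R9 F (g wAd) b422 [] 0 1 := .of (startD 0 1) (by decide +kernel)
theorem r422_2 : R9 F (g wAd) b422 [] 0 2 := .of (startD 0 1) (by decide +kernel)
theorem r422_3 : R9 F (g wAd) b422 [] 1 0 := .of (startD 0 1) (by decide +kernel)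
theorem r422_4 : R9 F (g wAd) b422 [] 1 1 := .of (startD 0 1) (by decide +kernel)
theorem r422_5 : R9 F (g wAd) b422 [] 1 2 := .of (startD 0 1) (by decide +kernel)
theorem r422_6 : R9 F (g wAd) b422 [] 2 0 := .of (startD 0 1) (by decide +kernel)
theorem r422_7 : R9 F (g wAd) b422 [] 2 1 := .of (startD 0 1) (by decide +kernel)
theorem r422_8 : R9 F (g wAd) b422 [] 2 2 := .of (startD 0 1) (by decide +kernel)
theorem g422 : Gd F (g wAd) (0, d422) [] :=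
  good9 ok h422 r422_0 r422_1 r422_2 r422_3 r422_4 r422_5 r422_6 r422_7 r422_8

def b423 : Wd := ⟨0, d423,
  [.z, .Z10, .Z7, .Z6, .Z2, .Z1, .X8, .X7, .X6, .X4, .X2, .X1, .X0, .y10, .y8, .y7, .y6, .y5, .p9, .hi, .p5, .hi, .p9,
   .hi, .p8, .hi, .p6, .xii, .p3, .hi, .xii, .y3, .y9, .p10, .tau, .xii, .y6, .p, .xii, .p, .xii, .y1, .y9, .taui,
   .xii, .p, .xii, .y1, .hi, .xii, .y5, .taui, .p9, .xii, .y10, .hi, .xii, .y2, .tau, .xii, .p2, .xii, .y4, .hi, .xii,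
   .y7, .tau, .xii, .p3],
  [.z, .Z8, .Z6, .Z3, .Z1, .X9, .X6, .X5, .X4, .X3, .X2, .y9, .y7, .y2, .p7, .hi, .p10, .hi, .p9, .hi, .p8, .hi, .p6,
   .hi, .p8, .xii, .y2, .p2, .hi, .xii, .y9, .taui, .X0, .xii, .p3, .xii, .hi, .xii, .hi, .taui, .xii, .p9, .xii, .y8,
   .y9, .p, .xii, .y8, .taui, .xii, .p4, .xii, .p4, .y3, .xii, .y4, .y5, .taui],
  [.z, .Z10, .Z8, .Z7, .Z6, .Z5, .Z3, .Z2, .Z0, .X10, .X9, .X7, .X2, .y10, .y9, .y7, .y6, .y5, .y4, .p9, .hi, .p5,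
   .hi, .p8, .hi, .p10, .hi, .p4, .hi, .xii, .p, .xii, .p8, .y8, .xii, .y5, .taui, .xii, .p, .xii, .y2, .hi, .xii,
   .y5, .y8, .taui, .X0, .p4, .xii, .p5, .xii, .p9, .taui, .xii, .p9, .xii, .y1, .y3, .p4, .hi, .tau, .xii, .y2, .p,
   .hi, .p4]⟩

theorem h423 : Hd F (g wAd) b423 := hdD (by decide +kernel)
theorem r423_0 : R9 F (g wAd) b423 [] 0 0 := .of (startD 0 1) (by decide +kernel)
theorem r423_1 : R9 F (g wAd) b423 [] 0 1 := .of (startD 0 1) (by decide +kernel)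
theorem r423_2 : R9 F (g wAd) b423 [] 0 2 := .of (startD 0 1) (by decide +kernel)
theorem r423_3 : R9 F (g wAd) b423 [] 1 0 := .of (startD 0 1) (by decide +kernel)
theorem r423_4 : R9 F (g wAd) b423 [] 1 1 := .of (startD 0 1) (by decide +kernel)
theorem r423_5 : R9 F (g wAd) b423 [] 1 2 := .of (startD 0 1) (by decide +kernel)
theorem r423_6 : R9 F (g wAd) b423 [] 2 0 := .of (startD 0 1) (by decide +kernel)
theorem r423_7 : R9 F (g wAd) b423 [] 2 1 := .of (startD 0 1) (by decide +kernel)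
theorem r423_8 : R9 F (g wAd) b423 [] 2 2 := .of (startD 0 1) (by decide +kernel)
theorem g423 : Gd F (g wAd) (0, d423) [] :=
  good9 ok h423 r423_0 r423_1 r423_2 r423_3 r423_4 r423_5 r423_6 r423_7 r423_8

def b424 : Wd := ⟨0, d424,
  [.z, .Z9, .Z2, .Z1, .X9, .X8, .X6, .X4, .X2, .X1, .X0, .y10, .y9, .y8, .y3, .y2, .p9, .hi, .p9, .hi, .p8, .hi, .p4,
   .hi, .p8, .hi, .p, .hi, .xii, .y2, .hi, .xii, .p10, .xii, .y9, .y10, .tau, .xii, .p, .xii, .y4, .hi, .xii, .y5,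
   .tau, .xii, .y1, .p2, .xii, .y10, .p7, .xii, .y4, .y9, .tau, .xii, .y2, .p8, .xii, .y2, .p2, .xii, .y9, .tau, .xii,
   .y7, .p6, .xii],
  [.Z10, .Z6, .Z5, .Z2, .Z1, .Z0, .X9, .X7, .X6, .X2, .X1, .y9, .y6, .y3, .p7, .hi, .p3, .hi, .p4, .hi, .p3, .hi,
   .xii, .y2, .tau, .xii, .p, .xii, .y3, .y10, .hi, .xii, .y3, .taui, .xii, .y6, .p2, .xii, .y6, .hi, .xii, .y2, .p8,
   .tau, .xii, .p7, .xii, .p8, .y3, .xii, .y5, .taui, .xii, .p],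
  [.Z10, .Z9, .Z6, .Z3, .Z0, .X10, .X6, .X5, .X4, .X3, .X2, .y10, .y9, .y7, .y5, .y2, .hi, .p10, .hi, .p6, .hi, .p8,
   .hi, .p, .hi, .p3, .hi, .xii, .y2, .p, .xii, .y4, .hi, .xii, .y6, .taui, .y1, .xii, .p10, .xii, .y1, .y9, .p10,
   .xii, .y2, .y4, .tau, .X0, .hi, .xii, .p9, .xii, .y1, .hi, .p3, .y3, .taui, .xii, .p4, .xii, .y3, .y4, .p4, .tau,
   .xii, .hi, .p6]⟩

theorem h424 : Hd F (g wAd) b424 := hdD (by decide +kernel)
theorem r424_0 : R9 F (g wAd) b424 [] 0 0 := .of (startD 0 1) (by decide +kernel)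
theorem r424_1 : R9 F (g wAd) b424 [] 0 1 := .of (startD 0 1) (by decide +kernel)
theorem r424_2 : R9 F (g wAd) b424 [] 0 2 := .of (startD 0 1) (by decide +kernel)
theorem r424_3 : R9 F (g wAd) b424 [] 1 0 := .of (startD 0 1) (by decide +kernel)
theorem r424_4 : R9 F (g wAd) b424 [] 1 1 := .of (startD 0 1) (by decide +kernel)
theorem r424_5 : R9 F (g wAd) b424 [] 1 2 := .of (startD 0 1) (by decide +kernel)
theorem r424_6 : R9 F (g wAd) b424 [] 2 0 := .of (startD 0 1) (by decide +kernel)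
theorem r424_7 : R9 F (g wAd) b424 [] 2 1 := .of (startD 0 1) (by decide +kernel)
theorem r424_8 : R9 F (g wAd) b424 [] 2 2 := .of (startD 0 1) (by decide +kernel)
theorem g424 : Gd F (g wAd) (0, d424) [] :=
  good9 ok h424 r424_0 r424_1 r424_2 r424_3 r424_4 r424_5 r424_6 r424_7 r424_8

def b425 : Wd := ⟨0, d425,
  [.z, .Z10, .Z8, .Z7, .Z6, .Z4, .Z1, .Z0, .X10, .X8, .X6, .X5, .X4, .X1, .X0, .y6, .y5, .y4, .y3, .y2, .y1, .p4, .hi,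
   .p6, .hi, .p8, .hi, .p7, .hi, .p7, .hi, .p2, .hi, .xii, .p, .xii, .y2, .hi, .xii, .y6, .tau, .y1, .xii, .p10, .xii,
   .y8, .p10, .xii, .y1, .y5, .taui, .X0, .xii, .p7, .xii, .p9, .y10, .xii, .y6, .p8, .tau, .xii, .p4, .xii, .hi, .p8,
   .hi, .tau, .xii, .p8],
  [.z, .Z10, .Z9, .Z8, .Z6, .Z4, .Z3, .Z2, .X9, .X8, .X7, .X3, .X2, .X1, .X0, .y7, .y6, .y1, .p3, .hi, .p7, .hi, .p9,
   .hi, .p3, .hi, .p8, .hi, .xii, .hi, .p8, .xii, .y1, .p10, .taui, .xii, .y1, .p, .xii, .y4, .p, .xii, .y1, .y4,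
   .tau, .p10, .xii, .p10, .xii, .p3, .hi, .y10, .tau, .xii, .p3, .xii, .y1, .y3, .p6, .tau, .xii, .p4, .hi, .p9],
  [.z, .Z10, .Z9, .Z7, .Z5, .Z1, .X10, .X8, .X7, .X5, .X1, .y7, .y6, .y4, .y3, .y2, .y1, .p9, .hi, .p5, .hi, .p9, .hi,
   .p5, .hi, .p, .hi, .p6, .xii, .p10, .xii, .y4, .p6, .xii, .y7, .tau, .y1, .xii, .p10, .xii, .y2, .p10, .xii, .y4,
   .taui, .X0, .xii, .p4, .xii, .y4, .p8, .xii, .p5, .y10, .taui, .xii, .y2, .hi, .p6, .xii, .y3]⟩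

theorem h425 : Hd F (g wAd) b425 := hdD (by decide +kernel)
theorem r425_0 : R9 F (g wAd) b425 [] 0 0 := .of (startD 0 1) (by decide +kernel)
theorem r425_1 : R9 F (g wAd) b425 [] 0 1 := .of (startD 0 1) (by decide +kernel)
theorem r425_2 : R9 F (g wAd) b425 [] 0 2 := .of (startD 0 1) (by decide +kernel)
theorem r425_3 : R9 F (g wAd) b425 [] 1 0 := .of (startD 0 1) (by decide +kernel)
theorem r425_4 : R9 F (g wAd) b425 [] 1 1 := .of (startD 0 1) (by decide +kernel)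
theorem r425_5 : R9 F (g wAd) b425 [] 1 2 := .of (startD 0 1) (by decide +kernel)
theorem r425_6 : R9 F (g wAd) b425 [] 2 0 := .of (startD 0 1) (by decide +kernel)
theorem r425_7 : R9 F (g wAd) b425 [] 2 1 := .of (startD 0 1) (by decide +kernel)
theorem r425_8 : R9 F (g wAd) b425 [] 2 2 := .of (startD 0 1) (by decide +kernel)
theorem g425 : Gd F (g wAd) (0, d425) [] :=
  good9 ok h425 r425_0 r425_1 r425_2 r425_3 r425_4 r425_5 r425_6 r425_7 r425_8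

def b426 : Wd := ⟨0, d426,
  [.Z10, .Z8, .Z6, .Z5, .Z4, .Z0, .X6, .X4, .X2, .X0, .y7, .y5, .y3, .p8, .hi, .p7, .hi, .p6, .hi, .p, .hi, .p, .hi,
   .p8, .hi, .xii, .p10, .xii, .y1, .p10, .xii, .y10, .tau, .xii, .p, .xii, .y4, .hi, .xii, .y1, .y2, .y10, .taui,
   .p9, .xii, .p2, .hi, .xii, .y8, .p8, .y5, .taui, .xii, .p8, .xii, .y3, .p3, .hi, .p4, .tau, .xii, .hi, .p8],
  [.z, .Z10, .Z7, .Z6, .Z5, .Z3, .Z2, .X9, .X8, .X7, .y9, .y6, .y5, .y2, .hi, .p5, .hi, .p10, .hi, .p5, .hi, .p5, .hi,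
   .p8, .hi, .xii, .y2, .p10, .hi, .p2, .hi, .p10, .taui, .y1, .xii, .p10, .xii, .y1, .y9, .p10, .xii, .y8, .tau, .X0,
   .xii, .p2, .xii, .p7, .y7, .xii, .y5, .tau, .xii, .p4, .xii, .y2, .p6, .xii, .y10],
  [.Z10, .Z8, .Z6, .Z4, .Z1, .X6, .X5, .X4, .X3, .X1, .y9, .y8, .y7, .y6, .y5, .y4, .y3, .y2, .hi, .p7, .hi, .p8, .hi,
   .p5, .hi, .p2, .xii, .hi, .xii, .p8, .xii, .y4, .tau, .y1, .xii, .y1, .hi, .xii, .y6, .p10, .xii, .y4, .tau, .X0,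
   .hi, .xii, .hi, .p5, .xii, .y5, .y9, .p4, .taui, .xii, .y2, .p6, .xii, .y1, .p10, .xii, .y8, .taui, .xii]⟩

theorem h426 : Hd F (g wAd) b426 := hdD (by decide +kernel)
theorem r426_0 : R9 F (g wAd) b426 [] 0 0 := .of (startD 0 1) (by decide +kernel)
theorem r426_1 : R9 F (g wAd) b426 [] 0 1 := .of (startD 0 1) (by decide +kernel)
theorem r426_2 : R9 F (g wAd) b426 [] 0 2 := .of (startD 0 1) (by decide +kernel)
theorem r426_3 : R9 F (g wAd) b426 [] 1 0 := .of (startD 0 1) (by decide +kernel)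
theorem r426_4 : R9 F (g wAd) b426 [] 1 1 := .of (startD 0 1) (by decide +kernel)
theorem r426_5 : R9 F (g wAd) b426 [] 1 2 := .of (startD 0 1) (by decide +kernel)
theorem r426_6 : R9 F (g wAd) b426 [] 2 0 := .of (startD 0 1) (by decide +kernel)
theorem r426_7 : R9 F (g wAd) b426 [] 2 1 := .of (startD 0 1) (by decide +kernel)
theorem r426_8 : R9 F (g wAd) b426 [] 2 2 := .of (startD 0 1) (by decide +kernel)
theorem g426 : Gd F (g wAd) (0, d426) [] :=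
  good9 ok h426 r426_0 r426_1 r426_2 r426_3 r426_4 r426_5 r426_6 r426_7 r426_8

def b427 : Wd := ⟨0, d427,
  [.z, .Z9, .Z6, .Z5, .Z4, .Z0, .X9, .X5, .X4, .X3, .X0, .y9, .y7, .y6, .y5, .y1, .p5, .hi, .p10, .hi, .p2, .hi, .p4,
   .hi, .p9, .hi, .xii, .p10, .xii, .p6, .xii, .y3, .taui, .xii, .p, .xii, .hi, .y8, .xii, .y7, .y10, .taui, .y1, .p5,
   .xii, .p10, .xii, .y4, .p4, .tau, .xii, .y2, .p7, .xii, .p8, .xii, .y8, .y10, .tau, .xii, .y7, .p9],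
  [.z, .Z10, .Z9, .Z7, .Z6, .Z5, .Z4, .Z3, .X10, .X8, .X7, .X6, .X5, .X4, .X2, .y9, .y7, .y5, .y3, .y1, .p2, .hi, .p7,
   .hi, .p5, .hi, .p5, .hi, .p4, .hi, .xii, .y2, .hi, .p8, .tau, .xii, .y6, .p, .xii, .y10, .p, .xii, .y7, .taui, .p9,
   .xii, .y2, .p2, .xii, .y10, .hi, .p2, .tau, .xii, .p3, .xii, .p2, .y2, .hi, .p10, .tau, .xii, .y2, .p2, .hi],
  [.z, .Z9, .Z8, .Z7, .Z5, .X10, .X9, .X8, .X6, .X4, .X1, .X0, .y10, .y8, .y7, .y6, .y4, .p2, .hi, .p4, .hi, .p3, .hi,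
   .p6, .hi, .p5, .hi, .p7, .xii, .hi, .xii, .p8, .y10, .xii, .y9, .tau, .xii, .p, .xii, .hi, .y8, .xii, .y5, .y10,
   .tau, .X0, .p4, .xii, .p4, .xii, .y3, .y4, .p2, .hi, .p, .taui, .xii, .p6, .xii, .y3, .p6, .xii, .y6, .y10, .taui,
   .xii, .hi, .xii, .y6]⟩

theorem h427 : Hd F (g wAd) b427 := hdD (by decide +kernel)
theorem r427_0 : R9 F (g wAd) b427 [] 0 0 := .of (startD 0 1) (by decide +kernel)
theorem r427_1 : R9 F (g wAd) b427 [] 0 1 := .of (startD 0 1) (by decide +kernel)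
theorem r427_2 : R9 F (g wAd) b427 [] 0 2 := .of (startD 0 1) (by decide +kernel)
theorem r427_3 : R9 F (g wAd) b427 [] 1 0 := .of (startD 0 2) (by decide +kernel)
theorem r427_4 : R9 F (g wAd) b427 [] 1 1 := .of (startD 0 1) (by decide +kernel)
theorem r427_5 : R9 F (g wAd) b427 [] 1 2 := .of (startD 0 1) (by decide +kernel)
theorem r427_6 : R9 F (g wAd) b427 [] 2 0 := .of (startD 0 1) (by decide +kernel)
theorem r427_7 : R9 F (g wAd) b427 [] 2 1 := .of (startD 0 1) (by decide +kernel)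
theorem r427_8 : R9 F (g wAd) b427 [] 2 2 := .of (startD 0 1) (by decide +kernel)
theorem g427 : Gd F (g wAd) (0, d427) [] :=
  good9 ok h427 r427_0 r427_1 r427_2 r427_3 r427_4 r427_5 r427_6 r427_7 r427_8

def b428 : Wd := ⟨0, d428,
  [.z, .Z10, .Z7, .Z5, .Z4, .Z3, .Z2, .Z1, .Z0, .X7, .X6, .X5, .X3, .X2, .X0, .y8, .y6, .y5, .y2, .y1, .p, .hi, .p10,
   .hi, .p6, .hi, .p, .hi, .p, .xii, .y2, .hi, .xii, .p10, .taui, .xii, .p, .xii, .y2, .y10, .hi, .xii, .y5, .taui,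
   .p10, .xii, .y2, .p9, .xii, .hi, .p, .y10, .tau, .xii, .p9, .xii, .y8, .hi, .p2, .taui, .xii, .p, .hi, .p],
  [.z, .Z9, .Z8, .Z7, .Z3, .Z2, .X7, .X6, .X2, .X1, .y9, .y7, .y6, .p6, .hi, .p7, .hi, .p3, .hi, .p4, .hi, .p4, .hi,
   .p2, .xii, .y2, .p3, .hi, .xii, .tau, .y1, .xii, .p10, .xii, .y8, .p10, .xii, .y1, .y3, .tau, .hi, .xii, .p5, .xii,
   .y6, .p, .hi, .y8, .tau, .xii, .hi, .p5, .xii, .y2, .p3, .hi, .taui, .xii, .hi, .p6],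
  [.Z9, .Z8, .Z7, .Z4, .Z2, .Z0, .X8, .X3, .X1, .X0, .y10, .y8, .y4, .y1, .hi, .p5, .hi, .p3, .hi, .p6, .hi, .p9, .hi,
   .p10, .hi, .xii, .p, .xii, .p4, .xii, .y2, .taui, .y1, .xii, .y1, .hi, .xii, .y6, .p10, .xii, .y8, .y10, .tau,
   .p10, .xii, .y5, .p9, .xii, .y4, .p4, .taui, .xii, .p6, .xii, .p, .y1, .xii, .y10, .taui, .xii, .hi]⟩

theorem h428 : Hd F (g wAd) b428 := hdD (by decide +kernel)
theorem r428_0 : R9 F (g wAd) b428 [] 0 0 := .of (startD 0 1) (by decide +kernel)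
theorem r428_1 : R9 F (g wAd) b428 [] 0 1 := .of (startD 0 1) (by decide +kernel)
theorem r428_2 : R9 F (g wAd) b428 [] 0 2 := .of (startD 0 1) (by decide +kernel)
theorem r428_3 : R9 F (g wAd) b428 [] 1 0 := .of (startD 0 1) (by decide +kernel)
theorem r428_4 : R9 F (g wAd) b428 [] 1 1 := .of (startD 0 1) (by decide +kernel)
theorem r428_5 : R9 F (g wAd) b428 [] 1 2 := .of (startD 0 1) (by decide +kernel)
theorem r428_6 : R9 F (g wAd) b428 [] 2 0 := .of (startD 0 1) (by decide +kernel)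
theorem r428_7 : R9 F (g wAd) b428 [] 2 1 := .of (startD 0 1) (by decide +kernel)
theorem r428_8 : R9 F (g wAd) b428 [] 2 2 := .of (startD 0 1) (by decide +kernel)
theorem g428 : Gd F (g wAd) (0, d428) [] :=
  good9 ok h428 r428_0 r428_1 r428_2 r428_3 r428_4 r428_5 r428_6 r428_7 r428_8

def b429 : Wd := ⟨0, d429,
  [.Z10, .Z9, .Z8, .Z7, .Z6, .Z5, .Z4, .Z3, .Z2, .Z1, .Z0, .X9, .X5, .X2, .X0, .y10, .y9, .y6, .y5, .y4, .y3, .y2,
   .p10, .hi, .p4, .hi, .p6, .hi, .p4, .hi, .p7, .hi, .p8, .xii, .p, .xii, .y3, .p7, .xii, .y4, .y9, .taui, .y1, .xii,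
   .y2, .p10, .xii, .y9, .tau, .X0, .p7, .xii, .p8, .xii, .y2, .taui, .xii, .hi, .p5, .xii, .y1, .p9, .taui, .xii, .p,
   .hi, .p],
  [.Z2, .Z1, .X9, .X8, .X6, .X5, .X3, .X2, .X0, .y9, .y7, .y6, .y5, .y1, .p4, .hi, .p9, .hi, .p5, .hi, .p3, .hi, .p,
   .taui, .y1, .xii, .p10, .xii, .y1, .p10, .y9, .xii, .y4, .tau, .y1, .p6, .xii, .hi, .p8, .xii, .y1, .taui, .xii,
   .y2, .p9, .xii, .p5, .y1, .xii, .y2, .tau],
  [.z, .Z10, .Z8, .Z7, .Z5, .Z3, .X8, .X7, .X6, .X3, .X2, .X0, .y10, .y9, .y7, .y5, .y2, .y1, .p10, .hi, .p7, .hi,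
   .p9, .hi, .p7, .hi, .p2, .hi, .xii, .y2, .hi, .p8, .xii, .y6, .p2, .tau, .y1, .xii, .y1, .hi, .xii, .p10, .xii,
   .tau, .y1, .xii, .p10, .xii, .y4, .p10, .xii, .y8, .y9, .tau, .X0, .hi, .xii, .p5, .xii, .y8, .taui, .xii, .p5,
   .xii, .y1, .y3, .p5, .hi, .taui, .xii, .p7]⟩

theorem h429 : Hd F (g wAd) b429 := hdD (by decide +kernel)
theorem r429_0 : R9 F (g wAd) b429 [] 0 0 := .of (startD 0 1) (by decide +kernel)
theorem r429_1 : R9 F (g wAd) b429 [] 0 1 := .of (startD 0 1) (by decide +kernel)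
theorem r429_2 : R9 F (g wAd) b429 [] 0 2 := .of (startD 0 1) (by decide +kernel)
theorem r429_3 : R9 F (g wAd) b429 [] 1 0 := .of (startD 0 1) (by decide +kernel)
theorem r429_4 : R9 F (g wAd) b429 [] 1 1 := .of (startD 0 1) (by decide +kernel)
theorem r429_5 : R9 F (g wAd) b429 [] 1 2 := .of (startD 0 1) (by decide +kernel)
theorem r429_6 : R9 F (g wAd) b429 [] 2 0 := .of (startD 0 1) (by decide +kernel)
theorem r429_7 : R9 F (g wAd) b429 [] 2 1 := .of (startD 0 1) (by decide +kernel)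
theorem r429_8 : R9 F (g wAd) b429 [] 2 2 := .of (startD 0 1) (by decide +kernel)
theorem g429 : Gd F (g wAd) (0, d429) [] :=
  good9 ok h429 r429_0 r429_1 r429_2 r429_3 r429_4 r429_5 r429_6 r429_7 r429_8

theorem all : AllG F (g wAd) LD42 :=
  .cons g420 (.cons g421 (.cons g422 (.cons g423 (.cons g424 (.cons g425 (.cons g426 (.cons g427 (.cons g428 (.cons g429 (.nil))))))))))

end Cfsg.Agent.BX.No33.Bk.D42
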