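import Cfsg.Agent.BX.No33.Cheap
set_option linter.all false

/-!
# Tests, diagonal case, part 43 (helper5; generated)
-/

set_option autoImplicit false
set_option maxRecDepth 100000
set_option Elab.async false

namespace Cfsg.Agent.BX.No33.Bk.D43

open Cfsg.Agent.H819.U33 Cfsg.Agent.BX.No33.Front

def b430 : Wd := ⟨0, d430,
  [.z, .Z8, .Z7, .Z5, .Z4, .Z2, .Z1, .X9, .X8, .X7, .X6, .X4, .X3, .X2, .X1, .X0, .y7, .y6, .y5, .y1, .p2, .hi, .p4,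
   .hi, .p7, .hi, .p7, .hi, .p2, .xii, .p, .xii, .y3, .hi, .xii, .y7, .taui, .y1, .xii, .y2, .hi, .xii, .y10, .p10,
   .xii, .y4, .y8, .tau, .p7, .xii, .p5, .y7, .xii, .y8, .p4, .hi, .p8, .tau, .xii, .p2, .xii, .y10, .hi, .p7, .taui,
   .xii, .p],
  [.Z9, .Z7, .Z6, .X10, .X7, .X6, .X5, .X4, .X0, .y8, .y7, .y4, .y1, .p6, .hi, .p3, .hi, .p6, .hi, .p6, .hi, .p, .hi,
   .p6, .xii, .y2, .taui, .y1, .xii, .p10, .xii, .y1, .p10, .xii, .y4, .y9, .tau, .X0, .xii, .p2, .xii, .p, .xii, .y6,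
   .y7, .p4, .taui, .xii, .p8, .xii, .y7, .p5, .hi, .p6, .taui, .xii, .p],
  [.Z6, .Z4, .Z2, .Z1, .Z0, .X8, .X1, .X0, .y10, .y9, .y6, .y5, .y3, .y2, .p5, .hi, .p6, .hi, .p5, .hi, .p, .hi, .p8,
   .hi, .p10, .hi, .xii, .p, .xii, .y2, .p7, .xii, .y4, .taui, .y1, .xii, .y2, .hi, .xii, .y10, .p10, .xii, .y8, .tau,
   .xii, .y1, .p6, .xii, .y5, .p10, .xii, .y4, .p10, .taui, .xii, .p9, .xii, .y1, .y5, .p4, .tau, .xii, .y2, .p7]⟩

theorem h430 : Hd F (g wAd) b430 := hdD (by decide +kernel)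
theorem r430_0 : R9 F (g wAd) b430 [] 0 0 := .of (startD 0 1) (by decide +kernel)
theorem r430_1 : R9 F (g wAd) b430 [] 0 1 := .of (startD 0 1) (by decide +kernel)
theorem r430_2 : R9 F (g wAd) b430 [] 0 2 := .of (startD 0 1) (by decide +kernel)
theorem r430_3 : R9 F (g wAd) b430 [] 1 0 := .of (startD 0 1) (by decide +kernel)
theorem r430_4 : R9 F (g wAd) b430 [] 1 1 := .of (startD 0 1) (by decide +kernel)
theorem r430_5 : R9 F (g wAd) b430 [] 1 2 := .of (startD 0 1) (by decide +kernel)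
theorem r430_6 : R9 F (g wAd) b430 [] 2 0 := .of (startD 0 1) (by decide +kernel)
theorem r430_7 : R9 F (g wAd) b430 [] 2 1 := .of (startD 0 1) (by decide +kernel)
theorem r430_8 : R9 F (g wAd) b430 [] 2 2 := .of (startD 0 1) (by decide +kernel)
theorem g430 : Gd F (g wAd) (0, d430) [] :=
  good9 ok h430 r430_0 r430_1 r430_2 r430_3 r430_4 r430_5 r430_6 r430_7 r430_8

def b431 : Wd := ⟨0, d431,
  [.Z10, .Z9, .Z8, .Z7, .Z6, .Z4, .Z1, .X10, .X8, .X7, .X6, .X5, .X3, .X2, .X1, .X0, .y9, .y3, .y1, .p, .hi, .p3, .hi,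
   .p10, .hi, .p3, .hi, .p3, .hi, .p8, .hi, .xii, .y2, .p10, .xii, .y1, .p9, .xii, .y5, .taui, .xii, .y1, .p, .xii,
   .p, .xii, .y4, .y5, .taui, .X0, .y1, .p7, .xii, .p9, .xii, .p4, .hi, .p3, .taui, .xii, .p7, .xii, .hi, .y4, .p8,
   .taui, .xii, .y2, .p8],
  [.Z10, .Z9, .Z8, .Z7, .Z4, .Z3, .X9, .X8, .X6, .X4, .X2, .X0, .y10, .y8, .y6, .p10, .hi, .p9, .hi, .p10, .hi, .p2,
   .hi, .p8, .hi, .p5, .xii, .y2, .p2, .hi, .tau, .xii, .p, .xii, .y3, .hi, .xii, .y2, .y7, .taui, .xii, .p4, .xii,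
   .p5, .xii, .y6, .p6, .y8, .tau, .xii, .p9, .xii, .y1, .y9, .hi, .p2, .tau, .xii, .p5, .xii, .y9],
  [.z, .Z10, .Z8, .Z7, .Z3, .Z2, .Z1, .Z0, .X10, .X6, .X5, .X4, .X3, .X0, .y10, .y9, .y8, .y7, .y3, .y1, .p, .hi,
   .p10, .hi, .p5, .hi, .p6, .hi, .xii, .y2, .p10, .xii, .y2, .taui, .xii, .y6, .p, .xii, .y10, .p, .xii, .y1, .taui,
   .hi, .xii, .p6, .xii, .p3, .taui, .xii, .y2, .p9, .xii, .p5, .xii, .y1, .y8, .taui, .xii, .y6, .p8]⟩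

theorem h431 : Hd F (g wAd) b431 := hdD (by decide +kernel)
theorem r431_0 : R9 F (g wAd) b431 [] 0 0 := .of (startD 0 1) (by decide +kernel)
theorem r431_1 : R9 F (g wAd) b431 [] 0 1 := .of (startD 0 1) (by decide +kernel)
theorem r431_2 : R9 F (g wAd) b431 [] 0 2 := .of (startD 0 2) (by decide +kernel)
theorem r431_3 : R9 F (g wAd) b431 [] 1 0 := .of (startD 0 1) (by decide +kernel)
theorem r431_4 : R9 F (g wAd) b431 [] 1 1 := .of (startD 0 1) (by decide +kernel)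
theorem r431_5 : R9 F (g wAd) b431 [] 1 2 := .of (startD 0 1) (by decide +kernel)
theorem r431_6 : R9 F (g wAd) b431 [] 2 0 := .of (startD 0 1) (by decide +kernel)
theorem r431_7 : R9 F (g wAd) b431 [] 2 1 := .of (startD 0 1) (by decide +kernel)
theorem r431_8 : R9 F (g wAd) b431 [] 2 2 := .of (startD 0 1) (by decide +kernel)
theorem g431 : Gd F (g wAd) (0, d431) [] :=
  good9 ok h431 r431_0 r431_1 r431_2 r431_3 r431_4 r431_5 r431_6 r431_7 r431_8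

def b432 : Wd := ⟨0, d432,
  [.Z6, .Z3, .Z1, .X9, .X8, .X7, .X4, .X3, .X0, .y9, .y7, .y6, .y5, .y3, .y2, .hi, .p3, .hi, .p6, .hi, .p7, .hi, .p3,
   .hi, .p8, .xii, .hi, .p8, .xii, .y2, .tau, .xii, .p, .xii, .hi, .y8, .xii, .y4, .y6, .taui, .p7, .xii, .p4, .xii,
   .p5, .y9, .xii, .y3, .taui, .xii, .p7, .xii, .y1, .y6, .p9, .xii, .y2, .y7, .taui, .xii, .p10, .xii, .y3],
  [.Z10, .Z8, .Z7, .Z6, .Z3, .Z2, .X10, .X9, .X7, .X5, .y10, .y9, .y5, .y2, .y1, .hi, .p, .hi, .p3, .hi, .p4, .hi, .p,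
   .xii, .hi, .xii, .p8, .y2, .taui, .y1, .xii, .y2, .hi, .xii, .y7, .p10, .taui, .hi, .xii, .p5, .xii, .y1, .hi, .y5,
   .tau, .xii, .p9, .xii, .y1, .p6, .xii, .y7, .taui, .xii, .y7, .p2],
  [.z, .Z10, .Z9, .Z4, .Z0, .X10, .X9, .X7, .X5, .X3, .y10, .y9, .y8, .y7, .y5, .y3, .y1, .p6, .hi, .p, .hi, .p3, .hi,
   .p4, .hi, .p10, .hi, .p8, .hi, .xii, .p10, .xii, .y10, .p6, .xii, .y3, .y4, .tau, .xii, .y1, .p, .xii, .y10, .p,
   .xii, .y5, .tau, .X0, .p8, .xii, .p10, .xii, .p5, .xii, .y5, .y7, .tau, .xii, .p9, .xii, .y4, .p3, .xii, .y2, .y8,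
   .tau, .xii, .hi, .p4]⟩

theorem h432 : Hd F (g wAd) b432 := hdD (by decide +kernel)
theorem r432_0 : R9 F (g wAd) b432 [] 0 0 := .of (startD 0 1) (by decide +kernel)
theorem r432_1 : R9 F (g wAd) b432 [] 0 1 := .of (startD 0 1) (by decide +kernel)
theorem r432_2 : R9 F (g wAd) b432 [] 0 2 := .of (startD 0 1) (by decide +kernel)
theorem r432_3 : R9 F (g wAd) b432 [] 1 0 := .of (startD 0 1) (by decide +kernel)
theorem r432_4 : R9 F (g wAd) b432 [] 1 1 := .of (startD 0 1) (by decide +kernel)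
theorem r432_5 : R9 F (g wAd) b432 [] 1 2 := .of (startD 0 1) (by decide +kernel)
theorem r432_6 : R9 F (g wAd) b432 [] 2 0 := .of (startD 0 1) (by decide +kernel)
theorem r432_7 : R9 F (g wAd) b432 [] 2 1 := .of (startD 0 2) (by decide +kernel)
theorem r432_8 : R9 F (g wAd) b432 [] 2 2 := .of (startD 0 1) (by decide +kernel)
theorem g432 : Gd F (g wAd) (0, d432) [] :=
  good9 ok h432 r432_0 r432_1 r432_2 r432_3 r432_4 r432_5 r432_6 r432_7 r432_8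

def b433 : Wd := ⟨0, d433,
  [.z, .Z8, .Z6, .Z0, .X10, .X9, .X5, .X3, .X0, .y10, .y7, .y6, .y5, .y2, .hi, .p9, .hi, .p8, .hi, .p8, .hi, .p6,
   .xii, .p, .xii, .y3, .taui, .xii, .y1, .p, .xii, .p, .xii, .y6, .y10, .taui, .p2, .xii, .p7, .xii, .p, .y8, .hi,
   .p6, .tau, .xii, .p4, .xii, .p10, .y1, .hi, .p7, .tau, .xii, .y2, .p],
  [.Z9, .Z7, .Z6, .Z2, .Z1, .X10, .X9, .X8, .X4, .X2, .X0, .y10, .y9, .y8, .y7, .y3, .y2, .hi, .p10, .hi, .p6, .hi,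
   .p3, .hi, .p10, .hi, .p10, .xii, .hi, .xii, .p3, .hi, .p5, .taui, .xii, .p, .xii, .y3, .y10, .hi, .xii, .y1, .tau,
   .xii, .y1, .p7, .xii, .y10, .p9, .xii, .y1, .y2, .taui, .xii, .hi, .xii, .p5, .y4, .xii, .taui],
  [.Z10, .Z9, .Z7, .Z5, .Z1, .Z0, .X10, .X8, .X7, .X6, .X3, .X2, .X1, .y10, .y9, .y8, .y7, .y3, .y2, .hi, .p9, .hi,
   .p5, .hi, .p, .hi, .p3, .hi, .p2, .xii, .p10, .xii, .y8, .p3, .hi, .taui, .y1, .xii, .p10, .xii, .y4, .p10, .xii,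
   .y8, .tau, .xii, .p3, .xii, .p6, .y1, .xii, .y3, .y7, .y10, .hi, .tau, .xii, .p4, .xii, .y3, .y4, .p4, .xii, .taui,
   .xii, .y7, .p7]⟩

theorem h433 : Hd F (g wAd) b433 := hdD (by decide +kernel)
theorem r433_0 : R9 F (g wAd) b433 [] 0 0 := .of (startD 0 1) (by decide +kernel)
theorem r433_1 : R9 F (g wAd) b433 [] 0 1 := .of (startD 0 1) (by decide +kernel)
theorem r433_2 : R9 F (g wAd) b433 [] 0 2 := .of (startD 0 1) (by decide +kernel)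
theorem r433_3 : R9 F (g wAd) b433 [] 1 0 := .of (startD 0 1) (by decide +kernel)
theorem r433_4 : R9 F (g wAd) b433 [] 1 1 := .of (startD 0 1) (by decide +kernel)
theorem r433_5 : R9 F (g wAd) b433 [] 1 2 := .of (startD 0 1) (by decide +kernel)
theorem r433_6 : R9 F (g wAd) b433 [] 2 0 := .of (startD 0 1) (by decide +kernel)
theorem r433_7 : R9 F (g wAd) b433 [] 2 1 := .of (startD 0 1) (by decide +kernel)
theorem r433_8 : R9 F (g wAd) b433 [] 2 2 := .of (startD 0 1) (by decide +kernel)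
theorem g433 : Gd F (g wAd) (0, d433) [] :=
  good9 ok h433 r433_0 r433_1 r433_2 r433_3 r433_4 r433_5 r433_6 r433_7 r433_8

def b434 : Wd := ⟨0, d434,
  [.z, .Z10, .Z9, .Z8, .Z6, .Z5, .Z4, .Z3, .X9, .X8, .X7, .X6, .X5, .X0, .y10, .y9, .y7, .y6, .y5, .y3, .y1, .p5, .hi,
   .p8, .hi, .p6, .hi, .p9, .hi, .xii, .p, .xii, .p8, .y5, .xii, .y5, .tau, .y1, .xii, .p10, .xii, .y4, .p10, .xii,
   .y4, .y8, .tau, .X0, .p8, .xii, .p4, .xii, .y4, .y6, .taui, .xii, .p6, .xii, .y7, .p, .xii, .y7, .y10, .tau, .xii,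
   .p6],
  [.Z9, .Z7, .Z5, .Z4, .Z2, .Z1, .X8, .X6, .X4, .y9, .y8, .y7, .y6, .y2, .p2, .hi, .p10, .hi, .p9, .hi, .p8, .hi, .p4,
   .xii, .p10, .xii, .taui, .y1, .xii, .p10, .xii, .y5, .p10, .xii, .y8, .y10, .taui, .y1, .hi, .xii, .p5, .xii, .y8,
   .p5, .y1, .tau, .xii, .p5, .xii, .p5, .y1, .xii, .taui, .xii, .p2],
  [.Z9, .Z6, .Z2, .Z1, .Z0, .X10, .X9, .X6, .X2, .X1, .y10, .y9, .y8, .y7, .y6, .y5, .y3, .y2, .y1, .p9, .hi, .p4,
   .hi, .p3, .hi, .p5, .hi, .p, .hi, .xii, .p10, .xii, .y8, .p10, .xii, .y3, .y7, .tau, .xii, .y1, .p, .xii, .p, .xii,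
   .y3, .y8, .taui, .X0, .p7, .xii, .p7, .xii, .hi, .y5, .p8, .taui, .xii, .p7, .xii, .y1, .p8, .y1, .xii, .y4, .tau,
   .xii, .y6]⟩

theorem h434 : Hd F (g wAd) b434 := hdD (by decide +kernel)
theorem r434_0 : R9 F (g wAd) b434 [] 0 0 := .of (startD 0 1) (by decide +kernel)
theorem r434_1 : R9 F (g wAd) b434 [] 0 1 := .of (startD 0 1) (by decide +kernel)
theorem r434_2 : R9 F (g wAd) b434 [] 0 2 := .of (startD 0 1) (by decide +kernel)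
theorem r434_3 : R9 F (g wAd) b434 [] 1 0 := .of (startD 0 1) (by decide +kernel)
theorem r434_4 : R9 F (g wAd) b434 [] 1 1 := .of (startD 0 1) (by decide +kernel)
theorem r434_5 : R9 F (g wAd) b434 [] 1 2 := .of (startD 0 1) (by decide +kernel)
theorem r434_6 : R9 F (g wAd) b434 [] 2 0 := .of (startD 0 1) (by decide +kernel)
theorem r434_7 : R9 F (g wAd) b434 [] 2 1 := .of (startD 0 1) (by decide +kernel)
theorem r434_8 : R9 F (g wAd) b434 [] 2 2 := .of (startD 0 1) (by decide +kernel)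
theorem g434 : Gd F (g wAd) (0, d434) [] :=
  good9 ok h434 r434_0 r434_1 r434_2 r434_3 r434_4 r434_5 r434_6 r434_7 r434_8

def b435 : Wd := ⟨0, d435,
  [.Z10, .Z5, .Z3, .Z2, .Z0, .X10, .X7, .X6, .X4, .X3, .X2, .y9, .y8, .y7, .y6, .y3, .y2, .y1, .p2, .hi, .p7, .hi,
   .p3, .hi, .p3, .hi, .p, .hi, .xii, .p10, .xii, .y7, .p8, .xii, .y4, .tau, .y1, .xii, .y2, .hi, .xii, .y9, .p10,
   .xii, .y8, .taui, .y1, .xii, .p10, .xii, .y1, .p10, .xii, .y2, .y4, .tau, .X0, .y1, .p2, .xii, .hi, .xii, .y7,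
   .tau, .xii, .y2, .p5, .xii, .y7, .p9, .xii, .y9, .taui, .xii, .y7],
  [.z, .Z9, .Z7, .Z6, .Z5, .Z2, .X9, .X6, .X5, .X3, .X2, .X1, .X0, .y9, .y5, .y2, .p2, .hi, .p5, .hi, .p10, .hi, .p10,
   .hi, .p7, .xii, .y2, .hi, .p10, .taui, .xii, .y1, .p, .xii, .y4, .p, .xii, .y3, .taui, .X0, .xii, .y2, .p2, .xii,
   .y7, .p4, .xii, .y3, .y10, .taui, .xii, .p5, .xii, .p2, .xii, .y8, .tau],
  [.Z9, .Z6, .Z5, .Z2, .Z0, .X10, .X9, .X8, .X7, .X5, .X4, .X2, .X0, .y8, .y7, .y4, .y3, .y1, .p6, .hi, .p9, .hi, .p4,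
   .hi, .p, .hi, .p6, .hi, .p7, .hi, .xii, .y2, .p, .xii, .y3, .hi, .p8, .tau, .xii, .y1, .p, .xii, .y10, .p, .xii,
   .y5, .y10, .tau, .p7, .xii, .p5, .xii, .y8, .p5, .y6, .xii, .y7, .tau, .xii, .p9, .xii, .y7, .y8, .p6, .xii, .taui,
   .xii, .p10, .xii, .y4]⟩

theorem h435 : Hd F (g wAd) b435 := hdD (by decide +kernel)
theorem r435_0 : R9 F (g wAd) b435 [] 0 0 := .of (startD 0 1) (by decide +kernel)
theorem r435_1 : R9 F (g wAd) b435 [] 0 1 := .of (startD 0 1) (by decide +kernel)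
theorem r435_2 : R9 F (g wAd) b435 [] 0 2 := .of (startD 0 1) (by decide +kernel)
theorem r435_3 : R9 F (g wAd) b435 [] 1 0 := .of (startD 0 1) (by decide +kernel)
theorem r435_4 : R9 F (g wAd) b435 [] 1 1 := .of (startD 0 1) (by decide +kernel)
theorem r435_5 : R9 F (g wAd) b435 [] 1 2 := .of (startD 0 1) (by decide +kernel)
theorem r435_6 : R9 F (g wAd) b435 [] 2 0 := .of (startD 0 1) (by decide +kernel)
theorem r435_7 : R9 F (g wAd) b435 [] 2 1 := .of (startD 0 1) (by decide +kernel)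
theorem r435_8 : R9 F (g wAd) b435 [] 2 2 := .of (startD 0 2) (by decide +kernel)
theorem g435 : Gd F (g wAd) (0, d435) [] :=
  good9 ok h435 r435_0 r435_1 r435_2 r435_3 r435_4 r435_5 r435_6 r435_7 r435_8

def b436 : Wd := ⟨0, d436,
  [.Z10, .Z9, .Z8, .Z7, .Z6, .Z5, .Z4, .Z0, .X10, .X6, .X3, .y7, .y5, .y3, .y2, .y1, .p10, .hi, .p6, .hi, .p4, .hi,
   .p8, .hi, .p8, .hi, .p7, .hi, .xii, .p10, .xii, .y9, .p8, .xii, .taui, .xii, .p, .xii, .y4, .y10, .hi, .xii, .y6,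
   .taui, .X0, .p4, .xii, .y1, .p5, .hi, .xii, .y8, .p8, .tau, .xii, .p8, .xii, .y6, .p2, .y3, .xii, .y1, .tau, .xii,
   .y7, .p6, .xii],
  [.z, .Z10, .Z8, .Z7, .Z6, .Z4, .Z2, .Z0, .X10, .X7, .X5, .X4, .X2, .y10, .y8, .y5, .y4, .p8, .hi, .p10, .hi, .p3,
   .hi, .p7, .xii, .hi, .xii, .y8, .p6, .xii, .y3, .taui, .xii, .y6, .p, .xii, .p, .xii, .y1, .y10, .tau, .xii, .p5,
   .xii, .y1, .p, .xii, .y2, .y3, .y4, .taui, .xii, .p5, .xii, .y1, .y5, .p7, .xii, .tau, .xii],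
  [.z, .Z7, .Z3, .Z2, .Z1, .X10, .X7, .X6, .X5, .X1, .X0, .y3, .y2, .y1, .p9, .hi, .p10, .hi, .p5, .hi, .p4, .hi,
   .p10, .hi, .p5, .hi, .p2, .hi, .xii, .hi, .p8, .xii, .y4, .p2, .tau, .y1, .xii, .p10, .xii, .y8, .p10, .xii, .y4,
   .y10, .tau, .y1, .xii, .p6, .xii, .hi, .xii, .y10, .p2, .taui, .xii, .p9, .xii, .y2, .p9, .xii, .y4, .taui]⟩

theorem h436 : Hd F (g wAd) b436 := hdD (by decide +kernel)
theorem r436_0 : R9 F (g wAd) b436 [] 0 0 := .of (startD 0 1) (by decide +kernel)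
theorem r436_1 : R9 F (g wAd) b436 [] 0 1 := .of (startD 0 1) (by decide +kernel)
theorem r436_2 : R9 F (g wAd) b436 [] 0 2 := .of (startD 0 1) (by decide +kernel)
theorem r436_3 : R9 F (g wAd) b436 [] 1 0 := .of (startD 0 1) (by decide +kernel)
theorem r436_4 : R9 F (g wAd) b436 [] 1 1 := .of (startD 0 1) (by decide +kernel)
theorem r436_5 : R9 F (g wAd) b436 [] 1 2 := .of (startD 0 1) (by decide +kernel)
theorem r436_6 : R9 F (g wAd) b436 [] 2 0 := .of (startD 0 1) (by decide +kernel)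
theorem r436_7 : R9 F (g wAd) b436 [] 2 1 := .of (startD 0 1) (by decide +kernel)
theorem r436_8 : R9 F (g wAd) b436 [] 2 2 := .of (startD 0 1) (by decide +kernel)
theorem g436 : Gd F (g wAd) (0, d436) [] :=
  good9 ok h436 r436_0 r436_1 r436_2 r436_3 r436_4 r436_5 r436_6 r436_7 r436_8

def b437 : Wd := ⟨0, d437,
  [.Z9, .Z8, .Z7, .Z5, .Z4, .Z0, .X7, .X5, .X4, .X2, .X1, .y10, .y8, .y7, .y5, .y4, .y3, .y2, .p10, .hi, .p2, .hi,
   .p7, .hi, .p3, .hi, .p7, .hi, .p7, .hi, .xii, .p, .xii, .hi, .y7, .p4, .taui, .xii, .y1, .p, .xii, .p, .xii, .y1,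
   .y10, .tau, .y1, .p6, .xii, .p9, .xii, .y1, .y2, .y7, .tau, .xii, .p4, .xii, .hi, .p2, .y3, .tau, .xii, .y2, .p7],
  [.Z9, .Z6, .Z4, .Z2, .X8, .X5, .X3, .X2, .X0, .y10, .y8, .y6, .y5, .y4, .y2, .y1, .p7, .hi, .p6, .hi, .p10, .hi,
   .p3, .hi, .p10, .hi, .p7, .xii, .p, .xii, .p8, .y4, .xii, .y5, .taui, .xii, .y6, .p3, .hi, .xii, .p10, .y3, .taui,
   .p4, .xii, .p9, .xii, .p5, .y1, .tau, .xii, .p9, .xii, .y3, .p8, .xii, .y3, .tau],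
  [.z, .Z7, .Z6, .Z5, .Z1, .Z0, .X9, .X4, .X1, .y8, .y6, .y2, .p10, .hi, .p8, .hi, .p3, .hi, .p, .hi, .p6, .hi, .p8,
   .xii, .p, .xii, .y2, .y4, .hi, .p4, .taui, .xii, .p, .xii, .y1, .y6, .hi, .xii, .y7, .taui, .xii, .p, .xii, .y3,
   .hi, .xii, .y5, .taui, .X0, .p4, .xii, .p9, .xii, .y10, .tau, .xii, .p7, .xii, .y4, .p8, .y8, .taui, .xii, .p, .hi]⟩

theorem h437 : Hd F (g wAd) b437 := hdD (by decide +kernel)
theorem r437_0 : R9 F (g wAd) b437 [] 0 0 := .of (startD 0 1) (by decide +kernel)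
theorem r437_1 : R9 F (g wAd) b437 [] 0 1 := .of (startD 0 1) (by decide +kernel)
theorem r437_2 : R9 F (g wAd) b437 [] 0 2 := .of (startD 0 1) (by decide +kernel)
theorem r437_3 : R9 F (g wAd) b437 [] 1 0 := .of (startD 0 1) (by decide +kernel)
theorem r437_4 : R9 F (g wAd) b437 [] 1 1 := .of (startD 0 2) (by decide +kernel)
theorem r437_5 : R9 F (g wAd) b437 [] 1 2 := .of (startD 0 1) (by decide +kernel)
theorem r437_6 : R9 F (g wAd) b437 [] 2 0 := .of (startD 0 1) (by decide +kernel)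
theorem r437_7 : R9 F (g wAd) b437 [] 2 1 := .of (startD 0 1) (by decide +kernel)
theorem r437_8 : R9 F (g wAd) b437 [] 2 2 := .of (startD 0 1) (by decide +kernel)
theorem g437 : Gd F (g wAd) (0, d437) [] :=
  good9 ok h437 r437_0 r437_1 r437_2 r437_3 r437_4 r437_5 r437_6 r437_7 r437_8

def b438 : Wd := ⟨0, d438,
  [.Z9, .Z8, .Z6, .Z3, .Z2, .Z1, .X9, .X8, .X7, .X6, .X5, .X4, .X3, .X2, .X1, .y10, .y7, .y2, .p3, .hi, .p, .hi, .p7,
   .hi, .p, .hi, .p8, .hi, .p6, .xii, .y2, .hi, .p8, .xii, .y3, .p10, .tau, .xii, .p, .xii, .y1, .hi, .xii, .y4, .y5,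
   .tau, .X0, .y1, .xii, .p3, .xii, .y3, .p4, .xii, .y3, .p5, .taui, .xii, .p7, .xii, .y5, .y9, .y10, .p9, .xii, .y3,
   .taui, .xii, .y8, .p6, .xii, .y8],
  [.z, .Z7, .Z5, .Z1, .X10, .X9, .X5, .X4, .X3, .X2, .X1, .y10, .y7, .y6, .y5, .y4, .y3, .y2, .y1, .p6, .hi, .p7, .hi,
   .p, .hi, .p, .hi, .p2, .hi, .xii, .hi, .xii, .y8, .p6, .xii, .y7, .taui, .xii, .p, .xii, .y3, .hi, .xii, .y5, .y8,
   .taui, .X0, .p7, .xii, .p7, .xii, .hi, .y4, .p, .tau, .xii, .p9, .xii, .y8, .p9, .y4, .xii, .y10],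
  [.z, .Z10, .Z7, .Z3, .X9, .X6, .X1, .X0, .y10, .y9, .y8, .y7, .y5, .y3, .y2, .y1, .p9, .hi, .p3, .hi, .p9, .hi, .p7,
   .hi, .p6, .hi, .xii, .p10, .taui, .xii, .y6, .p, .xii, .p, .xii, .y4, .y5, .y8, .taui, .xii, .y6, .p9, .xii, .y10,
   .p3, .xii, .y7, .p, .tau, .xii, .y2, .hi, .p6, .xii, .y1, .y9, .p, .taui, .xii, .p]⟩

theorem h438 : Hd F (g wAd) b438 := hdD (by decide +kernel)
theorem r438_0 : R9 F (g wAd) b438 [] 0 0 := .of (startD 0 1) (by decide +kernel)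
theorem r438_1 : R9 F (g wAd) b438 [] 0 1 := .of (startD 0 1) (by decide +kernel)
theorem r438_2 : R9 F (g wAd) b438 [] 0 2 := .of (startD 0 1) (by decide +kernel)
theorem r438_3 : R9 F (g wAd) b438 [] 1 0 := .of (startD 0 1) (by decide +kernel)
theorem r438_4 : R9 F (g wAd) b438 [] 1 1 := .of (startD 0 1) (by decide +kernel)
theorem r438_5 : R9 F (g wAd) b438 [] 1 2 := .of (startD 0 1) (by decide +kernel)
theorem r438_6 : R9 F (g wAd) b438 [] 2 0 := .of (startD 0 1) (by decide +kernel)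
theorem r438_7 : R9 F (g wAd) b438 [] 2 1 := .of (startD 0 1) (by decide +kernel)
theorem r438_8 : R9 F (g wAd) b438 [] 2 2 := .of (startD 0 1) (by decide +kernel)
theorem g438 : Gd F (g wAd) (0, d438) [] :=
  good9 ok h438 r438_0 r438_1 r438_2 r438_3 r438_4 r438_5 r438_6 r438_7 r438_8

def b439 : Wd := ⟨0, d439,
  [.Z10, .Z9, .Z7, .Z6, .Z4, .Z1, .X9, .X7, .X6, .X3, .X2, .X1, .y10, .y9, .y6, .y5, .y4, .y2, .y1, .hi, .p9, .hi,
   .p7, .hi, .p10, .hi, .p5, .xii, .p, .xii, .y1, .y10, .hi, .p8, .tau, .y1, .xii, .y2, .hi, .xii, .p10, .xii, .y1,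
   .y7, .tau, .X0, .p10, .xii, .p3, .hi, .xii, .y4, .p6, .y7, .tau, .xii, .y2, .p8, .xii, .p2, .y8, .xii, .y10, .tau,
   .xii, .hi, .xii],
  [.Z9, .Z7, .Z4, .Z2, .Z1, .X10, .X9, .X8, .X5, .X3, .X0, .y7, .y6, .y5, .y1, .hi, .p2, .hi, .p7, .hi, .p7, .hi, .p4,
   .hi, .p5, .hi, .xii, .hi, .p8, .tau, .y1, .xii, .p10, .xii, .p10, .y7, .xii, .y8, .y10, .taui, .p10, .xii, .p9,
   .xii, .p, .y4, .hi, .tau, .xii, .p4, .xii, .y2, .p8, .xii, .taui, .xii, .p9],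
  [.Z10, .Z9, .Z6, .X4, .X3, .X1, .X0, .y8, .y5, .y4, .y3, .y2, .p2, .hi, .p10, .hi, .p6, .hi, .p3, .hi, .p5, .xii,
   .p, .xii, .y2, .hi, .xii, .y1, .y2, .taui, .y1, .xii, .y2, .hi, .xii, .p10, .xii, .taui, .p7, .xii, .y2, .hi, .xii,
   .y5, .p6, .tau, .xii, .p9, .xii, .y6, .p5, .xii, .y1, .y5, .taui, .xii, .y7, .p9]⟩

theorem h439 : Hd F (g wAd) b439 := hdD (by decide +kernel)
theorem r439_0 : R9 F (g wAd) b439 [] 0 0 := .of (startD 0 1) (by decide +kernel)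
theorem r439_1 : R9 F (g wAd) b439 [] 0 1 := .of (startD 0 1) (by decide +kernel)
theorem r439_2 : R9 F (g wAd) b439 [] 0 2 := .of (startD 0 1) (by decide +kernel)
theorem r439_3 : R9 F (g wAd) b439 [] 1 0 := .of (startD 0 1) (by decide +kernel)
theorem r439_4 : R9 F (g wAd) b439 [] 1 1 := .of (startD 0 1) (by decide +kernel)
theorem r439_5 : R9 F (g wAd) b439 [] 1 2 := .of (startD 0 1) (by decide +kernel)
theorem r439_6 : R9 F (g wAd) b439 [] 2 0 := .of (startD 0 1) (by decide +kernel)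
theorem r439_7 : R9 F (g wAd) b439 [] 2 1 := .of (startD 0 1) (by decide +kernel)
theorem r439_8 : R9 F (g wAd) b439 [] 2 2 := .of (startD 0 1) (by decide +kernel)
theorem g439 : Gd F (g wAd) (0, d439) [] :=
  good9 ok h439 r439_0 r439_1 r439_2 r439_3 r439_4 r439_5 r439_6 r439_7 r439_8

theorem all : AllG F (g wAd) LD43 :=
  .cons g430 (.cons g431 (.cons g432 (.cons g433 (.cons g434 (.cons g435 (.cons g436 (.cons g437 (.cons g438 (.cons g439 (.nil))))))))))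

end Cfsg.Agent.BX.No33.Bk.D43
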