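import Cfsg.Agent.BX.No33.Cheap
set_option linter.all false

/-!
# Tests, diagonal case, part 44 (helper5; generated)
-/

set_option autoImplicit false
set_option maxRecDepth 100000
set_option Elab.async false

namespace Cfsg.Agent.BX.No33.Bk.D44

open Cfsg.Agent.H819.U33 Cfsg.Agent.BX.No33.Front

def b440 : Wd := ⟨0, d440,
  [.z, .Z8, .Z6, .Z4, .Z2, .Z1, .X9, .X7, .X5, .X4, .X2, .X0, .y9, .y8, .y5, .y1, .p7, .hi, .p7, .hi, .p4, .hi, .p8,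
   .hi, .p9, .hi, .xii, .p, .xii, .y1, .y10, .hi, .xii, .y5, .taui, .y1, .xii, .y1, .hi, .xii, .p10, .xii, .y4, .y10,
   .taui, .p5, .xii, .y9, .p3, .xii, .p, .xii, .y7, .tau, .xii, .p8, .xii, .p5, .hi, .y5, .p, .tau, .xii, .y2, .p4,
   .hi, .p2],
  [.Z9, .Z8, .Z5, .Z4, .Z0, .X10, .X9, .X6, .X5, .X4, .X3, .X1, .X0, .y10, .y9, .y8, .y6, .y4, .y1, .p6, .hi, .p, .hi,
   .p3, .hi, .p, .hi, .p4, .hi, .p7, .hi, .xii, .tau, .y1, .xii, .p10, .xii, .y4, .p10, .xii, .y8, .y9, .taui, .X0,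
   .p8, .xii, .y9, .hi, .p8, .xii, .y2, .y7, .tau, .xii, .p7, .xii, .p9, .y1, .xii],
  [.z, .Z9, .Z7, .Z6, .Z2, .Z1, .Z0, .X10, .X9, .X2, .X1, .X0, .y9, .y7, .y1, .p2, .hi, .p, .hi, .p5, .hi, .p7, .hi,
   .p9, .hi, .p, .hi, .xii, .hi, .xii, .p10, .y9, .tau, .xii, .y2, .p, .xii, .y2, .hi, .xii, .y6, .taui, .X0, .y1,
   .xii, .p9, .xii, .y2, .p5, .y3, .xii, .y2, .y4, .tau, .xii, .p3, .xii, .hi, .p5, .hi, .y7, .tau, .xii, .p8]⟩

theorem h440 : Hd F (g wAd) b440 := hdD (by decide +kernel)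
theorem r440_0 : R9 F (g wAd) b440 [] 0 0 := .of (startD 0 1) (by decide +kernel)
theorem r440_1 : R9 F (g wAd) b440 [] 0 1 := .of (startD 0 1) (by decide +kernel)
theorem r440_2 : R9 F (g wAd) b440 [] 0 2 := .of (startD 0 1) (by decide +kernel)
theorem r440_3 : R9 F (g wAd) b440 [] 1 0 := .of (startD 0 1) (by decide +kernel)
theorem r440_4 : R9 F (g wAd) b440 [] 1 1 := .of (startD 0 1) (by decide +kernel)
theorem r440_5 : R9 F (g wAd) b440 [] 1 2 := .of (startD 0 1) (by decide +kernel)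
theorem r440_6 : R9 F (g wAd) b440 [] 2 0 := .of (startD 0 2) (by decide +kernel)
theorem r440_7 : R9 F (g wAd) b440 [] 2 1 := .of (startD 0 1) (by decide +kernel)
theorem r440_8 : R9 F (g wAd) b440 [] 2 2 := .of (startD 0 1) (by decide +kernel)
theorem g440 : Gd F (g wAd) (0, d440) [] :=
  good9 ok h440 r440_0 r440_1 r440_2 r440_3 r440_4 r440_5 r440_6 r440_7 r440_8

def b441 : Wd := ⟨0, d441,
  [.z, .Z10, .Z9, .Z6, .Z1, .Z0, .X8, .X4, .X1, .y8, .y4, .y1, .p9, .hi, .p9, .hi, .p7, .hi, .p7, .hi, .p5, .hi, .p10,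
   .hi, .xii, .p, .xii, .y10, .p7, .taui, .y1, .xii, .p10, .xii, .y4, .p10, .xii, .tau, .X0, .p7, .xii, .p9, .xii,
   .y3, .y5, .hi, .p8, .taui, .xii, .p9, .xii, .y6, .p, .y3, .hi, .taui, .xii, .p2, .hi, .p10],
  [.Z10, .Z8, .X10, .X6, .X4, .X1, .y9, .y6, .y5, .y1, .p10, .hi, .p6, .hi, .p9, .hi, .p, .hi, .p6, .xii, .y2, .p5,
   .hi, .p8, .hi, .tau, .xii, .p, .xii, .y1, .y6, .hi, .xii, .y5, .tau, .xii, .p7, .xii, .y7, .y10, .p9, .xii, .y1,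
   .y3, .taui, .xii, .p5, .xii, .y2, .y9, .p2, .xii, .y6, .tau],
  [.z, .Z10, .Z8, .Z4, .Z3, .Z2, .Z1, .X9, .X8, .X7, .X6, .X4, .X2, .X1, .X0, .y9, .y8, .y6, .y5, .p3, .hi, .p4, .hi,
   .p3, .hi, .p4, .hi, .p10, .hi, .xii, .p10, .xii, .taui, .xii, .y2, .p, .xii, .y1, .hi, .xii, .y3, .taui, .xii, .p4,
   .xii, .p8, .xii, .y10, .p9, .y3, .tau, .xii, .y2, .p5, .xii, .y7, .p5, .xii, .y1, .taui, .xii, .p10, .hi]⟩

theorem h441 : Hd F (g wAd) b441 := hdD (by decide +kernel)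
theorem r441_0 : R9 F (g wAd) b441 [] 0 0 := .of (startD 0 1) (by decide +kernel)
theorem r441_1 : R9 F (g wAd) b441 [] 0 1 := .of (startD 0 1) (by decide +kernel)
theorem r441_2 : R9 F (g wAd) b441 [] 0 2 := .of (startD 0 1) (by decide +kernel)
theorem r441_3 : R9 F (g wAd) b441 [] 1 0 := .of (startD 0 2) (by decide +kernel)
theorem r441_4 : R9 F (g wAd) b441 [] 1 1 := .of (startD 0 2) (by decide +kernel)
theorem r441_5 : R9 F (g wAd) b441 [] 1 2 := .of (startD 0 1) (by decide +kernel)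
theorem r441_6 : R9 F (g wAd) b441 [] 2 0 := .of (startD 0 1) (by decide +kernel)
theorem r441_7 : R9 F (g wAd) b441 [] 2 1 := .of (startD 0 1) (by decide +kernel)
theorem r441_8 : R9 F (g wAd) b441 [] 2 2 := .of (startD 0 1) (by decide +kernel)
theorem g441 : Gd F (g wAd) (0, d441) [] :=
  good9 ok h441 r441_0 r441_1 r441_2 r441_3 r441_4 r441_5 r441_6 r441_7 r441_8

def b442 : Wd := ⟨0, d442,
  [.z, .Z7, .Z6, .Z3, .Z2, .X10, .X9, .X7, .X6, .X5, .X4, .X2, .X1, .y6, .y5, .y3, .y1, .hi, .p10, .hi, .p9, .hi,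
   .p10, .hi, .p3, .hi, .p4, .hi, .p10, .hi, .xii, .y2, .p3, .hi, .tau, .xii, .y6, .p, .xii, .y10, .p, .xii, .y1, .y4,
   .tau, .xii, .y2, .p, .xii, .y1, .hi, .xii, .y1, .tau, .p10, .xii, .p8, .xii, .taui, .xii, .p4, .xii, .p5, .y8,
   .xii, .y6, .taui, .xii, .y6, .hi],
  [.z, .Z10, .Z7, .Z5, .Z4, .Z3, .Z1, .Z0, .X10, .X8, .X7, .X6, .X2, .X1, .y10, .y9, .y8, .y4, .y2, .p10, .hi, .p8,
   .hi, .p3, .hi, .p, .xii, .p3, .hi, .xii, .y3, .y5, .tau, .xii, .y1, .p, .xii, .y2, .p, .xii, .y1, .taui, .X0, .p4,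
   .xii, .p9, .xii, .y8, .hi, .p7, .y1, .tau, .xii, .p7, .xii, .p8, .y1, .xii, .y4, .taui, .xii, .p2, .hi],
  [.Z9, .Z7, .X10, .X9, .X7, .X5, .X1, .X0, .y8, .y3, .y2, .p2, .hi, .p3, .hi, .p7, .hi, .p3, .hi, .p5, .xii, .p,
   .xii, .y3, .tau, .xii, .y1, .p, .xii, .y4, .p, .xii, .y6, .y10, .taui, .p9, .xii, .y10, .p2, .xii, .y6, .p3, .hi,
   .taui, .xii, .p4, .xii, .p10, .y1, .hi, .p, .taui, .xii, .p, .hi, .p4]⟩

theorem h442 : Hd F (g wAd) b442 := hdD (by decide +kernel)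
theorem r442_0 : R9 F (g wAd) b442 [] 0 0 := .of (startD 0 1) (by decide +kernel)
theorem r442_1 : R9 F (g wAd) b442 [] 0 1 := .of (startD 0 1) (by decide +kernel)
theorem r442_2 : R9 F (g wAd) b442 [] 0 2 := .of (startD 0 1) (by decide +kernel)
theorem r442_3 : R9 F (g wAd) b442 [] 1 0 := .of (startD 0 1) (by decide +kernel)
theorem r442_4 : R9 F (g wAd) b442 [] 1 1 := .of (startD 0 2) (by decide +kernel)
theorem r442_5 : R9 F (g wAd) b442 [] 1 2 := .of (startD 0 1) (by decide +kernel)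
theorem r442_6 : R9 F (g wAd) b442 [] 2 0 := .of (startD 0 1) (by decide +kernel)
theorem r442_7 : R9 F (g wAd) b442 [] 2 1 := .of (startD 0 1) (by decide +kernel)
theorem r442_8 : R9 F (g wAd) b442 [] 2 2 := .of (startD 0 1) (by decide +kernel)
theorem g442 : Gd F (g wAd) (0, d442) [] :=
  good9 ok h442 r442_0 r442_1 r442_2 r442_3 r442_4 r442_5 r442_6 r442_7 r442_8

def b443 : Wd := ⟨0, d443,
  [.Z7, .Z6, .Z4, .Z1, .X9, .X7, .X2, .X1, .X0, .y10, .y6, .p3, .hi, .p3, .hi, .p9, .hi, .p6, .hi, .p8, .hi, .p2, .hi,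
   .xii, .y2, .p, .hi, .xii, .y5, .p3, .tau, .y1, .xii, .p10, .xii, .y1, .y9, .p10, .xii, .y2, .y4, .tau, .X0, .y1,
   .p5, .xii, .p10, .xii, .y8, .p7, .taui, .xii, .p4, .xii, .y3, .p8, .xii, .y4, .tau, .xii, .y4, .p4],
  [.Z10, .Z9, .Z8, .Z7, .Z6, .Z1, .X8, .X7, .X6, .X5, .X3, .X2, .X0, .y10, .y6, .y5, .y4, .y2, .p7, .hi, .p8, .hi,
   .p8, .hi, .p7, .hi, .p2, .hi, .xii, .hi, .p8, .xii, .y10, .taui, .xii, .p, .xii, .hi, .y8, .xii, .y7, .y8, .taui,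
   .X0, .p8, .xii, .p3, .y8, .xii, .y5, .p5, .taui, .xii, .p6, .xii, .p2, .xii, .y6, .taui],
  [.z, .Z9, .Z8, .Z7, .Z2, .Z0, .X7, .X6, .X5, .X1, .y10, .y9, .y8, .y6, .y4, .y3, .p2, .hi, .p4, .hi, .p3, .hi, .p4,
   .hi, .p3, .hi, .p9, .xii, .y2, .p3, .hi, .xii, .taui, .y1, .xii, .y6, .p10, .xii, .y8, .p10, .xii, .y4, .y8, .taui,
   .xii, .y1, .p3, .xii, .y4, .p9, .xii, .y2, .tau, .xii, .p4, .xii, .p8, .y2, .xii, .y9, .taui, .xii, .hi, .p]⟩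

theorem h443 : Hd F (g wAd) b443 := hdD (by decide +kernel)
theorem r443_0 : R9 F (g wAd) b443 [] 0 0 := .of (startD 0 1) (by decide +kernel)
theorem r443_1 : R9 F (g wAd) b443 [] 0 1 := .of (startD 0 1) (by decide +kernel)
theorem r443_2 : R9 F (g wAd) b443 [] 0 2 := .of (startD 0 1) (by decide +kernel)
theorem r443_3 : R9 F (g wAd) b443 [] 1 0 := .of (startD 0 1) (by decide +kernel)
theorem r443_4 : R9 F (g wAd) b443 [] 1 1 := .of (startD 0 1) (by decide +kernel)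
theorem r443_5 : R9 F (g wAd) b443 [] 1 2 := .of (startD 0 1) (by decide +kernel)
theorem r443_6 : R9 F (g wAd) b443 [] 2 0 := .of (startD 0 1) (by decide +kernel)
theorem r443_7 : R9 F (g wAd) b443 [] 2 1 := .of (startD 0 1) (by decide +kernel)
theorem r443_8 : R9 F (g wAd) b443 [] 2 2 := .of (startD 0 1) (by decide +kernel)
theorem g443 : Gd F (g wAd) (0, d443) [] :=
  good9 ok h443 r443_0 r443_1 r443_2 r443_3 r443_4 r443_5 r443_6 r443_7 r443_8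

def b444 : Wd := ⟨0, d444,
  [.Z9, .Z6, .Z5, .Z4, .Z3, .Z1, .X10, .X7, .X6, .X5, .X4, .X2, .y9, .y7, .y4, .hi, .p7, .hi, .p, .hi, .p7, .hi, .p,
   .hi, .p8, .hi, .p9, .hi, .xii, .p, .xii, .y1, .y2, .tau, .y1, .xii, .p10, .xii, .y4, .p10, .xii, .y2, .taui, .p2,
   .xii, .p5, .xii, .hi, .y4, .p10, .y8, .tau, .xii, .p3, .xii, .y4, .p10, .xii, .taui, .xii, .p10, .xii, .y8],
  [.z, .Z9, .Z7, .Z5, .Z4, .Z3, .Z2, .X7, .X4, .X2, .X1, .y10, .y7, .y4, .y2, .y1, .p10, .hi, .p3, .hi, .p10, .hi,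
   .p3, .hi, .p3, .xii, .taui, .xii, .y1, .p, .xii, .y2, .p, .xii, .y3, .y10, .taui, .X0, .p8, .xii, .hi, .y10, .p7,
   .xii, .y5, .p3, .taui, .xii, .p4, .xii, .y1, .y10, .p9, .tau, .xii, .y2, .p2, .hi],
  [.Z9, .Z8, .Z7, .Z6, .Z3, .Z2, .Z0, .X7, .X6, .X4, .X3, .X2, .y10, .y9, .y8, .y6, .y4, .y3, .y2, .y1, .hi, .p9, .hi,
   .p4, .hi, .p7, .hi, .p9, .hi, .p4, .hi, .p4, .hi, .xii, .p10, .xii, .y6, .p2, .xii, .y1, .taui, .xii, .p, .xii,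
   .y1, .y10, .hi, .xii, .y3, .y9, .taui, .xii, .p7, .xii, .p5, .y7, .y10, .xii, .y10, .p6, .taui, .xii, .p4, .xii,
   .y2, .y10, .p8, .xii, .y5, .tau, .xii, .hi, .p2]⟩

theorem h444 : Hd F (g wAd) b444 := hdD (by decide +kernel)
theorem r444_0 : R9 F (g wAd) b444 [] 0 0 := .of (startD 0 1) (by decide +kernel)
theorem r444_1 : R9 F (g wAd) b444 [] 0 1 := .of (startD 0 1) (by decide +kernel)
theorem r444_2 : R9 F (g wAd) b444 [] 0 2 := .of (startD 0 1) (by decide +kernel)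
theorem r444_3 : R9 F (g wAd) b444 [] 1 0 := .of (startD 0 1) (by decide +kernel)
theorem r444_4 : R9 F (g wAd) b444 [] 1 1 := .of (startD 0 1) (by decide +kernel)
theorem r444_5 : R9 F (g wAd) b444 [] 1 2 := .of (startD 0 1) (by decide +kernel)
theorem r444_6 : R9 F (g wAd) b444 [] 2 0 := .of (startD 0 1) (by decide +kernel)
theorem r444_7 : R9 F (g wAd) b444 [] 2 1 := .of (startD 0 1) (by decide +kernel)
theorem r444_8 : R9 F (g wAd) b444 [] 2 2 := .of (startD 0 1) (by decide +kernel)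
theorem g444 : Gd F (g wAd) (0, d444) [] :=
  good9 ok h444 r444_0 r444_1 r444_2 r444_3 r444_4 r444_5 r444_6 r444_7 r444_8

def b445 : Wd := ⟨0, d445,
  [.Z10, .Z7, .Z6, .Z3, .Z1, .X10, .X6, .X5, .X4, .X3, .y6, .y5, .y3, .y2, .hi, .p6, .hi, .p10, .hi, .p4, .hi, .p10,
   .hi, .p6, .hi, .p, .xii, .hi, .xii, .y8, .p2, .xii, .y1, .y8, .tau, .y1, .xii, .p10, .xii, .y4, .p10, .xii, .y2,
   .y8, .tau, .X0, .y1, .hi, .xii, .hi, .p5, .xii, .y1, .hi, .taui, .xii, .p9, .xii, .y4, .y6, .p6, .xii, .tau, .xii,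
   .y8, .p8],
  [.z, .Z10, .Z9, .Z8, .Z6, .Z5, .Z4, .Z3, .Z0, .X10, .X8, .X6, .X5, .X3, .X1, .y10, .y9, .y7, .y2, .y1, .p2, .hi,
   .p5, .hi, .p4, .hi, .p, .hi, .p3, .hi, .taui, .xii, .y1, .p, .xii, .y10, .p, .xii, .y6, .taui, .y1, .p10, .xii,
   .p8, .xii, .y9, .p5, .hi, .p6, .tau, .xii, .p4, .xii, .y3, .y5, .p3, .hi, .p3, .taui, .xii, .y2, .p2, .hi],
  [.Z9, .Z8, .Z6, .Z5, .Z4, .Z1, .X10, .X9, .X7, .X6, .X5, .X2, .y10, .y9, .y8, .y7, .y5, .y4, .y1, .hi, .p9, .hi,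
   .p10, .hi, .p2, .hi, .p6, .hi, .xii, .p3, .hi, .xii, .y1, .y8, .p6, .taui, .xii, .y6, .p, .xii, .p, .xii, .y5, .y8,
   .y10, .tau, .X0, .xii, .y6, .p9, .xii, .y1, .p3, .xii, .y5, .tau, .xii, .p2, .xii, .y1, .p2, .xii, .y1, .taui,
   .xii, .p10, .xii, .y6]⟩

theorem h445 : Hd F (g wAd) b445 := hdD (by decide +kernel)
theorem r445_0 : R9 F (g wAd) b445 [] 0 0 := .of (startD 0 1) (by decide +kernel)
theorem r445_1 : R9 F (g wAd) b445 [] 0 1 := .of (startD 0 1) (by decide +kernel)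
theorem r445_2 : R9 F (g wAd) b445 [] 0 2 := .of (startD 0 1) (by decide +kernel)
theorem r445_3 : R9 F (g wAd) b445 [] 1 0 := .of (startD 0 1) (by decide +kernel)
theorem r445_4 : R9 F (g wAd) b445 [] 1 1 := .of (startD 0 1) (by decide +kernel)
theorem r445_5 : R9 F (g wAd) b445 [] 1 2 := .of (startD 0 1) (by decide +kernel)
theorem r445_6 : R9 F (g wAd) b445 [] 2 0 := .of (startD 0 1) (by decide +kernel)
theorem r445_7 : R9 F (g wAd) b445 [] 2 1 := .of (startD 0 1) (by decide +kernel)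
theorem r445_8 : R9 F (g wAd) b445 [] 2 2 := .of (startD 0 1) (by decide +kernel)
theorem g445 : Gd F (g wAd) (0, d445) [] :=
  good9 ok h445 r445_0 r445_1 r445_2 r445_3 r445_4 r445_5 r445_6 r445_7 r445_8

def b446 : Wd := ⟨0, d446,
  [.z, .Z10, .Z9, .Z6, .Z5, .Z4, .Z2, .Z1, .Z0, .X10, .X8, .X7, .X6, .X5, .X4, .X1, .y10, .y9, .y8, .y2, .hi, .p9,
   .hi, .p9, .hi, .p3, .hi, .p6, .hi, .p, .xii, .y2, .hi, .xii, .p5, .xii, .y8, .taui, .X0, .p8, .xii, .hi, .y7, .p8,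
   .xii, .p9, .y4, .taui, .xii, .p2, .xii, .p5, .hi, .xii, .tau, .xii, .y2, .p6],
  [.Z9, .Z8, .Z7, .Z6, .Z3, .Z1, .X9, .X8, .X7, .X6, .X3, .X0, .y10, .y9, .y6, .y2, .p2, .hi, .p7, .hi, .p5, .hi, .p6,
   .xii, .y2, .p10, .taui, .y1, .xii, .p10, .xii, .y1, .y7, .p10, .xii, .y8, .tau, .X0, .p2, .xii, .hi, .p8, .xii,
   .y6, .p2, .taui, .xii, .p5, .xii, .y5, .p8, .y10, .xii, .y2, .taui, .xii, .hi, .p6],
  [.Z10, .Z8, .Z7, .Z6, .Z5, .Z4, .Z3, .Z1, .Z0, .X10, .X9, .X4, .X2, .y10, .y9, .y5, .y3, .y2, .y1, .p8, .hi, .p,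
   .hi, .p4, .hi, .p10, .hi, .p4, .hi, .p3, .xii, .hi, .p8, .xii, .y4, .p10, .taui, .xii, .p, .xii, .y1, .hi, .xii,
   .y6, .y10, .tau, .xii, .y1, .p9, .xii, .p3, .xii, .p6, .tau, .xii, .p7, .xii, .y9, .p, .y5, .hi, .taui, .xii, .p,
   .hi, .p4]⟩

theorem h446 : Hd F (g wAd) b446 := hdD (by decide +kernel)
theorem r446_0 : R9 F (g wAd) b446 [] 0 0 := .of (startD 0 2) (by decide +kernel)
theorem r446_1 : R9 F (g wAd) b446 [] 0 1 := .of (startD 0 1) (by decide +kernel)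
theorem r446_2 : R9 F (g wAd) b446 [] 0 2 := .of (startD 0 1) (by decide +kernel)
theorem r446_3 : R9 F (g wAd) b446 [] 1 0 := .of (startD 0 1) (by decide +kernel)
theorem r446_4 : R9 F (g wAd) b446 [] 1 1 := .of (startD 0 1) (by decide +kernel)
theorem r446_5 : R9 F (g wAd) b446 [] 1 2 := .of (startD 0 1) (by decide +kernel)
theorem r446_6 : R9 F (g wAd) b446 [] 2 0 := .of (startD 0 1) (by decide +kernel)
theorem r446_7 : R9 F (g wAd) b446 [] 2 1 := .of (startD 0 2) (by decide +kernel)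
theorem r446_8 : R9 F (g wAd) b446 [] 2 2 := .of (startD 0 1) (by decide +kernel)
theorem g446 : Gd F (g wAd) (0, d446) [] :=
  good9 ok h446 r446_0 r446_1 r446_2 r446_3 r446_4 r446_5 r446_6 r446_7 r446_8

def b447 : Wd := ⟨0, d447,
  [.Z10, .Z9, .Z7, .Z6, .Z5, .Z4, .Z3, .Z1, .Z0, .X10, .X8, .X6, .X4, .X3, .X1, .y5, .y4, .y1, .p9, .hi, .p9, .hi, .p,
   .hi, .p3, .hi, .p3, .hi, .p6, .xii, .p10, .taui, .y1, .xii, .p10, .xii, .y4, .p10, .xii, .y4, .y9, .taui, .X0, .p9,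
   .xii, .hi, .p8, .xii, .hi, .p10, .taui, .xii, .y2, .p3, .xii, .p10, .xii, .y6, .tau],
  [.Z10, .Z8, .Z7, .Z6, .Z4, .Z3, .Z1, .Z0, .X10, .X8, .X5, .X4, .X0, .y10, .y7, .y6, .y5, .y4, .y3, .y2, .y1, .p6,
   .hi, .p3, .hi, .p7, .hi, .p3, .hi, .p3, .hi, .p10, .xii, .p, .xii, .y2, .p4, .tau, .xii, .y6, .p, .xii, .y2, .p,
   .xii, .y4, .y5, .taui, .y1, .hi, .xii, .p10, .xii, .y1, .p3, .tau, .xii, .p6, .xii, .y4, .y7, .hi, .p, .tau, .xii,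
   .hi],
  [.z, .Z10, .Z9, .Z8, .Z5, .Z2, .Z1, .X9, .X3, .X1, .y8, .y6, .y5, .y3, .y1, .p2, .hi, .p3, .hi, .p9, .hi, .p7, .hi,
   .p9, .hi, .p9, .xii, .p10, .hi, .p6, .hi, .p2, .tau, .xii, .p, .xii, .y1, .y6, .hi, .xii, .y4, .y5, .taui, .xii,
   .y1, .p10, .xii, .y4, .p2, .xii, .y8, .taui, .xii, .p7, .xii, .p9, .y4, .tau, .xii, .y2, .p3, .hi, .p2]⟩

theorem h447 : Hd F (g wAd) b447 := hdD (by decide +kernel)
theorem r447_0 : R9 F (g wAd) b447 [] 0 0 := .of (startD 0 1) (by decide +kernel)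
theorem r447_1 : R9 F (g wAd) b447 [] 0 1 := .of (startD 0 1) (by decide +kernel)
theorem r447_2 : R9 F (g wAd) b447 [] 0 2 := .of (startD 0 1) (by decide +kernel)
theorem r447_3 : R9 F (g wAd) b447 [] 1 0 := .of (startD 0 1) (by decide +kernel)
theorem r447_4 : R9 F (g wAd) b447 [] 1 1 := .of (startD 0 2) (by decide +kernel)
theorem r447_5 : R9 F (g wAd) b447 [] 1 2 := .of (startD 0 1) (by decide +kernel)
theorem r447_6 : R9 F (g wAd) b447 [] 2 0 := .of (startD 0 1) (by decide +kernel)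
theorem r447_7 : R9 F (g wAd) b447 [] 2 1 := .of (startD 0 1) (by decide +kernel)
theorem r447_8 : R9 F (g wAd) b447 [] 2 2 := .of (startD 0 1) (by decide +kernel)
theorem g447 : Gd F (g wAd) (0, d447) [] :=
  good9 ok h447 r447_0 r447_1 r447_2 r447_3 r447_4 r447_5 r447_6 r447_7 r447_8

def b448 : Wd := ⟨0, d448,
  [.Z9, .Z7, .Z1, .Z0, .X10, .X9, .X8, .X7, .y8, .y7, .y4, .y3, .y1, .hi, .p9, .hi, .p5, .hi, .p5, .hi, .p4, .hi, .p5,
   .hi, .xii, .p, .xii, .y3, .taui, .xii, .y6, .p, .xii, .y10, .p, .xii, .y7, .y10, .taui, .xii, .y2, .p6, .xii, .p5,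
   .xii, .y1, .p2, .taui, .xii, .p7, .xii, .y1, .y9, .p7, .xii, .y10, .taui, .xii, .p2],
  [.z, .Z10, .Z9, .Z8, .Z6, .Z5, .Z4, .Z2, .Z0, .X9, .X8, .X4, .X2, .X0, .y10, .y7, .y3, .y2, .y1, .p3, .hi, .p3, .hi,
   .p6, .hi, .p6, .hi, .p5, .hi, .xii, .p, .xii, .y4, .p4, .tau, .xii, .y1, .p, .xii, .p, .y7, .xii, .y4, .y7, .taui,
   .xii, .p7, .xii, .y4, .p5, .xii, .y1, .y2, .y7, .taui, .xii, .p4, .xii, .p9, .y1],
  [.z, .Z9, .Z5, .Z4, .Z3, .Z2, .Z0, .X10, .X6, .X4, .y10, .y7, .y4, .y3, .y2, .p4, .hi, .p8, .hi, .p3, .hi, .p3, .hi,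
   .p4, .xii, .y2, .p10, .xii, .y9, .p5, .xii, .y9, .tau, .xii, .p, .xii, .hi, .y8, .xii, .y2, .y7, .y10, .taui, .xii,
   .y6, .p, .xii, .p, .xii, .y1, .y2, .y10, .tau, .p8, .xii, .y8, .p, .xii, .taui, .xii, .p7, .xii, .p5, .y10, .xii,
   .y4, .tau, .xii, .p3]⟩

theorem h448 : Hd F (g wAd) b448 := hdD (by decide +kernel)
theorem r448_0 : R9 F (g wAd) b448 [] 0 0 := .of (startD 0 1) (by decide +kernel)
theorem r448_1 : R9 F (g wAd) b448 [] 0 1 := .of (startD 0 1) (by decide +kernel)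
theorem r448_2 : R9 F (g wAd) b448 [] 0 2 := .of (startD 0 1) (by decide +kernel)
theorem r448_3 : R9 F (g wAd) b448 [] 1 0 := .of (startD 0 1) (by decide +kernel)
theorem r448_4 : R9 F (g wAd) b448 [] 1 1 := .of (startD 0 2) (by decide +kernel)
theorem r448_5 : R9 F (g wAd) b448 [] 1 2 := .of (startD 0 1) (by decide +kernel)
theorem r448_6 : R9 F (g wAd) b448 [] 2 0 := .of (startD 0 1) (by decide +kernel)
theorem r448_7 : R9 F (g wAd) b448 [] 2 1 := .of (startD 0 1) (by decide +kernel)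
theorem r448_8 : R9 F (g wAd) b448 [] 2 2 := .of (startD 0 1) (by decide +kernel)
theorem g448 : Gd F (g wAd) (0, d448) [] :=
  good9 ok h448 r448_0 r448_1 r448_2 r448_3 r448_4 r448_5 r448_6 r448_7 r448_8

def b449 : Wd := ⟨0, d449,
  [.z, .Z10, .Z9, .Z8, .Z6, .Z5, .Z4, .Z1, .X8, .X6, .X3, .X0, .y9, .y8, .y6, .y5, .y4, .y2, .p4, .hi, .p10, .hi,
   .p10, .hi, .p4, .hi, .p, .hi, .p4, .xii, .y2, .p, .xii, .p2, .hi, .taui, .xii, .p, .xii, .y1, .hi, .xii, .y1, .y2,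
   .tau, .p10, .xii, .p9, .xii, .y2, .y9, .y10, .taui, .xii, .p8, .xii, .p4, .xii, .y3, .y7, .tau, .xii, .hi, .xii,
   .y8],
  [.Z7, .Z4, .Z1, .Z0, .X9, .X8, .X1, .X0, .y10, .y8, .y6, .y5, .y3, .y2, .y1, .hi, .p, .hi, .p3, .hi, .p7, .hi, .p5,
   .hi, .p8, .hi, .xii, .y2, .hi, .xii, .p9, .xii, .y1, .y9, .taui, .xii, .y1, .hi, .p8, .xii, .y3, .p10, .taui, .X0,
   .p6, .xii, .p5, .xii, .y4, .p8, .y10, .tau, .xii, .y2, .p3, .hi, .xii, .y6, .p],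
  [.z, .Z10, .Z9, .Z5, .Z3, .Z1, .Z0, .X9, .X2, .X1, .y8, .y7, .y4, .y1, .p8, .hi, .p7, .hi, .p4, .hi, .p3, .hi, .p7,
   .hi, .p2, .hi, .xii, .p10, .xii, .y4, .p6, .xii, .y4, .y7, .tau, .xii, .p, .xii, .y4, .hi, .xii, .y1, .tau, .xii,
   .y2, .p, .xii, .y1, .hi, .xii, .y7, .taui, .y1, .p5, .xii, .y8, .p6, .xii, .taui, .xii, .p, .xii, .hi, .p7]⟩

theorem h449 : Hd F (g wAd) b449 := hdD (by decide +kernel)
theorem r449_0 : R9 F (g wAd) b449 [] 0 0 := .of (startD 0 1) (by decide +kernel)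
theorem r449_1 : R9 F (g wAd) b449 [] 0 1 := .of (startD 0 2) (by decide +kernel)
theorem r449_2 : R9 F (g wAd) b449 [] 0 2 := .of (startD 0 1) (by decide +kernel)
theorem r449_3 : R9 F (g wAd) b449 [] 1 0 := .of (startD 0 2) (by decide +kernel)
theorem r449_4 : R9 F (g wAd) b449 [] 1 1 := .of (startD 0 1) (by decide +kernel)
theorem r449_5 : R9 F (g wAd) b449 [] 1 2 := .of (startD 0 1) (by decide +kernel)
theorem r449_6 : R9 F (g wAd) b449 [] 2 0 := .of (startD 0 1) (by decide +kernel)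
theorem r449_7 : R9 F (g wAd) b449 [] 2 1 := .of (startD 0 1) (by decide +kernel)
theorem r449_8 : R9 F (g wAd) b449 [] 2 2 := .of (startD 0 1) (by decide +kernel)
theorem g449 : Gd F (g wAd) (0, d449) [] :=
  good9 ok h449 r449_0 r449_1 r449_2 r449_3 r449_4 r449_5 r449_6 r449_7 r449_8

theorem all : AllG F (g wAd) LD44 :=
  .cons g440 (.cons g441 (.cons g442 (.cons g443 (.cons g444 (.cons g445 (.cons g446 (.cons g447 (.cons g448 (.cons g449 (.nil))))))))))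

end Cfsg.Agent.BX.No33.Bk.D44
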