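import Cfsg.Agent.BX.No33.Cheap
set_option linter.all false

/-!
# Tests, diagonal case, part 45 (helper5; generated)
-/

set_option autoImplicit false
set_option maxRecDepth 100000
set_option Elab.async false

namespace Cfsg.Agent.BX.No33.Bk.D45

open Cfsg.Agent.H819.U33 Cfsg.Agent.BX.No33.Front

def b450 : Wd := ⟨0, d450,
  [.Z6, .Z5, .Z4, .Z1, .X10, .X9, .X8, .X7, .X6, .X4, .y9, .y8, .y6, .y4, .hi, .p9, .hi, .p8, .hi, .p5, .hi, .p7, .hi,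
   .p5, .hi, .xii, .p, .xii, .p, .xii, .y6, .y8, .taui, .xii, .p, .xii, .y4, .hi, .xii, .y4, .y5, .y9, .taui, .xii,
   .y2, .p, .xii, .y4, .hi, .xii, .y7, .y10, .taui, .X0, .p9, .xii, .y7, .p10, .xii, .y9, .tau, .xii, .y2, .p9, .xii,
   .y1, .p3, .taui, .xii, .y2, .hi, .p6],
  [.z, .Z6, .Z2, .X10, .X9, .X7, .X5, .X4, .X3, .X2, .y9, .y8, .y7, .y6, .y4, .y2, .p6, .hi, .p6, .hi, .p5, .hi, .p,
   .hi, .p4, .hi, .xii, .hi, .xii, .p8, .y2, .taui, .xii, .p, .xii, .y1, .hi, .xii, .y5, .taui, .X0, .p8, .xii, .y7,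
   .p4, .xii, .y8, .p8, .tau, .xii, .y2, .p7, .xii, .p3, .xii, .y2, .y3],
  [.Z10, .Z7, .Z6, .X10, .X9, .X6, .X3, .X0, .y10, .y9, .y7, .y5, .y4, .y2, .y1, .hi, .p10, .hi, .p5, .hi, .p5, .hi,
   .p, .hi, .p4, .hi, .p6, .hi, .xii, .p10, .xii, .y5, .p10, .xii, .y2, .y8, .taui, .xii, .y1, .p, .xii, .y4, .p,
   .xii, .y5, .y10, .tau, .X0, .xii, .p4, .xii, .y1, .p4, .xii, .y3, .y4, .y9, .tau, .xii, .p5, .xii, .y1, .p, .hi,
   .tau, .xii, .y2, .p8]⟩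

theorem h450 : Hd F (g wAd) b450 := hdD (by decide +kernel)
theorem r450_0 : R9 F (g wAd) b450 [] 0 0 := .of (startD 0 1) (by decide +kernel)
theorem r450_1 : R9 F (g wAd) b450 [] 0 1 := .of (startD 0 1) (by decide +kernel)
theorem r450_2 : R9 F (g wAd) b450 [] 0 2 := .of (startD 0 1) (by decide +kernel)
theorem r450_3 : R9 F (g wAd) b450 [] 1 0 := .of (startD 0 1) (by decide +kernel)
theorem r450_4 : R9 F (g wAd) b450 [] 1 1 := .of (startD 0 1) (by decide +kernel)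
theorem r450_5 : R9 F (g wAd) b450 [] 1 2 := .of (startD 0 1) (by decide +kernel)
theorem r450_6 : R9 F (g wAd) b450 [] 2 0 := .of (startD 0 1) (by decide +kernel)
theorem r450_7 : R9 F (g wAd) b450 [] 2 1 := .of (startD 0 1) (by decide +kernel)
theorem r450_8 : R9 F (g wAd) b450 [] 2 2 := .of (startD 0 1) (by decide +kernel)
theorem g450 : Gd F (g wAd) (0, d450) [] :=
  good9 ok h450 r450_0 r450_1 r450_2 r450_3 r450_4 r450_5 r450_6 r450_7 r450_8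

def b451 : Wd := ⟨0, d451,
  [.z, .Z10, .Z7, .Z6, .Z5, .Z4, .Z3, .Z1, .X10, .X9, .X8, .X7, .X6, .X4, .X2, .X1, .y8, .y6, .y4, .y1, .p9, .hi, .p5,
   .hi, .p4, .hi, .p3, .hi, .p, .hi, .p4, .hi, .xii, .p10, .xii, .y4, .p8, .xii, .y4, .tau, .xii, .y2, .p, .xii, .y2,
   .hi, .xii, .y5, .tau, .X0, .p7, .xii, .p7, .xii, .p10, .y1, .y6, .hi, .tau, .xii, .p9, .xii, .p9, .y10, .xii, .y10,
   .taui, .xii, .p4, .xii, .y1],
  [.Z8, .Z7, .Z5, .X8, .X4, .X3, .X2, .X1, .y10, .y9, .y7, .y6, .y4, .y3, .y2, .p9, .hi, .p9, .hi, .p8, .hi, .p5, .hi,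
   .p8, .hi, .p8, .xii, .p, .xii, .y1, .y4, .taui, .xii, .p, .xii, .y3, .hi, .xii, .y6, .tau, .X0, .xii, .p2, .xii,
   .p7, .y7, .xii, .y4, .p9, .taui, .xii, .hi, .p5, .xii, .p7, .y7, .tau, .xii, .y2, .p8],
  [.z, .Z7, .Z6, .Z5, .Z4, .Z2, .Z1, .X8, .X7, .X6, .X5, .X2, .X1, .X0, .y10, .y9, .y8, .y7, .y6, .y3, .y2, .hi, .p8,
   .hi, .p9, .hi, .p7, .hi, .p10, .hi, .p4, .xii, .p10, .xii, .y8, .p5, .hi, .p5, .tau, .xii, .p, .xii, .hi, .y8,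
   .xii, .y4, .y5, .y9, .taui, .p7, .xii, .p7, .y9, .xii, .hi, .p8, .y2, .hi, .tau, .xii, .p5, .xii, .p9, .y6, .tau,
   .xii, .p3]⟩

theorem h451 : Hd F (g wAd) b451 := hdD (by decide +kernel)
theorem r451_0 : R9 F (g wAd) b451 [] 0 0 := .of (startD 0 1) (by decide +kernel)
theorem r451_1 : R9 F (g wAd) b451 [] 0 1 := .of (startD 0 1) (by decide +kernel)
theorem r451_2 : R9 F (g wAd) b451 [] 0 2 := .of (startD 0 1) (by decide +kernel)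
theorem r451_3 : R9 F (g wAd) b451 [] 1 0 := .of (startD 0 1) (by decide +kernel)
theorem r451_4 : R9 F (g wAd) b451 [] 1 1 := .of (startD 0 1) (by decide +kernel)
theorem r451_5 : R9 F (g wAd) b451 [] 1 2 := .of (startD 0 1) (by decide +kernel)
theorem r451_6 : R9 F (g wAd) b451 [] 2 0 := .of (startD 0 1) (by decide +kernel)
theorem r451_7 : R9 F (g wAd) b451 [] 2 1 := .of (startD 0 1) (by decide +kernel)
theorem r451_8 : R9 F (g wAd) b451 [] 2 2 := .of (startD 0 1) (by decide +kernel)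
theorem g451 : Gd F (g wAd) (0, d451) [] :=
  good9 ok h451 r451_0 r451_1 r451_2 r451_3 r451_4 r451_5 r451_6 r451_7 r451_8

def b452 : Wd := ⟨0, d452,
  [.z, .Z8, .Z7, .Z3, .Z2, .X8, .X7, .X4, .X0, .y8, .y7, .y6, .y4, .y2, .y1, .p3, .hi, .p7, .hi, .p10, .hi, .p2, .hi,
   .p4, .hi, .xii, .y2, .p, .xii, .y3, .y10, .tau, .xii, .p, .xii, .hi, .y8, .xii, .y3, .y4, .taui, .p7, .xii, .p8,
   .xii, .p, .hi, .p10, .y7, .taui, .xii, .p5, .xii, .p, .y5, .xii, .y10, .tau, .xii, .p4, .xii, .y8],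
  [.Z10, .Z9, .Z8, .Z7, .Z6, .Z5, .X5, .X4, .X3, .X2, .X0, .y10, .y9, .y8, .y7, .y5, .y4, .y1, .hi, .p6, .hi, .p10,
   .hi, .p9, .hi, .p9, .hi, .p9, .hi, .p9, .xii, .y2, .p2, .hi, .xii, .tau, .xii, .y1, .p, .xii, .p, .xii, .y1, .y10,
   .taui, .p7, .xii, .p8, .y5, .xii, .y4, .y9, .taui, .xii, .p6, .xii, .y5, .hi, .xii, .y1, .taui],
  [.Z10, .Z7, .Z3, .X9, .X7, .X6, .X5, .X4, .y8, .y6, .y4, .y2, .p10, .hi, .p4, .hi, .p4, .hi, .p8, .hi, .p9, .xii,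
   .p, .xii, .y4, .p8, .xii, .y5, .taui, .y1, .xii, .y1, .hi, .xii, .p10, .xii, .y2, .y4, .taui, .X0, .xii, .y1, .p4,
   .xii, .y4, .p9, .xii, .y5, .p2, .taui, .xii, .p9, .xii, .y9, .y10, .p4, .hi, .p10, .tau, .xii, .y2, .p7]⟩

theorem h452 : Hd F (g wAd) b452 := hdD (by decide +kernel)
theorem r452_0 : R9 F (g wAd) b452 [] 0 0 := .of (startD 0 1) (by decide +kernel)
theorem r452_1 : R9 F (g wAd) b452 [] 0 1 := .of (startD 0 1) (by decide +kernel)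
theorem r452_2 : R9 F (g wAd) b452 [] 0 2 := .of (startD 0 1) (by decide +kernel)
theorem r452_3 : R9 F (g wAd) b452 [] 1 0 := .of (startD 0 1) (by decide +kernel)
theorem r452_4 : R9 F (g wAd) b452 [] 1 1 := .of (startD 0 1) (by decide +kernel)
theorem r452_5 : R9 F (g wAd) b452 [] 1 2 := .of (startD 0 1) (by decide +kernel)
theorem r452_6 : R9 F (g wAd) b452 [] 2 0 := .of (startD 0 1) (by decide +kernel)
theorem r452_7 : R9 F (g wAd) b452 [] 2 1 := .of (startD 0 1) (by decide +kernel)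
theorem r452_8 : R9 F (g wAd) b452 [] 2 2 := .of (startD 0 1) (by decide +kernel)
theorem g452 : Gd F (g wAd) (0, d452) [] :=
  good9 ok h452 r452_0 r452_1 r452_2 r452_3 r452_4 r452_5 r452_6 r452_7 r452_8

def b453 : Wd := ⟨0, d453,
  [.Z10, .Z6, .Z5, .Z4, .Z3, .Z0, .X8, .X7, .X6, .X5, .X4, .y9, .y8, .y7, .y5, .y4, .y1, .p9, .hi, .p8, .hi, .p4, .hi,
   .p10, .hi, .p9, .hi, .p10, .xii, .p2, .hi, .xii, .y5, .y7, .p3, .taui, .y1, .xii, .p10, .xii, .y4, .p10, .xii, .y2,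
   .y8, .taui, .p10, .xii, .p2, .xii, .y1, .y6, .p5, .hi, .p3, .taui, .xii, .p8, .xii, .y8, .y9, .p2, .xii, .y2,
   .taui, .xii, .p4],
  [.Z10, .Z9, .Z7, .Z5, .Z4, .Z3, .Z2, .X10, .X9, .X8, .X5, .X3, .X0, .y6, .y5, .y4, .y1, .p10, .hi, .p5, .hi, .p8,
   .hi, .p, .hi, .p8, .hi, .p3, .hi, .xii, .p10, .xii, .y4, .p10, .xii, .y4, .y9, .tau, .X0, .p7, .xii, .p7, .y9,
   .xii, .p3, .hi, .p5, .tau, .xii, .p3, .xii, .y5, .hi, .tau, .xii, .p3],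
  [.z, .Z8, .Z4, .Z3, .Z2, .Z1, .Z0, .X6, .X4, .X3, .X2, .X0, .y4, .y3, .y1, .p2, .hi, .p10, .hi, .p5, .hi, .p, .hi,
   .p8, .xii, .p, .xii, .y1, .y10, .hi, .xii, .y5, .taui, .xii, .y1, .p, .xii, .p, .y7, .xii, .y4, .y5, .tau, .y1,
   .xii, .y2, .hi, .xii, .y10, .p10, .xii, .y4, .y9, .tau, .p6, .xii, .p2, .xii, .y3, .taui, .xii, .p4, .xii, .y4,
   .y10, .p8, .xii, .taui, .xii, .p4, .xii, .y6]⟩

theorem h453 : Hd F (g wAd) b453 := hdD (by decide +kernel)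
theorem r453_0 : R9 F (g wAd) b453 [] 0 0 := .of (startD 0 1) (by decide +kernel)
theorem r453_1 : R9 F (g wAd) b453 [] 0 1 := .of (startD 0 1) (by decide +kernel)
theorem r453_2 : R9 F (g wAd) b453 [] 0 2 := .of (startD 0 1) (by decide +kernel)
theorem r453_3 : R9 F (g wAd) b453 [] 1 0 := .of (startD 0 1) (by decide +kernel)
theorem r453_4 : R9 F (g wAd) b453 [] 1 1 := .of (startD 0 1) (by decide +kernel)
theorem r453_5 : R9 F (g wAd) b453 [] 1 2 := .of (startD 0 1) (by decide +kernel)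
theorem r453_6 : R9 F (g wAd) b453 [] 2 0 := .of (startD 0 1) (by decide +kernel)
theorem r453_7 : R9 F (g wAd) b453 [] 2 1 := .of (startD 0 1) (by decide +kernel)
theorem r453_8 : R9 F (g wAd) b453 [] 2 2 := .of (startD 0 1) (by decide +kernel)
theorem g453 : Gd F (g wAd) (0, d453) [] :=
  good9 ok h453 r453_0 r453_1 r453_2 r453_3 r453_4 r453_5 r453_6 r453_7 r453_8

def b454 : Wd := ⟨0, d454,
  [.z, .Z8, .Z7, .Z6, .Z5, .X10, .X9, .X6, .X5, .X4, .X3, .X2, .X1, .y10, .y9, .y8, .y7, .y6, .y5, .y4, .p5, .hi, .p5,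
   .hi, .p7, .hi, .p9, .hi, .p4, .hi, .p4, .xii, .y2, .hi, .p8, .hi, .p5, .hi, .tau, .xii, .y1, .p, .xii, .p, .y7,
   .xii, .y5, .y10, .taui, .X0, .y1, .p4, .xii, .p9, .xii, .y6, .tau, .xii, .p2, .xii, .y10, .p5, .hi, .p, .taui,
   .xii, .y2, .p, .hi],
  [.z, .Z9, .Z8, .Z7, .Z6, .Z5, .Z4, .Z1, .X10, .X8, .X6, .X4, .X1, .y10, .y9, .y6, .y1, .p10, .hi, .p7, .hi, .p3,
   .hi, .p10, .hi, .p4, .hi, .p10, .xii, .y2, .p3, .hi, .xii, .y2, .taui, .xii, .p, .xii, .y2, .hi, .xii, .y7, .y10,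
   .taui, .p8, .xii, .p3, .hi, .xii, .p6, .y5, .taui, .xii, .hi, .p8, .xii, .p8, .y5],
  [.z, .Z10, .Z9, .Z8, .Z6, .Z4, .Z3, .X10, .X8, .X5, .X3, .X2, .X0, .y10, .y4, .y2, .y1, .p9, .hi, .p10, .hi, .p4,
   .hi, .p6, .hi, .p3, .hi, .p7, .xii, .p, .xii, .y3, .hi, .p, .hi, .p3, .taui, .y1, .xii, .y2, .hi, .xii, .p10, .xii,
   .y4, .y8, .taui, .X0, .xii, .p8, .xii, .y2, .p4, .y1, .xii, .y2, .p10, .tau, .xii, .p7, .xii, .y4, .p7, .xii, .y3,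
   .taui, .xii, .y7, .p, .xii]⟩

theorem h454 : Hd F (g wAd) b454 := hdD (by decide +kernel)
theorem r454_0 : R9 F (g wAd) b454 [] 0 0 := .of (startD 0 1) (by decide +kernel)
theorem r454_1 : R9 F (g wAd) b454 [] 0 1 := .of (startD 0 1) (by decide +kernel)
theorem r454_2 : R9 F (g wAd) b454 [] 0 2 := .of (startD 0 1) (by decide +kernel)
theorem r454_3 : R9 F (g wAd) b454 [] 1 0 := .of (startD 0 1) (by decide +kernel)
theorem r454_4 : R9 F (g wAd) b454 [] 1 1 := .of (startD 0 1) (by decide +kernel)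
theorem r454_5 : R9 F (g wAd) b454 [] 1 2 := .of (startD 0 3) (by decide +kernel)
theorem r454_6 : R9 F (g wAd) b454 [] 2 0 := .of (startD 0 1) (by decide +kernel)
theorem r454_7 : R9 F (g wAd) b454 [] 2 1 := .of (startD 0 1) (by decide +kernel)
theorem r454_8 : R9 F (g wAd) b454 [] 2 2 := .of (startD 0 1) (by decide +kernel)
theorem g454 : Gd F (g wAd) (0, d454) [] :=
  good9 ok h454 r454_0 r454_1 r454_2 r454_3 r454_4 r454_5 r454_6 r454_7 r454_8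

def b455 : Wd := ⟨0, d455,
  [.z, .Z7, .Z6, .Z5, .Z1, .X10, .X9, .X8, .X7, .X6, .X5, .X2, .X0, .y7, .y6, .y2, .hi, .p2, .hi, .p6, .hi, .p6, .hi,
   .p7, .tau, .y1, .xii, .y2, .hi, .xii, .p10, .xii, .y2, .tau, .X0, .xii, .p2, .xii, .y6, .hi, .xii, .y4, .y8, .p2,
   .tau, .xii, .y2, .p4, .xii, .p8, .xii, .y9, .tau, .xii, .y4, .hi, .p6],
  [.Z8, .Z6, .Z5, .Z3, .Z2, .X9, .X7, .X4, .y10, .y8, .y5, .y3, .y2, .p, .hi, .p8, .hi, .p7, .hi, .p7, .hi, .p, .xii,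
   .y2, .hi, .xii, .p3, .hi, .p2, .taui, .xii, .p, .xii, .y3, .hi, .xii, .y4, .y5, .taui, .X0, .p8, .xii, .y6, .p4,
   .xii, .p10, .y8, .taui, .xii, .p7, .xii, .p8, .y2, .y4],
  [.z, .Z10, .Z8, .Z7, .Z6, .Z5, .Z4, .Z0, .X10, .X9, .X5, .X4, .X3, .X1, .y9, .y7, .y6, .y4, .p10, .hi, .p4, .hi,
   .p8, .hi, .p9, .hi, .p8, .hi, .p, .xii, .p5, .hi, .p8, .hi, .tau, .xii, .y2, .p, .xii, .y4, .hi, .xii, .y4, .y7,
   .taui, .X0, .p4, .xii, .p4, .y4, .xii, .y10, .p2, .hi, .p, .tau, .xii, .p5, .xii, .y4, .y9, .hi, .xii, .y8, .tau,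
   .xii, .p10, .xii]⟩

theorem h455 : Hd F (g wAd) b455 := hdD (by decide +kernel)
theorem r455_0 : R9 F (g wAd) b455 [] 0 0 := .of (startD 0 1) (by decide +kernel)
theorem r455_1 : R9 F (g wAd) b455 [] 0 1 := .of (startD 0 1) (by decide +kernel)
theorem r455_2 : R9 F (g wAd) b455 [] 0 2 := .of (startD 0 1) (by decide +kernel)
theorem r455_3 : R9 F (g wAd) b455 [] 1 0 := .of (startD 0 1) (by decide +kernel)
theorem r455_4 : R9 F (g wAd) b455 [] 1 1 := .of (startD 0 1) (by decide +kernel)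
theorem r455_5 : R9 F (g wAd) b455 [] 1 2 := .of (startD 0 2) (by decide +kernel)
theorem r455_6 : R9 F (g wAd) b455 [] 2 0 := .of (startD 0 2) (by decide +kernel)
theorem r455_7 : R9 F (g wAd) b455 [] 2 1 := .of (startD 0 1) (by decide +kernel)
theorem r455_8 : R9 F (g wAd) b455 [] 2 2 := .of (startD 0 1) (by decide +kernel)
theorem g455 : Gd F (g wAd) (0, d455) [] :=
  good9 ok h455 r455_0 r455_1 r455_2 r455_3 r455_4 r455_5 r455_6 r455_7 r455_8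

def b456 : Wd := ⟨0, d456,
  [.Z6, .Z5, .Z3, .Z2, .Z1, .Z0, .X8, .X7, .X6, .X5, .X3, .X0, .y10, .y9, .y8, .y7, .y6, .y3, .p3, .hi, .p6, .hi, .p5,
   .hi, .p10, .hi, .p10, .hi, .p, .xii, .p, .xii, .hi, .p, .hi, .p3, .taui, .y1, .xii, .p10, .xii, .y4, .p10, .xii,
   .y1, .y7, .taui, .y1, .xii, .p10, .xii, .y8, .p10, .xii, .y8, .taui, .X0, .p10, .xii, .y4, .p10, .xii, .y8, .tau,
   .xii, .y2, .p5, .xii, .y9, .p2, .xii, .y6, .taui, .xii, .p5],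
  [.Z8, .Z6, .Z5, .Z4, .Z3, .Z1, .X10, .X8, .X2, .X1, .X0, .y10, .y8, .y6, .p10, .hi, .p2, .hi, .p7, .hi, .p3, .hi,
   .p8, .xii, .y2, .hi, .xii, .p10, .tau, .y1, .xii, .y1, .hi, .xii, .p10, .xii, .y9, .tau, .p9, .xii, .p, .hi, .xii,
   .y5, .y9, .p3, .taui, .xii, .p8, .xii, .y1, .p2, .xii, .y6, .taui, .xii, .p5],
  [.Z10, .Z6, .Z5, .Z3, .Z2, .Z0, .X6, .X5, .X3, .X1, .y7, .y5, .y3, .y1, .p8, .hi, .p7, .hi, .p, .hi, .p8, .hi, .p5,
   .hi, .p9, .xii, .hi, .p8, .xii, .y10, .taui, .xii, .y1, .p, .xii, .p, .y7, .xii, .y7, .tau, .X0, .hi, .xii, .y7,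
   .hi, .p8, .xii, .p6, .y3, .taui, .xii, .p2, .xii, .y3, .p2, .xii, .y1, .y8, .tau, .xii, .p10, .xii, .y9]⟩

theorem h456 : Hd F (g wAd) b456 := hdD (by decide +kernel)
theorem r456_0 : R9 F (g wAd) b456 [] 0 0 := .of (startD 0 1) (by decide +kernel)
theorem r456_1 : R9 F (g wAd) b456 [] 0 1 := .of (startD 0 1) (by decide +kernel)
theorem r456_2 : R9 F (g wAd) b456 [] 0 2 := .of (startD 0 1) (by decide +kernel)
theorem r456_3 : R9 F (g wAd) b456 [] 1 0 := .of (startD 0 1) (by decide +kernel)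
theorem r456_4 : R9 F (g wAd) b456 [] 1 1 := .of (startD 0 1) (by decide +kernel)
theorem r456_5 : R9 F (g wAd) b456 [] 1 2 := .of (startD 0 1) (by decide +kernel)
theorem r456_6 : R9 F (g wAd) b456 [] 2 0 := .of (startD 0 1) (by decide +kernel)
theorem r456_7 : R9 F (g wAd) b456 [] 2 1 := .of (startD 0 2) (by decide +kernel)
theorem r456_8 : R9 F (g wAd) b456 [] 2 2 := .of (startD 0 1) (by decide +kernel)
theorem g456 : Gd F (g wAd) (0, d456) [] :=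
  good9 ok h456 r456_0 r456_1 r456_2 r456_3 r456_4 r456_5 r456_6 r456_7 r456_8

def b457 : Wd := ⟨0, d457,
  [.Z10, .Z6, .Z4, .Z1, .Z0, .X10, .X8, .X7, .X5, .X4, .X3, .X2, .X1, .y4, .y3, .y2, .p7, .hi, .p9, .hi, .p6, .hi,
   .p3, .hi, .p7, .hi, .p2, .xii, .p, .xii, .p2, .hi, .p5, .tau, .y1, .xii, .y2, .hi, .xii, .y7, .p10, .taui, .X0,
   .p10, .xii, .p, .hi, .xii, .y7, .p8, .tau, .xii, .y2, .p6, .xii, .y2, .p, .xii, .y5, .y10, .tau, .xii, .y2, .hi,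
   .p],
  [.z, .Z10, .Z8, .Z7, .Z6, .Z3, .X9, .X8, .X7, .X6, .X5, .X4, .X1, .y7, .y6, .y5, .y2, .p10, .hi, .p7, .hi, .p6, .hi,
   .p10, .hi, .p8, .hi, .p3, .xii, .p2, .hi, .xii, .y7, .p3, .taui, .xii, .y2, .p, .xii, .y2, .hi, .xii, .y3, .y10,
   .taui, .X0, .y1, .xii, .p9, .xii, .p9, .y10, .xii, .y1, .y2, .taui, .xii, .p10, .xii, .y9, .p6, .xii, .y7, .taui],
  [.z, .Z10, .Z6, .X8, .X5, .X1, .y10, .y9, .y5, .y2, .p3, .hi, .p5, .hi, .p6, .hi, .p3, .hi, .xii, .y2, .hi, .p8,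
   .xii, .y3, .p2, .taui, .xii, .y6, .p, .xii, .p, .xii, .y3, .y8, .tau, .X0, .y1, .p9, .xii, .p5, .xii, .p8, .y6,
   .xii, .tau, .xii, .p10, .xii, .y9, .p6, .xii, .y4, .y7, .taui]⟩

theorem h457 : Hd F (g wAd) b457 := hdD (by decide +kernel)
theorem r457_0 : R9 F (g wAd) b457 [] 0 0 := .of (startD 0 1) (by decide +kernel)
theorem r457_1 : R9 F (g wAd) b457 [] 0 1 := .of (startD 0 1) (by decide +kernel)
theorem r457_2 : R9 F (g wAd) b457 [] 0 2 := .of (startD 0 1) (by decide +kernel)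
theorem r457_3 : R9 F (g wAd) b457 [] 1 0 := .of (startD 0 1) (by decide +kernel)
theorem r457_4 : R9 F (g wAd) b457 [] 1 1 := .of (startD 0 1) (by decide +kernel)
theorem r457_5 : R9 F (g wAd) b457 [] 1 2 := .of (startD 0 1) (by decide +kernel)
theorem r457_6 : R9 F (g wAd) b457 [] 2 0 := .of (startD 0 2) (by decide +kernel)
theorem r457_7 : R9 F (g wAd) b457 [] 2 1 := .of (startD 0 1) (by decide +kernel)
theorem r457_8 : R9 F (g wAd) b457 [] 2 2 := .of (startD 0 1) (by decide +kernel)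
theorem g457 : Gd F (g wAd) (0, d457) [] :=
  good9 ok h457 r457_0 r457_1 r457_2 r457_3 r457_4 r457_5 r457_6 r457_7 r457_8

def b458 : Wd := ⟨0, d458,
  [.z, .Z9, .Z7, .Z6, .Z5, .Z3, .Z0, .X10, .X8, .X6, .X5, .X3, .X0, .y10, .y3, .y1, .p5, .hi, .p3, .hi, .p3, .hi, .p7,
   .hi, .p, .hi, .p9, .xii, .y2, .hi, .xii, .p9, .xii, .y6, .tau, .y1, .xii, .p10, .xii, .p10, .y7, .xii, .y4, .y10,
   .tau, .p8, .xii, .p4, .xii, .y3, .hi, .p7, .taui, .xii, .p7, .xii, .hi, .p8, .hi, .p7, .taui, .xii, .y2, .p10, .hi,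
   .p9],
  [.Z7, .Z6, .Z4, .Z3, .Z2, .Z0, .X9, .X5, .X0, .y6, .y2, .y1, .p3, .hi, .p10, .hi, .p10, .hi, .p, .hi, .p4, .hi, .p3,
   .hi, .xii, .y2, .hi, .p8, .xii, .y9, .y10, .taui, .y1, .xii, .p10, .xii, .y5, .p10, .xii, .y4, .taui, .p10, .xii,
   .y7, .p5, .xii, .hi, .y5, .p5, .tau, .xii, .y2, .p8, .xii, .p, .hi, .p8],
  [.Z10, .Z9, .Z6, .Z5, .Z3, .Z2, .X9, .X8, .X3, .X0, .y9, .y8, .y6, .y5, .p8, .hi, .p8, .hi, .p7, .hi, .p8, .hi, .p5,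
   .hi, .p3, .xii, .p, .xii, .y6, .p9, .tau, .xii, .y6, .p, .xii, .p, .xii, .y4, .y7, .y8, .tau, .X0, .p5, .xii, .hi,
   .p7, .xii, .y6, .hi, .tau, .xii, .p6, .xii, .p8, .y5, .xii, .tau, .xii, .p3]⟩

theorem h458 : Hd F (g wAd) b458 := hdD (by decide +kernel)
theorem r458_0 : R9 F (g wAd) b458 [] 0 0 := .of (startD 0 1) (by decide +kernel)
theorem r458_1 : R9 F (g wAd) b458 [] 0 1 := .of (startD 0 1) (by decide +kernel)
theorem r458_2 : R9 F (g wAd) b458 [] 0 2 := .of (startD 0 1) (by decide +kernel)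
theorem r458_3 : R9 F (g wAd) b458 [] 1 0 := .of (startD 0 1) (by decide +kernel)
theorem r458_4 : R9 F (g wAd) b458 [] 1 1 := .of (startD 0 1) (by decide +kernel)
theorem r458_5 : R9 F (g wAd) b458 [] 1 2 := .of (startD 0 1) (by decide +kernel)
theorem r458_6 : R9 F (g wAd) b458 [] 2 0 := .of (startD 0 1) (by decide +kernel)
theorem r458_7 : R9 F (g wAd) b458 [] 2 1 := .of (startD 0 1) (by decide +kernel)
theorem r458_8 : R9 F (g wAd) b458 [] 2 2 := .of (startD 0 1) (by decide +kernel)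
theorem g458 : Gd F (g wAd) (0, d458) [] :=
  good9 ok h458 r458_0 r458_1 r458_2 r458_3 r458_4 r458_5 r458_6 r458_7 r458_8

def b459 : Wd := ⟨0, d459,
  [.z, .Z9, .Z5, .Z3, .Z2, .Z1, .X10, .X9, .X7, .X6, .X4, .X3, .X2, .y10, .y7, .p3, .hi, .p10, .hi, .p6, .hi, .p7,
   .hi, .p7, .hi, .p9, .xii, .p, .xii, .y4, .p8, .xii, .y5, .y9, .taui, .y1, .xii, .p10, .xii, .y8, .p10, .xii, .y1,
   .y3, .taui, .X0, .p9, .xii, .p2, .xii, .y6, .p7, .xii, .y8, .tau, .xii, .p5, .xii, .hi, .p5, .y10, .hi, .tau, .xii,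
   .hi, .p8],
  [.Z7, .Z5, .Z4, .Z3, .Z2, .Z1, .Z0, .X7, .X5, .X4, .X3, .X1, .y9, .y4, .y3, .y2, .p2, .hi, .p7, .hi, .p7, .hi, .p9,
   .hi, .p6, .xii, .y2, .hi, .p8, .hi, .p2, .tau, .y1, .xii, .y2, .hi, .xii, .p10, .xii, .tau, .y1, .p10, .xii, .p5,
   .xii, .y9, .p10, .hi, .taui, .xii, .p9, .xii, .p3, .xii, .y5, .y8, .tau, .xii, .p3],
  [.Z10, .Z9, .Z5, .Z4, .Z3, .Z1, .X8, .X7, .X3, .X2, .X1, .X0, .y10, .y9, .y7, .y2, .y1, .p10, .hi, .p4, .hi, .p,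
   .hi, .p6, .hi, .xii, .y2, .p10, .xii, .y5, .p5, .xii, .taui, .xii, .p, .xii, .y4, .hi, .xii, .y1, .y4, .taui, .xii,
   .p9, .xii, .y5, .p, .xii, .y7, .y8, .tau, .xii, .p4, .hi, .xii, .p4, .y9, .taui, .xii, .p2]⟩

theorem h459 : Hd F (g wAd) b459 := hdD (by decide +kernel)
theorem r459_0 : R9 F (g wAd) b459 [] 0 0 := .of (startD 0 1) (by decide +kernel)
theorem r459_1 : R9 F (g wAd) b459 [] 0 1 := .of (startD 0 1) (by decide +kernel)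
theorem r459_2 : R9 F (g wAd) b459 [] 0 2 := .of (startD 0 1) (by decide +kernel)
theorem r459_3 : R9 F (g wAd) b459 [] 1 0 := .of (startD 0 1) (by decide +kernel)
theorem r459_4 : R9 F (g wAd) b459 [] 1 1 := .of (startD 0 1) (by decide +kernel)
theorem r459_5 : R9 F (g wAd) b459 [] 1 2 := .of (startD 0 1) (by decide +kernel)
theorem r459_6 : R9 F (g wAd) b459 [] 2 0 := .of (startD 0 1) (by decide +kernel)
theorem r459_7 : R9 F (g wAd) b459 [] 2 1 := .of (startD 0 1) (by decide +kernel)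
theorem r459_8 : R9 F (g wAd) b459 [] 2 2 := .of (startD 0 1) (by decide +kernel)
theorem g459 : Gd F (g wAd) (0, d459) [] :=
  good9 ok h459 r459_0 r459_1 r459_2 r459_3 r459_4 r459_5 r459_6 r459_7 r459_8

theorem all : AllG F (g wAd) LD45 :=
  .cons g450 (.cons g451 (.cons g452 (.cons g453 (.cons g454 (.cons g455 (.cons g456 (.cons g457 (.cons g458 (.cons g459 (.nil))))))))))

end Cfsg.Agent.BX.No33.Bk.D45
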