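import Cfsg.Agent.BX.No33.Cheap
set_option linter.all false

/-!
# Tests, diagonal case, part 46 (helper5; generated)
-/

set_option autoImplicit false
set_option maxRecDepth 100000
set_option Elab.async false

namespace Cfsg.Agent.BX.No33.Bk.D46

open Cfsg.Agent.H819.U33 Cfsg.Agent.BX.No33.Front

def b460 : Wd := ⟨0, d460,
  [.Z10, .Z9, .Z7, .Z6, .Z5, .Z4, .Z2, .Z1, .Z0, .X8, .X7, .X6, .X3, .X2, .X1, .X0, .y4, .y3, .y2, .y1, .p10, .hi,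
   .p8, .hi, .p6, .hi, .p3, .hi, .p5, .hi, .p8, .hi, .xii, .p, .xii, .p9, .y1, .tau, .xii, .p, .xii, .y2, .hi, .xii,
   .y4, .y7, .tau, .xii, .p, .xii, .p2, .hi, .xii, .taui, .p5, .xii, .y2, .p, .xii, .y7, .taui, .xii, .p9, .xii, .p9,
   .y3, .xii, .y9, .taui, .xii, .y6, .hi, .p4],
  [.Z4, .X7, .X4, .X2, .y7, .y6, .y5, .y1, .p9, .hi, .p10, .hi, .p3, .hi, .p8, .xii, .p3, .hi, .xii, .y9, .taui, .y1,
   .xii, .y1, .hi, .xii, .p10, .xii, .y2, .tau, .X0, .xii, .p4, .xii, .p4, .y3, .xii, .y4, .y10, .tau, .xii, .p8,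
   .xii, .y4, .y9, .p, .hi, .taui, .xii, .p2, .hi, .p10],
  [.z, .Z9, .Z8, .Z3, .X10, .X8, .X5, .X4, .X1, .y8, .y6, .y2, .p8, .hi, .p4, .hi, .p10, .hi, .p9, .hi, .p9, .hi, .p,
   .xii, .p10, .xii, .y8, .p5, .hi, .p5, .tau, .xii, .y1, .p, .xii, .p, .y7, .xii, .y7, .y10, .taui, .X0, .p4, .xii,
   .y2, .p9, .xii, .hi, .p7, .y3, .taui, .xii, .p8, .xii, .y9, .p7, .y5, .xii]⟩

theorem h460 : Hd F (g wAd) b460 := hdD (by decide +kernel)
theorem r460_0 : R9 F (g wAd) b460 [] 0 0 := .of (startD 0 1) (by decide +kernel)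
theorem r460_1 : R9 F (g wAd) b460 [] 0 1 := .of (startD 0 1) (by decide +kernel)
theorem r460_2 : R9 F (g wAd) b460 [] 0 2 := .of (startD 0 1) (by decide +kernel)
theorem r460_3 : R9 F (g wAd) b460 [] 1 0 := .of (startD 0 1) (by decide +kernel)
theorem r460_4 : R9 F (g wAd) b460 [] 1 1 := .of (startD 0 1) (by decide +kernel)
theorem r460_5 : R9 F (g wAd) b460 [] 1 2 := .of (startD 0 1) (by decide +kernel)
theorem r460_6 : R9 F (g wAd) b460 [] 2 0 := .of (startD 0 1) (by decide +kernel)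
theorem r460_7 : R9 F (g wAd) b460 [] 2 1 := .of (startD 0 1) (by decide +kernel)
theorem r460_8 : R9 F (g wAd) b460 [] 2 2 := .of (startD 0 1) (by decide +kernel)
theorem g460 : Gd F (g wAd) (0, d460) [] :=
  good9 ok h460 r460_0 r460_1 r460_2 r460_3 r460_4 r460_5 r460_6 r460_7 r460_8

def b461 : Wd := ⟨0, d461,
  [.Z10, .Z4, .Z3, .Z1, .X6, .X4, .X0, .y9, .y5, .y4, .p4, .hi, .p5, .hi, .p5, .hi, .p9, .hi, .p6, .xii, .p, .xii,
   .p4, .xii, .taui, .xii, .p, .xii, .y1, .hi, .xii, .y2, .y3, .taui, .y1, .xii, .p5, .xii, .p4, .hi, .y9, .xii, .y6,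
   .tau, .xii, .p4, .xii, .y1, .y4, .p6, .xii, .y10, .taui, .xii, .y2, .p4, .xii, .y10],
  [.z, .Z10, .Z7, .Z6, .Z4, .Z3, .Z2, .Z0, .X10, .X9, .X7, .X5, .X3, .X0, .y6, .y4, .y3, .p10, .hi, .p6, .hi, .p9,
   .hi, .p5, .hi, .p10, .hi, .p4, .hi, .p9, .xii, .p3, .hi, .tau, .y1, .xii, .p10, .xii, .y1, .y7, .p10, .xii, .taui,
   .X0, .xii, .p6, .xii, .y1, .p6, .xii, .y9, .p10, .tau, .xii, .p7, .xii, .p, .hi, .p9],
  [.Z9, .Z7, .Z6, .Z5, .Z4, .Z2, .Z1, .X7, .X6, .X3, .X1, .y9, .y7, .y6, .y2, .y1, .p10, .hi, .p4, .hi, .p10, .hi,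
   .p7, .hi, .p, .hi, .p3, .hi, .xii, .hi, .xii, .y4, .p4, .hi, .tau, .xii, .p, .xii, .y4, .hi, .xii, .y5, .y9, .tau,
   .p4, .xii, .p4, .xii, .p3, .hi, .p5, .y8, .tau, .xii, .p3, .xii, .p6, .xii, .y10, .tau, .xii, .y6, .p6]⟩

theorem h461 : Hd F (g wAd) b461 := hdD (by decide +kernel)
theorem r461_0 : R9 F (g wAd) b461 [] 0 0 := .of (startD 0 1) (by decide +kernel)
theorem r461_1 : R9 F (g wAd) b461 [] 0 1 := .of (startD 0 1) (by decide +kernel)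
theorem r461_2 : R9 F (g wAd) b461 [] 0 2 := .of (startD 0 1) (by decide +kernel)
theorem r461_3 : R9 F (g wAd) b461 [] 1 0 := .of (startD 0 1) (by decide +kernel)
theorem r461_4 : R9 F (g wAd) b461 [] 1 1 := .of (startD 0 1) (by decide +kernel)
theorem r461_5 : R9 F (g wAd) b461 [] 1 2 := .of (startD 0 1) (by decide +kernel)
theorem r461_6 : R9 F (g wAd) b461 [] 2 0 := .of (startD 0 1) (by decide +kernel)
theorem r461_7 : R9 F (g wAd) b461 [] 2 1 := .of (startD 0 1) (by decide +kernel)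
theorem r461_8 : R9 F (g wAd) b461 [] 2 2 := .of (startD 0 1) (by decide +kernel)
theorem g461 : Gd F (g wAd) (0, d461) [] :=
  good9 ok h461 r461_0 r461_1 r461_2 r461_3 r461_4 r461_5 r461_6 r461_7 r461_8

def b462 : Wd := ⟨0, d462,
  [.z, .Z10, .Z9, .Z8, .Z7, .Z2, .X10, .X9, .X8, .X7, .X3, .X2, .y8, .y7, .y5, .y4, .y2, .hi, .p, .hi, .p6, .hi, .p3,
   .hi, .p5, .hi, .p10, .hi, .xii, .p10, .xii, .y4, .p8, .xii, .y8, .taui, .xii, .y2, .p, .xii, .y1, .hi, .xii, .y1,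
   .y10, .tau, .xii, .hi, .xii, .y5, .p5, .xii, .y5, .y10, .tau, .xii, .y2, .p3, .hi, .p5, .xii, .p9, .tau, .xii],
  [.z, .Z10, .Z9, .Z7, .Z6, .Z4, .Z3, .Z1, .Z0, .X9, .X8, .X7, .X4, .X3, .X2, .X1, .y10, .y9, .y7, .y4, .y3, .y1, .hi,
   .p4, .hi, .p5, .hi, .p5, .hi, .p5, .hi, .p9, .xii, .p3, .hi, .xii, .p10, .y1, .tau, .xii, .p3, .hi, .xii, .y2,
   .taui, .p5, .xii, .y3, .p10, .xii, .p7, .tau, .xii, .p7, .xii, .y7, .p5, .xii, .y8, .tau, .xii, .p8],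
  [.z, .Z9, .Z6, .Z4, .Z3, .X10, .X8, .X7, .X5, .X3, .y10, .y9, .y7, .y6, .y5, .y4, .p, .hi, .p6, .hi, .p4, .hi, .p7,
   .hi, .p4, .xii, .p, .xii, .y10, .p7, .xii, .y8, .tau, .xii, .y6, .p, .xii, .y2, .p, .xii, .y1, .taui, .X0, .xii,
   .p10, .xii, .y6, .p8, .xii, .y4, .taui, .xii, .p6, .xii, .p4, .y2, .xii, .y8, .taui, .xii, .p2]⟩

theorem h462 : Hd F (g wAd) b462 := hdD (by decide +kernel)
theorem r462_0 : R9 F (g wAd) b462 [] 0 0 := .of (startD 0 1) (by decide +kernel)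
theorem r462_1 : R9 F (g wAd) b462 [] 0 1 := .of (startD 0 1) (by decide +kernel)
theorem r462_2 : R9 F (g wAd) b462 [] 0 2 := .of (startD 0 1) (by decide +kernel)
theorem r462_3 : R9 F (g wAd) b462 [] 1 0 := .of (startD 0 1) (by decide +kernel)
theorem r462_4 : R9 F (g wAd) b462 [] 1 1 := .of (startD 0 1) (by decide +kernel)
theorem r462_5 : R9 F (g wAd) b462 [] 1 2 := .of (startD 0 1) (by decide +kernel)
theorem r462_6 : R9 F (g wAd) b462 [] 2 0 := .of (startD 0 1) (by decide +kernel)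
theorem r462_7 : R9 F (g wAd) b462 [] 2 1 := .of (startD 0 1) (by decide +kernel)
theorem r462_8 : R9 F (g wAd) b462 [] 2 2 := .of (startD 0 1) (by decide +kernel)
theorem g462 : Gd F (g wAd) (0, d462) [] :=
  good9 ok h462 r462_0 r462_1 r462_2 r462_3 r462_4 r462_5 r462_6 r462_7 r462_8

def b463 : Wd := ⟨0, d463,
  [.z, .Z9, .Z5, .Z1, .Z0, .X9, .X8, .X7, .X6, .X4, .X3, .X1, .X0, .y10, .y4, .y2, .p7, .hi, .p9, .hi, .p3, .hi, .p4,
   .hi, .p, .hi, .p, .xii, .p, .xii, .p9, .y1, .xii, .y4, .tau, .y1, .xii, .p10, .xii, .y1, .y9, .p10, .xii, .y2,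
   .taui, .X0, .xii, .p4, .xii, .p8, .y2, .y8, .xii, .y5, .tau, .xii, .p8, .xii, .y6, .p4, .xii, .y4, .y7, .tau, .xii,
   .y6, .p2],
  [.Z10, .Z8, .Z7, .Z6, .Z2, .X8, .X6, .X2, .X1, .y7, .y5, .y1, .p8, .hi, .p10, .hi, .p4, .hi, .p9, .hi, .p7, .hi,
   .p3, .xii, .y2, .p5, .hi, .p5, .taui, .xii, .p, .xii, .y2, .hi, .xii, .y4, .y5, .taui, .X0, .hi, .xii, .y7, .p4,
   .hi, .xii, .y7, .hi, .p9, .tau, .xii, .y2, .p8, .xii, .p7, .tau, .xii, .y2, .hi, .p10, .hi],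
  [.z, .Z8, .Z7, .Z6, .Z4, .Z3, .Z2, .Z0, .X9, .X7, .X5, .X1, .X0, .y10, .y8, .y7, .y2, .y1, .p8, .hi, .p10, .hi, .p3,
   .hi, .p7, .hi, .p4, .hi, .p2, .hi, .xii, .p10, .tau, .xii, .p, .xii, .y4, .hi, .xii, .y5, .y10, .taui, .X0, .p8,
   .xii, .p4, .xii, .y6, .p2, .y6, .hi, .p10, .taui, .xii, .p9, .xii, .y10, .p6, .y6, .xii, .y5, .tau, .xii, .y8, .p3]⟩

theorem h463 : Hd F (g wAd) b463 := hdD (by decide +kernel)
theorem r463_0 : R9 F (g wAd) b463 [] 0 0 := .of (startD 0 1) (by decide +kernel)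
theorem r463_1 : R9 F (g wAd) b463 [] 0 1 := .of (startD 0 1) (by decide +kernel)
theorem r463_2 : R9 F (g wAd) b463 [] 0 2 := .of (startD 0 1) (by decide +kernel)
theorem r463_3 : R9 F (g wAd) b463 [] 1 0 := .of (startD 0 1) (by decide +kernel)
theorem r463_4 : R9 F (g wAd) b463 [] 1 1 := .of (startD 0 1) (by decide +kernel)
theorem r463_5 : R9 F (g wAd) b463 [] 1 2 := .of (startD 0 1) (by decide +kernel)
theorem r463_6 : R9 F (g wAd) b463 [] 2 0 := .of (startD 0 2) (by decide +kernel)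
theorem r463_7 : R9 F (g wAd) b463 [] 2 1 := .of (startD 0 1) (by decide +kernel)
theorem r463_8 : R9 F (g wAd) b463 [] 2 2 := .of (startD 0 1) (by decide +kernel)
theorem g463 : Gd F (g wAd) (0, d463) [] :=
  good9 ok h463 r463_0 r463_1 r463_2 r463_3 r463_4 r463_5 r463_6 r463_7 r463_8

def b464 : Wd := ⟨0, d464,
  [.Z10, .Z9, .Z4, .Z3, .Z0, .X10, .X9, .X7, .X6, .X5, .X3, .y8, .y7, .y5, .y3, .y2, .y1, .hi, .p4, .hi, .p4, .hi,
   .p3, .hi, .p, .hi, .p5, .xii, .p10, .xii, .y10, .p3, .hi, .tau, .xii, .y6, .p, .xii, .p, .xii, .y1, .y5, .y7,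
   .taui, .xii, .y2, .p, .xii, .y2, .hi, .xii, .y1, .taui, .p6, .xii, .p5, .xii, .y1, .tau, .xii, .p8, .xii, .y1, .p4,
   .xii, .y7, .taui, .xii, .p9],
  [.z, .Z10, .Z6, .Z5, .Z2, .Z1, .Z0, .X10, .X9, .X7, .X4, .X0, .y10, .y9, .y8, .y7, .y6, .y4, .y1, .p7, .hi, .p4,
   .hi, .p8, .hi, .p4, .hi, .p4, .hi, .p8, .xii, .y2, .hi, .p2, .hi, .tau, .xii, .y1, .p, .hi, .xii, .y7, .taui, .X0,
   .p4, .xii, .y2, .p9, .xii, .y10, .taui, .xii, .hi, .p6, .xii, .p4, .y5, .hi, .p7, .taui, .xii, .p4, .hi, .p2],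
  [.z, .Z10, .Z3, .Z1, .Z0, .X10, .X7, .X6, .X5, .X4, .X1, .X0, .y9, .y8, .y7, .y6, .y5, .y4, .y3, .y2, .hi, .p10,
   .hi, .p7, .hi, .p6, .hi, .p4, .hi, .p5, .xii, .hi, .p8, .tau, .xii, .p, .xii, .hi, .y8, .xii, .y7, .taui, .xii,
   .p7, .xii, .y8, .p9, .xii, .y1, .y2, .y3, .y7, .tau, .xii, .p4, .xii, .p4, .y8, .xii, .y3]⟩

theorem h464 : Hd F (g wAd) b464 := hdD (by decide +kernel)
theorem r464_0 : R9 F (g wAd) b464 [] 0 0 := .of (startD 0 1) (by decide +kernel)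
theorem r464_1 : R9 F (g wAd) b464 [] 0 1 := .of (startD 0 1) (by decide +kernel)
theorem r464_2 : R9 F (g wAd) b464 [] 0 2 := .of (startD 0 1) (by decide +kernel)
theorem r464_3 : R9 F (g wAd) b464 [] 1 0 := .of (startD 0 1) (by decide +kernel)
theorem r464_4 : R9 F (g wAd) b464 [] 1 1 := .of (startD 0 1) (by decide +kernel)
theorem r464_5 : R9 F (g wAd) b464 [] 1 2 := .of (startD 0 1) (by decide +kernel)
theorem r464_6 : R9 F (g wAd) b464 [] 2 0 := .of (startD 0 1) (by decide +kernel)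
theorem r464_7 : R9 F (g wAd) b464 [] 2 1 := .of (startD 0 2) (by decide +kernel)
theorem r464_8 : R9 F (g wAd) b464 [] 2 2 := .of (startD 0 1) (by decide +kernel)
theorem g464 : Gd F (g wAd) (0, d464) [] :=
  good9 ok h464 r464_0 r464_1 r464_2 r464_3 r464_4 r464_5 r464_6 r464_7 r464_8

def b465 : Wd := ⟨0, d465,
  [.Z10, .Z9, .Z6, .Z5, .Z2, .Z0, .X10, .X8, .X6, .X5, .X4, .X3, .X1, .X0, .y9, .y7, .y6, .y3, .y2, .y1, .p10, .hi,
   .p, .hi, .p3, .hi, .p5, .hi, .p4, .hi, .xii, .y2, .p10, .xii, .y9, .p5, .taui, .xii, .p, .xii, .y1, .y6, .hi, .xii,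
   .y6, .taui, .xii, .y1, .p9, .xii, .p3, .xii, .y1, .y10, .taui, .xii, .p9, .xii, .p, .xii, .y2, .y10, .tau, .xii,
   .hi, .p6],
  [.Z10, .Z8, .Z7, .Z2, .Z1, .X10, .X8, .X3, .X2, .X1, .X0, .y9, .y7, .y2, .y1, .p, .hi, .p7, .hi, .p9, .hi, .xii,
   .y2, .p, .xii, .hi, .p4, .y3, .taui, .xii, .y1, .p, .xii, .p, .xii, .y4, .y5, .tau, .X0, .y1, .p4, .xii, .p4, .xii,
   .y2, .hi, .p5, .taui, .xii, .p7, .xii, .p10, .y10, .hi, .p8, .tau, .xii, .p8],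
  [.z, .Z7, .Z6, .Z4, .Z3, .Z1, .Z0, .X9, .X5, .X0, .y9, .y8, .y7, .y6, .y2, .hi, .p8, .hi, .p3, .hi, .p6, .hi, .p7,
   .hi, .p4, .xii, .p2, .hi, .xii, .y9, .tau, .xii, .p, .xii, .y2, .hi, .xii, .y3, .y9, .taui, .y1, .xii, .p10, .xii,
   .y1, .y9, .p10, .xii, .tau, .X0, .p8, .xii, .p10, .xii, .y6, .taui, .xii, .p9, .xii, .y1, .y3, .hi, .p6, .tau,
   .xii, .p2, .hi]⟩

theorem h465 : Hd F (g wAd) b465 := hdD (by decide +kernel)
theorem r465_0 : R9 F (g wAd) b465 [] 0 0 := .of (startD 0 1) (by decide +kernel)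
theorem r465_1 : R9 F (g wAd) b465 [] 0 1 := .of (startD 0 1) (by decide +kernel)
theorem r465_2 : R9 F (g wAd) b465 [] 0 2 := .of (startD 0 1) (by decide +kernel)
theorem r465_3 : R9 F (g wAd) b465 [] 1 0 := .of (startD 0 1) (by decide +kernel)
theorem r465_4 : R9 F (g wAd) b465 [] 1 1 := .of (startD 0 1) (by decide +kernel)
theorem r465_5 : R9 F (g wAd) b465 [] 1 2 := .of (startD 0 1) (by decide +kernel)
theorem r465_6 : R9 F (g wAd) b465 [] 2 0 := .of (startD 0 1) (by decide +kernel)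
theorem r465_7 : R9 F (g wAd) b465 [] 2 1 := .of (startD 0 1) (by decide +kernel)
theorem r465_8 : R9 F (g wAd) b465 [] 2 2 := .of (startD 0 1) (by decide +kernel)
theorem g465 : Gd F (g wAd) (0, d465) [] :=
  good9 ok h465 r465_0 r465_1 r465_2 r465_3 r465_4 r465_5 r465_6 r465_7 r465_8

def b466 : Wd := ⟨0, d466,
  [.z, .Z8, .Z5, .Z1, .Z0, .X9, .X8, .X7, .X3, .X0, .y10, .y7, .y6, .y3, .y1, .p9, .hi, .p5, .hi, .p7, .hi, .p, .hi,
   .p3, .hi, .xii, .hi, .xii, .p8, .y2, .xii, .tau, .X0, .p4, .xii, .y4, .p5, .xii, .p4, .y9, .hi, .p, .tau, .xii,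
   .p8, .xii, .y4, .p, .y7, .tau, .xii, .y2, .p2, .hi],
  [.Z10, .Z8, .Z7, .Z3, .Z1, .Z0, .X9, .X8, .X6, .X0, .y9, .y8, .y6, .y4, .y1, .hi, .p8, .hi, .p9, .hi, .p7, .hi, .p3,
   .hi, .p9, .xii, .p10, .xii, .y1, .y5, .taui, .xii, .y6, .p, .xii, .y10, .p, .xii, .y3, .y10, .taui, .X0, .p9, .xii,
   .p, .hi, .xii, .y2, .p5, .y8, .tau, .xii, .y2, .p3, .xii, .y1, .p2, .xii, .taui, .xii, .p5],
  [.z, .Z10, .Z9, .Z5, .Z3, .Z2, .Z0, .X7, .X6, .X4, .y7, .y6, .y4, .y3, .hi, .p6, .hi, .p9, .hi, .p3, .hi, .p10, .hi,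
   .p8, .hi, .p8, .hi, .xii, .p10, .xii, .y5, .p10, .xii, .y4, .taui, .xii, .p, .xii, .y3, .hi, .xii, .y6, .taui, .X0,
   .p7, .xii, .p7, .xii, .y1, .y9, .taui, .xii, .p5, .xii, .p8, .y2, .y4, .xii, .taui, .xii, .hi, .p7]⟩

theorem h466 : Hd F (g wAd) b466 := hdD (by decide +kernel)
theorem r466_0 : R9 F (g wAd) b466 [] 0 0 := .of (startD 0 1) (by decide +kernel)
theorem r466_1 : R9 F (g wAd) b466 [] 0 1 := .of (startD 0 1) (by decide +kernel)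
theorem r466_2 : R9 F (g wAd) b466 [] 0 2 := .of (startD 0 1) (by decide +kernel)
theorem r466_3 : R9 F (g wAd) b466 [] 1 0 := .of (startD 0 1) (by decide +kernel)
theorem r466_4 : R9 F (g wAd) b466 [] 1 1 := .of (startD 0 1) (by decide +kernel)
theorem r466_5 : R9 F (g wAd) b466 [] 1 2 := .of (startD 0 1) (by decide +kernel)
theorem r466_6 : R9 F (g wAd) b466 [] 2 0 := .of (startD 0 1) (by decide +kernel)
theorem r466_7 : R9 F (g wAd) b466 [] 2 1 := .of (startD 0 1) (by decide +kernel)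
theorem r466_8 : R9 F (g wAd) b466 [] 2 2 := .of (startD 0 1) (by decide +kernel)
theorem g466 : Gd F (g wAd) (0, d466) [] :=
  good9 ok h466 r466_0 r466_1 r466_2 r466_3 r466_4 r466_5 r466_6 r466_7 r466_8

def b467 : Wd := ⟨0, d467,
  [.z, .Z9, .Z7, .Z6, .Z1, .X9, .X5, .X4, .y10, .y9, .y8, .y3, .y2, .y1, .p7, .hi, .p10, .hi, .p9, .hi, .p10, .hi, .p,
   .hi, .p8, .hi, .xii, .p10, .xii, .y2, .taui, .xii, .y6, .p, .xii, .p, .xii, .y5, .tau, .p7, .xii, .y6, .p7, .xii,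
   .y7, .hi, .p5, .taui, .xii, .p3, .xii, .p6, .xii, .y8, .tau, .xii, .p10, .xii, .y8],
  [.z, .Z6, .Z5, .Z2, .X8, .X4, .X2, .X1, .y10, .y8, .y7, .y3, .p7, .hi, .p, .hi, .p6, .hi, .p7, .hi, .p4, .xii, .hi,
   .p8, .xii, .y9, .taui, .X0, .y1, .hi, .xii, .p2, .xii, .y9, .p5, .hi, .p, .tau, .xii, .y2, .p7, .xii, .p, .y8, .hi,
   .p3, .tau, .xii, .p5, .xii, .y2, .y3],
  [.z, .Z6, .Z5, .Z3, .Z2, .Z0, .X10, .X8, .X6, .X3, .X2, .y9, .y8, .y7, .y6, .y5, .y4, .y3, .p6, .hi, .p6, .hi, .p8,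
   .hi, .p8, .hi, .p8, .hi, .xii, .y2, .p, .xii, .y3, .hi, .xii, .y6, .taui, .xii, .p, .xii, .y1, .hi, .xii, .y5,
   .tau, .xii, .p2, .xii, .y9, .hi, .xii, .p6, .y7, .tau, .xii, .y2, .p9, .xii, .p9, .xii, .y6, .tau, .xii, .p5]⟩

theorem h467 : Hd F (g wAd) b467 := hdD (by decide +kernel)
theorem r467_0 : R9 F (g wAd) b467 [] 0 0 := .of (startD 0 1) (by decide +kernel)
theorem r467_1 : R9 F (g wAd) b467 [] 0 1 := .of (startD 0 2) (by decide +kernel)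
theorem r467_2 : R9 F (g wAd) b467 [] 0 2 := .of (startD 0 1) (by decide +kernel)
theorem r467_3 : R9 F (g wAd) b467 [] 1 0 := .of (startD 0 1) (by decide +kernel)
theorem r467_4 : R9 F (g wAd) b467 [] 1 1 := .of (startD 0 1) (by decide +kernel)
theorem r467_5 : R9 F (g wAd) b467 [] 1 2 := .of (startD 0 1) (by decide +kernel)
theorem r467_6 : R9 F (g wAd) b467 [] 2 0 := .of (startD 0 1) (by decide +kernel)
theorem r467_7 : R9 F (g wAd) b467 [] 2 1 := .of (startD 0 1) (by decide +kernel)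
theorem r467_8 : R9 F (g wAd) b467 [] 2 2 := .of (startD 0 1) (by decide +kernel)
theorem g467 : Gd F (g wAd) (0, d467) [] :=
  good9 ok h467 r467_0 r467_1 r467_2 r467_3 r467_4 r467_5 r467_6 r467_7 r467_8

def b468 : Wd := ⟨0, d468,
  [.Z10, .Z9, .Z6, .Z4, .Z2, .Z1, .Z0, .X8, .X7, .X6, .X4, .X3, .X2, .y7, .y5, .y1, .p7, .hi, .p10, .hi, .p4, .hi,
   .p4, .hi, .p3, .hi, .p6, .xii, .hi, .xii, .p5, .y7, .hi, .p8, .tau, .xii, .y6, .p, .xii, .p, .xii, .y1, .y2, .y4,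
   .taui, .xii, .p7, .xii, .y2, .p9, .y4, .xii, .y5, .y8, .tau, .xii, .p5, .xii, .y7, .p, .y8, .hi, .taui, .xii, .p2],
  [.z, .Z10, .Z9, .Z8, .Z7, .Z6, .Z4, .Z3, .Z2, .Z0, .X10, .X7, .X5, .X3, .X2, .y10, .y9, .y3, .y1, .p10, .hi, .p5,
   .hi, .p6, .hi, .p10, .hi, .p4, .hi, .p10, .hi, .xii, .y2, .taui, .xii, .p, .xii, .y1, .hi, .xii, .y3, .y4, .taui,
   .p5, .xii, .y3, .p7, .xii, .p, .taui, .xii, .p5, .xii, .y4, .y9, .p4, .hi, .taui, .xii, .y2, .p2, .hi, .p],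
  [.Z8, .Z7, .Z5, .Z1, .X10, .X7, .X6, .X2, .y8, .y7, .y6, .y5, .y1, .hi, .p10, .hi, .p9, .hi, .p6, .hi, .p10, .hi,
   .p6, .hi, .p8, .hi, .xii, .p2, .hi, .xii, .y2, .y4, .taui, .xii, .y6, .p, .xii, .y10, .p, .xii, .y7, .taui, .xii,
   .p2, .xii, .y5, .p7, .xii, .y1, .y4, .taui, .xii, .p5, .xii, .y1, .y6, .p5, .taui, .xii, .hi, .p6]⟩

theorem h468 : Hd F (g wAd) b468 := hdD (by decide +kernel)
theorem r468_0 : R9 F (g wAd) b468 [] 0 0 := .of (startD 0 1) (by decide +kernel)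
theorem r468_1 : R9 F (g wAd) b468 [] 0 1 := .of (startD 0 1) (by decide +kernel)
theorem r468_2 : R9 F (g wAd) b468 [] 0 2 := .of (startD 0 1) (by decide +kernel)
theorem r468_3 : R9 F (g wAd) b468 [] 1 0 := .of (startD 0 1) (by decide +kernel)
theorem r468_4 : R9 F (g wAd) b468 [] 1 1 := .of (startD 0 1) (by decide +kernel)
theorem r468_5 : R9 F (g wAd) b468 [] 1 2 := .of (startD 0 1) (by decide +kernel)
theorem r468_6 : R9 F (g wAd) b468 [] 2 0 := .of (startD 0 1) (by decide +kernel)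
theorem r468_7 : R9 F (g wAd) b468 [] 2 1 := .of (startD 0 1) (by decide +kernel)
theorem r468_8 : R9 F (g wAd) b468 [] 2 2 := .of (startD 0 1) (by decide +kernel)
theorem g468 : Gd F (g wAd) (0, d468) [] :=
  good9 ok h468 r468_0 r468_1 r468_2 r468_3 r468_4 r468_5 r468_6 r468_7 r468_8

def b469 : Wd := ⟨0, d469,
  [.Z10, .Z7, .Z6, .Z5, .Z1, .Z0, .X10, .X8, .X7, .X6, .X3, .X2, .X0, .y6, .y3, .y2, .p4, .hi, .p3, .hi, .p9, .hi,
   .p6, .hi, .p7, .hi, .p4, .xii, .p10, .xii, .y8, .p6, .xii, .y3, .tau, .y1, .xii, .p10, .xii, .y8, .p10, .xii, .y1,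
   .y3, .tau, .X0, .y1, .xii, .p9, .xii, .y7, .y10, .p8, .xii, .y5, .y7, .y10, .tau, .xii, .p7, .xii, .p3, .xii, .y1,
   .y3, .taui, .xii, .y7, .p2],
  [.Z6, .Z5, .Z2, .Z1, .Z0, .X10, .X6, .X3, .X2, .y9, .y8, .y5, .p6, .hi, .p4, .hi, .p10, .hi, .p7, .hi, .p, .hi,
   .p10, .xii, .p, .xii, .p, .xii, .y5, .y8, .tau, .X0, .p7, .xii, .p, .hi, .xii, .y4, .p3, .taui, .p7, .xii, .p,
   .xii, .y1, .tau, .xii, .p4, .xii, .y2, .p5, .y7, .xii, .y6, .tau, .xii, .hi, .p2],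
  [.z, .Z10, .Z9, .Z7, .Z5, .Z4, .Z1, .Z0, .X7, .X5, .X4, .X2, .y10, .y9, .y7, .y4, .y2, .y1, .p2, .hi, .p, .hi, .p8,
   .hi, .p5, .hi, .p10, .hi, .p7, .hi, .xii, .p10, .xii, .y6, .p3, .hi, .p2, .tau, .X0, .p4, .xii, .p4, .y4, .xii,
   .y4, .y10, .p4, .xii, .tau, .xii, .p5, .xii, .p8, .y4, .xii, .y5, .tau, .xii, .p4, .xii, .y4]⟩

theorem h469 : Hd F (g wAd) b469 := hdD (by decide +kernel)
theorem r469_0 : R9 F (g wAd) b469 [] 0 0 := .of (startD 0 1) (by decide +kernel)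
theorem r469_1 : R9 F (g wAd) b469 [] 0 1 := .of (startD 0 1) (by decide +kernel)
theorem r469_2 : R9 F (g wAd) b469 [] 0 2 := .of (startD 0 1) (by decide +kernel)
theorem r469_3 : R9 F (g wAd) b469 [] 1 0 := .of (startD 0 1) (by decide +kernel)
theorem r469_4 : R9 F (g wAd) b469 [] 1 1 := .of (startD 0 1) (by decide +kernel)
theorem r469_5 : R9 F (g wAd) b469 [] 1 2 := .of (startD 0 1) (by decide +kernel)
theorem r469_6 : R9 F (g wAd) b469 [] 2 0 := .of (startD 0 1) (by decide +kernel)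
theorem r469_7 : R9 F (g wAd) b469 [] 2 1 := .of (startD 0 1) (by decide +kernel)
theorem r469_8 : R9 F (g wAd) b469 [] 2 2 := .of (startD 0 1) (by decide +kernel)
theorem g469 : Gd F (g wAd) (0, d469) [] :=
  good9 ok h469 r469_0 r469_1 r469_2 r469_3 r469_4 r469_5 r469_6 r469_7 r469_8

theorem all : AllG F (g wAd) LD46 :=
  .cons g460 (.cons g461 (.cons g462 (.cons g463 (.cons g464 (.cons g465 (.cons g466 (.cons g467 (.cons g468 (.cons g469 (.nil))))))))))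

end Cfsg.Agent.BX.No33.Bk.D46
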