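import Cfsg.Agent.BX.No33.Cheap
set_option linter.all false

/-!
# Tests, diagonal case, part 48 (helper5; generated)
-/

set_option autoImplicit false
set_option maxRecDepth 100000
set_option Elab.async false

namespace Cfsg.Agent.BX.No33.Bk.D48

open Cfsg.Agent.H819.U33 Cfsg.Agent.BX.No33.Front

def b480 : Wd := ⟨0, d480,
  [.Z10, .Z9, .Z6, .Z4, .Z2, .X10, .X8, .X7, .X5, .y10, .y9, .y7, .y6, .y4, .y2, .y1, .p10, .hi, .p7, .hi, .p3, .hi,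
   .p10, .hi, .p10, .hi, .p5, .hi, .p5, .hi, .xii, .p, .xii, .hi, .p4, .tau, .xii, .p, .xii, .y4, .y10, .hi, .xii,
   .y7, .y10, .tau, .p10, .xii, .p10, .xii, .p5, .y3, .hi, .taui, .xii, .p4, .xii, .p8, .y3, .xii, .y3, .y9, .taui,
   .xii, .p, .xii],
  [.Z9, .Z6, .Z4, .Z2, .Z1, .Z0, .X10, .X9, .X6, .X5, .X2, .X0, .y9, .y3, .y2, .y1, .hi, .p8, .hi, .p9, .hi, .p4, .hi,
   .p, .hi, .p9, .xii, .tau, .xii, .y1, .p, .xii, .p, .y7, .xii, .y4, .y7, .tau, .xii, .hi, .xii, .y7, .p9, .xii, .p3,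
   .y6, .tau, .xii, .y2, .p5, .hi, .p10, .xii, .tau, .xii, .hi, .p6],
  [.z, .Z9, .Z8, .Z7, .Z6, .Z5, .Z4, .Z2, .X9, .X7, .X4, .X2, .X1, .X0, .y9, .y8, .y7, .y6, .y5, .y3, .hi, .p6, .hi,
   .p3, .hi, .p10, .hi, .p8, .hi, .p9, .hi, .p9, .hi, .xii, .p, .xii, .y6, .p9, .tau, .y1, .xii, .p10, .xii, .y4,
   .p10, .xii, .y2, .y4, .taui, .p4, .xii, .p7, .xii, .p, .y3, .hi, .p6, .tau, .xii, .p9, .xii, .y8, .p6, .xii, .y2,
   .taui, .xii, .y7, .p10]⟩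

theorem h480 : Hd F (g wAd) b480 := hdD (by decide +kernel)
theorem r480_0 : R9 F (g wAd) b480 [] 0 0 := .of (startD 0 1) (by decide +kernel)
theorem r480_1 : R9 F (g wAd) b480 [] 0 1 := .of (startD 0 1) (by decide +kernel)
theorem r480_2 : R9 F (g wAd) b480 [] 0 2 := .of (startD 0 1) (by decide +kernel)
theorem r480_3 : R9 F (g wAd) b480 [] 1 0 := .of (startD 0 1) (by decide +kernel)
theorem r480_4 : R9 F (g wAd) b480 [] 1 1 := .of (startD 0 1) (by decide +kernel)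
theorem r480_5 : R9 F (g wAd) b480 [] 1 2 := .of (startD 0 1) (by decide +kernel)
theorem r480_6 : R9 F (g wAd) b480 [] 2 0 := .of (startD 0 1) (by decide +kernel)
theorem r480_7 : R9 F (g wAd) b480 [] 2 1 := .of (startD 0 1) (by decide +kernel)
theorem r480_8 : R9 F (g wAd) b480 [] 2 2 := .of (startD 0 1) (by decide +kernel)
theorem g480 : Gd F (g wAd) (0, d480) [] :=
  good9 ok h480 r480_0 r480_1 r480_2 r480_3 r480_4 r480_5 r480_6 r480_7 r480_8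

def b481 : Wd := ⟨0, d481,
  [.z, .Z8, .Z7, .Z6, .Z3, .Z0, .X9, .X7, .X6, .X3, .X2, .X1, .X0, .y8, .y7, .y6, .y4, .y3, .y2, .y1, .hi, .p, .hi,
   .p10, .hi, .p2, .hi, .p6, .hi, .p8, .hi, .p5, .hi, .xii, .p10, .xii, .p9, .xii, .y5, .y9, .tau, .xii, .y1, .p,
   .xii, .p, .xii, .y1, .y9, .taui, .X0, .y1, .xii, .y1, .p9, .xii, .y5, .p5, .xii, .y1, .y5, .taui, .xii, .p3, .xii,
   .y7, .hi, .p8],
  [.Z8, .Z7, .Z5, .Z4, .Z2, .X9, .X7, .X6, .X0, .y10, .y8, .y7, .y5, .y2, .y1, .p8, .hi, .p3, .hi, .p5, .hi, .p4, .hi,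
   .p10, .hi, .p8, .xii, .p10, .xii, .y8, .p10, .tau, .p10, .xii, .y6, .hi, .xii, .p5, .hi, .p8, .taui, .p8, .xii,
   .y1, .y2, .p4, .xii, .p10, .taui, .xii, .p5, .xii, .p9, .y2, .xii, .y4, .y10, .tau],
  [.Z7, .Z3, .Z2, .Z1, .Z0, .X10, .X8, .X6, .X4, .X3, .X2, .X1, .X0, .y10, .y9, .y8, .y6, .y2, .p9, .hi, .p8, .hi,
   .p9, .hi, .p3, .hi, .p3, .hi, .p7, .hi, .xii, .p, .xii, .y6, .tau, .xii, .y6, .p, .xii, .y4, .p, .xii, .y3, .taui,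
   .X0, .hi, .xii, .p6, .xii, .y4, .y7, .p2, .hi, .tau, .xii, .y2, .p9, .xii, .y6, .p3, .xii, .y3, .y5, .tau, .xii,
   .p2]⟩

theorem h481 : Hd F (g wAd) b481 := hdD (by decide +kernel)
theorem r481_0 : R9 F (g wAd) b481 [] 0 0 := .of (startD 0 1) (by decide +kernel)
theorem r481_1 : R9 F (g wAd) b481 [] 0 1 := .of (startD 0 1) (by decide +kernel)
theorem r481_2 : R9 F (g wAd) b481 [] 0 2 := .of (startD 0 1) (by decide +kernel)
theorem r481_3 : R9 F (g wAd) b481 [] 1 0 := .of (startD 0 1) (by decide +kernel)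
theorem r481_4 : R9 F (g wAd) b481 [] 1 1 := .of (startD 0 1) (by decide +kernel)
theorem r481_5 : R9 F (g wAd) b481 [] 1 2 := .of (startD 0 1) (by decide +kernel)
theorem r481_6 : R9 F (g wAd) b481 [] 2 0 := .of (startD 0 1) (by decide +kernel)
theorem r481_7 : R9 F (g wAd) b481 [] 2 1 := .of (startD 0 1) (by decide +kernel)
theorem r481_8 : R9 F (g wAd) b481 [] 2 2 := .of (startD 0 1) (by decide +kernel)
theorem g481 : Gd F (g wAd) (0, d481) [] :=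
  good9 ok h481 r481_0 r481_1 r481_2 r481_3 r481_4 r481_5 r481_6 r481_7 r481_8

def b482 : Wd := ⟨0, d482,
  [.Z8, .Z7, .Z5, .Z3, .Z0, .X10, .X9, .X8, .X6, .X3, .X1, .X0, .y10, .y8, .y1, .p2, .hi, .p4, .hi, .p8, .hi, .p9,
   .hi, .p7, .xii, .y2, .p3, .hi, .xii, .y3, .p10, .taui, .xii, .y2, .p, .xii, .y1, .hi, .xii, .y4, .y5, .taui, .p6,
   .xii, .y8, .p2, .xii, .y4, .p8, .tau, .xii, .p3, .xii, .hi, .p7, .y1, .tau, .xii, .p],
  [.z, .Z7, .Z1, .Z0, .X10, .X9, .X5, .X4, .X3, .X2, .X0, .y8, .y6, .y3, .y2, .y1, .p10, .hi, .p10, .hi, .p8, .hi,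
   .p6, .hi, .p8, .hi, .p2, .xii, .p2, .hi, .xii, .y8, .p10, .taui, .xii, .p3, .hi, .xii, .y8, .y9, .tau, .p4, .xii,
   .y1, .p8, .xii, .y6, .p10, .taui, .xii, .p5, .xii, .y7, .p2, .y5, .taui, .xii, .p5, .hi, .p2],
  [.Z8, .Z7, .Z5, .Z0, .X10, .X7, .X5, .X4, .X2, .y9, .y7, .y5, .p5, .hi, .p4, .hi, .p4, .hi, .p8, .hi, .p10, .hi,
   .p2, .hi, .xii, .p10, .xii, .y6, .p5, .xii, .y8, .tau, .y1, .xii, .y2, .hi, .xii, .y9, .p10, .xii, .y10, .taui,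
   .X0, .p10, .xii, .y4, .p10, .xii, .p5, .hi, .tau, .xii, .p4, .xii, .y6, .p4, .xii, .y2, .y8, .taui, .xii, .hi, .p4]⟩

theorem h482 : Hd F (g wAd) b482 := hdD (by decide +kernel)
theorem r482_0 : R9 F (g wAd) b482 [] 0 0 := .of (startD 0 1) (by decide +kernel)
theorem r482_1 : R9 F (g wAd) b482 [] 0 1 := .of (startD 0 1) (by decide +kernel)
theorem r482_2 : R9 F (g wAd) b482 [] 0 2 := .of (startD 0 1) (by decide +kernel)
theorem r482_3 : R9 F (g wAd) b482 [] 1 0 := .of (startD 0 1) (by decide +kernel)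
theorem r482_4 : R9 F (g wAd) b482 [] 1 1 := .of (startD 0 1) (by decide +kernel)
theorem r482_5 : R9 F (g wAd) b482 [] 1 2 := .of (startD 0 1) (by decide +kernel)
theorem r482_6 : R9 F (g wAd) b482 [] 2 0 := .of (startD 0 1) (by decide +kernel)
theorem r482_7 : R9 F (g wAd) b482 [] 2 1 := .of (startD 0 1) (by decide +kernel)
theorem r482_8 : R9 F (g wAd) b482 [] 2 2 := .of (startD 0 1) (by decide +kernel)
theorem g482 : Gd F (g wAd) (0, d482) [] :=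
  good9 ok h482 r482_0 r482_1 r482_2 r482_3 r482_4 r482_5 r482_6 r482_7 r482_8

def b483 : Wd := ⟨0, d483,
  [.z, .Z10, .Z9, .Z6, .Z1, .X10, .X9, .X8, .X6, .X4, .X3, .X2, .y7, .y4, .y2, .y1, .p8, .hi, .p7, .hi, .p3, .hi, .p6,
   .hi, .p5, .hi, .p, .xii, .p, .xii, .y6, .p9, .xii, .y4, .tau, .xii, .p, .xii, .y1, .y6, .hi, .xii, .y7, .taui, .X0,
   .y1, .p4, .xii, .p9, .xii, .y1, .p6, .xii, .tau, .xii, .p9, .xii, .y8, .p2, .hi, .p5, .tau, .xii, .hi, .p10],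
  [.Z9, .Z7, .Z4, .Z3, .Z2, .Z0, .X10, .X7, .X4, .X3, .X2, .y10, .y9, .y8, .y6, .y2, .p9, .hi, .p3, .hi, .p, .hi, .p3,
   .hi, .p7, .hi, .p8, .xii, .p, .xii, .p, .xii, .y1, .y4, .taui, .xii, .p, .xii, .y6, .p2, .hi, .taui, .X0, .p4,
   .xii, .hi, .xii, .y6, .p10, .tau, .xii, .p9, .xii, .y4, .y7, .p8, .xii, .y6, .tau],
  [.Z10, .Z9, .Z8, .Z7, .Z6, .Z2, .Z0, .X8, .X7, .X3, .X2, .X0, .y9, .y7, .y3, .p6, .hi, .p10, .hi, .p9, .hi, .p8,
   .hi, .p9, .hi, .p4, .hi, .xii, .y2, .p3, .hi, .xii, .p6, .taui, .y1, .xii, .p10, .xii, .y1, .p10, .xii, .taui, .X0,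
   .p5, .xii, .p9, .y2, .xii, .y1, .y2, .p3, .xii, .tau, .xii, .p8, .xii, .y6, .p3, .hi, .taui, .xii, .y2, .p]⟩

theorem h483 : Hd F (g wAd) b483 := hdD (by decide +kernel)
theorem r483_0 : R9 F (g wAd) b483 [] 0 0 := .of (startD 0 1) (by decide +kernel)
theorem r483_1 : R9 F (g wAd) b483 [] 0 1 := .of (startD 0 1) (by decide +kernel)
theorem r483_2 : R9 F (g wAd) b483 [] 0 2 := .of (startD 0 1) (by decide +kernel)
theorem r483_3 : R9 F (g wAd) b483 [] 1 0 := .of (startD 0 1) (by decide +kernel)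
theorem r483_4 : R9 F (g wAd) b483 [] 1 1 := .of (startD 0 1) (by decide +kernel)
theorem r483_5 : R9 F (g wAd) b483 [] 1 2 := .of (startD 0 1) (by decide +kernel)
theorem r483_6 : R9 F (g wAd) b483 [] 2 0 := .of (startD 0 1) (by decide +kernel)
theorem r483_7 : R9 F (g wAd) b483 [] 2 1 := .of (startD 0 1) (by decide +kernel)
theorem r483_8 : R9 F (g wAd) b483 [] 2 2 := .of (startD 0 1) (by decide +kernel)
theorem g483 : Gd F (g wAd) (0, d483) [] :=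
  good9 ok h483 r483_0 r483_1 r483_2 r483_3 r483_4 r483_5 r483_6 r483_7 r483_8

def b484 : Wd := ⟨0, d484,
  [.z, .Z10, .Z9, .Z4, .Z1, .X10, .X7, .X4, .X3, .X1, .X0, .y7, .y3, .y1, .p7, .hi, .p, .hi, .p8, .hi, .p8, .hi, .p5,
   .hi, .p7, .xii, .hi, .p8, .xii, .y4, .y9, .p10, .taui, .xii, .p, .xii, .p2, .hi, .xii, .tau, .X0, .p7, .xii, .p8,
   .xii, .y7, .p2, .y5, .tau, .xii, .p7, .xii, .y4, .y7, .p3, .xii, .y7, .tau, .xii, .p4, .hi, .p],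
  [.Z8, .Z6, .Z4, .Z3, .Z0, .X8, .X7, .X5, .X2, .y7, .y6, .y3, .y1, .hi, .p7, .hi, .p9, .hi, .p6, .hi, .p, .hi, .p2,
   .hi, .xii, .y2, .hi, .p8, .taui, .xii, .y1, .p, .xii, .y4, .y10, .p, .xii, .y6, .tau, .p5, .xii, .y9, .p2, .xii,
   .y1, .hi, .xii, .y5, .taui, .xii, .p6, .xii, .y2, .p4, .xii, .y8, .tau],
  [.z, .Z10, .Z8, .Z7, .Z3, .Z0, .X10, .X9, .X7, .X4, .y10, .y8, .y7, .y6, .y5, .y3, .y2, .p10, .hi, .p7, .hi, .p8,
   .hi, .p6, .hi, .p8, .hi, .p7, .xii, .p10, .xii, .p6, .xii, .y3, .taui, .y1, .xii, .p10, .xii, .y5, .p10, .xii, .y4,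
   .y8, .taui, .p8, .xii, .y1, .p2, .hi, .xii, .y2, .y4, .p, .tau, .xii, .p2, .xii, .p6, .y6, .xii, .y3, .y10, .taui,
   .xii, .p3, .xii, .y9]⟩

theorem h484 : Hd F (g wAd) b484 := hdD (by decide +kernel)
theorem r484_0 : R9 F (g wAd) b484 [] 0 0 := .of (startD 0 1) (by decide +kernel)
theorem r484_1 : R9 F (g wAd) b484 [] 0 1 := .of (startD 0 1) (by decide +kernel)
theorem r484_2 : R9 F (g wAd) b484 [] 0 2 := .of (startD 0 1) (by decide +kernel)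
theorem r484_3 : R9 F (g wAd) b484 [] 1 0 := .of (startD 0 1) (by decide +kernel)
theorem r484_4 : R9 F (g wAd) b484 [] 1 1 := .of (startD 0 1) (by decide +kernel)
theorem r484_5 : R9 F (g wAd) b484 [] 1 2 := .of (startD 0 1) (by decide +kernel)
theorem r484_6 : R9 F (g wAd) b484 [] 2 0 := .of (startD 0 1) (by decide +kernel)
theorem r484_7 : R9 F (g wAd) b484 [] 2 1 := .of (startD 0 1) (by decide +kernel)
theorem r484_8 : R9 F (g wAd) b484 [] 2 2 := .of (startD 0 1) (by decide +kernel)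
theorem g484 : Gd F (g wAd) (0, d484) [] :=
  good9 ok h484 r484_0 r484_1 r484_2 r484_3 r484_4 r484_5 r484_6 r484_7 r484_8

def b485 : Wd := ⟨0, d485,
  [.z, .Z10, .Z3, .Z2, .Z0, .X8, .X3, .X1, .y9, .y7, .y5, .y3, .y2, .y1, .hi, .p5, .hi, .p10, .hi, .p9, .hi, .p3, .hi,
   .p5, .hi, .p3, .xii, .hi, .xii, .p10, .y9, .xii, .y8, .tau, .xii, .y2, .p, .xii, .y3, .y10, .hi, .xii, .y7, .taui,
   .p7, .xii, .p7, .xii, .p10, .y3, .hi, .p8, .y7, .tau, .xii, .p2, .xii, .y6, .p6, .xii, .y8, .y10, .tau, .xii, .y7,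
   .p],
  [.Z10, .Z8, .Z3, .Z0, .X7, .X5, .X2, .y7, .y6, .y3, .y2, .y1, .p3, .hi, .p4, .hi, .p10, .hi, .p10, .hi, .p10, .hi,
   .p2, .hi, .xii, .y2, .hi, .p4, .hi, .p4, .tau, .y1, .xii, .p10, .xii, .y1, .y9, .p10, .xii, .y2, .y4, .taui, .p2,
   .xii, .hi, .p8, .xii, .y4, .p9, .y9, .taui, .xii, .p7, .xii, .y2, .p9, .xii, .y2, .y7],
  [.z, .Z10, .Z8, .Z6, .Z4, .Z1, .Z0, .X10, .X7, .X6, .X4, .X3, .y8, .y7, .y6, .y5, .y4, .y1, .p6, .hi, .p10, .hi,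
   .p8, .hi, .p4, .hi, .p5, .hi, .p7, .xii, .p, .xii, .y1, .y2, .hi, .p10, .taui, .y1, .xii, .p10, .xii, .y2, .p10,
   .xii, .y10, .taui, .p8, .xii, .y5, .p3, .xii, .y4, .p5, .hi, .taui, .xii, .p6, .xii, .y4, .p5, .hi, .p3, .taui,
   .xii, .p]⟩

theorem h485 : Hd F (g wAd) b485 := hdD (by decide +kernel)
theorem r485_0 : R9 F (g wAd) b485 [] 0 0 := .of (startD 0 1) (by decide +kernel)
theorem r485_1 : R9 F (g wAd) b485 [] 0 1 := .of (startD 0 1) (by decide +kernel)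
theorem r485_2 : R9 F (g wAd) b485 [] 0 2 := .of (startD 0 1) (by decide +kernel)
theorem r485_3 : R9 F (g wAd) b485 [] 1 0 := .of (startD 0 1) (by decide +kernel)
theorem r485_4 : R9 F (g wAd) b485 [] 1 1 := .of (startD 0 1) (by decide +kernel)
theorem r485_5 : R9 F (g wAd) b485 [] 1 2 := .of (startD 0 1) (by decide +kernel)
theorem r485_6 : R9 F (g wAd) b485 [] 2 0 := .of (startD 0 1) (by decide +kernel)
theorem r485_7 : R9 F (g wAd) b485 [] 2 1 := .of (startD 0 1) (by decide +kernel)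
theorem r485_8 : R9 F (g wAd) b485 [] 2 2 := .of (startD 0 1) (by decide +kernel)
theorem g485 : Gd F (g wAd) (0, d485) [] :=
  good9 ok h485 r485_0 r485_1 r485_2 r485_3 r485_4 r485_5 r485_6 r485_7 r485_8

def b486 : Wd := ⟨0, d486,
  [.Z10, .Z9, .Z3, .Z1, .X9, .X8, .X7, .X6, .X5, .X4, .X3, .X1, .y9, .y6, .y5, .y4, .y2, .p3, .hi, .p9, .hi, .p9, .hi,
   .p8, .hi, .p8, .hi, .p6, .hi, .xii, .hi, .xii, .p8, .y10, .xii, .y4, .tau, .xii, .p, .xii, .y2, .hi, .xii, .y3,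
   .y4, .tau, .xii, .p5, .xii, .y3, .y7, .p7, .xii, .p9, .y4, .tau, .xii, .p4, .xii, .y6, .p3, .y10, .hi, .p5, .tau,
   .xii, .y2, .p8],
  [.Z10, .Z8, .Z6, .Z4, .Z3, .X9, .X8, .X7, .X5, .X4, .X3, .y10, .y8, .y4, .y3, .p6, .hi, .p10, .hi, .p2, .hi, .p10,
   .hi, .p8, .hi, .p, .xii, .hi, .xii, .y6, .tau, .xii, .p, .xii, .y2, .hi, .xii, .y3, .y9, .taui, .y1, .xii, .p5,
   .xii, .y1, .p8, .y10, .xii, .y5, .y7, .tau, .xii, .p4, .xii, .p, .hi, .y9, .p2],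
  [.Z10, .Z9, .Z7, .Z6, .Z5, .Z4, .Z3, .Z2, .Z0, .X8, .X7, .X6, .X5, .X2, .y10, .y9, .y8, .y5, .y4, .y2, .y1, .hi,
   .p9, .hi, .p8, .hi, .p8, .hi, .p6, .hi, .p9, .xii, .p, .xii, .y10, .p9, .taui, .xii, .y1, .p, .xii, .p, .xii, .y7,
   .y8, .tau, .X0, .xii, .p4, .xii, .y10, .p5, .xii, .p5, .taui, .xii, .p9, .xii, .p3, .y2, .xii, .y5, .y8, .taui,
   .xii, .y6, .hi, .p4]⟩

theorem h486 : Hd F (g wAd) b486 := hdD (by decide +kernel)
theorem r486_0 : R9 F (g wAd) b486 [] 0 0 := .of (startD 0 1) (by decide +kernel)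
theorem r486_1 : R9 F (g wAd) b486 [] 0 1 := .of (startD 0 1) (by decide +kernel)
theorem r486_2 : R9 F (g wAd) b486 [] 0 2 := .of (startD 0 1) (by decide +kernel)
theorem r486_3 : R9 F (g wAd) b486 [] 1 0 := .of (startD 0 1) (by decide +kernel)
theorem r486_4 : R9 F (g wAd) b486 [] 1 1 := .of (startD 0 1) (by decide +kernel)
theorem r486_5 : R9 F (g wAd) b486 [] 1 2 := .of (startD 0 1) (by decide +kernel)
theorem r486_6 : R9 F (g wAd) b486 [] 2 0 := .of (startD 0 1) (by decide +kernel)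
theorem r486_7 : R9 F (g wAd) b486 [] 2 1 := .of (startD 0 1) (by decide +kernel)
theorem r486_8 : R9 F (g wAd) b486 [] 2 2 := .of (startD 0 2) (by decide +kernel)
theorem g486 : Gd F (g wAd) (0, d486) [] :=
  good9 ok h486 r486_0 r486_1 r486_2 r486_3 r486_4 r486_5 r486_6 r486_7 r486_8

def b487 : Wd := ⟨0, d487,
  [.z, .Z9, .Z6, .Z5, .Z1, .Z0, .X10, .X9, .X8, .X4, .X2, .X1, .y9, .y6, .y4, .y3, .hi, .p, .hi, .p7, .hi, .p6, .hi,
   .p7, .hi, .p7, .xii, .p, .xii, .hi, .y7, .p10, .taui, .xii, .y1, .p3, .hi, .xii, .p10, .y1, .tau, .X0, .p7, .xii,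
   .p7, .xii, .y4, .y5, .p9, .taui, .xii, .p5, .xii, .y4, .y8, .p9, .xii, .y5, .tau, .xii, .p10],
  [.z, .Z10, .Z9, .Z6, .Z4, .Z0, .X9, .X8, .X6, .X2, .y9, .y7, .y4, .y3, .y2, .p9, .hi, .p6, .hi, .p8, .hi, .p7, .xii,
   .hi, .xii, .p10, .xii, .y8, .y10, .taui, .y1, .xii, .p10, .xii, .y1, .p10, .xii, .y2, .taui, .X0, .y1, .xii, .p9,
   .xii, .y4, .p5, .xii, .y3, .y5, .y9, .y10, .tau, .xii, .p3, .xii, .y1, .y2, .hi],
  [.z, .Z7, .Z6, .Z5, .Z0, .X8, .X7, .X3, .X2, .y10, .y7, .y5, .y1, .p, .hi, .p10, .hi, .p5, .hi, .p4, .hi, .p7, .hi,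
   .p6, .xii, .p, .xii, .y3, .p7, .xii, .y2, .tau, .y1, .xii, .p10, .xii, .y4, .p10, .xii, .y4, .y9, .tau, .X0, .p6,
   .xii, .p9, .xii, .y6, .hi, .p10, .y9, .taui, .xii, .p6, .xii, .y1, .p, .xii, .y8, .y10, .taui, .xii, .y6]⟩

theorem h487 : Hd F (g wAd) b487 := hdD (by decide +kernel)
theorem r487_0 : R9 F (g wAd) b487 [] 0 0 := .of (startD 0 1) (by decide +kernel)
theorem r487_1 : R9 F (g wAd) b487 [] 0 1 := .of (startD 0 1) (by decide +kernel)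
theorem r487_2 : R9 F (g wAd) b487 [] 0 2 := .of (startD 0 1) (by decide +kernel)
theorem r487_3 : R9 F (g wAd) b487 [] 1 0 := .of (startD 0 1) (by decide +kernel)
theorem r487_4 : R9 F (g wAd) b487 [] 1 1 := .of (startD 0 1) (by decide +kernel)
theorem r487_5 : R9 F (g wAd) b487 [] 1 2 := .of (startD 0 1) (by decide +kernel)
theorem r487_6 : R9 F (g wAd) b487 [] 2 0 := .of (startD 0 1) (by decide +kernel)
theorem r487_7 : R9 F (g wAd) b487 [] 2 1 := .of (startD 0 1) (by decide +kernel)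
theorem r487_8 : R9 F (g wAd) b487 [] 2 2 := .of (startD 0 1) (by decide +kernel)
theorem g487 : Gd F (g wAd) (0, d487) [] :=
  good9 ok h487 r487_0 r487_1 r487_2 r487_3 r487_4 r487_5 r487_6 r487_7 r487_8

def b488 : Wd := ⟨0, d488,
  [.z, .Z6, .Z5, .Z4, .Z3, .Z2, .Z1, .Z0, .X10, .X7, .X6, .X3, .X2, .X1, .X0, .y9, .y8, .y7, .y4, .y2, .hi, .p3, .hi,
   .p10, .hi, .p5, .hi, .p8, .hi, .p6, .xii, .p3, .hi, .xii, .y7, .p6, .taui, .xii, .y1, .p, .xii, .y4, .p, .xii, .y3,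
   .taui, .p8, .xii, .y6, .hi, .xii, .y4, .p10, .taui, .xii, .y2, .p, .xii, .hi, .p5],
  [.Z10, .Z8, .Z3, .Z2, .Z1, .X10, .X6, .X3, .X2, .X1, .y7, .y6, .y5, .y1, .hi, .p8, .hi, .p5, .hi, .p10, .hi, .p10,
   .hi, .p6, .xii, .hi, .xii, .p10, .tau, .xii, .y6, .p, .xii, .y10, .p, .xii, .y1, .y4, .taui, .X0, .p5, .xii, .y2,
   .hi, .xii, .y9, .p8, .tau, .xii, .p4, .xii, .y1, .p5, .xii, .y5, .tau, .xii, .y6],
  [.Z10, .Z8, .Z7, .Z1, .Z0, .X7, .X6, .X4, .X1, .X0, .y6, .y5, .y3, .y2, .y1, .p6, .hi, .p8, .hi, .p5, .hi, .p, .hi,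
   .p4, .hi, .p9, .xii, .p10, .xii, .p9, .y6, .xii, .y6, .tau, .xii, .y1, .p, .xii, .p, .y7, .xii, .y5, .tau, .p7,
   .xii, .y4, .hi, .xii, .y4, .p8, .taui, .xii, .p5, .xii, .y5, .p2, .y4, .tau, .xii, .p2, .hi, .p]⟩

theorem h488 : Hd F (g wAd) b488 := hdD (by decide +kernel)
theorem r488_0 : R9 F (g wAd) b488 [] 0 0 := .of (startD 0 1) (by decide +kernel)
theorem r488_1 : R9 F (g wAd) b488 [] 0 1 := .of (startD 0 1) (by decide +kernel)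
theorem r488_2 : R9 F (g wAd) b488 [] 0 2 := .of (startD 0 1) (by decide +kernel)
theorem r488_3 : R9 F (g wAd) b488 [] 1 0 := .of (startD 0 1) (by decide +kernel)
theorem r488_4 : R9 F (g wAd) b488 [] 1 1 := .of (startD 0 1) (by decide +kernel)
theorem r488_5 : R9 F (g wAd) b488 [] 1 2 := .of (startD 0 1) (by decide +kernel)
theorem r488_6 : R9 F (g wAd) b488 [] 2 0 := .of (startD 0 1) (by decide +kernel)
theorem r488_7 : R9 F (g wAd) b488 [] 2 1 := .of (startD 0 1) (by decide +kernel)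
theorem r488_8 : R9 F (g wAd) b488 [] 2 2 := .of (startD 0 1) (by decide +kernel)
theorem g488 : Gd F (g wAd) (0, d488) [] :=
  good9 ok h488 r488_0 r488_1 r488_2 r488_3 r488_4 r488_5 r488_6 r488_7 r488_8

def b489 : Wd := ⟨0, d489,
  [.z, .Z9, .Z8, .Z7, .Z6, .Z5, .Z4, .Z3, .Z2, .X10, .X9, .X8, .X7, .X5, .X3, .X1, .y9, .y5, .y4, .y3, .y2, .y1, .p9,
   .hi, .p9, .hi, .p4, .hi, .p3, .hi, .xii, .p, .xii, .p4, .xii, .y4, .y8, .taui, .xii, .y6, .p, .xii, .y10, .p, .xii,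
   .y5, .taui, .y1, .xii, .p9, .xii, .y7, .p5, .xii, .y2, .p8, .tau, .xii, .y2, .p8, .xii, .p4, .y5, .xii, .tau, .xii,
   .y2, .p5, .hi],
  [.Z7, .X10, .X9, .X6, .X0, .y9, .y8, .y7, .y6, .y4, .y3, .y2, .p9, .hi, .p9, .hi, .p3, .hi, .p7, .hi, .p8, .hi,
   .xii, .y2, .p10, .xii, .y2, .tau, .y1, .xii, .p10, .xii, .y5, .p10, .xii, .y2, .y8, .taui, .X0, .y1, .p5, .xii,
   .p7, .xii, .y1, .p7, .tau, .xii, .y2, .p7, .xii, .hi, .p7, .y8, .taui, .xii, .hi, .p6],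
  [.Z10, .Z8, .Z7, .Z6, .Z5, .Z4, .Z3, .Z1, .X10, .X9, .y10, .y6, .y5, .p3, .hi, .p, .hi, .p6, .hi, .p10, .hi, .p8,
   .hi, .xii, .y2, .p10, .hi, .p, .taui, .y1, .xii, .p10, .xii, .p10, .y7, .xii, .y1, .y6, .taui, .xii, .y2, .hi,
   .xii, .y5, .p8, .xii, .y5, .taui, .xii, .p5, .xii, .y9, .p, .xii, .y1, .tau, .xii, .hi, .xii, .y4]⟩

theorem h489 : Hd F (g wAd) b489 := hdD (by decide +kernel)
theorem r489_0 : R9 F (g wAd) b489 [] 0 0 := .of (startD 0 1) (by decide +kernel)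
theorem r489_1 : R9 F (g wAd) b489 [] 0 1 := .of (startD 0 1) (by decide +kernel)
theorem r489_2 : R9 F (g wAd) b489 [] 0 2 := .of (startD 0 1) (by decide +kernel)
theorem r489_3 : R9 F (g wAd) b489 [] 1 0 := .of (startD 0 1) (by decide +kernel)
theorem r489_4 : R9 F (g wAd) b489 [] 1 1 := .of (startD 0 1) (by decide +kernel)
theorem r489_5 : R9 F (g wAd) b489 [] 1 2 := .of (startD 0 1) (by decide +kernel)
theorem r489_6 : R9 F (g wAd) b489 [] 2 0 := .of (startD 0 1) (by decide +kernel)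
theorem r489_7 : R9 F (g wAd) b489 [] 2 1 := .of (startD 0 1) (by decide +kernel)
theorem r489_8 : R9 F (g wAd) b489 [] 2 2 := .of (startD 0 1) (by decide +kernel)
theorem g489 : Gd F (g wAd) (0, d489) [] :=
  good9 ok h489 r489_0 r489_1 r489_2 r489_3 r489_4 r489_5 r489_6 r489_7 r489_8

theorem all : AllG F (g wAd) LD48 :=
  .cons g480 (.cons g481 (.cons g482 (.cons g483 (.cons g484 (.cons g485 (.cons g486 (.cons g487 (.cons g488 (.cons g489 (.nil))))))))))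

end Cfsg.Agent.BX.No33.Bk.D48
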