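import Cfsg.Agent.BX.No33.Cheap
set_option linter.all false

/-!
# Tests, diagonal case, part 49 (helper5; generated)
-/

set_option autoImplicit false
set_option maxRecDepth 100000
set_option Elab.async false

namespace Cfsg.Agent.BX.No33.Bk.D49

open Cfsg.Agent.H819.U33 Cfsg.Agent.BX.No33.Front

def b490 : Wd := ⟨0, d490,
  [.Z8, .Z5, .Z4, .Z3, .Z1, .Z0, .X8, .X7, .X6, .X5, .X2, .X0, .y9, .y7, .y6, .y4, .y2, .p9, .hi, .p3, .hi, .p, .hi,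
   .p7, .hi, .p6, .hi, .p2, .xii, .y2, .p10, .xii, .y1, .p9, .xii, .y1, .taui, .xii, .y1, .p, .xii, .y4, .y10, .p,
   .xii, .y7, .tau, .xii, .p4, .xii, .y10, .p9, .y6, .xii, .y10, .p6, .taui, .xii, .y2, .p3, .xii, .y4, .p6, .xii,
   .y6, .tau, .xii, .y6, .p4],
  [.Z8, .Z5, .Z4, .Z2, .Z0, .X6, .X5, .X4, .X3, .X1, .X0, .y6, .y3, .p7, .hi, .p8, .hi, .p4, .hi, .p3, .hi, .p10, .hi,
   .p7, .xii, .hi, .p8, .xii, .y4, .tau, .xii, .y2, .p, .xii, .y3, .y10, .hi, .xii, .y6, .taui, .p5, .xii, .p7, .y1,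
   .xii, .y4, .p5, .tau, .xii, .p4, .xii, .y1, .p2, .y1, .tau, .xii, .hi, .p6],
  [.z, .Z9, .Z8, .Z7, .Z5, .Z4, .Z3, .Z0, .X9, .X8, .X6, .X4, .X0, .y9, .y8, .y6, .y4, .y3, .y2, .y1, .hi, .p9, .hi,
   .p10, .hi, .p8, .hi, .p6, .hi, .p5, .xii, .p, .xii, .p2, .hi, .p5, .tau, .xii, .p, .xii, .y1, .hi, .xii, .y7, .tau,
   .p7, .xii, .p9, .xii, .y3, .y5, .p2, .hi, .p10, .taui, .xii, .p9, .xii, .p9, .xii, .y2, .y4, .tau, .xii, .y4, .p9]⟩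

theorem h490 : Hd F (g wAd) b490 := hdD (by decide +kernel)
theorem r490_0 : R9 F (g wAd) b490 [] 0 0 := .of (startD 0 1) (by decide +kernel)
theorem r490_1 : R9 F (g wAd) b490 [] 0 1 := .of (startD 0 1) (by decide +kernel)
theorem r490_2 : R9 F (g wAd) b490 [] 0 2 := .of (startD 0 1) (by decide +kernel)
theorem r490_3 : R9 F (g wAd) b490 [] 1 0 := .of (startD 0 1) (by decide +kernel)
theorem r490_4 : R9 F (g wAd) b490 [] 1 1 := .of (startD 0 1) (by decide +kernel)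
theorem r490_5 : R9 F (g wAd) b490 [] 1 2 := .of (startD 0 1) (by decide +kernel)
theorem r490_6 : R9 F (g wAd) b490 [] 2 0 := .of (startD 0 1) (by decide +kernel)
theorem r490_7 : R9 F (g wAd) b490 [] 2 1 := .of (startD 0 1) (by decide +kernel)
theorem r490_8 : R9 F (g wAd) b490 [] 2 2 := .of (startD 0 1) (by decide +kernel)
theorem g490 : Gd F (g wAd) (0, d490) [] :=
  good9 ok h490 r490_0 r490_1 r490_2 r490_3 r490_4 r490_5 r490_6 r490_7 r490_8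

def b491 : Wd := ⟨0, d491,
  [.Z10, .Z9, .Z7, .Z6, .Z4, .Z2, .Z1, .X9, .y8, .y7, .y5, .y3, .y2, .y1, .hi, .p7, .hi, .p10, .hi, .p9, .hi, .p7,
   .hi, .p7, .hi, .p5, .xii, .hi, .xii, .p10, .xii, .y9, .y10, .taui, .xii, .y6, .p, .xii, .y10, .p, .xii, .y7, .tau,
   .p9, .xii, .y10, .p3, .xii, .y5, .hi, .p9, .taui, .xii, .y2, .p4, .xii, .y4, .p4, .xii, .y5, .tau, .xii, .p4],
  [.Z10, .Z7, .Z6, .Z3, .Z1, .X9, .X6, .X2, .y8, .y7, .y5, .y4, .y3, .y1, .p3, .hi, .p10, .hi, .p7, .hi, .p6, .hi,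
   .xii, .p10, .taui, .xii, .hi, .p8, .xii, .y2, .taui, .hi, .xii, .p10, .xii, .p10, .y10, .taui, .xii, .y2, .p2,
   .xii, .y10, .p6, .xii, .y4, .tau, .xii, .y6, .p9],
  [.z, .Z10, .Z2, .X10, .X8, .X7, .X5, .X3, .X2, .X1, .X0, .y8, .y7, .p8, .hi, .p6, .hi, .p3, .hi, .p3, .hi, .p9, .hi,
   .p8, .xii, .p2, .hi, .xii, .y7, .p3, .tau, .xii, .p, .xii, .hi, .y8, .xii, .y5, .taui, .xii, .p, .xii, .y1, .y6,
   .hi, .xii, .y7, .taui, .p5, .xii, .y5, .p10, .xii, .taui, .xii, .p7, .xii, .y4, .y6, .p9, .xii, .y5, .taui, .xii]⟩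

theorem h491 : Hd F (g wAd) b491 := hdD (by decide +kernel)
theorem r491_0 : R9 F (g wAd) b491 [] 0 0 := .of (startD 0 1) (by decide +kernel)
theorem r491_1 : R9 F (g wAd) b491 [] 0 1 := .of (startD 0 1) (by decide +kernel)
theorem r491_2 : R9 F (g wAd) b491 [] 0 2 := .of (startD 0 1) (by decide +kernel)
theorem r491_3 : R9 F (g wAd) b491 [] 1 0 := .of (startD 0 1) (by decide +kernel)
theorem r491_4 : R9 F (g wAd) b491 [] 1 1 := .of (startD 0 1) (by decide +kernel)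
theorem r491_5 : R9 F (g wAd) b491 [] 1 2 := .of (startD 0 1) (by decide +kernel)
theorem r491_6 : R9 F (g wAd) b491 [] 2 0 := .of (startD 0 1) (by decide +kernel)
theorem r491_7 : R9 F (g wAd) b491 [] 2 1 := .of (startD 0 1) (by decide +kernel)
theorem r491_8 : R9 F (g wAd) b491 [] 2 2 := .of (startD 0 1) (by decide +kernel)
theorem g491 : Gd F (g wAd) (0, d491) [] :=
  good9 ok h491 r491_0 r491_1 r491_2 r491_3 r491_4 r491_5 r491_6 r491_7 r491_8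

def b492 : Wd := ⟨0, d492,
  [.z, .Z7, .Z5, .Z1, .Z0, .X10, .X9, .X7, .X5, .X4, .X1, .X0, .y5, .hi, .p9, .hi, .p8, .hi, .p, .hi, .p4, .hi, .p6,
   .hi, .xii, .p, .xii, .hi, .p4, .taui, .xii, .p, .xii, .y1, .hi, .xii, .y1, .y9, .tau, .p5, .xii, .p5, .xii, .p8,
   .y10, .xii, .y6, .taui, .xii, .p4, .xii, .y2, .p6, .taui, .xii, .p3, .hi, .p7],
  [.Z8, .Z7, .Z6, .Z4, .Z3, .Z1, .X10, .X9, .X8, .X6, .X5, .X2, .X1, .y9, .y3, .y2, .p8, .hi, .p9, .hi, .p8, .xii, .p,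
   .xii, .p7, .xii, .y9, .tau, .xii, .p, .xii, .y3, .hi, .xii, .y5, .y9, .tau, .p8, .xii, .y2, .p, .xii, .hi, .p,
   .taui, .xii, .p7, .xii, .y4, .p5, .hi, .p4, .tau, .xii, .p2],
  [.Z9, .Z8, .Z7, .Z6, .Z5, .Z1, .Z0, .X2, .y8, .y6, .y5, .y1, .hi, .p7, .hi, .p10, .hi, .p3, .hi, .p6, .hi, .p10,
   .xii, .p2, .hi, .xii, .y2, .p3, .tau, .xii, .p, .xii, .y3, .hi, .xii, .y7, .tau, .X0, .y1, .xii, .p9, .xii, .y4,
   .p5, .y8, .xii, .y4, .y9, .tau, .xii, .y2, .p2, .hi, .xii, .y5, .p4, .hi]⟩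

theorem h492 : Hd F (g wAd) b492 := hdD (by decide +kernel)
theorem r492_0 : R9 F (g wAd) b492 [] 0 0 := .of (startD 0 1) (by decide +kernel)
theorem r492_1 : R9 F (g wAd) b492 [] 0 1 := .of (startD 0 1) (by decide +kernel)
theorem r492_2 : R9 F (g wAd) b492 [] 0 2 := .of (startD 0 1) (by decide +kernel)
theorem r492_3 : R9 F (g wAd) b492 [] 1 0 := .of (startD 0 1) (by decide +kernel)
theorem r492_4 : R9 F (g wAd) b492 [] 1 1 := .of (startD 0 1) (by decide +kernel)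
theorem r492_5 : R9 F (g wAd) b492 [] 1 2 := .of (startD 0 1) (by decide +kernel)
theorem r492_6 : R9 F (g wAd) b492 [] 2 0 := .of (startD 0 1) (by decide +kernel)
theorem r492_7 : R9 F (g wAd) b492 [] 2 1 := .of (startD 0 1) (by decide +kernel)
theorem r492_8 : R9 F (g wAd) b492 [] 2 2 := .of (startD 0 2) (by decide +kernel)
theorem g492 : Gd F (g wAd) (0, d492) [] :=
  good9 ok h492 r492_0 r492_1 r492_2 r492_3 r492_4 r492_5 r492_6 r492_7 r492_8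

def b493 : Wd := ⟨0, d493,
  [.Z10, .Z8, .Z7, .Z2, .X9, .X8, .X7, .X6, .X5, .X4, .X2, .X1, .y8, .y7, .p9, .hi, .p9, .hi, .p7, .hi, .p4, .hi, .p7,
   .hi, .p5, .hi, .p7, .xii, .y2, .hi, .xii, .p5, .hi, .p5, .taui, .xii, .y1, .p, .xii, .y10, .p, .xii, .y5, .tau,
   .X0, .p6, .xii, .y8, .p5, .xii, .y1, .y7, .p3, .taui, .xii, .p8, .xii, .y5, .p4, .taui, .xii, .y2, .p5, .hi, .p2],
  [.Z10, .Z6, .Z3, .Z2, .X10, .X6, .X5, .X1, .y8, .y7, .y4, .y3, .hi, .p7, .hi, .p3, .hi, .p6, .hi, .p10, .hi, .p7,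
   .xii, .p10, .hi, .p2, .hi, .p10, .taui, .y1, .xii, .p10, .xii, .y1, .y7, .p10, .xii, .y8, .y10, .taui, .p4, .xii,
   .y1, .p8, .xii, .p7, .taui, .xii, .p7, .xii, .y5, .p9, .y1, .xii, .y5, .taui, .xii, .p8],
  [.z, .Z10, .Z8, .Z5, .Z4, .Z3, .Z2, .X10, .X8, .X1, .X0, .y10, .y9, .y8, .y6, .y5, .y4, .y2, .p10, .hi, .p10, .hi,
   .p9, .hi, .p10, .hi, .p6, .hi, .p7, .hi, .p2, .xii, .p, .xii, .p9, .y7, .taui, .y1, .xii, .y2, .hi, .xii, .y9,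
   .p10, .xii, .y4, .tau, .X0, .p10, .xii, .p9, .xii, .y5, .p9, .y5, .xii, .taui, .xii, .p4, .xii, .y4, .y10, .hi,
   .taui, .xii, .p2]⟩

theorem h493 : Hd F (g wAd) b493 := hdD (by decide +kernel)
theorem r493_0 : R9 F (g wAd) b493 [] 0 0 := .of (startD 0 1) (by decide +kernel)
theorem r493_1 : R9 F (g wAd) b493 [] 0 1 := .of (startD 0 1) (by decide +kernel)
theorem r493_2 : R9 F (g wAd) b493 [] 0 2 := .of (startD 0 1) (by decide +kernel)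
theorem r493_3 : R9 F (g wAd) b493 [] 1 0 := .of (startD 0 1) (by decide +kernel)
theorem r493_4 : R9 F (g wAd) b493 [] 1 1 := .of (startD 0 1) (by decide +kernel)
theorem r493_5 : R9 F (g wAd) b493 [] 1 2 := .of (startD 0 1) (by decide +kernel)
theorem r493_6 : R9 F (g wAd) b493 [] 2 0 := .of (startD 0 1) (by decide +kernel)
theorem r493_7 : R9 F (g wAd) b493 [] 2 1 := .of (startD 0 1) (by decide +kernel)
theorem r493_8 : R9 F (g wAd) b493 [] 2 2 := .of (startD 0 1) (by decide +kernel)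
theorem g493 : Gd F (g wAd) (0, d493) [] :=
  good9 ok h493 r493_0 r493_1 r493_2 r493_3 r493_4 r493_5 r493_6 r493_7 r493_8

def b494 : Wd := ⟨0, d494,
  [.Z9, .Z7, .Z6, .Z3, .X10, .X8, .X7, .X6, .X5, .X3, .y8, .y6, .y5, .y4, .y3, .p6, .hi, .p10, .hi, .p10, .hi, .p6,
   .hi, .p7, .hi, .p8, .hi, .xii, .p, .xii, .p, .xii, .y3, .tau, .y1, .xii, .p10, .xii, .y1, .y9, .p10, .xii, .y4,
   .tau, .p8, .xii, .p, .y3, .xii, .y10, .hi, .xii, .y6, .tau, .xii, .p4, .xii, .y1, .y6, .p9, .xii, .y10, .taui,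
   .xii, .p4, .xii, .y6],
  [.z, .Z10, .Z7, .Z6, .Z5, .Z3, .Z2, .Z0, .X10, .X8, .X7, .X6, .X5, .X4, .X2, .X1, .X0, .y10, .y9, .y4, .y3, .p, .hi,
   .p3, .hi, .p3, .hi, .p9, .hi, .p4, .hi, .xii, .p10, .xii, .p4, .hi, .taui, .xii, .p, .xii, .hi, .y8, .xii, .y2,
   .y7, .y10, .taui, .y1, .hi, .xii, .p5, .xii, .p10, .y7, .tau, .xii, .p7, .xii, .y5, .p3, .y3, .xii, .y1, .tau],
  [.z, .Z10, .Z9, .Z7, .Z3, .Z2, .Z1, .X10, .X7, .X3, .X1, .y10, .y9, .y8, .y7, .y4, .y1, .p8, .hi, .p9, .hi, .p9,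
   .hi, .p9, .hi, .p5, .hi, .p4, .xii, .taui, .xii, .y1, .p, .xii, .p, .xii, .y5, .y8, .tau, .xii, .p7, .xii, .y10,
   .p8, .xii, .y10, .tau, .xii, .p5, .xii, .y1, .y8, .p5, .xii, .y4, .tau, .xii, .y2, .hi, .p6]⟩

theorem h494 : Hd F (g wAd) b494 := hdD (by decide +kernel)
theorem r494_0 : R9 F (g wAd) b494 [] 0 0 := .of (startD 0 1) (by decide +kernel)
theorem r494_1 : R9 F (g wAd) b494 [] 0 1 := .of (startD 0 1) (by decide +kernel)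
theorem r494_2 : R9 F (g wAd) b494 [] 0 2 := .of (startD 0 1) (by decide +kernel)
theorem r494_3 : R9 F (g wAd) b494 [] 1 0 := .of (startD 0 1) (by decide +kernel)
theorem r494_4 : R9 F (g wAd) b494 [] 1 1 := .of (startD 0 1) (by decide +kernel)
theorem r494_5 : R9 F (g wAd) b494 [] 1 2 := .of (startD 0 2) (by decide +kernel)
theorem r494_6 : R9 F (g wAd) b494 [] 2 0 := .of (startD 0 1) (by decide +kernel)
theorem r494_7 : R9 F (g wAd) b494 [] 2 1 := .of (startD 0 1) (by decide +kernel)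
theorem r494_8 : R9 F (g wAd) b494 [] 2 2 := .of (startD 0 1) (by decide +kernel)
theorem g494 : Gd F (g wAd) (0, d494) [] :=
  good9 ok h494 r494_0 r494_1 r494_2 r494_3 r494_4 r494_5 r494_6 r494_7 r494_8

def b495 : Wd := ⟨0, d495,
  [.Z10, .Z7, .Z5, .Z4, .Z2, .X10, .X9, .X8, .X4, .X3, .X1, .X0, .y8, .y4, .y2, .p5, .hi, .p10, .hi, .p5, .hi, .p4,
   .hi, .p10, .hi, .p5, .hi, .xii, .p10, .xii, .y9, .p3, .hi, .tau, .y1, .xii, .p10, .xii, .y4, .p10, .xii, .y8, .tau,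
   .xii, .p, .xii, .y1, .hi, .xii, .y6, .y10, .tau, .y1, .p7, .xii, .hi, .xii, .y4, .tau, .xii, .p9, .xii, .p6, .y4,
   .xii, .y5, .taui, .xii, .y2, .p4],
  [.Z10, .Z7, .Z6, .Z5, .Z4, .Z3, .Z1, .Z0, .X8, .X7, .X4, .X0, .y10, .y8, .y7, .y6, .y3, .y1, .p3, .hi, .p6, .hi,
   .p8, .hi, .p5, .hi, .p, .hi, .p9, .xii, .hi, .p3, .hi, .p5, .taui, .xii, .y6, .p, .hi, .xii, .y5, .tau, .p6, .xii,
   .p5, .xii, .p4, .y1, .y4, .tau, .xii, .y2, .p4, .xii, .p8, .y3, .xii, .y7, .tau],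
  [.Z10, .Z9, .Z6, .Z3, .Z2, .Z1, .X10, .X9, .X8, .X1, .X0, .y9, .y3, .y1, .p6, .hi, .p10, .hi, .p, .hi, .p7, .hi,
   .p5, .hi, .p10, .hi, .xii, .p, .xii, .y6, .p4, .hi, .p5, .taui, .y1, .xii, .y1, .hi, .xii, .y6, .p10, .xii, .y4,
   .tau, .y1, .xii, .y1, .p, .xii, .p8, .xii, .y1, .y10, .tau, .xii, .y2, .p7, .xii, .y7, .p10, .hi, .p8, .taui, .xii,
   .p8]⟩

theorem h495 : Hd F (g wAd) b495 := hdD (by decide +kernel)
theorem r495_0 : R9 F (g wAd) b495 [] 0 0 := .of (startD 0 1) (by decide +kernel)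
theorem r495_1 : R9 F (g wAd) b495 [] 0 1 := .of (startD 0 1) (by decide +kernel)
theorem r495_2 : R9 F (g wAd) b495 [] 0 2 := .of (startD 0 1) (by decide +kernel)
theorem r495_3 : R9 F (g wAd) b495 [] 1 0 := .of (startD 0 1) (by decide +kernel)
theorem r495_4 : R9 F (g wAd) b495 [] 1 1 := .of (startD 0 2) (by decide +kernel)
theorem r495_5 : R9 F (g wAd) b495 [] 1 2 := .of (startD 0 1) (by decide +kernel)
theorem r495_6 : R9 F (g wAd) b495 [] 2 0 := .of (startD 0 1) (by decide +kernel)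
theorem r495_7 : R9 F (g wAd) b495 [] 2 1 := .of (startD 0 1) (by decide +kernel)
theorem r495_8 : R9 F (g wAd) b495 [] 2 2 := .of (startD 0 1) (by decide +kernel)
theorem g495 : Gd F (g wAd) (0, d495) [] :=
  good9 ok h495 r495_0 r495_1 r495_2 r495_3 r495_4 r495_5 r495_6 r495_7 r495_8

def b496 : Wd := ⟨0, d496,
  [.z, .Z6, .Z5, .Z4, .Z1, .Z0, .X10, .X6, .X1, .X0, .y9, .y8, .y6, .y4, .y3, .hi, .p9, .hi, .p10, .hi, .p9, .hi, .p3,
   .hi, .p8, .hi, .p9, .hi, .xii, .hi, .p8, .xii, .y4, .y9, .tau, .xii, .y1, .p3, .hi, .xii, .p10, .y1, .tau, .X0,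
   .y1, .p6, .xii, .p2, .xii, .y10, .tau, .xii, .p6, .xii, .y5, .hi, .p8, .tau, .xii, .y2, .p10, .hi, .p10],
  [.z, .Z10, .Z9, .Z7, .Z6, .Z3, .Z2, .Z0, .X8, .X7, .X4, .X3, .X2, .X0, .y10, .y8, .y7, .y6, .y5, .y3, .y1, .hi, .p7,
   .hi, .p4, .hi, .p7, .hi, .p7, .hi, .p6, .xii, .p, .xii, .y6, .hi, .p4, .tau, .xii, .y6, .p, .xii, .p, .y7, .xii,
   .y1, .tau, .X0, .p7, .xii, .p5, .xii, .y4, .y9, .hi, .taui, .xii, .p3, .hi, .xii, .p3, .y5],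
  [.Z9, .Z7, .Z5, .Z3, .Z1, .Z0, .X10, .X9, .X8, .X7, .X6, .X4, .X3, .X2, .y8, .y5, .y2, .y1, .p5, .hi, .p10, .hi,
   .p8, .hi, .p3, .hi, .p7, .hi, .p9, .hi, .xii, .p, .xii, .y6, .p9, .xii, .y10, .tau, .xii, .p, .xii, .y3, .hi, .xii,
   .y4, .y6, .taui, .X0, .xii, .p7, .xii, .y5, .p9, .xii, .y10, .hi, .y5, .tau, .xii, .y2, .p9, .xii, .y6, .p6, .xii,
   .y1, .tau, .xii, .y6, .p2]⟩

theorem h496 : Hd F (g wAd) b496 := hdD (by decide +kernel)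
theorem r496_0 : R9 F (g wAd) b496 [] 0 0 := .of (startD 0 1) (by decide +kernel)
theorem r496_1 : R9 F (g wAd) b496 [] 0 1 := .of (startD 0 1) (by decide +kernel)
theorem r496_2 : R9 F (g wAd) b496 [] 0 2 := .of (startD 0 1) (by decide +kernel)
theorem r496_3 : R9 F (g wAd) b496 [] 1 0 := .of (startD 0 1) (by decide +kernel)
theorem r496_4 : R9 F (g wAd) b496 [] 1 1 := .of (startD 0 1) (by decide +kernel)
theorem r496_5 : R9 F (g wAd) b496 [] 1 2 := .of (startD 0 1) (by decide +kernel)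
theorem r496_6 : R9 F (g wAd) b496 [] 2 0 := .of (startD 0 1) (by decide +kernel)
theorem r496_7 : R9 F (g wAd) b496 [] 2 1 := .of (startD 0 1) (by decide +kernel)
theorem r496_8 : R9 F (g wAd) b496 [] 2 2 := .of (startD 0 1) (by decide +kernel)
theorem g496 : Gd F (g wAd) (0, d496) [] :=
  good9 ok h496 r496_0 r496_1 r496_2 r496_3 r496_4 r496_5 r496_6 r496_7 r496_8

def b497 : Wd := ⟨0, d497,
  [.Z7, .Z5, .Z4, .Z0, .X10, .X9, .X6, .X5, .X4, .X2, .X1, .X0, .y10, .y9, .y8, .y5, .y4, .y2, .y1, .p2, .hi, .p7,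
   .hi, .p4, .hi, .p6, .hi, .p5, .hi, .p5, .hi, .xii, .p10, .xii, .y8, .p6, .xii, .y6, .tau, .xii, .y2, .p, .xii, .y3,
   .y10, .hi, .xii, .y6, .tau, .X0, .xii, .p4, .xii, .y3, .y10, .p5, .xii, .y1, .taui, .xii, .p4, .xii, .y8, .y10,
   .p5, .xii, .taui, .xii, .p2, .xii],
  [.z, .Z10, .Z9, .Z7, .Z4, .Z2, .X9, .X8, .X3, .X2, .X1, .y8, .y7, .y5, .y4, .y3, .y2, .hi, .p9, .hi, .p9, .hi, .p6,
   .hi, .p3, .hi, .p2, .hi, .xii, .p2, .hi, .xii, .y1, .p3, .tau, .xii, .p, .xii, .y1, .hi, .xii, .y5, .y9, .tau, .X0,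
   .p5, .xii, .y9, .p, .hi, .xii, .y5, .p2, .tau, .xii, .p7, .xii, .p9, .y6, .xii, .y5, .y7],
  [.Z7, .Z3, .Z2, .X10, .X5, .X3, .X2, .X0, .y10, .y9, .y3, .p6, .hi, .p9, .hi, .p6, .hi, .p7, .hi, .p6, .hi, .p9,
   .xii, .p10, .xii, .p2, .y5, .xii, .y6, .taui, .xii, .y1, .hi, .p8, .xii, .y1, .p2, .hi, .tau, .p8, .xii, .p3, .xii,
   .p3, .tau, .xii, .p9, .xii, .y6, .p3, .xii, .y1, .tau, .xii, .y7, .p10, .xii]⟩

theorem h497 : Hd F (g wAd) b497 := hdD (by decide +kernel)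
theorem r497_0 : R9 F (g wAd) b497 [] 0 0 := .of (startD 0 1) (by decide +kernel)
theorem r497_1 : R9 F (g wAd) b497 [] 0 1 := .of (startD 0 1) (by decide +kernel)
theorem r497_2 : R9 F (g wAd) b497 [] 0 2 := .of (startD 0 1) (by decide +kernel)
theorem r497_3 : R9 F (g wAd) b497 [] 1 0 := .of (startD 0 1) (by decide +kernel)
theorem r497_4 : R9 F (g wAd) b497 [] 1 1 := .of (startD 0 2) (by decide +kernel)
theorem r497_5 : R9 F (g wAd) b497 [] 1 2 := .of (startD 0 1) (by decide +kernel)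
theorem r497_6 : R9 F (g wAd) b497 [] 2 0 := .of (startD 0 1) (by decide +kernel)
theorem r497_7 : R9 F (g wAd) b497 [] 2 1 := .of (startD 0 1) (by decide +kernel)
theorem r497_8 : R9 F (g wAd) b497 [] 2 2 := .of (startD 0 1) (by decide +kernel)
theorem g497 : Gd F (g wAd) (0, d497) [] :=
  good9 ok h497 r497_0 r497_1 r497_2 r497_3 r497_4 r497_5 r497_6 r497_7 r497_8

def b498 : Wd := ⟨0, d498,
  [.z, .Z9, .Z8, .Z7, .Z6, .Z2, .Z1, .X10, .X9, .X5, .X3, .X2, .X1, .y9, .y7, .y6, .y5, .y3, .y2, .p8, .hi, .p5, .hi,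
   .p6, .hi, .p9, .hi, .p10, .hi, .p9, .xii, .p, .xii, .y6, .hi, .p10, .y9, .taui, .xii, .p, .xii, .hi, .y8, .xii,
   .y3, .y10, .taui, .y1, .hi, .xii, .p, .hi, .xii, .p8, .taui, .xii, .p8, .xii, .y1, .p4, .y7, .xii, .y7, .y10,
   .taui, .xii, .p5, .hi, .p],
  [.Z8, .Z5, .Z4, .Z3, .Z1, .X6, .X5, .X3, .X1, .y10, .y9, .y8, .y6, .y4, .y3, .y2, .p10, .hi, .p3, .hi, .p8, .hi, .p,
   .hi, .p7, .hi, .xii, .hi, .xii, .y6, .p10, .xii, .taui, .xii, .p, .xii, .y2, .hi, .xii, .y5, .y10, .taui, .p10,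
   .xii, .y5, .p6, .xii, .y9, .p5, .hi, .p10, .tau, .xii, .p4, .xii, .p4, .y1, .y5, .hi],
  [.z, .Z10, .Z9, .Z8, .Z7, .Z6, .Z5, .Z2, .X10, .X9, .X8, .X6, .X5, .X4, .X2, .X1, .y10, .y5, .p, .hi, .p8, .hi, .p,
   .hi, .p7, .hi, .p6, .hi, .xii, .p, .xii, .y6, .hi, .p8, .tau, .xii, .p, .xii, .y2, .hi, .xii, .y3, .y9, .tau, .X0,
   .p5, .xii, .hi, .p7, .xii, .hi, .p2, .y4, .taui, .xii, .p8, .xii, .y5, .p2, .xii, .y1, .tau, .xii, .p6]⟩

theorem h498 : Hd F (g wAd) b498 := hdD (by decide +kernel)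
theorem r498_0 : R9 F (g wAd) b498 [] 0 0 := .of (startD 0 1) (by decide +kernel)
theorem r498_1 : R9 F (g wAd) b498 [] 0 1 := .of (startD 0 1) (by decide +kernel)
theorem r498_2 : R9 F (g wAd) b498 [] 0 2 := .of (startD 0 1) (by decide +kernel)
theorem r498_3 : R9 F (g wAd) b498 [] 1 0 := .of (startD 0 1) (by decide +kernel)
theorem r498_4 : R9 F (g wAd) b498 [] 1 1 := .of (startD 0 1) (by decide +kernel)
theorem r498_5 : R9 F (g wAd) b498 [] 1 2 := .of (startD 0 1) (by decide +kernel)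
theorem r498_6 : R9 F (g wAd) b498 [] 2 0 := .of (startD 0 1) (by decide +kernel)
theorem r498_7 : R9 F (g wAd) b498 [] 2 1 := .of (startD 0 1) (by decide +kernel)
theorem r498_8 : R9 F (g wAd) b498 [] 2 2 := .of (startD 0 1) (by decide +kernel)
theorem g498 : Gd F (g wAd) (0, d498) [] :=
  good9 ok h498 r498_0 r498_1 r498_2 r498_3 r498_4 r498_5 r498_6 r498_7 r498_8

def b499 : Wd := ⟨0, d499,
  [.z, .Z7, .Z6, .Z4, .Z2, .X10, .X9, .X8, .X7, .X5, .X4, .X3, .y7, .y5, .y4, .y1, .hi, .p8, .hi, .p9, .hi, .p10,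
   .xii, .p10, .xii, .y1, .p5, .hi, .p5, .tau, .xii, .p, .xii, .y4, .hi, .xii, .y5, .taui, .xii, .p, .xii, .y1, .y10,
   .hi, .xii, .y1, .y4, .tau, .X0, .y1, .p5, .xii, .p10, .xii, .y1, .taui, .xii, .p7, .xii, .p10, .y10, .hi, .p8,
   .tau, .xii, .p2, .hi, .p],
  [.Z7, .Z6, .Z4, .X7, .X5, .X3, .X2, .y7, .y5, .y4, .y1, .p8, .hi, .p, .hi, .p8, .hi, .p9, .hi, .p9, .hi, .p9, .xii,
   .y2, .p2, .hi, .taui, .xii, .y2, .p, .xii, .y3, .hi, .xii, .y6, .taui, .X0, .p7, .xii, .p7, .xii, .y6, .p8, .y1,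
   .tau, .xii, .p7, .xii, .p7, .y8, .xii, .y8, .taui, .xii, .y2, .p5],
  [.Z9, .Z8, .Z6, .Z4, .Z1, .X9, .X8, .X4, .y10, .y9, .y4, .y3, .y2, .y1, .p4, .hi, .p4, .hi, .p7, .hi, .p8, .hi,
   .p10, .hi, .p2, .hi, .xii, .p10, .xii, .p5, .y5, .xii, .y9, .tau, .xii, .p, .xii, .hi, .y8, .xii, .y4, .y7, .y8,
   .tau, .p9, .xii, .y2, .p10, .xii, .y3, .p5, .xii, .y4, .tau, .xii, .p4, .xii, .y10, .p9, .y4, .xii, .y4, .tau,
   .xii]⟩

theorem h499 : Hd F (g wAd) b499 := hdD (by decide +kernel)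
theorem r499_0 : R9 F (g wAd) b499 [] 0 0 := .of (startD 0 1) (by decide +kernel)
theorem r499_1 : R9 F (g wAd) b499 [] 0 1 := .of (startD 0 1) (by decide +kernel)
theorem r499_2 : R9 F (g wAd) b499 [] 0 2 := .of (startD 0 1) (by decide +kernel)
theorem r499_3 : R9 F (g wAd) b499 [] 1 0 := .of (startD 0 1) (by decide +kernel)
theorem r499_4 : R9 F (g wAd) b499 [] 1 1 := .of (startD 0 1) (by decide +kernel)
theorem r499_5 : R9 F (g wAd) b499 [] 1 2 := .of (startD 0 1) (by decide +kernel)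
theorem r499_6 : R9 F (g wAd) b499 [] 2 0 := .of (startD 0 1) (by decide +kernel)
theorem r499_7 : R9 F (g wAd) b499 [] 2 1 := .of (startD 0 1) (by decide +kernel)
theorem r499_8 : R9 F (g wAd) b499 [] 2 2 := .of (startD 0 1) (by decide +kernel)
theorem g499 : Gd F (g wAd) (0, d499) [] :=
  good9 ok h499 r499_0 r499_1 r499_2 r499_3 r499_4 r499_5 r499_6 r499_7 r499_8

theorem all : AllG F (g wAd) LD49 :=
  .cons g490 (.cons g491 (.cons g492 (.cons g493 (.cons g494 (.cons g495 (.cons g496 (.cons g497 (.cons g498 (.cons g499 (.nil))))))))))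

end Cfsg.Agent.BX.No33.Bk.D49
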