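import Cfsg.Agent.BX.No33.Cheap
set_option linter.all false

/-!
# Tests, diagonal case, part 50 (helper5; generated)
-/

set_option autoImplicit false
set_option maxRecDepth 100000
set_option Elab.async false

namespace Cfsg.Agent.BX.No33.Bk.D50

open Cfsg.Agent.H819.U33 Cfsg.Agent.BX.No33.Front

def b500 : Wd := ⟨0, d500,
  [.z, .Z8, .Z7, .Z6, .X10, .X8, .X6, .X3, .X0, .y9, .y8, .y5, .p5, .hi, .p3, .hi, .p3, .hi, .p3, .hi, .p2, .xii, .p,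
   .xii, .y4, .p, .xii, .y3, .tau, .xii, .y2, .p, .xii, .y4, .hi, .xii, .y5, .y10, .taui, .p4, .xii, .p8, .xii, .y5,
   .y7, .y8, .p5, .hi, .p4, .tau, .xii, .p6, .xii, .y7, .p2, .hi, .p2, .tau, .xii, .p5, .xii, .y1, .y8],
  [.z, .Z10, .Z9, .Z7, .Z3, .Z0, .X10, .X9, .X8, .X7, .X5, .X4, .X3, .X2, .X1, .X0, .y9, .y8, .y7, .y6, .y3, .p7, .hi,
   .p4, .hi, .p3, .hi, .p, .hi, .p4, .xii, .p10, .xii, .y4, .p10, .xii, .y8, .taui, .xii, .p, .xii, .y2, .y10, .hi,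
   .xii, .y7, .tau, .X0, .p6, .xii, .y8, .p6, .xii, .y6, .p10, .xii, .tau, .xii, .y2, .p5, .xii, .y6, .p10, .hi, .p10],
  [.z, .Z9, .Z8, .Z7, .Z6, .Z5, .Z2, .Z0, .X10, .X9, .X8, .X6, .X4, .X0, .y7, .hi, .p6, .hi, .p, .hi, .p5, .hi, .p8,
   .hi, .p, .xii, .p, .xii, .y4, .p4, .xii, .y9, .tau, .y1, .xii, .p10, .xii, .y4, .p10, .xii, .y8, .taui, .p7, .xii,
   .y4, .p3, .hi, .xii, .y7, .p4, .tau, .xii, .p2, .xii, .p4, .y7, .xii, .y4, .taui, .xii, .p6, .xii, .y7]⟩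

theorem h500 : Hd F (g wAd) b500 := hdD (by decide +kernel)
theorem r500_0 : R9 F (g wAd) b500 [] 0 0 := .of (startD 0 1) (by decide +kernel)
theorem r500_1 : R9 F (g wAd) b500 [] 0 1 := .of (startD 0 1) (by decide +kernel)
theorem r500_2 : R9 F (g wAd) b500 [] 0 2 := .of (startD 0 1) (by decide +kernel)
theorem r500_3 : R9 F (g wAd) b500 [] 1 0 := .of (startD 0 1) (by decide +kernel)
theorem r500_4 : R9 F (g wAd) b500 [] 1 1 := .of (startD 0 1) (by decide +kernel)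
theorem r500_5 : R9 F (g wAd) b500 [] 1 2 := .of (startD 0 1) (by decide +kernel)
theorem r500_6 : R9 F (g wAd) b500 [] 2 0 := .of (startD 0 1) (by decide +kernel)
theorem r500_7 : R9 F (g wAd) b500 [] 2 1 := .of (startD 0 1) (by decide +kernel)
theorem r500_8 : R9 F (g wAd) b500 [] 2 2 := .of (startD 0 1) (by decide +kernel)
theorem g500 : Gd F (g wAd) (0, d500) [] :=
  good9 ok h500 r500_0 r500_1 r500_2 r500_3 r500_4 r500_5 r500_6 r500_7 r500_8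

def b501 : Wd := ⟨0, d501,
  [.z, .Z9, .Z8, .Z7, .Z6, .Z5, .Z4, .Z3, .X10, .X7, .X6, .X0, .y10, .y9, .y8, .y5, .y4, .y3, .y2, .y1, .hi, .p5, .hi,
   .p7, .hi, .p8, .hi, .p5, .hi, .p7, .hi, .p5, .xii, .y2, .hi, .p10, .tau, .y1, .xii, .y2, .hi, .xii, .y7, .p10,
   .xii, .tau, .X0, .y1, .p2, .xii, .hi, .xii, .p5, .tau, .xii, .y2, .p5, .xii, .y9, .p2, .xii, .y8, .taui, .xii, .p,
   .xii],
  [.Z10, .Z6, .Z2, .Z1, .Z0, .X10, .X9, .X4, .X0, .y8, .y3, .y2, .hi, .p, .hi, .p3, .hi, .p4, .hi, .p8, .hi, .p, .hi,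
   .p8, .xii, .y2, .hi, .p2, .hi, .tau, .xii, .p, .xii, .y1, .hi, .xii, .y6, .taui, .p8, .xii, .y4, .p3, .xii, .hi,
   .xii, .taui, .xii, .y2, .p3, .hi, .xii, .y7, .p10],
  [.z, .Z9, .Z3, .Z2, .X10, .X9, .X3, .y10, .y9, .y8, .y6, .y5, .y4, .y2, .hi, .p8, .hi, .p10, .hi, .p9, .hi, .p5,
   .hi, .p10, .hi, .xii, .p10, .hi, .p, .taui, .xii, .p, .xii, .y1, .y6, .hi, .xii, .y5, .y10, .tau, .X0, .p10, .xii,
   .p2, .xii, .y10, .hi, .xii, .y6, .tau, .xii, .p4, .xii, .p9, .y9, .xii, .y5, .taui, .xii, .p5, .hi, .p8]⟩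

theorem h501 : Hd F (g wAd) b501 := hdD (by decide +kernel)
theorem r501_0 : R9 F (g wAd) b501 [] 0 0 := .of (startD 0 1) (by decide +kernel)
theorem r501_1 : R9 F (g wAd) b501 [] 0 1 := .of (startD 0 1) (by decide +kernel)
theorem r501_2 : R9 F (g wAd) b501 [] 0 2 := .of (startD 0 1) (by decide +kernel)
theorem r501_3 : R9 F (g wAd) b501 [] 1 0 := .of (startD 0 1) (by decide +kernel)
theorem r501_4 : R9 F (g wAd) b501 [] 1 1 := .of (startD 0 1) (by decide +kernel)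
theorem r501_5 : R9 F (g wAd) b501 [] 1 2 := .of (startD 0 1) (by decide +kernel)
theorem r501_6 : R9 F (g wAd) b501 [] 2 0 := .of (startD 0 1) (by decide +kernel)
theorem r501_7 : R9 F (g wAd) b501 [] 2 1 := .of (startD 0 1) (by decide +kernel)
theorem r501_8 : R9 F (g wAd) b501 [] 2 2 := .of (startD 0 1) (by decide +kernel)
theorem g501 : Gd F (g wAd) (0, d501) [] :=
  good9 ok h501 r501_0 r501_1 r501_2 r501_3 r501_4 r501_5 r501_6 r501_7 r501_8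

def b502 : Wd := ⟨0, d502,
  [.Z8, .Z7, .Z6, .Z0, .X8, .X5, .X4, .X2, .X1, .X0, .y10, .y9, .y7, .y6, .y5, .y4, .y3, .y2, .y1, .hi, .p, .hi, .p7,
   .hi, .p5, .hi, .p7, .hi, .p6, .hi, .p5, .hi, .xii, .y2, .p10, .hi, .p8, .tau, .y1, .xii, .y6, .p10, .xii, .y8,
   .p10, .xii, .y2, .y10, .tau, .X0, .y1, .xii, .p5, .xii, .y3, .y5, .p2, .xii, .y9, .hi, .taui, .xii, .p9, .xii, .hi,
   .p9, .y8, .tau, .xii, .y2, .p10, .hi, .p8],
  [.z, .Z10, .Z9, .Z8, .Z7, .Z6, .Z5, .Z4, .Z3, .Z1, .Z0, .X10, .X7, .X6, .X5, .X4, .X3, .X2, .X1, .y8, .y3, .y1, .p8,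
   .hi, .p, .hi, .p8, .hi, .xii, .y2, .p, .xii, .p5, .xii, .y4, .y7, .tau, .y1, .xii, .y6, .p10, .xii, .y8, .p10,
   .xii, .y4, .y10, .tau, .hi, .xii, .p8, .xii, .y7, .y10, .tau, .xii, .y2, .p3, .xii, .hi, .p5, .hi, .tau, .xii, .p2,
   .hi, .p10],
  [.Z9, .Z6, .Z5, .Z4, .X10, .X9, .X8, .X7, .X6, .X3, .y9, .y7, .hi, .p5, .hi, .p4, .hi, .p4, .hi, .p3, .hi, .p6,
   .xii, .hi, .xii, .y8, .p2, .xii, .y3, .taui, .y1, .xii, .p10, .xii, .y5, .p10, .xii, .y4, .y9, .tau, .p4, .xii,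
   .p5, .xii, .y9, .p5, .hi, .tau, .xii, .p9, .xii, .y2, .p8, .xii, .tau, .xii, .p10]⟩

theorem h502 : Hd F (g wAd) b502 := hdD (by decide +kernel)
theorem r502_0 : R9 F (g wAd) b502 [] 0 0 := .of (startD 0 1) (by decide +kernel)
theorem r502_1 : R9 F (g wAd) b502 [] 0 1 := .of (startD 0 1) (by decide +kernel)
theorem r502_2 : R9 F (g wAd) b502 [] 0 2 := .of (startD 0 1) (by decide +kernel)
theorem r502_3 : R9 F (g wAd) b502 [] 1 0 := .of (startD 0 1) (by decide +kernel)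
theorem r502_4 : R9 F (g wAd) b502 [] 1 1 := .of (startD 0 1) (by decide +kernel)
theorem r502_5 : R9 F (g wAd) b502 [] 1 2 := .of (startD 0 1) (by decide +kernel)
theorem r502_6 : R9 F (g wAd) b502 [] 2 0 := .of (startD 0 1) (by decide +kernel)
theorem r502_7 : R9 F (g wAd) b502 [] 2 1 := .of (startD 0 1) (by decide +kernel)
theorem r502_8 : R9 F (g wAd) b502 [] 2 2 := .of (startD 0 1) (by decide +kernel)
theorem g502 : Gd F (g wAd) (0, d502) [] :=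
  good9 ok h502 r502_0 r502_1 r502_2 r502_3 r502_4 r502_5 r502_6 r502_7 r502_8

def b503 : Wd := ⟨0, d503,
  [.Z10, .Z9, .Z7, .Z4, .Z3, .Z1, .Z0, .X4, .X3, .X2, .X1, .X0, .y6, .y3, .y2, .y1, .p6, .hi, .p6, .hi, .p8, .hi, .p3,
   .hi, .p9, .hi, .p6, .xii, .y2, .hi, .p8, .xii, .y9, .p2, .tau, .xii, .y2, .p, .xii, .y1, .hi, .xii, .y3, .taui,
   .xii, .p3, .xii, .p2, .xii, .y7, .y10, .p4, .taui, .xii, .p7, .xii, .y7, .p7, .y9, .xii, .y10, .tau, .xii, .y4,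
   .p2],
  [.z, .Z10, .Z9, .Z6, .Z5, .Z3, .Z2, .X9, .X6, .X4, .X3, .X2, .y9, .y8, .y2, .p5, .hi, .p10, .hi, .p6, .hi, .p3, .hi,
   .p5, .hi, .p3, .hi, .xii, .p10, .xii, .p6, .xii, .y4, .y6, .taui, .xii, .p, .xii, .hi, .y8, .xii, .y1, .taui, .X0,
   .p9, .xii, .p2, .y10, .xii, .hi, .p3, .hi, .taui, .xii, .p4, .xii, .y1, .y4, .p],
  [.z, .Z8, .Z7, .Z6, .Z3, .X9, .X8, .X7, .X5, .X3, .y8, .y3, .p, .hi, .p6, .hi, .p7, .hi, .p6, .xii, .hi, .xii, .y8,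
   .p6, .xii, .y7, .y10, .tau, .xii, .p, .xii, .hi, .y8, .xii, .y3, .tau, .p10, .xii, .p5, .xii, .y2, .y7, .hi, .p10,
   .taui, .xii, .p3, .xii, .y1, .y7, .p2, .xii, .y10, .taui, .xii, .y7, .p8]⟩

theorem h503 : Hd F (g wAd) b503 := hdD (by decide +kernel)
theorem r503_0 : R9 F (g wAd) b503 [] 0 0 := .of (startD 0 1) (by decide +kernel)
theorem r503_1 : R9 F (g wAd) b503 [] 0 1 := .of (startD 0 1) (by decide +kernel)
theorem r503_2 : R9 F (g wAd) b503 [] 0 2 := .of (startD 0 1) (by decide +kernel)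
theorem r503_3 : R9 F (g wAd) b503 [] 1 0 := .of (startD 0 1) (by decide +kernel)
theorem r503_4 : R9 F (g wAd) b503 [] 1 1 := .of (startD 0 1) (by decide +kernel)
theorem r503_5 : R9 F (g wAd) b503 [] 1 2 := .of (startD 0 1) (by decide +kernel)
theorem r503_6 : R9 F (g wAd) b503 [] 2 0 := .of (startD 0 1) (by decide +kernel)
theorem r503_7 : R9 F (g wAd) b503 [] 2 1 := .of (startD 0 1) (by decide +kernel)
theorem r503_8 : R9 F (g wAd) b503 [] 2 2 := .of (startD 0 1) (by decide +kernel)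
theorem g503 : Gd F (g wAd) (0, d503) [] :=
  good9 ok h503 r503_0 r503_1 r503_2 r503_3 r503_4 r503_5 r503_6 r503_7 r503_8

def b504 : Wd := ⟨0, d504,
  [.Z10, .Z9, .Z7, .Z4, .Z3, .Z2, .Z1, .Z0, .X8, .X7, .X6, .X4, .X2, .X1, .y7, .y5, .p3, .hi, .p3, .hi, .p3, .hi, .p4,
   .hi, .p10, .hi, .p, .xii, .hi, .p8, .xii, .p2, .taui, .xii, .y1, .p, .xii, .p, .xii, .y3, .y4, .tau, .p9, .xii,
   .p10, .xii, .y1, .p2, .xii, .y10, .tau, .xii, .p5, .xii, .y1, .p, .hi, .taui, .xii, .y2, .hi, .p4, .hi, .p2],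
  [.z, .Z10, .Z9, .Z7, .Z6, .Z4, .Z2, .Z0, .X10, .X4, .X3, .X2, .X1, .y10, .y9, .y4, .y3, .y2, .y1, .p8, .hi, .p, .hi,
   .p8, .hi, .p5, .hi, .p9, .xii, .p10, .tau, .xii, .y2, .p, .xii, .y4, .hi, .xii, .y6, .taui, .X0, .y1, .hi, .xii,
   .p2, .xii, .hi, .p, .tau, .xii, .p9, .xii, .y7, .y8, .p9, .xii, .y7, .taui, .xii, .hi, .p6],
  [.Z10, .Z8, .Z4, .Z3, .Z1, .Z0, .X9, .X8, .X7, .X6, .X5, .X4, .X2, .X0, .y9, .y4, .y3, .p9, .hi, .p5, .hi, .p6, .hi,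
   .p8, .hi, .p10, .hi, .p7, .xii, .p, .xii, .hi, .p4, .y9, .taui, .xii, .p, .xii, .y1, .hi, .xii, .y1, .y10, .tau,
   .X0, .xii, .p7, .xii, .p5, .y1, .xii, .y7, .p8, .taui, .xii, .y2, .p2, .xii, .p2, .xii, .y2, .y7, .tau, .xii, .hi,
   .xii, .y6]⟩

theorem h504 : Hd F (g wAd) b504 := hdD (by decide +kernel)
theorem r504_0 : R9 F (g wAd) b504 [] 0 0 := .of (startD 0 1) (by decide +kernel)
theorem r504_1 : R9 F (g wAd) b504 [] 0 1 := .of (startD 0 1) (by decide +kernel)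
theorem r504_2 : R9 F (g wAd) b504 [] 0 2 := .of (startD 0 1) (by decide +kernel)
theorem r504_3 : R9 F (g wAd) b504 [] 1 0 := .of (startD 0 1) (by decide +kernel)
theorem r504_4 : R9 F (g wAd) b504 [] 1 1 := .of (startD 0 1) (by decide +kernel)
theorem r504_5 : R9 F (g wAd) b504 [] 1 2 := .of (startD 0 1) (by decide +kernel)
theorem r504_6 : R9 F (g wAd) b504 [] 2 0 := .of (startD 0 1) (by decide +kernel)
theorem r504_7 : R9 F (g wAd) b504 [] 2 1 := .of (startD 0 1) (by decide +kernel)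
theorem r504_8 : R9 F (g wAd) b504 [] 2 2 := .of (startD 0 1) (by decide +kernel)
theorem g504 : Gd F (g wAd) (0, d504) [] :=
  good9 ok h504 r504_0 r504_1 r504_2 r504_3 r504_4 r504_5 r504_6 r504_7 r504_8

def b505 : Wd := ⟨0, d505,
  [.Z10, .Z9, .Z8, .Z4, .Z1, .Z0, .X10, .X6, .X5, .X2, .y10, .y7, .y2, .p10, .hi, .p7, .hi, .p6, .hi, .p6, .hi, .p,
   .hi, .p3, .hi, .xii, .p, .xii, .y4, .p8, .xii, .y7, .taui, .xii, .p, .xii, .y4, .hi, .xii, .y1, .y10, .taui, .xii,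
   .y6, .p4, .xii, .p9, .xii, .y8, .y10, .p3, .tau, .xii, .p4, .xii, .p4, .y9, .xii, .y7],
  [.z, .Z10, .Z8, .Z6, .Z3, .Z0, .X10, .X7, .X6, .X4, .y10, .y9, .y7, .y6, .y5, .p6, .hi, .p8, .hi, .p3, .hi, .p9,
   .hi, .p5, .hi, .p, .hi, .xii, .p, .xii, .hi, .p8, .y3, .tau, .X0, .p10, .xii, .hi, .p6, .xii, .y7, .hi, .p5, .taui,
   .xii, .p5, .xii, .y3, .y5, .hi, .p10, .hi, .tau, .xii, .y2, .p4, .hi, .p2],
  [.Z8, .Z5, .Z4, .Z1, .Z0, .X4, .X3, .X2, .X1, .X0, .y10, .y9, .y6, .y4, .p7, .hi, .p10, .hi, .p3, .hi, .p7, .hi,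
   .p6, .hi, .p9, .hi, .xii, .p3, .hi, .xii, .y7, .p4, .hi, .p2, .tau, .y1, .xii, .y2, .hi, .xii, .y10, .p10, .xii,
   .tau, .X0, .p8, .xii, .p4, .hi, .xii, .hi, .p8, .y9, .taui, .xii, .p4, .xii, .y4, .y5, .p4, .xii, .y10, .taui,
   .xii, .hi, .p7]⟩

theorem h505 : Hd F (g wAd) b505 := hdD (by decide +kernel)
theorem r505_0 : R9 F (g wAd) b505 [] 0 0 := .of (startD 0 1) (by decide +kernel)
theorem r505_1 : R9 F (g wAd) b505 [] 0 1 := .of (startD 0 1) (by decide +kernel)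
theorem r505_2 : R9 F (g wAd) b505 [] 0 2 := .of (startD 0 1) (by decide +kernel)
theorem r505_3 : R9 F (g wAd) b505 [] 1 0 := .of (startD 0 1) (by decide +kernel)
theorem r505_4 : R9 F (g wAd) b505 [] 1 1 := .of (startD 0 1) (by decide +kernel)
theorem r505_5 : R9 F (g wAd) b505 [] 1 2 := .of (startD 0 1) (by decide +kernel)
theorem r505_6 : R9 F (g wAd) b505 [] 2 0 := .of (startD 0 1) (by decide +kernel)
theorem r505_7 : R9 F (g wAd) b505 [] 2 1 := .of (startD 0 1) (by decide +kernel)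
theorem r505_8 : R9 F (g wAd) b505 [] 2 2 := .of (startD 0 1) (by decide +kernel)
theorem g505 : Gd F (g wAd) (0, d505) [] :=
  good9 ok h505 r505_0 r505_1 r505_2 r505_3 r505_4 r505_5 r505_6 r505_7 r505_8

def b506 : Wd := ⟨0, d506,
  [.Z10, .Z9, .Z4, .Z1, .Z0, .X10, .X6, .X1, .X0, .y7, .y6, .y5, .y4, .y3, .y2, .y1, .p7, .hi, .p4, .hi, .p, .hi, .p5,
   .hi, .p5, .hi, .p7, .hi, .xii, .y2, .p, .xii, .y1, .taui, .xii, .y1, .p, .xii, .p, .xii, .y3, .y4, .taui, .xii,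
   .y6, .p, .xii, .y10, .p, .xii, .y7, .taui, .p5, .xii, .p10, .xii, .y4, .tau, .xii, .p6, .xii, .y4, .p6, .xii, .y8,
   .y10, .taui, .xii, .p4],
  [.Z10, .Z7, .Z6, .Z4, .Z3, .Z2, .Z1, .X10, .X9, .X4, .X0, .y10, .y9, .y8, .y7, .y5, .y3, .y1, .p4, .hi, .p7, .hi,
   .p5, .hi, .p6, .hi, .p4, .hi, .taui, .xii, .p, .xii, .y4, .y10, .hi, .xii, .y4, .y7, .tau, .xii, .p2, .xii, .y3,
   .y10, .hi, .xii, .y7, .tau, .xii, .p7, .xii, .y1, .p10, .y10, .hi, .p4, .tau, .xii, .hi, .p7],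
  [.z, .Z10, .Z9, .Z8, .Z7, .Z5, .Z0, .X4, .X2, .X1, .X0, .y10, .y9, .y7, .y4, .y2, .y1, .p8, .hi, .p9, .hi, .p4, .hi,
   .p8, .hi, .p8, .hi, .xii, .hi, .p8, .xii, .y4, .p2, .taui, .xii, .p, .xii, .hi, .y8, .xii, .y5, .y9, .y10, .tau,
   .p5, .xii, .p2, .y10, .xii, .y10, .p5, .hi, .p7, .taui, .xii, .p9, .xii, .y8, .p3]⟩

theorem h506 : Hd F (g wAd) b506 := hdD (by decide +kernel)
theorem r506_0 : R9 F (g wAd) b506 [] 0 0 := .of (startD 0 1) (by decide +kernel)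
theorem r506_1 : R9 F (g wAd) b506 [] 0 1 := .of (startD 0 1) (by decide +kernel)
theorem r506_2 : R9 F (g wAd) b506 [] 0 2 := .of (startD 0 1) (by decide +kernel)
theorem r506_3 : R9 F (g wAd) b506 [] 1 0 := .of (startD 0 1) (by decide +kernel)
theorem r506_4 : R9 F (g wAd) b506 [] 1 1 := .of (startD 0 1) (by decide +kernel)
theorem r506_5 : R9 F (g wAd) b506 [] 1 2 := .of (startD 0 1) (by decide +kernel)
theorem r506_6 : R9 F (g wAd) b506 [] 2 0 := .of (startD 0 1) (by decide +kernel)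
theorem r506_7 : R9 F (g wAd) b506 [] 2 1 := .of (startD 0 1) (by decide +kernel)
theorem r506_8 : R9 F (g wAd) b506 [] 2 2 := .of (startD 0 1) (by decide +kernel)
theorem g506 : Gd F (g wAd) (0, d506) [] :=
  good9 ok h506 r506_0 r506_1 r506_2 r506_3 r506_4 r506_5 r506_6 r506_7 r506_8

def b507 : Wd := ⟨0, d507,
  [.Z10, .Z8, .Z7, .Z1, .Z0, .X10, .X9, .X8, .X6, .X5, .X4, .X3, .X2, .X0, .y10, .y5, .y3, .y2, .y1, .hi, .p2, .hi,
   .p7, .hi, .p8, .hi, .p7, .hi, .p8, .xii, .p2, .hi, .xii, .y5, .y7, .p3, .tau, .xii, .p, .xii, .y1, .y10, .hi, .xii,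
   .y6, .taui, .xii, .y6, .p, .xii, .p, .xii, .y3, .y10, .taui, .y1, .p5, .xii, .p6, .xii, .y4, .taui, .xii, .y2, .p2,
   .xii, .y3, .hi, .p8, .tau, .xii, .p],
  [.z, .Z8, .Z7, .Z5, .Z4, .Z3, .Z1, .Z0, .X9, .X8, .X7, .X6, .X5, .X4, .X1, .y10, .y8, .y6, .y5, .p6, .hi, .p9, .hi,
   .p7, .hi, .p3, .hi, .p2, .xii, .p10, .xii, .y1, .p8, .tau, .y1, .xii, .p10, .xii, .p10, .y7, .xii, .taui, .X0, .y1,
   .xii, .p5, .xii, .y7, .p2, .xii, .y8, .y9, .tau, .xii, .y2, .p5, .xii, .y5, .p9, .xii, .y1, .tau, .xii, .y6, .p6],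
  [.Z10, .Z9, .Z7, .Z5, .Z4, .Z2, .X8, .X7, .X6, .X5, .X3, .X1, .y9, .y6, .y3, .y2, .p4, .hi, .p9, .hi, .p3, .hi, .p,
   .hi, .p4, .hi, .p5, .xii, .p, .xii, .hi, .y7, .p10, .tau, .xii, .p, .xii, .y3, .hi, .xii, .y6, .y10, .taui, .p2,
   .xii, .p9, .xii, .p2, .y7, .tau, .xii, .p6, .xii, .p, .y4, .taui, .xii, .y2, .p8]⟩

theorem h507 : Hd F (g wAd) b507 := hdD (by decide +kernel)
theorem r507_0 : R9 F (g wAd) b507 [] 0 0 := .of (startD 0 1) (by decide +kernel)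
theorem r507_1 : R9 F (g wAd) b507 [] 0 1 := .of (startD 0 1) (by decide +kernel)
theorem r507_2 : R9 F (g wAd) b507 [] 0 2 := .of (startD 0 1) (by decide +kernel)
theorem r507_3 : R9 F (g wAd) b507 [] 1 0 := .of (startD 0 1) (by decide +kernel)
theorem r507_4 : R9 F (g wAd) b507 [] 1 1 := .of (startD 0 1) (by decide +kernel)
theorem r507_5 : R9 F (g wAd) b507 [] 1 2 := .of (startD 0 1) (by decide +kernel)
theorem r507_6 : R9 F (g wAd) b507 [] 2 0 := .of (startD 0 1) (by decide +kernel)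
theorem r507_7 : R9 F (g wAd) b507 [] 2 1 := .of (startD 0 1) (by decide +kernel)
theorem r507_8 : R9 F (g wAd) b507 [] 2 2 := .of (startD 0 1) (by decide +kernel)
theorem g507 : Gd F (g wAd) (0, d507) [] :=
  good9 ok h507 r507_0 r507_1 r507_2 r507_3 r507_4 r507_5 r507_6 r507_7 r507_8

def b508 : Wd := ⟨0, d508,
  [.Z10, .Z4, .Z1, .Z0, .X10, .X9, .X7, .X1, .y10, .y9, .y8, .y6, .y4, .y3, .y2, .y1, .p6, .hi, .p, .hi, .p7, .hi,
   .p6, .hi, .p6, .xii, .hi, .p8, .xii, .y1, .y9, .p10, .tau, .y1, .xii, .y6, .p10, .xii, .y8, .p10, .xii, .y4, .taui,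
   .y1, .xii, .p10, .xii, .y8, .p10, .xii, .y4, .y8, .taui, .X0, .y1, .p2, .xii, .hi, .xii, .y1, .tau, .xii, .p6,
   .xii, .p2, .y9, .xii, .y9, .tau, .xii, .hi, .p4, .hi],
  [.z, .Z8, .Z7, .Z4, .Z3, .Z0, .X10, .X9, .X8, .X7, .X6, .X4, .X3, .X2, .y10, .y9, .y7, .y5, .y2, .hi, .p, .hi, .p8,
   .hi, .p7, .hi, .p7, .hi, .p6, .xii, .hi, .xii, .p8, .xii, .y4, .y9, .taui, .xii, .y1, .p3, .hi, .xii, .y2, .p10,
   .taui, .X0, .hi, .xii, .p2, .xii, .p10, .y9, .taui, .xii, .p5, .xii, .y3, .hi, .y5, .p10],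
  [.z, .Z8, .Z6, .Z5, .Z4, .Z3, .Z2, .Z1, .Z0, .X10, .X7, .X6, .X5, .X4, .X1, .X0, .y10, .y9, .y7, .y5, .y1, .p7, .hi,
   .p8, .hi, .p7, .hi, .p3, .hi, .p, .hi, .xii, .p10, .xii, .y4, .p10, .xii, .y8, .tau, .y1, .xii, .p10, .xii, .y1,
   .p10, .xii, .y8, .tau, .X0, .p6, .xii, .hi, .p6, .xii, .y2, .y7, .p3, .tau, .xii, .p8, .xii, .y9, .p2, .y5, .xii,
   .y5, .taui, .xii, .hi, .xii, .y2]⟩

theorem h508 : Hd F (g wAd) b508 := hdD (by decide +kernel)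
theorem r508_0 : R9 F (g wAd) b508 [] 0 0 := .of (startD 0 1) (by decide +kernel)
theorem r508_1 : R9 F (g wAd) b508 [] 0 1 := .of (startD 0 1) (by decide +kernel)
theorem r508_2 : R9 F (g wAd) b508 [] 0 2 := .of (startD 0 1) (by decide +kernel)
theorem r508_3 : R9 F (g wAd) b508 [] 1 0 := .of (startD 0 1) (by decide +kernel)
theorem r508_4 : R9 F (g wAd) b508 [] 1 1 := .of (startD 0 1) (by decide +kernel)
theorem r508_5 : R9 F (g wAd) b508 [] 1 2 := .of (startD 0 1) (by decide +kernel)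
theorem r508_6 : R9 F (g wAd) b508 [] 2 0 := .of (startD 0 1) (by decide +kernel)
theorem r508_7 : R9 F (g wAd) b508 [] 2 1 := .of (startD 0 1) (by decide +kernel)
theorem r508_8 : R9 F (g wAd) b508 [] 2 2 := .of (startD 0 1) (by decide +kernel)
theorem g508 : Gd F (g wAd) (0, d508) [] :=
  good9 ok h508 r508_0 r508_1 r508_2 r508_3 r508_4 r508_5 r508_6 r508_7 r508_8

def b509 : Wd := ⟨0, d509,
  [.z, .Z9, .Z8, .Z2, .Z1, .X10, .X9, .X8, .X5, .X4, .X0, .y6, .y4, .y1, .p10, .hi, .p6, .hi, .p8, .hi, .p, .hi, .p8,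
   .hi, .p9, .hi, .xii, .hi, .xii, .y6, .p9, .xii, .y5, .y9, .taui, .xii, .y2, .p, .xii, .y1, .hi, .xii, .y5, .taui,
   .X0, .xii, .p4, .xii, .y3, .p4, .xii, .y7, .y8, .p, .tau, .xii, .p7, .xii, .p5, .y10, .hi, .p2, .tau, .xii, .p4,
   .hi, .p2],
  [.X9, .X4, .X3, .X2, .y9, .y8, .y6, .y1, .p6, .hi, .p9, .hi, .p8, .hi, .p7, .hi, .p10, .hi, .p9, .xii, .p2, .hi,
   .xii, .y8, .tau, .xii, .p, .xii, .hi, .y8, .xii, .y3, .y9, .tau, .y1, .p4, .xii, .p4, .xii, .p, .taui, .xii, .p5,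
   .xii, .y9, .p, .y5, .xii, .taui, .xii, .p3],
  [.z, .Z7, .Z3, .Z2, .Z0, .X6, .X5, .X4, .X3, .X2, .X1, .y10, .y7, .y3, .y2, .y1, .p10, .hi, .p6, .hi, .p3, .hi, .p5,
   .hi, .p2, .xii, .y2, .p10, .xii, .y10, .taui, .y1, .xii, .p10, .xii, .y2, .p10, .xii, .y8, .y10, .tau, .y1, .xii,
   .p6, .xii, .hi, .y10, .xii, .y8, .p10, .tau, .xii, .y2, .p7, .xii, .p7, .y9, .xii, .y9, .taui, .xii, .p, .xii]⟩

theorem h509 : Hd F (g wAd) b509 := hdD (by decide +kernel)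
theorem r509_0 : R9 F (g wAd) b509 [] 0 0 := .of (startD 0 1) (by decide +kernel)
theorem r509_1 : R9 F (g wAd) b509 [] 0 1 := .of (startD 0 1) (by decide +kernel)
theorem r509_2 : R9 F (g wAd) b509 [] 0 2 := .of (startD 0 1) (by decide +kernel)
theorem r509_3 : R9 F (g wAd) b509 [] 1 0 := .of (startD 0 1) (by decide +kernel)
theorem r509_4 : R9 F (g wAd) b509 [] 1 1 := .of (startD 0 1) (by decide +kernel)
theorem r509_5 : R9 F (g wAd) b509 [] 1 2 := .of (startD 0 1) (by decide +kernel)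
theorem r509_6 : R9 F (g wAd) b509 [] 2 0 := .of (startD 0 2) (by decide +kernel)
theorem r509_7 : R9 F (g wAd) b509 [] 2 1 := .of (startD 0 1) (by decide +kernel)
theorem r509_8 : R9 F (g wAd) b509 [] 2 2 := .of (startD 0 1) (by decide +kernel)
theorem g509 : Gd F (g wAd) (0, d509) [] :=
  good9 ok h509 r509_0 r509_1 r509_2 r509_3 r509_4 r509_5 r509_6 r509_7 r509_8

theorem all : AllG F (g wAd) LD50 :=
  .cons g500 (.cons g501 (.cons g502 (.cons g503 (.cons g504 (.cons g505 (.cons g506 (.cons g507 (.cons g508 (.cons g509 (.nil))))))))))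

end Cfsg.Agent.BX.No33.Bk.D50
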