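import Cfsg.Agent.BX.No33.Cheap
set_option linter.all false

/-!
# Tests, diagonal case, part 51 (helper5; generated)
-/

set_option autoImplicit false
set_option maxRecDepth 100000
set_option Elab.async false

namespace Cfsg.Agent.BX.No33.Bk.D51

open Cfsg.Agent.H819.U33 Cfsg.Agent.BX.No33.Front

def b510 : Wd := ⟨0, d510,
  [.Z8, .Z7, .Z4, .Z3, .Z2, .Z1, .Z0, .X7, .X5, .X2, .y9, .y7, .y6, .y4, .p8, .hi, .p6, .hi, .p6, .hi, .p3, .hi, .p9,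
   .hi, .p4, .xii, .hi, .p8, .tau, .y1, .xii, .p10, .xii, .y1, .y9, .p10, .xii, .y4, .taui, .X0, .p4, .xii, .p7, .xii,
   .y4, .p, .y4, .taui, .xii, .p9, .xii, .y4, .y10, .p8, .xii, .tau, .xii, .p5, .xii, .y1],
  [.z, .Z9, .Z5, .Z2, .X8, .X6, .X5, .X3, .X0, .y9, .y8, .y6, .y5, .y2, .p8, .hi, .p8, .hi, .p8, .hi, .p5, .hi, .p7,
   .hi, .p2, .xii, .hi, .xii, .p8, .xii, .y8, .tau, .xii, .p3, .hi, .xii, .y8, .y9, .taui, .X0, .p8, .xii, .p4, .xii,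
   .y3, .p, .y5, .taui, .xii, .y2, .hi, .p8, .xii, .p, .y3],
  [.Z10, .Z9, .Z6, .Z4, .Z1, .Z0, .X10, .X8, .X6, .X4, .X3, .X2, .X1, .X0, .y8, .y6, .y5, .y4, .y3, .y2, .y1, .p7,
   .hi, .p8, .hi, .p, .hi, .p5, .hi, .p5, .hi, .p7, .hi, .xii, .hi, .p8, .xii, .y9, .taui, .xii, .p, .xii, .y3, .hi,
   .xii, .y5, .y9, .taui, .y1, .p2, .xii, .p5, .xii, .y6, .p8, .xii, .tau, .xii, .p9, .xii, .y4, .y7, .p3, .xii, .y3,
   .taui, .xii, .p, .xii, .y2]⟩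

theorem h510 : Hd F (g wAd) b510 := hdD (by decide +kernel)
theorem r510_0 : R9 F (g wAd) b510 [] 0 0 := .of (startD 0 1) (by decide +kernel)
theorem r510_1 : R9 F (g wAd) b510 [] 0 1 := .of (startD 0 1) (by decide +kernel)
theorem r510_2 : R9 F (g wAd) b510 [] 0 2 := .of (startD 0 1) (by decide +kernel)
theorem r510_3 : R9 F (g wAd) b510 [] 1 0 := .of (startD 0 1) (by decide +kernel)
theorem r510_4 : R9 F (g wAd) b510 [] 1 1 := .of (startD 0 1) (by decide +kernel)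
theorem r510_5 : R9 F (g wAd) b510 [] 1 2 := .of (startD 0 1) (by decide +kernel)
theorem r510_6 : R9 F (g wAd) b510 [] 2 0 := .of (startD 0 1) (by decide +kernel)
theorem r510_7 : R9 F (g wAd) b510 [] 2 1 := .of (startD 0 1) (by decide +kernel)
theorem r510_8 : R9 F (g wAd) b510 [] 2 2 := .of (startD 0 1) (by decide +kernel)
theorem g510 : Gd F (g wAd) (0, d510) [] :=
  good9 ok h510 r510_0 r510_1 r510_2 r510_3 r510_4 r510_5 r510_6 r510_7 r510_8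

def b511 : Wd := ⟨0, d511,
  [.Z9, .Z8, .Z6, .Z3, .Z0, .X7, .X5, .X4, .X3, .X1, .X0, .y10, .y9, .y8, .y7, .y5, .y3, .y2, .y1, .p5, .hi, .p9, .hi,
   .p4, .hi, .p6, .hi, .p, .hi, .xii, .hi, .xii, .p8, .xii, .y9, .taui, .y1, .xii, .p10, .xii, .y4, .p10, .xii, .y2,
   .y10, .tau, .p2, .xii, .hi, .p5, .xii, .p10, .y5, .tau, .xii, .y2, .p9, .xii, .y6, .p6, .xii, .y8, .taui, .xii,
   .p4, .hi],
  [.Z10, .Z7, .Z6, .Z5, .Z2, .X10, .X8, .X7, .X5, .X3, .X1, .y8, .y3, .hi, .p6, .hi, .p9, .hi, .p10, .hi, .p10, .hi,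
   .p3, .hi, .p2, .xii, .hi, .xii, .y6, .p5, .hi, .p8, .tau, .y1, .xii, .p10, .xii, .y1, .p10, .xii, .taui, .X0, .xii,
   .p10, .xii, .y2, .p9, .xii, .y7, .p10, .tau, .xii, .p5, .xii, .y2, .p2, .xii, .y5],
  [.Z8, .Z7, .Z2, .X6, .X4, .X2, .X1, .y10, .y9, .y8, .y6, .y5, .y4, .y3, .y1, .hi, .p, .hi, .p10, .hi, .p8, .hi, .p3,
   .hi, .p6, .hi, .p6, .xii, .hi, .xii, .y4, .p9, .xii, .y1, .taui, .xii, .y6, .p, .xii, .p, .xii, .y4, .y5, .y8,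
   .taui, .X0, .y1, .p5, .xii, .p10, .xii, .y7, .p9, .taui, .xii, .p8, .xii, .p4, .y7, .xii, .y9, .taui]⟩

theorem h511 : Hd F (g wAd) b511 := hdD (by decide +kernel)
theorem r511_0 : R9 F (g wAd) b511 [] 0 0 := .of (startD 0 1) (by decide +kernel)
theorem r511_1 : R9 F (g wAd) b511 [] 0 1 := .of (startD 0 1) (by decide +kernel)
theorem r511_2 : R9 F (g wAd) b511 [] 0 2 := .of (startD 0 1) (by decide +kernel)
theorem r511_3 : R9 F (g wAd) b511 [] 1 0 := .of (startD 0 1) (by decide +kernel)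
theorem r511_4 : R9 F (g wAd) b511 [] 1 1 := .of (startD 0 1) (by decide +kernel)
theorem r511_5 : R9 F (g wAd) b511 [] 1 2 := .of (startD 0 1) (by decide +kernel)
theorem r511_6 : R9 F (g wAd) b511 [] 2 0 := .of (startD 0 1) (by decide +kernel)
theorem r511_7 : R9 F (g wAd) b511 [] 2 1 := .of (startD 0 1) (by decide +kernel)
theorem r511_8 : R9 F (g wAd) b511 [] 2 2 := .of (startD 0 1) (by decide +kernel)
theorem g511 : Gd F (g wAd) (0, d511) [] :=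
  good9 ok h511 r511_0 r511_1 r511_2 r511_3 r511_4 r511_5 r511_6 r511_7 r511_8

def b512 : Wd := ⟨0, d512,
  [.Z10, .Z9, .Z7, .Z6, .Z5, .Z1, .X10, .X8, .X6, .X5, .X2, .X1, .X0, .y10, .y8, .y6, .y3, .y2, .y1, .hi, .p10, .hi,
   .p6, .hi, .p8, .hi, .p5, .hi, .p5, .hi, .xii, .y2, .hi, .p8, .xii, .y4, .p10, .taui, .xii, .p, .xii, .y1, .hi,
   .xii, .y5, .y8, .taui, .y1, .xii, .p9, .xii, .p5, .y3, .xii, .y4, .y8, .tau, .xii, .y2, .p6, .xii, .y2, .p2, .xii,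
   .y6, .taui, .xii, .y6, .p4],
  [.z, .Z10, .Z8, .Z5, .Z3, .Z2, .X8, .X7, .X6, .X3, .X2, .y10, .y8, .y7, .y1, .p5, .hi, .p7, .hi, .p7, .hi, .p9, .hi,
   .p8, .hi, .p3, .xii, .y2, .hi, .p3, .hi, .p5, .taui, .xii, .p3, .hi, .xii, .y2, .y8, .taui, .X0, .p8, .xii, .y9,
   .p, .xii, .p8, .tau, .xii, .p3, .xii, .p2, .y1, .hi, .p, .taui, .xii, .p, .hi],
  [.Z9, .Z8, .Z7, .Z6, .Z5, .Z4, .Z2, .X10, .X8, .X6, .X3, .X2, .X1, .X0, .y10, .y9, .y4, .y2, .y1, .hi, .p10, .hi,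
   .p, .hi, .p4, .hi, .p, .hi, .p4, .hi, .p2, .xii, .hi, .xii, .p5, .y7, .xii, .tau, .xii, .p, .xii, .y3, .hi, .xii,
   .y6, .taui, .X0, .y1, .p5, .xii, .p7, .xii, .p10, .hi, .y5, .p8, .tau, .xii, .p9, .xii, .y2, .y7, .p, .xii, .taui,
   .xii, .y6, .hi, .p8]⟩

theorem h512 : Hd F (g wAd) b512 := hdD (by decide +kernel)
theorem r512_0 : R9 F (g wAd) b512 [] 0 0 := .of (startD 0 1) (by decide +kernel)
theorem r512_1 : R9 F (g wAd) b512 [] 0 1 := .of (startD 0 2) (by decide +kernel)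
theorem r512_2 : R9 F (g wAd) b512 [] 0 2 := .of (startD 0 1) (by decide +kernel)
theorem r512_3 : R9 F (g wAd) b512 [] 1 0 := .of (startD 0 1) (by decide +kernel)
theorem r512_4 : R9 F (g wAd) b512 [] 1 1 := .of (startD 0 1) (by decide +kernel)
theorem r512_5 : R9 F (g wAd) b512 [] 1 2 := .of (startD 0 2) (by decide +kernel)
theorem r512_6 : R9 F (g wAd) b512 [] 2 0 := .of (startD 0 1) (by decide +kernel)
theorem r512_7 : R9 F (g wAd) b512 [] 2 1 := .of (startD 0 1) (by decide +kernel)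
theorem r512_8 : R9 F (g wAd) b512 [] 2 2 := .of (startD 0 1) (by decide +kernel)
theorem g512 : Gd F (g wAd) (0, d512) [] :=
  good9 ok h512 r512_0 r512_1 r512_2 r512_3 r512_4 r512_5 r512_6 r512_7 r512_8

def b513 : Wd := ⟨0, d513,
  [.Z7, .Z6, .Z4, .Z0, .X9, .X8, .X6, .X5, .X3, .X2, .y7, .y2, .p10, .hi, .p6, .hi, .p4, .hi, .p5, .hi, .p4, .hi, .p4,
   .xii, .hi, .xii, .p2, .y7, .xii, .y6, .taui, .xii, .p, .xii, .y1, .hi, .xii, .y6, .y10, .tau, .X0, .p7, .xii, .hi,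
   .xii, .p4, .y9, .taui, .xii, .y2, .p4, .xii, .y10, .p6, .xii, .y2, .y10, .taui, .xii, .hi, .xii, .y8],
  [.Z10, .Z8, .Z7, .Z6, .Z5, .Z4, .Z3, .Z1, .Z0, .X9, .X8, .X6, .X4, .X2, .X1, .X0, .y10, .y9, .y8, .y7, .y1, .p10,
   .hi, .p7, .hi, .p5, .hi, .p3, .hi, .p6, .hi, .p10, .xii, .tau, .p10, .xii, .y4, .p2, .hi, .xii, .y6, .p3, .tau,
   .y1, .p9, .xii, .p, .xii, .y7, .taui, .xii, .p7, .xii, .y1, .p9, .xii, .y1, .y6, .taui, .xii, .p4, .hi],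
  [.z, .Z8, .Z5, .Z2, .Z1, .X10, .X9, .X8, .X6, .X5, .X3, .X2, .X1, .y5, .y3, .y2, .p8, .hi, .p, .hi, .p5, .hi, .p8,
   .hi, .p, .hi, .p6, .xii, .p10, .xii, .y1, .p8, .xii, .y9, .taui, .y1, .xii, .p10, .xii, .y8, .p10, .xii, .y3, .y5,
   .taui, .xii, .p, .xii, .hi, .y8, .xii, .y4, .y5, .y9, .taui, .p5, .xii, .y6, .p7, .xii, .tau, .xii, .y2, .p2, .xii,
   .p, .xii, .y2, .y10, .tau, .xii, .hi, .p6]⟩

theorem h513 : Hd F (g wAd) b513 := hdD (by decide +kernel)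
theorem r513_0 : R9 F (g wAd) b513 [] 0 0 := .of (startD 0 1) (by decide +kernel)
theorem r513_1 : R9 F (g wAd) b513 [] 0 1 := .of (startD 0 1) (by decide +kernel)
theorem r513_2 : R9 F (g wAd) b513 [] 0 2 := .of (startD 0 1) (by decide +kernel)
theorem r513_3 : R9 F (g wAd) b513 [] 1 0 := .of (startD 0 1) (by decide +kernel)
theorem r513_4 : R9 F (g wAd) b513 [] 1 1 := .of (startD 0 1) (by decide +kernel)
theorem r513_5 : R9 F (g wAd) b513 [] 1 2 := .of (startD 0 1) (by decide +kernel)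
theorem r513_6 : R9 F (g wAd) b513 [] 2 0 := .of (startD 0 1) (by decide +kernel)
theorem r513_7 : R9 F (g wAd) b513 [] 2 1 := .of (startD 0 1) (by decide +kernel)
theorem r513_8 : R9 F (g wAd) b513 [] 2 2 := .of (startD 0 1) (by decide +kernel)
theorem g513 : Gd F (g wAd) (0, d513) [] :=
  good9 ok h513 r513_0 r513_1 r513_2 r513_3 r513_4 r513_5 r513_6 r513_7 r513_8

def b514 : Wd := ⟨0, d514,
  [.Z7, .Z6, .Z3, .Z2, .Z1, .X8, .X6, .X5, .X3, .X2, .X1, .X0, .y9, .y8, .y7, .p10, .hi, .p9, .hi, .p8, .hi, .p9, .hi,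
   .p9, .hi, .p5, .hi, .p, .hi, .xii, .y2, .p2, .hi, .xii, .y5, .p3, .tau, .xii, .p, .xii, .y3, .hi, .xii, .y5, .taui,
   .hi, .xii, .p9, .xii, .p, .y7, .hi, .y9, .p8, .taui, .xii, .p7, .xii, .y6, .hi, .tau, .xii, .y2, .p7],
  [.z, .Z9, .Z8, .Z7, .Z6, .Z5, .Z0, .X10, .X4, .X2, .y9, .y7, .y5, .y4, .p9, .hi, .p9, .hi, .p8, .hi, .p3, .hi, .p4,
   .hi, .p10, .xii, .p10, .xii, .y1, .y7, .tau, .y1, .xii, .y2, .hi, .xii, .p10, .xii, .y2, .taui, .xii, .hi, .xii,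
   .y4, .p8, .xii, .y2, .p9, .taui, .xii, .p5, .xii, .y2, .y7, .p5, .xii, .y9, .taui, .xii, .y7],
  [.z, .Z8, .Z7, .Z6, .Z2, .Z1, .X10, .X8, .X6, .X3, .X2, .X0, .y10, .y6, .y5, .y1, .p5, .hi, .p10, .hi, .p, .hi, .p3,
   .hi, .p5, .hi, .p4, .hi, .xii, .y2, .hi, .xii, .p4, .hi, .taui, .xii, .y6, .p, .xii, .p, .xii, .y5, .taui, .X0,
   .y1, .xii, .p3, .xii, .p4, .xii, .p3, .y3, .taui, .xii, .p9, .xii, .y4, .y6, .p5, .taui, .xii, .y2, .p2]⟩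

theorem h514 : Hd F (g wAd) b514 := hdD (by decide +kernel)
theorem r514_0 : R9 F (g wAd) b514 [] 0 0 := .of (startD 0 1) (by decide +kernel)
theorem r514_1 : R9 F (g wAd) b514 [] 0 1 := .of (startD 0 1) (by decide +kernel)
theorem r514_2 : R9 F (g wAd) b514 [] 0 2 := .of (startD 0 1) (by decide +kernel)
theorem r514_3 : R9 F (g wAd) b514 [] 1 0 := .of (startD 0 1) (by decide +kernel)
theorem r514_4 : R9 F (g wAd) b514 [] 1 1 := .of (startD 0 1) (by decide +kernel)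
theorem r514_5 : R9 F (g wAd) b514 [] 1 2 := .of (startD 0 1) (by decide +kernel)
theorem r514_6 : R9 F (g wAd) b514 [] 2 0 := .of (startD 0 1) (by decide +kernel)
theorem r514_7 : R9 F (g wAd) b514 [] 2 1 := .of (startD 0 1) (by decide +kernel)
theorem r514_8 : R9 F (g wAd) b514 [] 2 2 := .of (startD 0 1) (by decide +kernel)
theorem g514 : Gd F (g wAd) (0, d514) [] :=
  good9 ok h514 r514_0 r514_1 r514_2 r514_3 r514_4 r514_5 r514_6 r514_7 r514_8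

def b515 : Wd := ⟨0, d515,
  [.z, .Z9, .Z6, .Z5, .Z4, .Z3, .Z1, .Z0, .X9, .X7, .X5, .X3, .X0, .y9, .y2, .y1, .p4, .hi, .p3, .hi, .p7, .hi, .p5,
   .hi, .p5, .hi, .p7, .hi, .xii, .p2, .hi, .xii, .y8, .p5, .hi, .p5, .tau, .xii, .p, .xii, .hi, .y8, .xii, .y5, .tau,
   .p7, .xii, .y2, .p5, .xii, .y7, .p7, .taui, .xii, .p5, .xii, .hi, .y10, .p10, .y10, .tau, .xii, .p5, .hi, .p2],
  [.z, .Z8, .Z6, .Z5, .Z4, .Z3, .X8, .X5, .X3, .X0, .y10, .y9, .y8, .y3, .y2, .y1, .p10, .hi, .p9, .hi, .p6, .hi, .p8,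
   .hi, .p7, .hi, .p5, .xii, .y2, .p3, .hi, .xii, .p6, .tau, .X0, .p7, .xii, .p7, .xii, .hi, .p3, .y6, .tau, .xii,
   .p5, .xii, .y2, .y3, .y7, .p, .tau, .xii, .p2, .hi, .p8, .hi],
  [.Z10, .Z7, .Z5, .Z4, .X10, .X8, .X5, .X4, .X0, .y6, .y5, .y4, .y3, .y2, .y1, .p3, .hi, .p7, .hi, .p10, .hi, .p6,
   .hi, .p10, .hi, .xii, .hi, .xii, .p8, .xii, .y8, .taui, .xii, .p, .xii, .y2, .hi, .xii, .y5, .y10, .tau, .xii, .p4,
   .xii, .y3, .p9, .y1, .xii, .y3, .p7, .tau, .xii, .p4, .xii, .y3, .y4, .p8, .xii, .y5, .tau, .xii, .hi, .xii, .y7]⟩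

theorem h515 : Hd F (g wAd) b515 := hdD (by decide +kernel)
theorem r515_0 : R9 F (g wAd) b515 [] 0 0 := .of (startD 0 1) (by decide +kernel)
theorem r515_1 : R9 F (g wAd) b515 [] 0 1 := .of (startD 0 1) (by decide +kernel)
theorem r515_2 : R9 F (g wAd) b515 [] 0 2 := .of (startD 0 1) (by decide +kernel)
theorem r515_3 : R9 F (g wAd) b515 [] 1 0 := .of (startD 0 1) (by decide +kernel)
theorem r515_4 : R9 F (g wAd) b515 [] 1 1 := .of (startD 0 1) (by decide +kernel)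
theorem r515_5 : R9 F (g wAd) b515 [] 1 2 := .of (startD 0 1) (by decide +kernel)
theorem r515_6 : R9 F (g wAd) b515 [] 2 0 := .of (startD 0 1) (by decide +kernel)
theorem r515_7 : R9 F (g wAd) b515 [] 2 1 := .of (startD 0 1) (by decide +kernel)
theorem r515_8 : R9 F (g wAd) b515 [] 2 2 := .of (startD 0 1) (by decide +kernel)
theorem g515 : Gd F (g wAd) (0, d515) [] :=
  good9 ok h515 r515_0 r515_1 r515_2 r515_3 r515_4 r515_5 r515_6 r515_7 r515_8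

def b516 : Wd := ⟨0, d516,
  [.z, .Z10, .Z9, .Z8, .Z7, .Z6, .Z3, .X7, .X6, .X5, .X3, .X1, .X0, .y8, .y7, .y3, .p10, .hi, .p9, .hi, .p, .hi, .p3,
   .hi, .p10, .hi, .xii, .hi, .xii, .y8, .p9, .xii, .y7, .taui, .y1, .xii, .p10, .xii, .y4, .p10, .xii, .y1, .y6,
   .taui, .X0, .p6, .xii, .p8, .xii, .y6, .p3, .y2, .hi, .taui, .xii, .p2, .xii, .y1, .y4, .hi, .p7, .tau, .xii, .y2,
   .p],
  [.Z9, .Z7, .Z3, .Z2, .Z1, .X7, .X5, .X2, .y9, .y8, .y7, .y4, .y3, .p8, .hi, .p3, .hi, .p9, .hi, .p5, .hi, .p3, .hi,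
   .p2, .xii, .hi, .p8, .xii, .y10, .taui, .xii, .y2, .p, .xii, .y3, .hi, .xii, .y7, .taui, .X0, .p4, .xii, .y1, .hi,
   .p8, .xii, .hi, .p9, .taui, .xii, .p5, .hi, .xii, .y7, .p7],
  [.z, .Z10, .Z9, .Z5, .Z3, .Z0, .X10, .X2, .y9, .y8, .y6, .y4, .y2, .y1, .p7, .hi, .p7, .hi, .p7, .hi, .p5, .hi, .p8,
   .hi, .p6, .xii, .p10, .xii, .y5, .p9, .xii, .y4, .y6, .tau, .xii, .p, .xii, .y3, .hi, .xii, .y6, .taui, .y1, .xii,
   .y1, .hi, .xii, .p10, .xii, .y4, .y9, .taui, .p10, .xii, .y6, .p6, .xii, .y2, .tau, .xii, .p5, .xii, .p, .y4, .xii,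
   .y3, .tau, .xii]⟩

theorem h516 : Hd F (g wAd) b516 := hdD (by decide +kernel)
theorem r516_0 : R9 F (g wAd) b516 [] 0 0 := .of (startD 0 1) (by decide +kernel)
theorem r516_1 : R9 F (g wAd) b516 [] 0 1 := .of (startD 0 1) (by decide +kernel)
theorem r516_2 : R9 F (g wAd) b516 [] 0 2 := .of (startD 0 1) (by decide +kernel)
theorem r516_3 : R9 F (g wAd) b516 [] 1 0 := .of (startD 0 1) (by decide +kernel)
theorem r516_4 : R9 F (g wAd) b516 [] 1 1 := .of (startD 0 1) (by decide +kernel)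
theorem r516_5 : R9 F (g wAd) b516 [] 1 2 := .of (startD 0 1) (by decide +kernel)
theorem r516_6 : R9 F (g wAd) b516 [] 2 0 := .of (startD 0 1) (by decide +kernel)
theorem r516_7 : R9 F (g wAd) b516 [] 2 1 := .of (startD 0 1) (by decide +kernel)
theorem r516_8 : R9 F (g wAd) b516 [] 2 2 := .of (startD 0 1) (by decide +kernel)
theorem g516 : Gd F (g wAd) (0, d516) [] :=
  good9 ok h516 r516_0 r516_1 r516_2 r516_3 r516_4 r516_5 r516_6 r516_7 r516_8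

def b517 : Wd := ⟨0, d517,
  [.Z7, .Z5, .Z3, .Z0, .X8, .X6, .X5, .X3, .X2, .X0, .y10, .y6, .y1, .p9, .hi, .p5, .hi, .p10, .hi, .p10, .hi, .p,
   .hi, .p7, .hi, .p6, .xii, .p3, .hi, .p8, .hi, .p6, .taui, .xii, .p, .xii, .y1, .y6, .hi, .xii, .y5, .y10, .taui,
   .X0, .p10, .xii, .p5, .xii, .y5, .y8, .p3, .tau, .xii, .p8, .xii, .y3, .p4, .hi, .p, .taui, .xii, .hi, .p8],
  [.z, .Z9, .Z6, .Z4, .Z1, .Z0, .X9, .X7, .X6, .X3, .X0, .y10, .y7, .y6, .y4, .y3, .y2, .y1, .hi, .p3, .hi, .p5, .hi,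
   .p6, .hi, .p5, .hi, .tau, .xii, .y6, .p, .xii, .p, .xii, .y7, .y8, .y10, .taui, .xii, .hi, .xii, .p6, .xii, .p5,
   .y7, .y10, .tau, .xii, .y2, .p5, .xii, .y7, .p4, .hi, .p8, .tau, .xii, .y2, .p8],
  [.Z10, .Z7, .Z6, .Z5, .Z4, .Z2, .Z0, .X10, .X9, .X7, .X3, .X1, .y9, .y5, .y3, .y1, .p9, .hi, .p9, .hi, .p10, .hi,
   .p4, .hi, .p4, .hi, .p, .xii, .p, .xii, .hi, .y7, .p8, .tau, .xii, .y1, .p, .xii, .y4, .p, .xii, .y7, .y10, .tau,
   .X0, .xii, .p4, .xii, .p4, .y10, .xii, .y1, .y5, .y8, .taui, .xii, .y2, .p7, .xii, .y10, .p3, .xii, .y2, .tau,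
   .xii, .hi]⟩

theorem h517 : Hd F (g wAd) b517 := hdD (by decide +kernel)
theorem r517_0 : R9 F (g wAd) b517 [] 0 0 := .of (startD 0 1) (by decide +kernel)
theorem r517_1 : R9 F (g wAd) b517 [] 0 1 := .of (startD 0 1) (by decide +kernel)
theorem r517_2 : R9 F (g wAd) b517 [] 0 2 := .of (startD 0 1) (by decide +kernel)
theorem r517_3 : R9 F (g wAd) b517 [] 1 0 := .of (startD 0 1) (by decide +kernel)
theorem r517_4 : R9 F (g wAd) b517 [] 1 1 := .of (startD 0 1) (by decide +kernel)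
theorem r517_5 : R9 F (g wAd) b517 [] 1 2 := .of (startD 0 1) (by decide +kernel)
theorem r517_6 : R9 F (g wAd) b517 [] 2 0 := .of (startD 0 1) (by decide +kernel)
theorem r517_7 : R9 F (g wAd) b517 [] 2 1 := .of (startD 0 1) (by decide +kernel)
theorem r517_8 : R9 F (g wAd) b517 [] 2 2 := .of (startD 0 2) (by decide +kernel)
theorem g517 : Gd F (g wAd) (0, d517) [] :=
  good9 ok h517 r517_0 r517_1 r517_2 r517_3 r517_4 r517_5 r517_6 r517_7 r517_8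

def b518 : Wd := ⟨0, d518,
  [.Z7, .Z6, .Z5, .Z4, .Z2, .Z0, .X9, .X8, .X7, .X5, .X3, .X0, .y10, .y8, .y7, .y6, .y5, .y4, .y2, .p8, .hi, .p, .hi,
   .p8, .hi, .p6, .hi, .p5, .hi, .xii, .y2, .p2, .hi, .xii, .p3, .taui, .X0, .xii, .p3, .xii, .hi, .xii, .hi, .y9,
   .taui, .p9, .xii, .p2, .xii, .y5, .p3, .hi, .p4, .taui, .xii, .p8, .xii, .y4, .p4, .xii, .y9, .tau, .xii, .y4, .p6],
  [.z, .Z9, .Z7, .Z5, .Z2, .Z0, .X10, .X8, .X7, .X6, .X3, .y8, .y7, .y6, .y4, .y2, .y1, .p10, .hi, .p10, .hi, .p2,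
   .hi, .p4, .hi, .p3, .hi, .p, .hi, .xii, .p, .xii, .p8, .y5, .xii, .y7, .tau, .p2, .xii, .p4, .xii, .y4, .y5, .p4,
   .tau, .xii, .p9, .xii, .y4, .y10, .p5, .xii, .tau, .xii, .p],
  [.z, .Z8, .Z7, .Z4, .Z3, .Z2, .Z1, .X10, .X9, .X6, .X4, .X3, .X2, .X1, .X0, .y10, .p8, .hi, .p5, .hi, .p8, .hi, .p6,
   .hi, .p3, .hi, .p10, .hi, .p, .hi, .xii, .y2, .p3, .hi, .xii, .p4, .hi, .p2, .tau, .xii, .y2, .p, .xii, .y1, .hi,
   .xii, .y7, .y10, .tau, .xii, .y6, .p, .xii, .y4, .p, .xii, .y3, .taui, .X0, .p10, .xii, .p6, .xii, .y4, .taui,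
   .xii, .p4, .xii, .y10, .p4, .xii, .y8, .y10, .taui, .xii, .y2, .hi, .p7]⟩

theorem h518 : Hd F (g wAd) b518 := hdD (by decide +kernel)
theorem r518_0 : R9 F (g wAd) b518 [] 0 0 := .of (startD 0 1) (by decide +kernel)
theorem r518_1 : R9 F (g wAd) b518 [] 0 1 := .of (startD 0 1) (by decide +kernel)
theorem r518_2 : R9 F (g wAd) b518 [] 0 2 := .of (startD 0 1) (by decide +kernel)
theorem r518_3 : R9 F (g wAd) b518 [] 1 0 := .of (startD 0 1) (by decide +kernel)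
theorem r518_4 : R9 F (g wAd) b518 [] 1 1 := .of (startD 0 1) (by decide +kernel)
theorem r518_5 : R9 F (g wAd) b518 [] 1 2 := .of (startD 0 1) (by decide +kernel)
theorem r518_6 : R9 F (g wAd) b518 [] 2 0 := .of (startD 0 1) (by decide +kernel)
theorem r518_7 : R9 F (g wAd) b518 [] 2 1 := .of (startD 0 1) (by decide +kernel)
theorem r518_8 : R9 F (g wAd) b518 [] 2 2 := .of (startD 0 1) (by decide +kernel)
theorem g518 : Gd F (g wAd) (0, d518) [] :=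
  good9 ok h518 r518_0 r518_1 r518_2 r518_3 r518_4 r518_5 r518_6 r518_7 r518_8

def b519 : Wd := ⟨0, d519,
  [.z, .Z8, .Z7, .Z6, .Z4, .Z3, .Z0, .X10, .X5, .X1, .X0, .y8, .y2, .p8, .hi, .p, .hi, .p7, .hi, .p3, .hi, .p8, .hi,
   .xii, .hi, .xii, .p10, .y9, .xii, .tau, .y1, .xii, .y6, .p10, .xii, .y8, .p10, .xii, .y8, .y10, .taui, .X0, .p10,
   .xii, .y2, .p2, .xii, .y3, .tau, .xii, .p9, .xii, .y4, .hi, .xii, .y3, .tau, .xii, .p8, .xii, .y4],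
  [.Z6, .Z5, .Z4, .Z2, .X10, .X5, .X3, .X0, .y10, .y8, .y6, .y5, .y4, .y3, .y2, .y1, .p8, .hi, .p4, .hi, .xii, .p2,
   .hi, .taui, .xii, .p, .xii, .y2, .hi, .xii, .y7, .y10, .taui, .X0, .p9, .xii, .p5, .hi, .p10, .xii, .p9, .taui,
   .xii, .p9, .xii, .p5, .y1, .xii, .y1, .y5, .taui, .xii, .p3, .xii, .y4],
  [.z, .Z10, .Z9, .Z7, .Z5, .Z3, .Z2, .Z0, .X10, .X8, .X7, .X6, .X5, .X4, .X3, .X1, .X0, .y10, .y9, .y3, .p5, .hi, .p,
   .hi, .p, .hi, .p3, .hi, .p10, .hi, .p, .xii, .p10, .xii, .y4, .p10, .xii, .y2, .taui, .xii, .p, .xii, .hi, .y8,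
   .xii, .y6, .tau, .p7, .xii, .p7, .y9, .xii, .p10, .y9, .hi, .p3, .tau, .xii, .p5, .xii, .y8, .p, .hi, .p6, .taui,
   .xii, .y2, .p8]⟩

theorem h519 : Hd F (g wAd) b519 := hdD (by decide +kernel)
theorem r519_0 : R9 F (g wAd) b519 [] 0 0 := .of (startD 0 2) (by decide +kernel)
theorem r519_1 : R9 F (g wAd) b519 [] 0 1 := .of (startD 0 1) (by decide +kernel)
theorem r519_2 : R9 F (g wAd) b519 [] 0 2 := .of (startD 0 1) (by decide +kernel)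
theorem r519_3 : R9 F (g wAd) b519 [] 1 0 := .of (startD 0 1) (by decide +kernel)
theorem r519_4 : R9 F (g wAd) b519 [] 1 1 := .of (startD 0 1) (by decide +kernel)
theorem r519_5 : R9 F (g wAd) b519 [] 1 2 := .of (startD 0 1) (by decide +kernel)
theorem r519_6 : R9 F (g wAd) b519 [] 2 0 := .of (startD 0 1) (by decide +kernel)
theorem r519_7 : R9 F (g wAd) b519 [] 2 1 := .of (startD 0 1) (by decide +kernel)
theorem r519_8 : R9 F (g wAd) b519 [] 2 2 := .of (startD 0 1) (by decide +kernel)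
theorem g519 : Gd F (g wAd) (0, d519) [] :=
  good9 ok h519 r519_0 r519_1 r519_2 r519_3 r519_4 r519_5 r519_6 r519_7 r519_8

theorem all : AllG F (g wAd) LD51 :=
  .cons g510 (.cons g511 (.cons g512 (.cons g513 (.cons g514 (.cons g515 (.cons g516 (.cons g517 (.cons g518 (.cons g519 (.nil))))))))))

end Cfsg.Agent.BX.No33.Bk.D51
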