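import Cfsg.Agent.BX.No33.Cheap
set_option linter.all false

/-!
# Tests, diagonal case, part 52 (helper5; generated)
-/

set_option autoImplicit false
set_option maxRecDepth 100000
set_option Elab.async false

namespace Cfsg.Agent.BX.No33.Bk.D52

open Cfsg.Agent.H819.U33 Cfsg.Agent.BX.No33.Front

def b520 : Wd := ⟨0, d520,
  [.Z8, .Z5, .Z4, .Z3, .Z1, .X9, .X6, .X4, .X2, .X0, .y9, .y5, .y3, .y2, .p9, .hi, .p8, .hi, .p3, .hi, .p6, .hi, .p9,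
   .hi, .p10, .xii, .p10, .xii, .y10, .p3, .hi, .taui, .xii, .p, .xii, .y2, .hi, .xii, .y2, .y3, .tau, .p7, .xii, .p9,
   .xii, .y1, .y6, .p9, .xii, .y9, .taui, .xii, .p9, .xii, .y9, .p5, .xii, .y1, .tau, .xii, .hi, .xii, .y3],
  [.z, .Z7, .Z6, .Z5, .Z4, .Z2, .X7, .X6, .X3, .X1, .X0, .y10, .y9, .y8, .y7, .y4, .y3, .y2, .hi, .p3, .hi, .p5, .hi,
   .p9, .hi, .p7, .hi, .p4, .hi, .xii, .p3, .hi, .p8, .hi, .p6, .taui, .xii, .p, .xii, .y2, .hi, .xii, .y1, .y2,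
   .taui, .xii, .y1, .p4, .xii, .p9, .y7, .xii, .y7, .p, .tau, .xii, .p8, .xii, .y1, .y6, .p, .hi],
  [.Z9, .Z5, .Z3, .Z2, .Z0, .X10, .X6, .X1, .X0, .y10, .y8, .y6, .y5, .y4, .y1, .p6, .hi, .p7, .hi, .p4, .hi, .p3,
   .hi, .p6, .hi, .p10, .hi, .xii, .y2, .p, .xii, .y1, .hi, .p8, .tau, .xii, .y2, .p, .xii, .y3, .y10, .hi, .xii, .y6,
   .taui, .xii, .y2, .p9, .xii, .hi, .xii, .y1, .y2, .p10, .taui, .xii, .p7, .xii, .p9, .y4, .xii, .y6, .taui, .xii,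
   .p]⟩

theorem h520 : Hd F (g wAd) b520 := hdD (by decide +kernel)
theorem r520_0 : R9 F (g wAd) b520 [] 0 0 := .of (startD 0 1) (by decide +kernel)
theorem r520_1 : R9 F (g wAd) b520 [] 0 1 := .of (startD 0 1) (by decide +kernel)
theorem r520_2 : R9 F (g wAd) b520 [] 0 2 := .of (startD 0 1) (by decide +kernel)
theorem r520_3 : R9 F (g wAd) b520 [] 1 0 := .of (startD 0 1) (by decide +kernel)
theorem r520_4 : R9 F (g wAd) b520 [] 1 1 := .of (startD 0 1) (by decide +kernel)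
theorem r520_5 : R9 F (g wAd) b520 [] 1 2 := .of (startD 0 1) (by decide +kernel)
theorem r520_6 : R9 F (g wAd) b520 [] 2 0 := .of (startD 0 1) (by decide +kernel)
theorem r520_7 : R9 F (g wAd) b520 [] 2 1 := .of (startD 0 1) (by decide +kernel)
theorem r520_8 : R9 F (g wAd) b520 [] 2 2 := .of (startD 0 1) (by decide +kernel)
theorem g520 : Gd F (g wAd) (0, d520) [] :=
  good9 ok h520 r520_0 r520_1 r520_2 r520_3 r520_4 r520_5 r520_6 r520_7 r520_8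

def b521 : Wd := ⟨0, d521,
  [.Z10, .Z7, .Z5, .Z3, .Z1, .X8, .X3, .y8, .y4, .y3, .y2, .p9, .hi, .p6, .hi, .p8, .hi, .p5, .hi, .p2, .xii, .p3,
   .hi, .xii, .y3, .y7, .p10, .taui, .y1, .xii, .p10, .xii, .y1, .p10, .y9, .xii, .y8, .tau, .p9, .xii, .p, .xii, .y7,
   .hi, .p3, .y2, .taui, .xii, .p9, .xii, .y10, .p, .hi, .p7, .tau, .xii, .y2, .p3, .hi, .p8],
  [.z, .Z10, .Z4, .Z1, .X10, .X8, .X6, .X2, .y9, .y7, .y4, .y3, .hi, .p6, .hi, .p9, .hi, .p8, .hi, .p5, .xii, .y2,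
   .p3, .hi, .xii, .p6, .tau, .xii, .y6, .p, .xii, .p, .xii, .y1, .y2, .tau, .X0, .xii, .p3, .xii, .p6, .xii, .y4,
   .y7, .hi, .tau, .xii, .p3, .xii, .p6, .y6, .xii, .y1, .tau, .xii, .y4, .p6],
  [.Z10, .Z8, .Z5, .Z3, .Z2, .Z1, .Z0, .X10, .X9, .X7, .X5, .X3, .y9, .y8, .y7, .y5, .y2, .y1, .hi, .p9, .hi, .p4,
   .hi, .p6, .hi, .p, .hi, .p4, .hi, .p2, .xii, .p2, .hi, .xii, .y9, .p3, .tau, .y1, .xii, .p10, .xii, .y2, .p10,
   .xii, .y4, .tau, .xii, .p8, .xii, .y3, .y9, .p4, .xii, .y5, .y8, .taui, .xii, .p4, .xii, .y3, .y5, .hi, .p4]⟩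

theorem h521 : Hd F (g wAd) b521 := hdD (by decide +kernel)
theorem r521_0 : R9 F (g wAd) b521 [] 0 0 := .of (startD 0 1) (by decide +kernel)
theorem r521_1 : R9 F (g wAd) b521 [] 0 1 := .of (startD 0 1) (by decide +kernel)
theorem r521_2 : R9 F (g wAd) b521 [] 0 2 := .of (startD 0 1) (by decide +kernel)
theorem r521_3 : R9 F (g wAd) b521 [] 1 0 := .of (startD 0 1) (by decide +kernel)
theorem r521_4 : R9 F (g wAd) b521 [] 1 1 := .of (startD 0 1) (by decide +kernel)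
theorem r521_5 : R9 F (g wAd) b521 [] 1 2 := .of (startD 0 1) (by decide +kernel)
theorem r521_6 : R9 F (g wAd) b521 [] 2 0 := .of (startD 0 1) (by decide +kernel)
theorem r521_7 : R9 F (g wAd) b521 [] 2 1 := .of (startD 0 1) (by decide +kernel)
theorem r521_8 : R9 F (g wAd) b521 [] 2 2 := .of (startD 0 1) (by decide +kernel)
theorem g521 : Gd F (g wAd) (0, d521) [] :=
  good9 ok h521 r521_0 r521_1 r521_2 r521_3 r521_4 r521_5 r521_6 r521_7 r521_8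

def b522 : Wd := ⟨0, d522,
  [.Z10, .Z7, .Z6, .Z3, .Z2, .Z1, .X10, .X8, .X2, .X1, .X0, .y9, .y8, .y7, .y4, .y3, .y1, .p7, .hi, .p7, .hi, .p4,
   .hi, .p3, .hi, .p6, .hi, .p10, .hi, .xii, .hi, .xii, .p3, .y4, .hi, .taui, .xii, .y2, .p, .xii, .y1, .hi, .xii,
   .y1, .y2, .taui, .p4, .xii, .y2, .p4, .xii, .y1, .p10, .hi, .p10, .taui, .xii, .p9, .xii, .hi, .p2, .hi, .y10,
   .tau, .xii, .y2, .p7],
  [.z, .Z9, .Z6, .Z2, .Z1, .X10, .X9, .X8, .X7, .X3, .y9, .y4, .y3, .y2, .y1, .p3, .hi, .p9, .hi, .p, .hi, .p4, .hi,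
   .p, .xii, .p10, .xii, .y4, .tau, .xii, .y2, .p, .xii, .y4, .hi, .xii, .y7, .y10, .taui, .X0, .p4, .xii, .p4, .xii,
   .y10, .p9, .y8, .tau, .xii, .p9, .xii, .y3, .p, .y7, .xii, .tau, .xii, .y4],
  [.Z9, .Z3, .Z2, .X10, .X6, .X5, .X2, .X1, .X0, .y9, .y6, .y5, .y4, .y1, .p2, .hi, .p10, .hi, .p9, .hi, .p9, .hi,
   .p3, .hi, .p10, .xii, .y2, .hi, .p8, .hi, .p5, .hi, .tau, .xii, .p, .xii, .hi, .y8, .xii, .y1, .taui, .X0, .p6,
   .xii, .p10, .xii, .p3, .y4, .hi, .p4, .taui, .xii, .p4, .xii, .y4, .y6, .p8, .xii, .y2, .taui, .xii, .p7, .xii,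
   .y4]⟩

theorem h522 : Hd F (g wAd) b522 := hdD (by decide +kernel)
theorem r522_0 : R9 F (g wAd) b522 [] 0 0 := .of (startD 0 1) (by decide +kernel)
theorem r522_1 : R9 F (g wAd) b522 [] 0 1 := .of (startD 0 1) (by decide +kernel)
theorem r522_2 : R9 F (g wAd) b522 [] 0 2 := .of (startD 0 1) (by decide +kernel)
theorem r522_3 : R9 F (g wAd) b522 [] 1 0 := .of (startD 0 1) (by decide +kernel)
theorem r522_4 : R9 F (g wAd) b522 [] 1 1 := .of (startD 0 1) (by decide +kernel)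
theorem r522_5 : R9 F (g wAd) b522 [] 1 2 := .of (startD 0 1) (by decide +kernel)
theorem r522_6 : R9 F (g wAd) b522 [] 2 0 := .of (startD 0 1) (by decide +kernel)
theorem r522_7 : R9 F (g wAd) b522 [] 2 1 := .of (startD 0 1) (by decide +kernel)
theorem r522_8 : R9 F (g wAd) b522 [] 2 2 := .of (startD 0 1) (by decide +kernel)
theorem g522 : Gd F (g wAd) (0, d522) [] :=
  good9 ok h522 r522_0 r522_1 r522_2 r522_3 r522_4 r522_5 r522_6 r522_7 r522_8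

def b523 : Wd := ⟨0, d523,
  [.z, .Z7, .Z5, .Z4, .Z2, .Z1, .Z0, .X10, .X6, .X3, .X2, .X1, .y10, .y9, .y6, .y4, .y3, .y2, .y1, .hi, .p8, .hi,
   .p10, .hi, .p7, .hi, .p8, .hi, .p10, .hi, .xii, .y2, .hi, .p2, .hi, .taui, .xii, .y2, .p, .xii, .y3, .hi, .xii,
   .y6, .tau, .p8, .xii, .p2, .hi, .y8, .xii, .p2, .taui, .xii, .p8, .xii, .y5, .y8, .p4, .xii, .y10, .tau, .xii, .y4,
   .p4, .hi],
  [.z, .Z10, .Z6, .Z3, .Z2, .Z1, .X7, .X5, .X2, .y8, .y4, .y3, .y1, .p10, .hi, .p6, .hi, .p8, .hi, .p8, .hi, .p10,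
   .hi, .p, .hi, .p5, .xii, .y2, .p, .xii, .p5, .xii, .y4, .y7, .taui, .xii, .y1, .p, .xii, .p, .xii, .y4, .y6, .taui,
   .X0, .xii, .p4, .xii, .y9, .y10, .p7, .xii, .y8, .y10, .tau, .xii, .p5, .xii, .y8, .p5, .xii, .y2, .taui],
  [.Z10, .Z7, .Z6, .Z5, .Z2, .Z1, .Z0, .X7, .X3, .X2, .X1, .X0, .y10, .y8, .y7, .y6, .y5, .p5, .hi, .p9, .hi, .p7,
   .hi, .p3, .hi, .p9, .hi, .xii, .p10, .xii, .y5, .p5, .hi, .p5, .taui, .y1, .xii, .p10, .xii, .y8, .p10, .xii, .y10,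
   .taui, .X0, .p6, .xii, .p6, .xii, .p5, .y6, .hi, .p7, .tau, .xii, .p, .xii, .y2, .y4, .hi, .p5]⟩

theorem h523 : Hd F (g wAd) b523 := hdD (by decide +kernel)
theorem r523_0 : R9 F (g wAd) b523 [] 0 0 := .of (startD 0 1) (by decide +kernel)
theorem r523_1 : R9 F (g wAd) b523 [] 0 1 := .of (startD 0 1) (by decide +kernel)
theorem r523_2 : R9 F (g wAd) b523 [] 0 2 := .of (startD 0 1) (by decide +kernel)
theorem r523_3 : R9 F (g wAd) b523 [] 1 0 := .of (startD 0 1) (by decide +kernel)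
theorem r523_4 : R9 F (g wAd) b523 [] 1 1 := .of (startD 0 1) (by decide +kernel)
theorem r523_5 : R9 F (g wAd) b523 [] 1 2 := .of (startD 0 1) (by decide +kernel)
theorem r523_6 : R9 F (g wAd) b523 [] 2 0 := .of (startD 0 1) (by decide +kernel)
theorem r523_7 : R9 F (g wAd) b523 [] 2 1 := .of (startD 0 1) (by decide +kernel)
theorem r523_8 : R9 F (g wAd) b523 [] 2 2 := .of (startD 0 1) (by decide +kernel)
theorem g523 : Gd F (g wAd) (0, d523) [] :=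
  good9 ok h523 r523_0 r523_1 r523_2 r523_3 r523_4 r523_5 r523_6 r523_7 r523_8

def b524 : Wd := ⟨0, d524,
  [.Z10, .Z9, .Z8, .Z7, .Z6, .Z4, .Z3, .X9, .X8, .X7, .X0, .y7, .y6, .y5, .y4, .y3, .p6, .hi, .p3, .hi, .p4, .hi,
   .p10, .hi, .p9, .hi, .p7, .xii, .p, .hi, .xii, .y2, .p3, .tau, .xii, .p, .xii, .hi, .y8, .xii, .y4, .y5, .y9, .tau,
   .X0, .p7, .xii, .p5, .hi, .xii, .y4, .y6, .p5, .tau, .xii, .p7, .xii, .p8, .y8, .xii, .y9, .tau, .xii, .y2, .p6],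
  [.Z10, .Z9, .Z8, .Z5, .Z4, .Z2, .X10, .X8, .X6, .X4, .y7, .y1, .hi, .p9, .hi, .p5, .hi, .p, .hi, .p4, .hi, .p8,
   .xii, .hi, .p8, .hi, .p8, .taui, .y1, .xii, .p10, .xii, .y8, .p10, .xii, .y10, .taui, .xii, .y2, .p6, .xii, .y2,
   .p6, .xii, .y1, .y2, .taui, .xii, .p9, .xii, .p6, .y1, .y7, .xii, .y3],
  [.Z10, .Z5, .Z3, .Z2, .Z1, .X9, .X4, .X3, .X1, .X0, .y10, .y8, .y7, .y6, .y5, .y3, .p6, .hi, .p, .hi, .p7, .hi, .p9,
   .hi, .p3, .hi, .p10, .xii, .p, .xii, .y1, .hi, .xii, .y6, .tau, .xii, .p, .xii, .y4, .hi, .xii, .y5, .taui, .X0,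
   .y1, .xii, .p4, .xii, .y8, .p6, .y8, .xii, .y6, .tau, .xii, .y2, .p9, .xii, .y4, .p, .xii, .tau, .xii, .y4, .p5]⟩

theorem h524 : Hd F (g wAd) b524 := hdD (by decide +kernel)
theorem r524_0 : R9 F (g wAd) b524 [] 0 0 := .of (startD 0 1) (by decide +kernel)
theorem r524_1 : R9 F (g wAd) b524 [] 0 1 := .of (startD 0 1) (by decide +kernel)
theorem r524_2 : R9 F (g wAd) b524 [] 0 2 := .of (startD 0 1) (by decide +kernel)
theorem r524_3 : R9 F (g wAd) b524 [] 1 0 := .of (startD 0 1) (by decide +kernel)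
theorem r524_4 : R9 F (g wAd) b524 [] 1 1 := .of (startD 0 1) (by decide +kernel)
theorem r524_5 : R9 F (g wAd) b524 [] 1 2 := .of (startD 0 1) (by decide +kernel)
theorem r524_6 : R9 F (g wAd) b524 [] 2 0 := .of (startD 0 1) (by decide +kernel)
theorem r524_7 : R9 F (g wAd) b524 [] 2 1 := .of (startD 0 1) (by decide +kernel)
theorem r524_8 : R9 F (g wAd) b524 [] 2 2 := .of (startD 0 1) (by decide +kernel)
theorem g524 : Gd F (g wAd) (0, d524) [] :=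
  good9 ok h524 r524_0 r524_1 r524_2 r524_3 r524_4 r524_5 r524_6 r524_7 r524_8

def b525 : Wd := ⟨0, d525,
  [.Z6, .Z3, .Z2, .Z1, .Z0, .X10, .X5, .X1, .y10, .y9, .y8, .y6, .y4, .y2, .y1, .p6, .hi, .p5, .hi, .p3, .hi, .p, .hi,
   .p5, .hi, .p9, .xii, .p, .xii, .y2, .p9, .xii, .taui, .xii, .p, .xii, .y2, .hi, .xii, .y1, .y2, .taui, .xii, .p2,
   .xii, .p7, .y5, .xii, .y2, .y8, .p10, .tau, .xii, .p8, .xii, .y8, .p2, .y9, .xii, .y3],
  [.Z10, .Z9, .Z8, .Z7, .Z6, .Z5, .Z4, .Z2, .Z1, .Z0, .X8, .X6, .X4, .X3, .X2, .X1, .X0, .y8, .y4, .y3, .y1, .p7, .hi,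
   .p4, .hi, .p7, .hi, .p9, .hi, .p3, .xii, .taui, .xii, .y2, .p, .xii, .y2, .hi, .xii, .y5, .y10, .tau, .xii, .y6,
   .p, .xii, .p, .xii, .y1, .y2, .y4, .tau, .X0, .p7, .xii, .y2, .hi, .xii, .y6, .tau, .xii, .y2, .hi, .p6, .xii, .y9,
   .p10, .tau, .xii, .p7],
  [.Z10, .Z9, .Z7, .Z6, .Z5, .Z3, .X5, .X0, .y10, .y6, .y2, .y1, .p5, .hi, .p7, .hi, .p9, .hi, .p9, .hi, .p4, .hi,
   .p3, .hi, .xii, .p10, .hi, .p6, .hi, .p2, .tau, .xii, .y6, .p, .xii, .y10, .p, .xii, .y4, .y7, .tau, .X0, .xii,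
   .p6, .xii, .p2, .y4, .xii, .y4, .y10, .taui, .xii, .p6, .xii, .y2, .p, .xii, .y4, .tau, .xii, .p]⟩

theorem h525 : Hd F (g wAd) b525 := hdD (by decide +kernel)
theorem r525_0 : R9 F (g wAd) b525 [] 0 0 := .of (startD 0 1) (by decide +kernel)
theorem r525_1 : R9 F (g wAd) b525 [] 0 1 := .of (startD 0 1) (by decide +kernel)
theorem r525_2 : R9 F (g wAd) b525 [] 0 2 := .of (startD 0 1) (by decide +kernel)
theorem r525_3 : R9 F (g wAd) b525 [] 1 0 := .of (startD 0 1) (by decide +kernel)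
theorem r525_4 : R9 F (g wAd) b525 [] 1 1 := .of (startD 0 1) (by decide +kernel)
theorem r525_5 : R9 F (g wAd) b525 [] 1 2 := .of (startD 0 1) (by decide +kernel)
theorem r525_6 : R9 F (g wAd) b525 [] 2 0 := .of (startD 0 1) (by decide +kernel)
theorem r525_7 : R9 F (g wAd) b525 [] 2 1 := .of (startD 0 1) (by decide +kernel)
theorem r525_8 : R9 F (g wAd) b525 [] 2 2 := .of (startD 0 1) (by decide +kernel)
theorem g525 : Gd F (g wAd) (0, d525) [] :=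
  good9 ok h525 r525_0 r525_1 r525_2 r525_3 r525_4 r525_5 r525_6 r525_7 r525_8

def b526 : Wd := ⟨0, d526,
  [.Z9, .Z8, .Z7, .Z5, .Z4, .Z3, .Z1, .Z0, .X10, .X8, .X6, .X5, .X2, .X0, .y10, .y9, .y7, .y2, .p5, .hi, .p, .hi, .p8,
   .hi, .p10, .hi, .p3, .hi, .p2, .hi, .xii, .p10, .xii, .y8, .p10, .xii, .y10, .tau, .xii, .y6, .p, .xii, .p, .xii,
   .y3, .y10, .tau, .xii, .p4, .xii, .p5, .xii, .y2, .y7, .p, .taui, .xii, .p8, .xii, .y3, .p2, .y7, .xii, .y10,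
   .taui, .xii, .p, .xii],
  [.Z10, .Z9, .Z8, .Z5, .Z4, .Z3, .Z2, .Z1, .X10, .X9, .X6, .X3, .X2, .y9, .y8, .hi, .p3, .hi, .p9, .hi, .p9, .hi,
   .p8, .hi, .p, .taui, .xii, .p, .xii, .hi, .y8, .xii, .y4, .y6, .taui, .X0, .p8, .xii, .p3, .xii, .p4, .y3, .xii,
   .y3, .tau, .xii, .p5, .xii, .y3, .y7, .p3, .tau, .xii, .p8],
  [.z, .Z9, .Z8, .Z4, .Z3, .Z1, .X10, .X9, .X6, .X2, .X1, .y10, .y9, .y3, .y2, .y1, .p9, .hi, .p6, .hi, .p3, .hi, .p3,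
   .hi, .p7, .hi, .xii, .hi, .xii, .p10, .xii, .y4, .tau, .xii, .p, .xii, .y1, .y6, .hi, .xii, .y5, .taui, .xii, .y2,
   .p, .xii, .y2, .hi, .xii, .y7, .taui, .y1, .p10, .xii, .p8, .xii, .y4, .tau, .xii, .y2, .p9, .xii, .p, .xii, .y6,
   .y10, .tau, .xii, .hi, .p9]⟩

theorem h526 : Hd F (g wAd) b526 := hdD (by decide +kernel)
theorem r526_0 : R9 F (g wAd) b526 [] 0 0 := .of (startD 0 1) (by decide +kernel)
theorem r526_1 : R9 F (g wAd) b526 [] 0 1 := .of (startD 0 1) (by decide +kernel)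
theorem r526_2 : R9 F (g wAd) b526 [] 0 2 := .of (startD 0 1) (by decide +kernel)
theorem r526_3 : R9 F (g wAd) b526 [] 1 0 := .of (startD 0 1) (by decide +kernel)
theorem r526_4 : R9 F (g wAd) b526 [] 1 1 := .of (startD 0 1) (by decide +kernel)
theorem r526_5 : R9 F (g wAd) b526 [] 1 2 := .of (startD 0 1) (by decide +kernel)
theorem r526_6 : R9 F (g wAd) b526 [] 2 0 := .of (startD 0 1) (by decide +kernel)
theorem r526_7 : R9 F (g wAd) b526 [] 2 1 := .of (startD 0 1) (by decide +kernel)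
theorem r526_8 : R9 F (g wAd) b526 [] 2 2 := .of (startD 0 1) (by decide +kernel)
theorem g526 : Gd F (g wAd) (0, d526) [] :=
  good9 ok h526 r526_0 r526_1 r526_2 r526_3 r526_4 r526_5 r526_6 r526_7 r526_8

def b527 : Wd := ⟨0, d527,
  [.z, .Z10, .Z8, .Z7, .Z6, .Z4, .Z3, .X9, .X7, .X5, .X3, .X2, .X1, .y10, .y7, .y5, .y4, .p8, .hi, .p10, .hi, .p6,
   .hi, .p8, .hi, .p5, .hi, .p4, .hi, .p7, .xii, .hi, .xii, .y6, .p10, .xii, .y8, .taui, .y1, .xii, .p10, .xii, .y4,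
   .p10, .xii, .y4, .y10, .tau, .X0, .xii, .p4, .xii, .y1, .p5, .xii, .y8, .y9, .p3, .tau, .xii, .p4, .xii, .p4, .y3,
   .xii, .y9, .y10, .taui, .xii, .p5],
  [.z, .Z10, .Z6, .Z4, .Z3, .Z0, .X9, .X7, .X5, .X4, .X3, .X2, .X1, .X0, .y9, .y5, .y4, .y3, .y2, .y1, .p6, .hi, .p9,
   .hi, .p10, .hi, .p4, .hi, .p4, .hi, .p, .hi, .xii, .y2, .p10, .hi, .p8, .taui, .xii, .y1, .p, .xii, .p, .xii, .y3,
   .y10, .taui, .y1, .xii, .hi, .p6, .xii, .p8, .xii, .taui, .xii, .y2, .p2, .xii, .y3, .p, .xii, .y5, .y10],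
  [.Z7, .Z5, .Z4, .Z3, .Z1, .Z0, .X10, .X8, .X7, .X4, .X1, .X0, .y9, .y8, .y3, .y1, .p4, .hi, .p10, .hi, .p9, .hi,
   .p7, .hi, .p7, .hi, .p4, .xii, .p2, .hi, .xii, .y1, .y5, .tau, .xii, .y1, .p, .xii, .y4, .p, .xii, .y6, .y10,
   .taui, .X0, .hi, .xii, .p2, .xii, .y3, .y10, .p6, .xii, .taui, .xii, .p7, .xii, .hi, .p5, .y5, .tau, .xii, .p, .hi]⟩

theorem h527 : Hd F (g wAd) b527 := hdD (by decide +kernel)
theorem r527_0 : R9 F (g wAd) b527 [] 0 0 := .of (startD 0 1) (by decide +kernel)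
theorem r527_1 : R9 F (g wAd) b527 [] 0 1 := .of (startD 0 1) (by decide +kernel)
theorem r527_2 : R9 F (g wAd) b527 [] 0 2 := .of (startD 0 1) (by decide +kernel)
theorem r527_3 : R9 F (g wAd) b527 [] 1 0 := .of (startD 0 1) (by decide +kernel)
theorem r527_4 : R9 F (g wAd) b527 [] 1 1 := .of (startD 0 1) (by decide +kernel)
theorem r527_5 : R9 F (g wAd) b527 [] 1 2 := .of (startD 0 1) (by decide +kernel)
theorem r527_6 : R9 F (g wAd) b527 [] 2 0 := .of (startD 0 1) (by decide +kernel)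
theorem r527_7 : R9 F (g wAd) b527 [] 2 1 := .of (startD 0 1) (by decide +kernel)
theorem r527_8 : R9 F (g wAd) b527 [] 2 2 := .of (startD 0 1) (by decide +kernel)
theorem g527 : Gd F (g wAd) (0, d527) [] :=
  good9 ok h527 r527_0 r527_1 r527_2 r527_3 r527_4 r527_5 r527_6 r527_7 r527_8

def b528 : Wd := ⟨0, d528,
  [.z, .Z10, .Z6, .Z5, .Z4, .Z3, .Z1, .X10, .X9, .X8, .X5, .X3, .X0, .y6, .y2, .p3, .hi, .p5, .hi, .p3, .hi, .p7, .hi,
   .p9, .hi, .xii, .p, .xii, .y3, .y10, .taui, .xii, .y2, .p, .xii, .y4, .hi, .xii, .y6, .taui, .X0, .y1, .p7, .xii,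
   .p8, .xii, .y8, .p5, .taui, .xii, .p6, .xii, .p, .y10, .xii, .y4, .y10, .taui, .xii, .p9, .xii, .y10],
  [.Z8, .Z5, .Z3, .Z2, .Z1, .Z0, .X10, .X9, .X8, .X7, .X6, .X5, .X4, .X2, .X1, .y6, .y5, .y4, .y2, .p4, .hi, .p3, .hi,
   .p3, .hi, .p6, .hi, .p9, .xii, .p10, .taui, .xii, .y2, .p, .xii, .y4, .hi, .xii, .y4, .y6, .tau, .X0, .p6, .xii,
   .p2, .xii, .y4, .y10, .p7, .xii, .taui, .xii, .y2, .p9, .xii, .p3, .xii, .y3, .y7, .taui, .xii, .y7, .hi],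
  [.z, .Z10, .Z9, .X9, .X7, .X6, .X4, .X2, .X1, .X0, .y10, .y8, .y7, .y6, .y2, .y1, .p8, .hi, .p9, .hi, .p4, .hi,
   .p10, .hi, .p2, .xii, .y2, .p2, .hi, .xii, .tau, .xii, .p, .xii, .y3, .y10, .hi, .xii, .y4, .y5, .taui, .xii, .p2,
   .xii, .y3, .hi, .xii, .p10, .y7, .taui, .xii, .p8, .xii, .p4, .xii, .y2, .y3, .taui, .xii, .y6, .p5, .hi, .p2]⟩

theorem h528 : Hd F (g wAd) b528 := hdD (by decide +kernel)
theorem r528_0 : R9 F (g wAd) b528 [] 0 0 := .of (startD 0 1) (by decide +kernel)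
theorem r528_1 : R9 F (g wAd) b528 [] 0 1 := .of (startD 0 1) (by decide +kernel)
theorem r528_2 : R9 F (g wAd) b528 [] 0 2 := .of (startD 0 1) (by decide +kernel)
theorem r528_3 : R9 F (g wAd) b528 [] 1 0 := .of (startD 0 1) (by decide +kernel)
theorem r528_4 : R9 F (g wAd) b528 [] 1 1 := .of (startD 0 1) (by decide +kernel)
theorem r528_5 : R9 F (g wAd) b528 [] 1 2 := .of (startD 0 1) (by decide +kernel)
theorem r528_6 : R9 F (g wAd) b528 [] 2 0 := .of (startD 0 1) (by decide +kernel)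
theorem r528_7 : R9 F (g wAd) b528 [] 2 1 := .of (startD 0 1) (by decide +kernel)
theorem r528_8 : R9 F (g wAd) b528 [] 2 2 := .of (startD 0 2) (by decide +kernel)
theorem g528 : Gd F (g wAd) (0, d528) [] :=
  good9 ok h528 r528_0 r528_1 r528_2 r528_3 r528_4 r528_5 r528_6 r528_7 r528_8

def b529 : Wd := ⟨0, d529,
  [.Z9, .Z8, .Z6, .Z5, .Z4, .Z3, .Z2, .Z1, .Z0, .X10, .X8, .X3, .X1, .X0, .y10, .y9, .y7, .y6, .y5, .y4, .y3, .p10,
   .hi, .p4, .hi, .p4, .hi, .p10, .hi, .p, .hi, .p8, .hi, .p9, .hi, .xii, .p, .xii, .y2, .p4, .hi, .p5, .tau, .xii,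
   .y2, .p, .xii, .y2, .hi, .xii, .y1, .tau, .X0, .p7, .xii, .p5, .xii, .hi, .y9, .p, .y10, .tau, .xii, .p4, .xii,
   .y5, .y8, .p8, .xii, .taui, .xii, .p4, .xii],
  [.z, .Z9, .Z7, .Z6, .Z3, .Z2, .Z1, .Z0, .X4, .X0, .y10, .y8, .y6, .y3, .y2, .hi, .p9, .hi, .p3, .hi, .p4, .hi, .p7,
   .hi, .p3, .hi, .p3, .taui, .y1, .xii, .p10, .xii, .y8, .p10, .xii, .y2, .taui, .hi, .xii, .p5, .xii, .y5, .y7, .p7,
   .tau, .xii, .p8, .xii, .y3, .p2, .y7, .tau, .xii, .y2, .p3, .hi, .p10],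
  [.Z7, .X8, .X5, .X2, .y10, .y8, .y4, .y3, .y2, .y1, .p5, .hi, .p6, .hi, .p8, .hi, .p, .hi, .p4, .hi, .p9, .xii, .p,
   .xii, .y1, .y10, .hi, .xii, .y5, .taui, .y1, .xii, .p10, .xii, .y1, .p10, .xii, .tau, .p4, .xii, .p5, .hi, .xii,
   .y5, .y9, .p3, .taui, .xii, .p3, .xii, .y5, .p2, .xii, .y4, .y6, .tau, .xii, .p10, .xii, .y9]⟩

theorem h529 : Hd F (g wAd) b529 := hdD (by decide +kernel)
theorem r529_0 : R9 F (g wAd) b529 [] 0 0 := .of (startD 0 1) (by decide +kernel)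
theorem r529_1 : R9 F (g wAd) b529 [] 0 1 := .of (startD 0 1) (by decide +kernel)
theorem r529_2 : R9 F (g wAd) b529 [] 0 2 := .of (startD 0 1) (by decide +kernel)
theorem r529_3 : R9 F (g wAd) b529 [] 1 0 := .of (startD 0 1) (by decide +kernel)
theorem r529_4 : R9 F (g wAd) b529 [] 1 1 := .of (startD 0 1) (by decide +kernel)
theorem r529_5 : R9 F (g wAd) b529 [] 1 2 := .of (startD 0 1) (by decide +kernel)
theorem r529_6 : R9 F (g wAd) b529 [] 2 0 := .of (startD 0 1) (by decide +kernel)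
theorem r529_7 : R9 F (g wAd) b529 [] 2 1 := .of (startD 0 1) (by decide +kernel)
theorem r529_8 : R9 F (g wAd) b529 [] 2 2 := .of (startD 0 1) (by decide +kernel)
theorem g529 : Gd F (g wAd) (0, d529) [] :=
  good9 ok h529 r529_0 r529_1 r529_2 r529_3 r529_4 r529_5 r529_6 r529_7 r529_8

theorem all : AllG F (g wAd) LD52 :=
  .cons g520 (.cons g521 (.cons g522 (.cons g523 (.cons g524 (.cons g525 (.cons g526 (.cons g527 (.cons g528 (.cons g529 (.nil))))))))))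

end Cfsg.Agent.BX.No33.Bk.D52
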