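import Cfsg.Agent.BX.No33.Cheap
set_option linter.all false

/-!
# Tests, diagonal case, part 53 (helper5; generated)
-/

set_option autoImplicit false
set_option maxRecDepth 100000
set_option Elab.async false

namespace Cfsg.Agent.BX.No33.Bk.D53

open Cfsg.Agent.H819.U33 Cfsg.Agent.BX.No33.Front

def b530 : Wd := ⟨0, d530,
  [.z, .Z7, .Z6, .Z5, .Z4, .Z3, .Z2, .X9, .X8, .X7, .X6, .X3, .X2, .X0, .y10, .y9, .y1, .p3, .hi, .p8, .hi, .p10, .hi,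
   .p9, .hi, .p8, .xii, .p3, .hi, .xii, .p4, .y3, .hi, .p2, .tau, .y1, .xii, .y2, .hi, .xii, .p10, .xii, .y10, .tau,
   .X0, .p8, .xii, .y1, .p, .xii, .hi, .p6, .y8, .tau, .xii, .p9, .xii, .p6, .y9, .tau, .xii, .y2, .p7],
  [.z, .Z9, .Z8, .Z4, .Z3, .Z1, .X10, .X9, .X7, .X5, .X2, .X1, .y7, .y4, .y3, .y2, .p8, .hi, .p8, .hi, .p8, .hi, .p6,
   .hi, .p10, .xii, .p10, .xii, .y1, .y7, .taui, .y1, .xii, .y2, .hi, .xii, .p10, .xii, .y3, .y7, .tau, .X0, .p10,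
   .xii, .y6, .p2, .xii, .y10, .p9, .taui, .xii, .p9, .xii, .p6, .xii, .y5, .taui],
  [.Z10, .Z5, .Z3, .X10, .X7, .X6, .X5, .X1, .y9, .y7, .y5, .y3, .y1, .p3, .hi, .p7, .hi, .p4, .hi, .p8, .hi, .p,
   .xii, .y2, .p10, .xii, .y1, .p9, .xii, .y1, .taui, .xii, .p, .xii, .hi, .y8, .xii, .y3, .y4, .tau, .p9, .xii, .p2,
   .xii, .y5, .p4, .xii, .y8, .tau, .xii, .y2, .p9, .xii, .y6, .p3, .xii, .taui, .xii, .p, .xii, .y4]⟩

theorem h530 : Hd F (g wAd) b530 := hdD (by decide +kernel)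
theorem r530_0 : R9 F (g wAd) b530 [] 0 0 := .of (startD 0 1) (by decide +kernel)
theorem r530_1 : R9 F (g wAd) b530 [] 0 1 := .of (startD 0 1) (by decide +kernel)
theorem r530_2 : R9 F (g wAd) b530 [] 0 2 := .of (startD 0 1) (by decide +kernel)
theorem r530_3 : R9 F (g wAd) b530 [] 1 0 := .of (startD 0 1) (by decide +kernel)
theorem r530_4 : R9 F (g wAd) b530 [] 1 1 := .of (startD 0 1) (by decide +kernel)
theorem r530_5 : R9 F (g wAd) b530 [] 1 2 := .of (startD 0 1) (by decide +kernel)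
theorem r530_6 : R9 F (g wAd) b530 [] 2 0 := .of (startD 0 1) (by decide +kernel)
theorem r530_7 : R9 F (g wAd) b530 [] 2 1 := .of (startD 0 1) (by decide +kernel)
theorem r530_8 : R9 F (g wAd) b530 [] 2 2 := .of (startD 0 1) (by decide +kernel)
theorem g530 : Gd F (g wAd) (0, d530) [] :=
  good9 ok h530 r530_0 r530_1 r530_2 r530_3 r530_4 r530_5 r530_6 r530_7 r530_8

def b531 : Wd := ⟨0, d531,
  [.z, .Z9, .Z2, .Z1, .X7, .X6, .X5, .X4, .X3, .X1, .X0, .y10, .y8, .y7, .y4, .y3, .p5, .hi, .p3, .hi, .p7, .hi, .p10,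
   .hi, .p10, .hi, .p6, .xii, .p3, .hi, .xii, .y2, .taui, .xii, .y2, .p, .xii, .y4, .hi, .xii, .y5, .taui, .xii, .y1,
   .p7, .xii, .y10, .p8, .xii, .p6, .y8, .tau, .xii, .p6, .xii, .p3, .hi, .y9, .taui, .xii, .p10, .hi, .p4],
  [.Z9, .Z8, .Z7, .Z5, .Z3, .Z2, .Z0, .X6, .X1, .X0, .y9, .y7, .y4, .y2, .y1, .p7, .hi, .p8, .hi, .p9, .hi, .p, .hi,
   .xii, .y2, .taui, .y1, .xii, .p10, .xii, .y1, .y7, .p10, .xii, .y9, .tau, .X0, .xii, .hi, .xii, .y9, .p8, .xii,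
   .y3, .p9, .taui, .xii, .y2, .p9, .xii, .y9, .p, .xii, .y10, .taui, .xii, .y4],
  [.z, .Z9, .Z8, .Z5, .Z4, .Z3, .Z1, .X10, .X9, .X8, .X6, .X5, .X3, .X1, .X0, .y10, .y8, .y4, .y3, .hi, .p4, .hi,
   .p10, .hi, .p5, .hi, .p8, .hi, .xii, .p, .xii, .p7, .xii, .y1, .y3, .tau, .y1, .xii, .p10, .xii, .y5, .p10, .xii,
   .y8, .y10, .taui, .X0, .xii, .y1, .p7, .xii, .p9, .y5, .xii, .y1, .p6, .tau, .xii, .p6, .xii, .p2, .xii, .y7, .y10,
   .tau, .xii, .p10, .xii, .y2]⟩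

theorem h531 : Hd F (g wAd) b531 := hdD (by decide +kernel)
theorem r531_0 : R9 F (g wAd) b531 [] 0 0 := .of (startD 0 1) (by decide +kernel)
theorem r531_1 : R9 F (g wAd) b531 [] 0 1 := .of (startD 0 1) (by decide +kernel)
theorem r531_2 : R9 F (g wAd) b531 [] 0 2 := .of (startD 0 1) (by decide +kernel)
theorem r531_3 : R9 F (g wAd) b531 [] 1 0 := .of (startD 0 1) (by decide +kernel)
theorem r531_4 : R9 F (g wAd) b531 [] 1 1 := .of (startD 0 2) (by decide +kernel)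
theorem r531_5 : R9 F (g wAd) b531 [] 1 2 := .of (startD 0 1) (by decide +kernel)
theorem r531_6 : R9 F (g wAd) b531 [] 2 0 := .of (startD 0 1) (by decide +kernel)
theorem r531_7 : R9 F (g wAd) b531 [] 2 1 := .of (startD 0 1) (by decide +kernel)
theorem r531_8 : R9 F (g wAd) b531 [] 2 2 := .of (startD 0 1) (by decide +kernel)
theorem g531 : Gd F (g wAd) (0, d531) [] :=
  good9 ok h531 r531_0 r531_1 r531_2 r531_3 r531_4 r531_5 r531_6 r531_7 r531_8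

def b532 : Wd := ⟨0, d532,
  [.Z10, .Z9, .Z8, .Z5, .Z3, .Z2, .Z1, .X9, .X8, .X7, .X5, .X1, .y7, .y5, .p2, .hi, .p4, .hi, .p4, .hi, .p3, .hi, .p,
   .hi, .p10, .xii, .hi, .xii, .y4, .p9, .xii, .y7, .tau, .xii, .y6, .p, .xii, .p, .xii, .y4, .y7, .tau, .X0, .p4,
   .xii, .y6, .p7, .xii, .p3, .hi, .taui, .xii, .p3, .xii, .p, .xii, .y8, .taui, .xii, .p4, .xii],
  [.Z10, .Z9, .Z8, .Z7, .Z6, .Z5, .Z3, .Z2, .Z1, .X6, .X1, .X0, .y8, .y7, .y1, .p10, .hi, .p10, .hi, .p8, .hi, .p8,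
   .hi, .p6, .hi, .p5, .xii, .p, .xii, .hi, .y7, .p10, .tau, .xii, .y6, .p, .xii, .p, .xii, .y4, .y7, .tau, .X0, .p4,
   .xii, .p5, .hi, .xii, .p8, .y6, .tau, .xii, .p5, .xii, .p8, .y4, .xii, .y1, .y7, .tau, .xii, .p4],
  [.Z10, .Z7, .Z5, .Z4, .Z1, .Z0, .X10, .X8, .X5, .X4, .X2, .X1, .y10, .y9, .y6, .y5, .y4, .y3, .p7, .hi, .p7, .hi,
   .p8, .hi, .p4, .hi, .p7, .hi, .p5, .xii, .p10, .xii, .y6, .p2, .xii, .y3, .y9, .tau, .xii, .p, .xii, .y1, .y10,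
   .hi, .xii, .y5, .y10, .taui, .xii, .p9, .xii, .p, .y4, .xii, .y2, .hi, .tau, .xii, .y2, .p2, .xii, .p, .xii, .y6]⟩

theorem h532 : Hd F (g wAd) b532 := hdD (by decide +kernel)
theorem r532_0 : R9 F (g wAd) b532 [] 0 0 := .of (startD 0 1) (by decide +kernel)
theorem r532_1 : R9 F (g wAd) b532 [] 0 1 := .of (startD 0 1) (by decide +kernel)
theorem r532_2 : R9 F (g wAd) b532 [] 0 2 := .of (startD 0 1) (by decide +kernel)
theorem r532_3 : R9 F (g wAd) b532 [] 1 0 := .of (startD 0 1) (by decide +kernel)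
theorem r532_4 : R9 F (g wAd) b532 [] 1 1 := .of (startD 0 1) (by decide +kernel)
theorem r532_5 : R9 F (g wAd) b532 [] 1 2 := .of (startD 0 1) (by decide +kernel)
theorem r532_6 : R9 F (g wAd) b532 [] 2 0 := .of (startD 0 1) (by decide +kernel)
theorem r532_7 : R9 F (g wAd) b532 [] 2 1 := .of (startD 0 1) (by decide +kernel)
theorem r532_8 : R9 F (g wAd) b532 [] 2 2 := .of (startD 0 1) (by decide +kernel)
theorem g532 : Gd F (g wAd) (0, d532) [] :=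
  good9 ok h532 r532_0 r532_1 r532_2 r532_3 r532_4 r532_5 r532_6 r532_7 r532_8

def b533 : Wd := ⟨0, d533,
  [.z, .Z10, .Z9, .Z7, .Z6, .Z5, .Z4, .Z2, .X7, .X6, .X5, .X4, .X3, .X1, .X0, .y9, .y7, .y4, .y3, .p8, .hi, .p3, .hi,
   .p6, .hi, .p7, .hi, .p5, .hi, .p3, .xii, .y2, .p3, .hi, .xii, .p4, .hi, .p2, .taui, .xii, .y2, .p, .xii, .y1, .hi,
   .xii, .y4, .y6, .taui, .X0, .p4, .xii, .y1, .p7, .xii, .p, .hi, .y8, .p5, .tau, .xii, .p8, .xii, .y3, .y5, .p3,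
   .hi, .p2, .taui, .xii, .y2, .p7],
  [.z, .Z10, .Z6, .Z4, .Z2, .Z0, .X7, .X6, .X3, .X0, .y9, .y8, .y7, .y6, .y4, .y2, .y1, .p2, .hi, .p10, .hi, .p2, .hi,
   .p8, .hi, .p8, .hi, .p7, .hi, .xii, .hi, .p8, .xii, .y3, .p10, .taui, .y1, .xii, .y1, .hi, .xii, .y6, .p10, .tau,
   .p7, .xii, .y6, .p5, .xii, .y4, .hi, .p3, .taui, .xii, .y2, .p4, .hi, .xii, .y6, .p, .taui, .xii, .y2, .hi, .p7],
  [.z, .Z7, .Z6, .Z4, .Z2, .Z1, .Z0, .X8, .X5, .X4, .X1, .X0, .y8, .y6, .y3, .y2, .y1, .p9, .hi, .p7, .hi, .p6, .hi,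
   .p3, .hi, .p3, .hi, .p9, .xii, .p, .xii, .p4, .xii, .y2, .tau, .X0, .hi, .xii, .p9, .xii, .y6, .p8, .xii, .y2,
   .taui, .xii, .y2, .p7, .xii, .y1, .p8, .xii, .y1, .y8, .tau, .xii, .p7, .xii, .y7]⟩

theorem h533 : Hd F (g wAd) b533 := hdD (by decide +kernel)
theorem r533_0 : R9 F (g wAd) b533 [] 0 0 := .of (startD 0 1) (by decide +kernel)
theorem r533_1 : R9 F (g wAd) b533 [] 0 1 := .of (startD 0 1) (by decide +kernel)
theorem r533_2 : R9 F (g wAd) b533 [] 0 2 := .of (startD 0 1) (by decide +kernel)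
theorem r533_3 : R9 F (g wAd) b533 [] 1 0 := .of (startD 0 1) (by decide +kernel)
theorem r533_4 : R9 F (g wAd) b533 [] 1 1 := .of (startD 0 1) (by decide +kernel)
theorem r533_5 : R9 F (g wAd) b533 [] 1 2 := .of (startD 0 1) (by decide +kernel)
theorem r533_6 : R9 F (g wAd) b533 [] 2 0 := .of (startD 0 1) (by decide +kernel)
theorem r533_7 : R9 F (g wAd) b533 [] 2 1 := .of (startD 0 1) (by decide +kernel)
theorem r533_8 : R9 F (g wAd) b533 [] 2 2 := .of (startD 0 1) (by decide +kernel)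
theorem g533 : Gd F (g wAd) (0, d533) [] :=
  good9 ok h533 r533_0 r533_1 r533_2 r533_3 r533_4 r533_5 r533_6 r533_7 r533_8

def b534 : Wd := ⟨0, d534,
  [.Z10, .Z9, .Z7, .Z6, .Z1, .Z0, .X10, .X9, .X8, .X7, .X5, .X3, .X2, .X0, .y10, .y9, .y5, .y4, .y1, .hi, .p5, .hi,
   .p3, .hi, .p10, .hi, .p6, .hi, .p10, .hi, .xii, .p10, .xii, .y7, .p8, .tau, .xii, .p, .xii, .hi, .y8, .xii, .y2,
   .y4, .y7, .taui, .X0, .xii, .p7, .xii, .p8, .xii, .y4, .y6, .y8, .y10, .tau, .xii, .p9, .xii, .y2, .y7, .p5, .xii,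
   .y5, .tau, .xii, .hi, .xii, .y8],
  [.z, .Z10, .Z8, .Z6, .Z2, .Z1, .X7, .X3, .X1, .X0, .y9, .y7, .y6, .y1, .hi, .p7, .hi, .p8, .hi, .p6, .hi, .p10, .hi,
   .p8, .xii, .p10, .xii, .y5, .p2, .xii, .y6, .taui, .y1, .xii, .p10, .xii, .y4, .p10, .xii, .taui, .p4, .xii, .p8,
   .xii, .y2, .y8, .tau, .xii, .y2, .hi, .p7, .xii, .y5, .p9],
  [.Z10, .Z8, .Z6, .Z5, .Z3, .Z1, .X7, .X6, .X5, .X2, .X0, .y10, .y8, .y7, .y6, .y4, .p8, .hi, .p7, .hi, .p10, .hi,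
   .p6, .hi, .p5, .hi, .p9, .hi, .xii, .y2, .p, .xii, .y2, .y4, .hi, .p10, .taui, .xii, .p, .xii, .y4, .hi, .xii, .y5,
   .y10, .tau, .p7, .xii, .y4, .p5, .hi, .p10, .xii, .y4, .hi, .taui, .xii, .p9, .xii, .y8, .p6, .xii, .y5, .y10,
   .taui, .xii, .p4, .hi]⟩

theorem h534 : Hd F (g wAd) b534 := hdD (by decide +kernel)
theorem r534_0 : R9 F (g wAd) b534 [] 0 0 := .of (startD 0 1) (by decide +kernel)
theorem r534_1 : R9 F (g wAd) b534 [] 0 1 := .of (startD 0 1) (by decide +kernel)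
theorem r534_2 : R9 F (g wAd) b534 [] 0 2 := .of (startD 0 1) (by decide +kernel)
theorem r534_3 : R9 F (g wAd) b534 [] 1 0 := .of (startD 0 1) (by decide +kernel)
theorem r534_4 : R9 F (g wAd) b534 [] 1 1 := .of (startD 0 1) (by decide +kernel)
theorem r534_5 : R9 F (g wAd) b534 [] 1 2 := .of (startD 0 1) (by decide +kernel)
theorem r534_6 : R9 F (g wAd) b534 [] 2 0 := .of (startD 0 1) (by decide +kernel)
theorem r534_7 : R9 F (g wAd) b534 [] 2 1 := .of (startD 0 1) (by decide +kernel)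
theorem r534_8 : R9 F (g wAd) b534 [] 2 2 := .of (startD 0 1) (by decide +kernel)
theorem g534 : Gd F (g wAd) (0, d534) [] :=
  good9 ok h534 r534_0 r534_1 r534_2 r534_3 r534_4 r534_5 r534_6 r534_7 r534_8

def b535 : Wd := ⟨0, d535,
  [.Z9, .Z8, .Z7, .Z4, .Z3, .Z2, .Z1, .X2, .X0, .y9, .y8, .y6, .y5, .y2, .p7, .hi, .p, .hi, .p3, .hi, .p, .hi, .p8,
   .hi, .p6, .xii, .hi, .p3, .hi, .p5, .tau, .xii, .y2, .p, .xii, .y3, .hi, .xii, .y5, .y8, .tau, .X0, .xii, .y2, .p3,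
   .xii, .y8, .p8, .xii, .p4, .y1, .taui, .xii, .p9, .xii, .y4, .y6, .p3, .xii, .y10, .taui, .xii, .p4],
  [.z, .Z9, .Z5, .Z1, .Z0, .X10, .X9, .X7, .y10, .y9, .y6, .y5, .y4, .y2, .hi, .p6, .hi, .p5, .hi, .p3, .hi, .p3, .hi,
   .xii, .y2, .p3, .hi, .taui, .xii, .y6, .p, .xii, .y10, .p, .xii, .y3, .y10, .taui, .p4, .xii, .p7, .xii, .y2, .p7,
   .xii, .y3, .y7, .taui, .xii, .p7, .xii, .y10, .p7, .xii, .y10, .tau, .xii, .p9],
  [.z, .Z10, .Z9, .Z8, .Z7, .Z4, .Z2, .Z1, .X6, .X2, .X0, .y9, .y7, .hi, .p4, .hi, .p, .hi, .p3, .hi, .p5, .hi, .p9,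
   .hi, .xii, .p, .xii, .y3, .p4, .xii, .y9, .tau, .xii, .y1, .p, .xii, .y1, .tau, .X0, .p5, .xii, .y7, .p10, .xii,
   .y6, .taui, .xii, .p7, .xii, .p9, .y7, .hi, .taui, .xii, .p8]⟩

theorem h535 : Hd F (g wAd) b535 := hdD (by decide +kernel)
theorem r535_0 : R9 F (g wAd) b535 [] 0 0 := .of (startD 0 1) (by decide +kernel)
theorem r535_1 : R9 F (g wAd) b535 [] 0 1 := .of (startD 0 1) (by decide +kernel)
theorem r535_2 : R9 F (g wAd) b535 [] 0 2 := .of (startD 0 1) (by decide +kernel)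
theorem r535_3 : R9 F (g wAd) b535 [] 1 0 := .of (startD 0 1) (by decide +kernel)
theorem r535_4 : R9 F (g wAd) b535 [] 1 1 := .of (startD 0 1) (by decide +kernel)
theorem r535_5 : R9 F (g wAd) b535 [] 1 2 := .of (startD 0 1) (by decide +kernel)
theorem r535_6 : R9 F (g wAd) b535 [] 2 0 := .of (startD 0 1) (by decide +kernel)
theorem r535_7 : R9 F (g wAd) b535 [] 2 1 := .of (startD 0 1) (by decide +kernel)
theorem r535_8 : R9 F (g wAd) b535 [] 2 2 := .of (startD 0 1) (by decide +kernel)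
theorem g535 : Gd F (g wAd) (0, d535) [] :=
  good9 ok h535 r535_0 r535_1 r535_2 r535_3 r535_4 r535_5 r535_6 r535_7 r535_8

def b536 : Wd := ⟨0, d536,
  [.Z10, .Z9, .Z6, .Z3, .Z2, .Z1, .Z0, .X10, .X9, .X8, .X3, .X2, .y9, .y2, .y1, .p9, .hi, .p10, .hi, .p3, .hi, .p7,
   .hi, .p3, .xii, .p10, .xii, .y4, .p2, .xii, .y1, .y4, .tau, .X0, .p8, .xii, .p2, .hi, .xii, .y8, .p2, .tau, .xii,
   .p8, .xii, .y5, .p4, .xii, .y4, .tau, .xii, .y4, .p6],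
  [.Z5, .Z3, .Z1, .X9, .X8, .X5, .X4, .X2, .X1, .X0, .y9, .y6, .y4, .y3, .y2, .y1, .p9, .hi, .p5, .hi, .p9, .hi, .p,
   .hi, .p8, .hi, .p5, .xii, .p, .xii, .y4, .hi, .p8, .y3, .taui, .y1, .xii, .y2, .p10, .xii, .y2, .taui, .p9, .xii,
   .y6, .p3, .xii, .y4, .tau, .xii, .y2, .p3, .xii, .y6, .p2, .xii, .y8, .tau, .xii, .y6, .p9],
  [.Z10, .Z9, .Z6, .Z5, .Z4, .Z2, .Z1, .Z0, .X9, .X7, .X5, .X4, .X2, .y10, .y8, .y7, .y6, .y3, .p6, .hi, .p3, .hi,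
   .p9, .hi, .p3, .hi, .p7, .hi, .xii, .hi, .xii, .p5, .y1, .xii, .y9, .taui, .xii, .y6, .p, .xii, .p, .xii, .y3, .y4,
   .tau, .y1, .xii, .y1, .hi, .xii, .y6, .p10, .xii, .y4, .y8, .taui, .p9, .xii, .y4, .y9, .hi, .xii, .tau, .xii, .y2,
   .p4, .hi, .p2]⟩

theorem h536 : Hd F (g wAd) b536 := hdD (by decide +kernel)
theorem r536_0 : R9 F (g wAd) b536 [] 0 0 := .of (startD 0 1) (by decide +kernel)
theorem r536_1 : R9 F (g wAd) b536 [] 0 1 := .of (startD 0 1) (by decide +kernel)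
theorem r536_2 : R9 F (g wAd) b536 [] 0 2 := .of (startD 0 1) (by decide +kernel)
theorem r536_3 : R9 F (g wAd) b536 [] 1 0 := .of (startD 0 1) (by decide +kernel)
theorem r536_4 : R9 F (g wAd) b536 [] 1 1 := .of (startD 0 1) (by decide +kernel)
theorem r536_5 : R9 F (g wAd) b536 [] 1 2 := .of (startD 0 1) (by decide +kernel)
theorem r536_6 : R9 F (g wAd) b536 [] 2 0 := .of (startD 0 1) (by decide +kernel)
theorem r536_7 : R9 F (g wAd) b536 [] 2 1 := .of (startD 0 1) (by decide +kernel)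
theorem r536_8 : R9 F (g wAd) b536 [] 2 2 := .of (startD 0 1) (by decide +kernel)
theorem g536 : Gd F (g wAd) (0, d536) [] :=
  good9 ok h536 r536_0 r536_1 r536_2 r536_3 r536_4 r536_5 r536_6 r536_7 r536_8

def b537 : Wd := ⟨0, d537,
  [.Z10, .Z8, .Z7, .Z6, .Z4, .Z3, .Z1, .Z0, .X10, .X9, .X8, .X7, .X6, .X5, .X4, .X3, .X1, .X0, .y9, .y7, .y6, .y4,
   .y2, .y1, .p9, .hi, .p7, .hi, .p8, .hi, .p6, .hi, .p9, .xii, .y2, .p10, .xii, .y2, .tau, .xii, .p, .xii, .y4, .y10,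
   .hi, .xii, .y7, .y10, .tau, .X0, .xii, .p2, .xii, .y4, .y9, .p7, .xii, .y2, .p, .tau, .xii, .p8, .xii, .y1, .p,
   .hi, .p10, .taui, .xii, .y2, .p5, .hi, .p9],
  [.Z9, .Z8, .Z6, .Z5, .Z3, .Z2, .Z0, .X4, .X3, .X2, .X0, .y7, .y6, .y5, .hi, .p8, .hi, .p4, .hi, .p4, .hi, .p3, .hi,
   .xii, .p2, .hi, .xii, .y5, .y7, .p3, .taui, .xii, .y2, .p, .xii, .hi, .p10, .taui, .X0, .p2, .xii, .hi, .p5, .xii,
   .y3, .y5, .tau, .xii, .p7, .xii, .y1, .p, .hi, .tau, .xii, .y2, .p, .hi, .p4],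
  [.z, .Z7, .Z5, .Z4, .Z2, .Z1, .Z0, .X10, .X9, .X5, .X4, .X1, .y10, .y9, .y2, .p9, .hi, .p4, .hi, .p5, .hi, .p3, .hi,
   .p7, .hi, .p10, .xii, .p3, .hi, .xii, .p3, .hi, .tau, .xii, .y1, .p, .xii, .p, .y7, .xii, .y5, .tau, .p8, .xii,
   .p10, .xii, .p5, .y8, .hi, .p4, .taui, .xii, .p6, .xii, .p10, .y4, .taui, .xii, .y2, .p3]⟩

theorem h537 : Hd F (g wAd) b537 := hdD (by decide +kernel)
theorem r537_0 : R9 F (g wAd) b537 [] 0 0 := .of (startD 0 3) (by decide +kernel)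
theorem r537_1 : R9 F (g wAd) b537 [] 0 1 := .of (startD 0 1) (by decide +kernel)
theorem r537_2 : R9 F (g wAd) b537 [] 0 2 := .of (startD 0 1) (by decide +kernel)
theorem r537_3 : R9 F (g wAd) b537 [] 1 0 := .of (startD 0 1) (by decide +kernel)
theorem r537_4 : R9 F (g wAd) b537 [] 1 1 := .of (startD 0 1) (by decide +kernel)
theorem r537_5 : R9 F (g wAd) b537 [] 1 2 := .of (startD 0 1) (by decide +kernel)
theorem r537_6 : R9 F (g wAd) b537 [] 2 0 := .of (startD 0 1) (by decide +kernel)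
theorem r537_7 : R9 F (g wAd) b537 [] 2 1 := .of (startD 0 1) (by decide +kernel)
theorem r537_8 : R9 F (g wAd) b537 [] 2 2 := .of (startD 0 1) (by decide +kernel)
theorem g537 : Gd F (g wAd) (0, d537) [] :=
  good9 ok h537 r537_0 r537_1 r537_2 r537_3 r537_4 r537_5 r537_6 r537_7 r537_8

def b538 : Wd := ⟨0, d538,
  [.z, .Z10, .Z9, .Z6, .Z5, .Z3, .X8, .X7, .X6, .X5, .X3, .y9, .y6, .y4, .y2, .hi, .p8, .hi, .p, .hi, .p6, .hi, .p6,
   .hi, .p6, .hi, .p5, .hi, .xii, .y2, .p, .xii, .p4, .hi, .p5, .tau, .y1, .xii, .p10, .xii, .y8, .p10, .xii, .y4,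
   .taui, .X0, .p7, .xii, .p4, .xii, .y7, .p3, .y8, .hi, .p2, .taui, .xii, .p5, .xii, .y2, .p2, .y3, .xii, .y10, .tau,
   .xii, .y4, .p7],
  [.z, .Z10, .Z3, .Z0, .X9, .X8, .X7, .X6, .X2, .y10, .y8, .y7, .y5, .hi, .p5, .hi, .p7, .hi, .p4, .hi, .p4, .hi, .p5,
   .hi, .p9, .hi, .tau, .y1, .xii, .p10, .xii, .p10, .y7, .xii, .y4, .y10, .taui, .X0, .p8, .xii, .y9, .hi, .p8, .xii,
   .hi, .tau, .xii, .p4, .xii, .y1, .y4, .p3, .hi, .p3, .taui, .xii, .y2, .p3, .hi, .p2],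
  [.Z10, .Z7, .Z6, .Z5, .Z3, .Z0, .X10, .X9, .X6, .X4, .X3, .X2, .X1, .X0, .y10, .y9, .y8, .y7, .y4, .y3, .y2, .p9,
   .hi, .p9, .hi, .p10, .hi, .p5, .hi, .p7, .hi, .p4, .hi, .xii, .hi, .p8, .xii, .y2, .taui, .xii, .y6, .p, .xii, .y4,
   .p, .xii, .y6, .tau, .X0, .xii, .p7, .xii, .p8, .xii, .y1, .y2, .y6, .y8, .taui, .xii, .p8, .xii, .p2, .y5, .xii,
   .y7, .y8, .tau, .xii, .p7, .xii, .y2]⟩

theorem h538 : Hd F (g wAd) b538 := hdD (by decide +kernel)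
theorem r538_0 : R9 F (g wAd) b538 [] 0 0 := .of (startD 0 1) (by decide +kernel)
theorem r538_1 : R9 F (g wAd) b538 [] 0 1 := .of (startD 0 1) (by decide +kernel)
theorem r538_2 : R9 F (g wAd) b538 [] 0 2 := .of (startD 0 1) (by decide +kernel)
theorem r538_3 : R9 F (g wAd) b538 [] 1 0 := .of (startD 0 1) (by decide +kernel)
theorem r538_4 : R9 F (g wAd) b538 [] 1 1 := .of (startD 0 1) (by decide +kernel)
theorem r538_5 : R9 F (g wAd) b538 [] 1 2 := .of (startD 0 1) (by decide +kernel)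
theorem r538_6 : R9 F (g wAd) b538 [] 2 0 := .of (startD 0 1) (by decide +kernel)
theorem r538_7 : R9 F (g wAd) b538 [] 2 1 := .of (startD 0 1) (by decide +kernel)
theorem r538_8 : R9 F (g wAd) b538 [] 2 2 := .of (startD 0 1) (by decide +kernel)
theorem g538 : Gd F (g wAd) (0, d538) [] :=
  good9 ok h538 r538_0 r538_1 r538_2 r538_3 r538_4 r538_5 r538_6 r538_7 r538_8

def b539 : Wd := ⟨0, d539,
  [.Z10, .Z9, .Z7, .Z4, .X9, .X7, .X3, .X0, .y9, .y8, .y4, .y3, .p, .hi, .p7, .hi, .p7, .hi, .p9, .hi, .p8, .hi, .p7,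
   .hi, .xii, .hi, .xii, .p5, .y7, .hi, .p8, .tau, .xii, .p, .xii, .y3, .hi, .xii, .y5, .tau, .y1, .xii, .p10, .xii,
   .p10, .y7, .xii, .tau, .X0, .p5, .xii, .p10, .xii, .tau, .xii, .p9, .xii, .y6, .p, .y3, .xii, .tau, .xii, .p5],
  [.z, .Z10, .Z9, .Z8, .Z6, .Z5, .Z0, .X9, .X8, .X2, .X1, .y9, .y7, .y4, .hi, .p8, .hi, .p5, .hi, .p2, .xii, .hi,
   .xii, .p2, .xii, .y4, .y5, .tau, .xii, .y1, .p, .xii, .y4, .p, .xii, .y1, .y2, .taui, .p2, .xii, .p9, .xii, .p4,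
   .y2, .y10, .tau, .xii, .p5, .xii, .y7, .p2, .xii, .y5, .y8, .taui, .xii, .y6, .p],
  [.z, .Z9, .Z5, .Z4, .X9, .X4, .X3, .X2, .y10, .y8, .y4, .y3, .y1, .p9, .hi, .p8, .hi, .p3, .hi, .p2, .xii, .p, .xii,
   .y1, .y10, .hi, .xii, .y6, .taui, .y1, .xii, .p10, .xii, .y1, .p10, .y9, .xii, .y8, .tau, .X0, .p9, .xii, .y6, .p,
   .xii, .y1, .y2, .hi, .tau, .xii, .p4, .xii, .y1, .y4, .p5, .xii, .y2, .taui, .xii, .y6, .hi, .p7]⟩

theorem h539 : Hd F (g wAd) b539 := hdD (by decide +kernel)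
theorem r539_0 : R9 F (g wAd) b539 [] 0 0 := .of (startD 0 1) (by decide +kernel)
theorem r539_1 : R9 F (g wAd) b539 [] 0 1 := .of (startD 0 1) (by decide +kernel)
theorem r539_2 : R9 F (g wAd) b539 [] 0 2 := .of (startD 0 1) (by decide +kernel)
theorem r539_3 : R9 F (g wAd) b539 [] 1 0 := .of (startD 0 1) (by decide +kernel)
theorem r539_4 : R9 F (g wAd) b539 [] 1 1 := .of (startD 0 1) (by decide +kernel)
theorem r539_5 : R9 F (g wAd) b539 [] 1 2 := .of (startD 0 1) (by decide +kernel)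
theorem r539_6 : R9 F (g wAd) b539 [] 2 0 := .of (startD 0 1) (by decide +kernel)
theorem r539_7 : R9 F (g wAd) b539 [] 2 1 := .of (startD 0 1) (by decide +kernel)
theorem r539_8 : R9 F (g wAd) b539 [] 2 2 := .of (startD 0 1) (by decide +kernel)
theorem g539 : Gd F (g wAd) (0, d539) [] :=
  good9 ok h539 r539_0 r539_1 r539_2 r539_3 r539_4 r539_5 r539_6 r539_7 r539_8

theorem all : AllG F (g wAd) LD53 :=
  .cons g530 (.cons g531 (.cons g532 (.cons g533 (.cons g534 (.cons g535 (.cons g536 (.cons g537 (.cons g538 (.cons g539 (.nil))))))))))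

end Cfsg.Agent.BX.No33.Bk.D53
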