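import Cfsg.Agent.BX.No33.Cheap
set_option linter.all false

/-!
# Tests, diagonal case, part 54 (helper5; generated)
-/

set_option autoImplicit false
set_option maxRecDepth 100000
set_option Elab.async false

namespace Cfsg.Agent.BX.No33.Bk.D54

open Cfsg.Agent.H819.U33 Cfsg.Agent.BX.No33.Front

def b540 : Wd := ⟨0, d540,
  [.z, .Z8, .Z5, .Z2, .Z1, .Z0, .X10, .X7, .X6, .X5, .X2, .y10, .y5, .y3, .y1, .p10, .hi, .p8, .hi, .p8, .hi, .p9,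
   .hi, .p5, .hi, .p10, .hi, .xii, .hi, .xii, .p5, .y7, .hi, .p8, .tau, .xii, .y1, .p, .xii, .y6, .taui, .X0, .p10,
   .xii, .p9, .xii, .y2, .tau, .xii, .p3, .xii, .p10, .taui, .xii, .y2, .p10, .hi, .p8],
  [.z, .Z10, .Z7, .Z5, .Z3, .X9, .X5, .X3, .X0, .y6, .y3, .y2, .y1, .p8, .hi, .p8, .hi, .p3, .hi, .p, .hi, .p, .hi,
   .p, .hi, .xii, .y2, .p2, .hi, .p3, .hi, .tau, .xii, .p, .xii, .y1, .hi, .xii, .y5, .y9, .tau, .X0, .y1, .p10, .xii,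
   .p6, .xii, .taui, .xii, .hi, .xii, .p2, .xii, .y5],
  [.z, .Z10, .Z8, .Z6, .Z5, .Z4, .Z3, .Z2, .Z1, .Z0, .X10, .X9, .X7, .X6, .X5, .X0, .y9, .y5, .y4, .y2, .y1, .p9, .hi,
   .p8, .hi, .p, .hi, .p5, .hi, .p3, .xii, .p10, .xii, .y4, .p8, .xii, .y8, .taui, .xii, .y2, .p, .xii, .y4, .hi,
   .xii, .y7, .taui, .p9, .xii, .p7, .xii, .p7, .y3, .xii, .tau, .xii, .p8, .xii, .y9, .p2, .xii, .y7, .taui, .xii,
   .p2]⟩

theorem h540 : Hd F (g wAd) b540 := hdD (by decide +kernel)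
theorem r540_0 : R9 F (g wAd) b540 [] 0 0 := .of (startD 0 1) (by decide +kernel)
theorem r540_1 : R9 F (g wAd) b540 [] 0 1 := .of (startD 0 1) (by decide +kernel)
theorem r540_2 : R9 F (g wAd) b540 [] 0 2 := .of (startD 0 1) (by decide +kernel)
theorem r540_3 : R9 F (g wAd) b540 [] 1 0 := .of (startD 0 1) (by decide +kernel)
theorem r540_4 : R9 F (g wAd) b540 [] 1 1 := .of (startD 0 1) (by decide +kernel)
theorem r540_5 : R9 F (g wAd) b540 [] 1 2 := .of (startD 0 1) (by decide +kernel)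
theorem r540_6 : R9 F (g wAd) b540 [] 2 0 := .of (startD 0 2) (by decide +kernel)
theorem r540_7 : R9 F (g wAd) b540 [] 2 1 := .of (startD 0 1) (by decide +kernel)
theorem r540_8 : R9 F (g wAd) b540 [] 2 2 := .of (startD 0 1) (by decide +kernel)
theorem g540 : Gd F (g wAd) (0, d540) [] :=
  good9 ok h540 r540_0 r540_1 r540_2 r540_3 r540_4 r540_5 r540_6 r540_7 r540_8

def b541 : Wd := ⟨0, d541,
  [.Z10, .Z8, .Z7, .Z4, .Z3, .Z2, .X9, .X7, .X5, .X4, .X0, .y10, .y6, .y5, .y3, .y1, .p10, .hi, .p6, .hi, .p9, .hi,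
   .p8, .hi, .p10, .hi, .p3, .xii, .p10, .xii, .y8, .p6, .xii, .y3, .tau, .X0, .p10, .xii, .p, .hi, .xii, .y7, .p9,
   .taui, .xii, .p4, .xii, .y4, .y10, .p2, .hi, .p7, .tau, .xii, .y2, .p7],
  [.Z10, .Z9, .Z8, .Z5, .Z3, .Z0, .X10, .X9, .X7, .X5, .X4, .X3, .X1, .y10, .y8, .y3, .y2, .hi, .p10, .hi, .p5, .hi,
   .p10, .hi, .p7, .hi, .p6, .xii, .y2, .p2, .hi, .xii, .y2, .taui, .xii, .p6, .xii, .y6, .hi, .xii, .p, .tau, .X0,
   .p8, .xii, .y8, .p, .hi, .xii, .y6, .tau, .xii, .p2, .xii, .y2, .p, .xii, .y9, .tau, .xii, .p4],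
  [.Z6, .Z4, .Z3, .Z2, .Z0, .X8, .X7, .X6, .X2, .X0, .y10, .y9, .y7, .y4, .y2, .y1, .hi, .p, .hi, .p4, .hi, .p7, .hi,
   .p, .hi, .p5, .hi, .xii, .hi, .xii, .y6, .p9, .xii, .y7, .taui, .y1, .xii, .y2, .hi, .xii, .y10, .p10, .xii, .y10,
   .tau, .X0, .p4, .xii, .p7, .xii, .y9, .p7, .y2, .taui, .xii, .p9, .xii, .y5, .p3, .xii, .y8, .taui, .xii, .p8]⟩

theorem h541 : Hd F (g wAd) b541 := hdD (by decide +kernel)
theorem r541_0 : R9 F (g wAd) b541 [] 0 0 := .of (startD 0 1) (by decide +kernel)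
theorem r541_1 : R9 F (g wAd) b541 [] 0 1 := .of (startD 0 1) (by decide +kernel)
theorem r541_2 : R9 F (g wAd) b541 [] 0 2 := .of (startD 0 1) (by decide +kernel)
theorem r541_3 : R9 F (g wAd) b541 [] 1 0 := .of (startD 0 1) (by decide +kernel)
theorem r541_4 : R9 F (g wAd) b541 [] 1 1 := .of (startD 0 2) (by decide +kernel)
theorem r541_5 : R9 F (g wAd) b541 [] 1 2 := .of (startD 0 1) (by decide +kernel)
theorem r541_6 : R9 F (g wAd) b541 [] 2 0 := .of (startD 0 1) (by decide +kernel)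
theorem r541_7 : R9 F (g wAd) b541 [] 2 1 := .of (startD 0 1) (by decide +kernel)
theorem r541_8 : R9 F (g wAd) b541 [] 2 2 := .of (startD 0 1) (by decide +kernel)
theorem g541 : Gd F (g wAd) (0, d541) [] :=
  good9 ok h541 r541_0 r541_1 r541_2 r541_3 r541_4 r541_5 r541_6 r541_7 r541_8

def b542 : Wd := ⟨0, d542,
  [.Z8, .Z5, .Z4, .Z3, .Z2, .Z1, .Z0, .X10, .X9, .X7, .X5, .X3, .y10, .y9, .y7, .y6, .y3, .y2, .y1, .p3, .hi, .p6,
   .hi, .p8, .hi, .p8, .hi, .p7, .xii, .p10, .xii, .y5, .p9, .xii, .y5, .y9, .taui, .xii, .p, .xii, .y3, .hi, .xii,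
   .y5, .taui, .X0, .p10, .xii, .p2, .xii, .p2, .hi, .p2, .y7, .tau, .xii, .p6, .xii, .p10, .xii, .y2, .y4, .taui,
   .xii, .p10, .xii, .y7],
  [.Z8, .Z5, .Z1, .Z0, .X10, .X8, .X5, .X1, .X0, .y10, .y9, .y7, .y6, .y5, .y1, .hi, .p5, .hi, .p8, .hi, .p3, .hi,
   .p4, .hi, .p4, .hi, .p10, .xii, .p3, .hi, .taui, .xii, .y6, .p, .xii, .p, .xii, .y6, .y10, .tau, .X0, .p8, .xii,
   .y6, .p10, .xii, .y7, .p4, .tau, .xii, .p9, .xii, .y1, .hi, .y5, .xii, .taui, .xii],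
  [.Z10, .Z9, .Z8, .Z3, .Z1, .X9, .X8, .X7, .X4, .X3, .X2, .y8, .y2, .hi, .p9, .hi, .p6, .hi, .p10, .hi, .p4, .hi, .p,
   .hi, .p8, .xii, .y2, .tau, .xii, .y1, .p, .xii, .y2, .p, .xii, .y6, .taui, .y1, .xii, .p10, .xii, .y8, .p10, .xii,
   .y8, .taui, .X0, .p9, .xii, .p3, .xii, .y1, .tau, .xii, .y2, .p2, .xii, .p, .xii, .y4, .tau]⟩

theorem h542 : Hd F (g wAd) b542 := hdD (by decide +kernel)
theorem r542_0 : R9 F (g wAd) b542 [] 0 0 := .of (startD 0 1) (by decide +kernel)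
theorem r542_1 : R9 F (g wAd) b542 [] 0 1 := .of (startD 0 1) (by decide +kernel)
theorem r542_2 : R9 F (g wAd) b542 [] 0 2 := .of (startD 0 1) (by decide +kernel)
theorem r542_3 : R9 F (g wAd) b542 [] 1 0 := .of (startD 0 1) (by decide +kernel)
theorem r542_4 : R9 F (g wAd) b542 [] 1 1 := .of (startD 0 1) (by decide +kernel)
theorem r542_5 : R9 F (g wAd) b542 [] 1 2 := .of (startD 0 1) (by decide +kernel)
theorem r542_6 : R9 F (g wAd) b542 [] 2 0 := .of (startD 0 1) (by decide +kernel)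
theorem r542_7 : R9 F (g wAd) b542 [] 2 1 := .of (startD 0 1) (by decide +kernel)
theorem r542_8 : R9 F (g wAd) b542 [] 2 2 := .of (startD 0 2) (by decide +kernel)
theorem g542 : Gd F (g wAd) (0, d542) [] :=
  good9 ok h542 r542_0 r542_1 r542_2 r542_3 r542_4 r542_5 r542_6 r542_7 r542_8

def b543 : Wd := ⟨0, d543,
  [.Z10, .Z9, .Z7, .Z5, .Z3, .Z2, .Z1, .Z0, .X10, .X9, .X7, .X5, .X1, .X0, .y8, .y5, .y4, .y1, .p4, .hi, .p, .hi, .p5,
   .hi, .p6, .hi, .p4, .xii, .hi, .p8, .hi, .p5, .hi, .taui, .xii, .p, .xii, .y4, .hi, .xii, .y6, .y10, .tau, .X0,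
   .p7, .xii, .p4, .xii, .y10, .p, .hi, .p2, .taui, .xii, .p9, .xii, .hi, .y9, .p10, .hi, .tau, .xii, .hi, .p8],
  [.Z10, .Z9, .Z8, .Z7, .Z6, .Z2, .Z0, .X10, .X5, .X3, .y8, .y7, .y4, .y3, .y1, .p10, .hi, .p, .hi, .p8, .hi, .p9,
   .hi, .p9, .hi, .p, .hi, .xii, .p, .xii, .p8, .y5, .xii, .y5, .tau, .y1, .xii, .p10, .xii, .p10, .y7, .tau, .p5,
   .xii, .p6, .xii, .p4, .y5, .taui, .xii, .p5, .xii, .y7, .p5, .y7, .tau, .xii, .y2, .p2],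
  [.Z8, .Z7, .Z6, .Z5, .Z3, .Z2, .Z0, .X10, .X9, .X8, .X7, .X5, .X4, .X2, .X0, .y10, .y9, .y5, .y4, .p7, .hi, .p6,
   .hi, .p5, .hi, .p4, .hi, .p10, .hi, .xii, .y2, .p, .xii, .y1, .hi, .p8, .taui, .xii, .y6, .p, .xii, .p, .xii, .y5,
   .y10, .tau, .p5, .xii, .y8, .p7, .xii, .y7, .y10, .hi, .p2, .tau, .xii, .y2, .p9, .xii, .y2, .hi, .xii, .tau, .xii,
   .p8, .xii, .y4]⟩

theorem h543 : Hd F (g wAd) b543 := hdD (by decide +kernel)
theorem r543_0 : R9 F (g wAd) b543 [] 0 0 := .of (startD 0 1) (by decide +kernel)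
theorem r543_1 : R9 F (g wAd) b543 [] 0 1 := .of (startD 0 1) (by decide +kernel)
theorem r543_2 : R9 F (g wAd) b543 [] 0 2 := .of (startD 0 1) (by decide +kernel)
theorem r543_3 : R9 F (g wAd) b543 [] 1 0 := .of (startD 0 1) (by decide +kernel)
theorem r543_4 : R9 F (g wAd) b543 [] 1 1 := .of (startD 0 1) (by decide +kernel)
theorem r543_5 : R9 F (g wAd) b543 [] 1 2 := .of (startD 0 1) (by decide +kernel)
theorem r543_6 : R9 F (g wAd) b543 [] 2 0 := .of (startD 0 1) (by decide +kernel)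
theorem r543_7 : R9 F (g wAd) b543 [] 2 1 := .of (startD 0 1) (by decide +kernel)
theorem r543_8 : R9 F (g wAd) b543 [] 2 2 := .of (startD 0 1) (by decide +kernel)
theorem g543 : Gd F (g wAd) (0, d543) [] :=
  good9 ok h543 r543_0 r543_1 r543_2 r543_3 r543_4 r543_5 r543_6 r543_7 r543_8

def b544 : Wd := ⟨0, d544,
  [.z, .Z5, .Z4, .Z3, .Z2, .Z0, .X10, .X9, .X8, .X7, .X5, .X1, .X0, .y10, .y9, .y8, .y7, .y5, .y3, .y1, .p4, .hi, .p7,
   .hi, .p7, .hi, .p9, .hi, .p8, .hi, .p2, .hi, .xii, .y2, .hi, .p3, .hi, .p5, .tau, .xii, .y2, .p, .xii, .y2, .hi,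
   .xii, .y7, .taui, .X0, .p8, .xii, .y6, .p3, .xii, .y1, .hi, .taui, .xii, .p9, .xii, .y4, .p6, .y5, .xii, .y8, .tau,
   .xii, .y7, .p7],
  [.z, .Z9, .Z6, .Z5, .X10, .X9, .X8, .X7, .X6, .X3, .X2, .y9, .y6, .y4, .y2, .p6, .hi, .p7, .hi, .p4, .hi, .p7, .hi,
   .p6, .hi, .p6, .hi, .xii, .y2, .p2, .hi, .p3, .hi, .tau, .xii, .y2, .p, .xii, .y3, .hi, .xii, .y4, .y7, .taui, .y1,
   .p10, .xii, .p5, .xii, .y8, .y9, .p4, .tau, .xii, .p8, .xii, .y6, .p2, .xii, .y1, .y4],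
  [.Z10, .Z9, .Z7, .Z4, .Z3, .X8, .X6, .X4, .X2, .X0, .y10, .y8, .y5, .y3, .y2, .p4, .hi, .p3, .hi, .p4, .hi, .p6,
   .hi, .p4, .xii, .p5, .hi, .p5, .taui, .xii, .p, .xii, .y1, .hi, .xii, .y1, .y10, .tau, .X0, .p5, .xii, .p7, .xii,
   .p, .hi, .y5, .p9, .taui, .xii, .p5, .xii, .y2, .p9, .xii, .y1, .y2, .taui, .xii, .p9]⟩

theorem h544 : Hd F (g wAd) b544 := hdD (by decide +kernel)
theorem r544_0 : R9 F (g wAd) b544 [] 0 0 := .of (startD 0 2) (by decide +kernel)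
theorem r544_1 : R9 F (g wAd) b544 [] 0 1 := .of (startD 0 1) (by decide +kernel)
theorem r544_2 : R9 F (g wAd) b544 [] 0 2 := .of (startD 0 1) (by decide +kernel)
theorem r544_3 : R9 F (g wAd) b544 [] 1 0 := .of (startD 0 1) (by decide +kernel)
theorem r544_4 : R9 F (g wAd) b544 [] 1 1 := .of (startD 0 1) (by decide +kernel)
theorem r544_5 : R9 F (g wAd) b544 [] 1 2 := .of (startD 0 1) (by decide +kernel)
theorem r544_6 : R9 F (g wAd) b544 [] 2 0 := .of (startD 0 1) (by decide +kernel)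
theorem r544_7 : R9 F (g wAd) b544 [] 2 1 := .of (startD 0 2) (by decide +kernel)
theorem r544_8 : R9 F (g wAd) b544 [] 2 2 := .of (startD 0 1) (by decide +kernel)
theorem g544 : Gd F (g wAd) (0, d544) [] :=
  good9 ok h544 r544_0 r544_1 r544_2 r544_3 r544_4 r544_5 r544_6 r544_7 r544_8

def b545 : Wd := ⟨0, d545,
  [.z, .Z10, .Z8, .Z7, .Z5, .Z4, .Z2, .X10, .X9, .X8, .X7, .X6, .X5, .X4, .X3, .X2, .X1, .y9, .y8, .y6, .y5, .p5, .hi,
   .p6, .hi, .p5, .hi, .p9, .hi, .p, .hi, .p8, .hi, .xii, .p, .xii, .y6, .p2, .hi, .taui, .xii, .y6, .p, .xii, .y2,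
   .p, .xii, .y1, .y2, .taui, .X0, .p7, .xii, .p5, .y7, .xii, .y8, .p6, .hi, .taui, .xii, .p9, .xii, .y1, .p3, .xii,
   .y7, .y10, .tau, .xii, .y2, .hi, .xii],
  [.z, .Z8, .Z7, .Z4, .Z3, .Z2, .X10, .X6, .X5, .X4, .X2, .y7, .y3, .y2, .p2, .hi, .p6, .hi, .p10, .hi, .p10, .hi, .p,
   .xii, .p10, .hi, .p6, .hi, .p2, .tau, .xii, .y1, .p, .xii, .p, .xii, .y1, .taui, .X0, .p8, .xii, .y6, .p4, .xii,
   .y9, .p5, .hi, .taui, .xii, .p3, .xii, .y5, .p4, .taui, .xii, .p8],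
  [.z, .Z10, .Z9, .Z8, .Z7, .Z5, .Z4, .Z3, .Z2, .Z0, .X9, .X6, .X5, .X2, .X1, .y10, .y7, .y5, .y4, .y3, .y1, .p9, .hi,
   .p8, .hi, .p3, .hi, .p7, .hi, .p3, .hi, .xii, .p10, .xii, .y5, .p9, .xii, .y6, .taui, .y1, .xii, .y2, .hi, .xii,
   .y9, .p10, .xii, .taui, .y1, .xii, .y1, .p9, .xii, .y4, .p8, .xii, .y6, .y10, .tau, .xii, .p4, .xii, .p5, .y7,
   .xii, .y6, .taui, .xii, .hi, .p2]⟩

theorem h545 : Hd F (g wAd) b545 := hdD (by decide +kernel)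
theorem r545_0 : R9 F (g wAd) b545 [] 0 0 := .of (startD 0 1) (by decide +kernel)
theorem r545_1 : R9 F (g wAd) b545 [] 0 1 := .of (startD 0 1) (by decide +kernel)
theorem r545_2 : R9 F (g wAd) b545 [] 0 2 := .of (startD 0 1) (by decide +kernel)
theorem r545_3 : R9 F (g wAd) b545 [] 1 0 := .of (startD 0 1) (by decide +kernel)
theorem r545_4 : R9 F (g wAd) b545 [] 1 1 := .of (startD 0 1) (by decide +kernel)
theorem r545_5 : R9 F (g wAd) b545 [] 1 2 := .of (startD 0 1) (by decide +kernel)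
theorem r545_6 : R9 F (g wAd) b545 [] 2 0 := .of (startD 0 1) (by decide +kernel)
theorem r545_7 : R9 F (g wAd) b545 [] 2 1 := .of (startD 0 1) (by decide +kernel)
theorem r545_8 : R9 F (g wAd) b545 [] 2 2 := .of (startD 0 1) (by decide +kernel)
theorem g545 : Gd F (g wAd) (0, d545) [] :=
  good9 ok h545 r545_0 r545_1 r545_2 r545_3 r545_4 r545_5 r545_6 r545_7 r545_8

def b546 : Wd := ⟨0, d546,
  [.z, .Z4, .Z1, .X10, .X9, .X8, .X6, .X4, .X1, .X0, .y9, .y6, .y4, .y3, .p7, .hi, .p5, .hi, .p8, .hi, .p10, .hi, .p3,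
   .hi, .p4, .xii, .p10, .xii, .p5, .y5, .hi, .p8, .tau, .y1, .xii, .y2, .hi, .xii, .p10, .xii, .y3, .y7, .tau, .p8,
   .xii, .hi, .y7, .xii, .p5, .xii, .y2, .taui, .xii, .p8, .xii, .y4, .p2, .xii, .y10, .taui, .xii, .hi, .xii, .y8],
  [.Z8, .Z7, .Z6, .Z5, .Z4, .Z3, .Z1, .Z0, .X10, .X8, .X7, .X5, .X3, .X1, .X0, .y10, .y7, .y5, .y2, .p9, .hi, .p8,
   .hi, .p8, .hi, .p3, .hi, .p7, .hi, .p7, .hi, .xii, .y2, .p3, .hi, .taui, .xii, .y1, .p, .xii, .y10, .p, .xii, .y5,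
   .tau, .hi, .xii, .y7, .p6, .xii, .y8, .hi, .tau, .xii, .p9, .xii, .y1, .y8, .p6, .xii, .y9, .tau, .xii, .y7, .p2],
  [.Z10, .Z9, .Z7, .Z6, .Z3, .Z2, .Z0, .X9, .X8, .X7, .X6, .X2, .y9, .y8, .y6, .y3, .y2, .p7, .hi, .p5, .hi, .p3, .hi,
   .p6, .hi, .p, .hi, .p9, .hi, .xii, .p10, .hi, .p2, .hi, .p10, .taui, .y1, .xii, .y2, .hi, .xii, .p10, .xii, .y10,
   .taui, .X0, .xii, .p2, .xii, .y1, .p4, .xii, .p6, .y4, .tau, .xii, .p7, .xii, .y5, .y10, .p5, .hi, .tau, .xii, .p4,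
   .hi, .p2]⟩

theorem h546 : Hd F (g wAd) b546 := hdD (by decide +kernel)
theorem r546_0 : R9 F (g wAd) b546 [] 0 0 := .of (startD 0 1) (by decide +kernel)
theorem r546_1 : R9 F (g wAd) b546 [] 0 1 := .of (startD 0 1) (by decide +kernel)
theorem r546_2 : R9 F (g wAd) b546 [] 0 2 := .of (startD 0 1) (by decide +kernel)
theorem r546_3 : R9 F (g wAd) b546 [] 1 0 := .of (startD 0 1) (by decide +kernel)
theorem r546_4 : R9 F (g wAd) b546 [] 1 1 := .of (startD 0 1) (by decide +kernel)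
theorem r546_5 : R9 F (g wAd) b546 [] 1 2 := .of (startD 0 1) (by decide +kernel)
theorem r546_6 : R9 F (g wAd) b546 [] 2 0 := .of (startD 0 1) (by decide +kernel)
theorem r546_7 : R9 F (g wAd) b546 [] 2 1 := .of (startD 0 1) (by decide +kernel)
theorem r546_8 : R9 F (g wAd) b546 [] 2 2 := .of (startD 0 1) (by decide +kernel)
theorem g546 : Gd F (g wAd) (0, d546) [] :=
  good9 ok h546 r546_0 r546_1 r546_2 r546_3 r546_4 r546_5 r546_6 r546_7 r546_8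

def b547 : Wd := ⟨0, d547,
  [.Z5, .Z3, .Z2, .Z1, .Z0, .X10, .X9, .X7, .X4, .X3, .y9, .y8, .y4, .p8, .hi, .p4, .hi, .p10, .hi, .p8, .hi, .p4,
   .hi, .xii, .p10, .xii, .y4, .p6, .xii, .y7, .y10, .taui, .xii, .p, .xii, .hi, .y8, .xii, .y4, .y5, .taui, .p7,
   .xii, .p5, .hi, .xii, .p5, .y3, .tau, .xii, .p7, .xii, .y4, .y6, .p3, .xii, .y9, .tau, .xii, .p4, .hi, .p10],
  [.Z6, .Z5, .Z1, .Z0, .X8, .X7, .X4, .X3, .X2, .y9, .y7, .y6, .y3, .p6, .hi, .p5, .hi, .p4, .hi, .p7, .hi, .p7, .hi,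
   .p7, .hi, .xii, .p10, .xii, .y4, .p5, .hi, .p5, .taui, .xii, .p3, .hi, .xii, .p3, .hi, .y8, .taui, .p10, .xii, .y7,
   .p8, .xii, .p10, .y4, .tau, .xii, .p4, .xii, .y8, .p6, .y1, .taui, .xii, .y2, .p3],
  [.z, .Z10, .Z4, .Z3, .Z1, .X8, .X5, .X3, .X1, .y7, .y3, .y2, .y1, .hi, .p10, .hi, .p2, .hi, .p10, .hi, .p10, .hi,
   .p10, .hi, .p8, .hi, .xii, .p2, .hi, .xii, .y5, .y9, .p3, .taui, .xii, .p, .xii, .y1, .y10, .hi, .xii, .y1, .y10,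
   .taui, .X0, .p2, .xii, .p4, .xii, .y1, .y4, .p5, .hi, .p4, .taui, .xii, .p9, .xii, .y3, .y7, .p6, .tau, .xii, .y2,
   .p7]⟩

theorem h547 : Hd F (g wAd) b547 := hdD (by decide +kernel)
theorem r547_0 : R9 F (g wAd) b547 [] 0 0 := .of (startD 0 1) (by decide +kernel)
theorem r547_1 : R9 F (g wAd) b547 [] 0 1 := .of (startD 0 1) (by decide +kernel)
theorem r547_2 : R9 F (g wAd) b547 [] 0 2 := .of (startD 0 1) (by decide +kernel)
theorem r547_3 : R9 F (g wAd) b547 [] 1 0 := .of (startD 0 1) (by decide +kernel)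
theorem r547_4 : R9 F (g wAd) b547 [] 1 1 := .of (startD 0 1) (by decide +kernel)
theorem r547_5 : R9 F (g wAd) b547 [] 1 2 := .of (startD 0 1) (by decide +kernel)
theorem r547_6 : R9 F (g wAd) b547 [] 2 0 := .of (startD 0 1) (by decide +kernel)
theorem r547_7 : R9 F (g wAd) b547 [] 2 1 := .of (startD 0 2) (by decide +kernel)
theorem r547_8 : R9 F (g wAd) b547 [] 2 2 := .of (startD 0 1) (by decide +kernel)
theorem g547 : Gd F (g wAd) (0, d547) [] :=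
  good9 ok h547 r547_0 r547_1 r547_2 r547_3 r547_4 r547_5 r547_6 r547_7 r547_8

def b548 : Wd := ⟨0, d548,
  [.z, .Z8, .Z7, .Z2, .Z1, .X8, .X6, .X5, .X2, .X1, .y9, .y8, .y5, .y4, .p9, .hi, .p4, .hi, .p7, .hi, .p8, .hi, .p8,
   .hi, .p5, .xii, .p, .xii, .y2, .p4, .xii, .y8, .tau, .X0, .xii, .p3, .xii, .hi, .xii, .hi, .y9, .taui, .y1, .xii,
   .p10, .xii, .y1, .y9, .p10, .xii, .y4, .tau, .y1, .p7, .xii, .p7, .xii, .y4, .taui, .xii, .p7, .xii, .p5, .hi, .p5,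
   .y4, .tau, .xii, .y2, .p10, .hi, .p7],
  [.z, .Z8, .Z7, .Z6, .Z2, .Z1, .Z0, .X10, .X9, .X5, .X3, .y10, .y6, .y2, .p, .hi, .p6, .hi, .p9, .hi, .p6, .hi, .xii,
   .p3, .hi, .xii, .y8, .p6, .tau, .xii, .p, .xii, .hi, .y8, .xii, .y1, .tau, .p10, .xii, .p3, .hi, .xii, .p7, .y10,
   .tau, .xii, .p9, .xii, .y1, .y2, .p3, .xii, .y8, .y9, .taui, .xii, .hi],
  [.z, .Z9, .Z7, .Z6, .Z5, .Z4, .Z3, .Z2, .Z1, .Z0, .X10, .X7, .X4, .X2, .X1, .X0, .y10, .y8, .y7, .y4, .y3, .y2, .hi,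
   .p6, .hi, .p6, .hi, .p8, .hi, .p, .hi, .p, .xii, .p10, .xii, .y5, .p6, .xii, .y7, .y10, .tau, .y1, .xii, .y2, .hi,
   .xii, .p10, .xii, .y4, .tau, .X0, .hi, .xii, .p4, .hi, .xii, .y8, .p2, .y3, .taui, .xii, .p7, .xii, .y7, .y10, .p8,
   .xii, .y6, .tau, .xii, .y8]⟩

theorem h548 : Hd F (g wAd) b548 := hdD (by decide +kernel)
theorem r548_0 : R9 F (g wAd) b548 [] 0 0 := .of (startD 0 1) (by decide +kernel)
theorem r548_1 : R9 F (g wAd) b548 [] 0 1 := .of (startD 0 1) (by decide +kernel)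
theorem r548_2 : R9 F (g wAd) b548 [] 0 2 := .of (startD 0 1) (by decide +kernel)
theorem r548_3 : R9 F (g wAd) b548 [] 1 0 := .of (startD 0 1) (by decide +kernel)
theorem r548_4 : R9 F (g wAd) b548 [] 1 1 := .of (startD 0 1) (by decide +kernel)
theorem r548_5 : R9 F (g wAd) b548 [] 1 2 := .of (startD 0 1) (by decide +kernel)
theorem r548_6 : R9 F (g wAd) b548 [] 2 0 := .of (startD 0 1) (by decide +kernel)
theorem r548_7 : R9 F (g wAd) b548 [] 2 1 := .of (startD 0 1) (by decide +kernel)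
theorem r548_8 : R9 F (g wAd) b548 [] 2 2 := .of (startD 0 1) (by decide +kernel)
theorem g548 : Gd F (g wAd) (0, d548) [] :=
  good9 ok h548 r548_0 r548_1 r548_2 r548_3 r548_4 r548_5 r548_6 r548_7 r548_8

def b549 : Wd := ⟨0, d549,
  [.z, .Z7, .Z5, .Z4, .Z2, .Z1, .X10, .X9, .X8, .X6, .X5, .X4, .X1, .y10, .y9, .y8, .y7, .y4, .y3, .y2, .hi, .p4, .hi,
   .p8, .hi, .p8, .hi, .p7, .hi, .p3, .hi, .xii, .hi, .p8, .xii, .y1, .p2, .tau, .xii, .p, .xii, .y4, .hi, .xii, .y7,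
   .y10, .tau, .hi, .xii, .p8, .xii, .p5, .hi, .p4, .y8, .taui, .xii, .p9, .xii, .p3, .y4, .xii, .y1, .y6, .taui,
   .xii, .p3, .xii],
  [.z, .Z10, .Z6, .Z4, .Z3, .Z0, .X10, .X8, .X7, .X5, .X4, .X1, .X0, .y9, .y6, .y3, .y1, .p4, .hi, .p4, .hi, .p8, .hi,
   .p6, .hi, .p3, .hi, .p10, .xii, .p10, .xii, .y6, .p2, .xii, .y6, .taui, .xii, .y1, .p, .xii, .p, .y7, .xii, .y4,
   .y5, .taui, .xii, .y6, .p7, .xii, .p8, .xii, .y4, .y5, .y9, .tau, .xii, .p4, .xii, .p10, .y4, .hi, .p8],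
  [.z, .Z10, .Z4, .X10, .X9, .X7, .X6, .X5, .X4, .X2, .X0, .y10, .y9, .y8, .y5, .y4, .y3, .y1, .p5, .hi, .p4, .hi,
   .p10, .hi, .p, .hi, .p, .hi, .p, .xii, .hi, .xii, .y8, .p6, .xii, .y7, .tau, .y1, .xii, .y2, .hi, .xii, .y9, .p10,
   .xii, .tau, .p6, .xii, .y8, .p8, .xii, .y5, .p4, .hi, .taui, .xii, .p5, .xii, .y5, .hi, .p5, .y2, .taui, .xii, .p2,
   .hi, .p]⟩

theorem h549 : Hd F (g wAd) b549 := hdD (by decide +kernel)
theorem r549_0 : R9 F (g wAd) b549 [] 0 0 := .of (startD 0 1) (by decide +kernel)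
theorem r549_1 : R9 F (g wAd) b549 [] 0 1 := .of (startD 0 1) (by decide +kernel)
theorem r549_2 : R9 F (g wAd) b549 [] 0 2 := .of (startD 0 1) (by decide +kernel)
theorem r549_3 : R9 F (g wAd) b549 [] 1 0 := .of (startD 0 1) (by decide +kernel)
theorem r549_4 : R9 F (g wAd) b549 [] 1 1 := .of (startD 0 1) (by decide +kernel)
theorem r549_5 : R9 F (g wAd) b549 [] 1 2 := .of (startD 0 1) (by decide +kernel)
theorem r549_6 : R9 F (g wAd) b549 [] 2 0 := .of (startD 0 1) (by decide +kernel)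
theorem r549_7 : R9 F (g wAd) b549 [] 2 1 := .of (startD 0 1) (by decide +kernel)
theorem r549_8 : R9 F (g wAd) b549 [] 2 2 := .of (startD 0 1) (by decide +kernel)
theorem g549 : Gd F (g wAd) (0, d549) [] :=
  good9 ok h549 r549_0 r549_1 r549_2 r549_3 r549_4 r549_5 r549_6 r549_7 r549_8

theorem all : AllG F (g wAd) LD54 :=
  .cons g540 (.cons g541 (.cons g542 (.cons g543 (.cons g544 (.cons g545 (.cons g546 (.cons g547 (.cons g548 (.cons g549 (.nil))))))))))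

end Cfsg.Agent.BX.No33.Bk.D54
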