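import Cfsg.Agent.BX.No33.Cheap
set_option linter.all false

/-!
# Tests, diagonal case, part 55 (helper5; generated)
-/

set_option autoImplicit false
set_option maxRecDepth 100000
set_option Elab.async false

namespace Cfsg.Agent.BX.No33.Bk.D55

open Cfsg.Agent.H819.U33 Cfsg.Agent.BX.No33.Front

def b550 : Wd := ⟨0, d550,
  [.z, .Z9, .Z8, .Z6, .Z5, .Z4, .X9, .X7, .X6, .X4, .X3, .X2, .X0, .y3, .y1, .p5, .hi, .p4, .hi, .p4, .hi, .p4, .hi,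
   .p3, .xii, .p3, .hi, .p8, .hi, .p6, .tau, .y1, .xii, .y1, .hi, .xii, .p10, .xii, .y3, .y5, .taui, .p4, .xii, .p7,
   .xii, .p, .hi, .y4, .p5, .y1, .taui, .xii, .p9, .xii, .y6, .p5, .xii, .y1, .y4, .tau, .xii, .y8, .p, .xii],
  [.Z10, .Z7, .Z5, .Z2, .X10, .X8, .X7, .X4, .y5, .p10, .hi, .p9, .hi, .p7, .hi, .p7, .hi, .p5, .hi, .p2, .xii, .p,
   .xii, .p4, .xii, .y9, .tau, .y1, .xii, .hi, .xii, .p3, .y1, .hi, .tau, .X0, .p5, .xii, .y6, .hi, .xii, .p9, .y4,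
   .taui, .xii, .p2, .xii, .y3, .p6, .xii, .y4, .taui, .xii, .y4, .p4],
  [.Z7, .Z6, .Z2, .Z0, .X9, .X8, .X6, .X5, .X2, .X0, .y10, .y9, .y6, .y4, .y3, .y1, .p10, .hi, .p9, .hi, .p7, .hi,
   .p9, .hi, .p7, .hi, .p5, .hi, .p, .hi, .xii, .y2, .p3, .hi, .xii, .y5, .p10, .tau, .y1, .xii, .p10, .xii, .y4,
   .p10, .xii, .y4, .y8, .taui, .p10, .xii, .y6, .p8, .xii, .p5, .y7, .taui, .xii, .y2, .p8, .xii, .y2, .p3, .hi,
   .tau, .xii, .p7]⟩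

theorem h550 : Hd F (g wAd) b550 := hdD (by decide +kernel)
theorem r550_0 : R9 F (g wAd) b550 [] 0 0 := .of (startD 0 1) (by decide +kernel)
theorem r550_1 : R9 F (g wAd) b550 [] 0 1 := .of (startD 0 1) (by decide +kernel)
theorem r550_2 : R9 F (g wAd) b550 [] 0 2 := .of (startD 0 1) (by decide +kernel)
theorem r550_3 : R9 F (g wAd) b550 [] 1 0 := .of (startD 0 1) (by decide +kernel)
theorem r550_4 : R9 F (g wAd) b550 [] 1 1 := .of (startD 0 1) (by decide +kernel)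
theorem r550_5 : R9 F (g wAd) b550 [] 1 2 := .of (startD 0 1) (by decide +kernel)
theorem r550_6 : R9 F (g wAd) b550 [] 2 0 := .of (startD 0 1) (by decide +kernel)
theorem r550_7 : R9 F (g wAd) b550 [] 2 1 := .of (startD 0 1) (by decide +kernel)
theorem r550_8 : R9 F (g wAd) b550 [] 2 2 := .of (startD 0 1) (by decide +kernel)
theorem g550 : Gd F (g wAd) (0, d550) [] :=
  good9 ok h550 r550_0 r550_1 r550_2 r550_3 r550_4 r550_5 r550_6 r550_7 r550_8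

def b551 : Wd := ⟨0, d551,
  [.Z10, .Z9, .Z7, .Z5, .Z4, .Z1, .X8, .X6, .X5, .X3, .X2, .y10, .y8, .y7, .y4, .y1, .p9, .hi, .p8, .hi, .p4, .hi, .p,
   .hi, .p3, .hi, .p, .hi, .xii, .p10, .xii, .y7, .p6, .xii, .y3, .tau, .xii, .p, .xii, .y4, .y10, .hi, .xii, .y7,
   .y10, .taui, .X0, .p7, .xii, .y4, .p9, .xii, .y6, .p9, .taui, .xii, .p4, .xii, .y10, .p3, .hi, .taui, .xii, .y2,
   .p],
  [.Z10, .Z8, .Z5, .Z2, .X10, .X9, .X8, .X7, .X6, .X5, .X3, .X1, .y10, .y8, .y6, .y2, .y1, .p9, .hi, .p7, .hi, .p,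
   .hi, .p10, .xii, .p10, .xii, .y8, .taui, .y1, .xii, .y6, .p10, .xii, .y8, .p10, .xii, .taui, .X0, .p2, .xii, .p9,
   .xii, .y2, .p, .hi, .p10, .tau, .xii, .p5, .xii, .y7, .p, .xii, .y7],
  [.Z10, .Z9, .Z8, .Z7, .Z6, .Z5, .Z3, .Z2, .Z0, .X10, .X7, .X5, .X4, .X1, .y10, .y9, .y8, .y7, .y5, .y4, .y1, .p10,
   .hi, .p7, .hi, .p3, .hi, .p9, .hi, .p4, .xii, .y2, .p2, .hi, .p3, .hi, .taui, .y1, .xii, .p10, .xii, .y1, .p10,
   .xii, .y8, .y10, .tau, .xii, .y2, .p, .xii, .y2, .hi, .xii, .y7, .taui, .p10, .xii, .y10, .p6, .xii, .y8, .taui,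
   .xii, .p6, .xii, .y4, .y5, .p6, .xii, .tau, .xii, .y7, .p6]⟩

theorem h551 : Hd F (g wAd) b551 := hdD (by decide +kernel)
theorem r551_0 : R9 F (g wAd) b551 [] 0 0 := .of (startD 0 1) (by decide +kernel)
theorem r551_1 : R9 F (g wAd) b551 [] 0 1 := .of (startD 0 1) (by decide +kernel)
theorem r551_2 : R9 F (g wAd) b551 [] 0 2 := .of (startD 0 1) (by decide +kernel)
theorem r551_3 : R9 F (g wAd) b551 [] 1 0 := .of (startD 0 1) (by decide +kernel)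
theorem r551_4 : R9 F (g wAd) b551 [] 1 1 := .of (startD 0 2) (by decide +kernel)
theorem r551_5 : R9 F (g wAd) b551 [] 1 2 := .of (startD 0 1) (by decide +kernel)
theorem r551_6 : R9 F (g wAd) b551 [] 2 0 := .of (startD 0 1) (by decide +kernel)
theorem r551_7 : R9 F (g wAd) b551 [] 2 1 := .of (startD 0 1) (by decide +kernel)
theorem r551_8 : R9 F (g wAd) b551 [] 2 2 := .of (startD 0 1) (by decide +kernel)
theorem g551 : Gd F (g wAd) (0, d551) [] :=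
  good9 ok h551 r551_0 r551_1 r551_2 r551_3 r551_4 r551_5 r551_6 r551_7 r551_8

def b552 : Wd := ⟨0, d552,
  [.Z10, .Z9, .Z8, .Z6, .Z5, .Z2, .X8, .X7, .X6, .X5, .X3, .X0, .y9, .y7, .y6, .y3, .y2, .p10, .hi, .p5, .hi, .p4,
   .hi, .p4, .hi, .p5, .hi, .p4, .hi, .p5, .xii, .p, .xii, .p8, .y4, .xii, .y1, .taui, .xii, .y2, .p, .xii, .y1, .hi,
   .xii, .y5, .y10, .taui, .y1, .xii, .p9, .xii, .y4, .p5, .xii, .p6, .tau, .xii, .p4, .xii, .y4, .p, .tau, .xii, .y2,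
   .hi, .p7],
  [.z, .Z9, .Z8, .Z7, .Z3, .Z2, .Z1, .X9, .X7, .X5, .X3, .X1, .X0, .y9, .y7, .y6, .y2, .y1, .p10, .hi, .p2, .hi, .p7,
   .hi, .p3, .hi, .p5, .hi, .p6, .hi, .xii, .y2, .p10, .xii, .y2, .taui, .xii, .y2, .p, .xii, .y1, .hi, .xii, .y1,
   .taui, .X0, .p9, .xii, .y4, .p2, .xii, .p5, .hi, .p7, .tau, .xii, .p7, .xii, .y1, .y7, .p10, .hi, .p8],
  [.z, .Z10, .Z6, .Z5, .Z4, .Z3, .Z2, .X8, .X7, .X3, .X2, .X0, .y10, .y7, .y6, .p6, .hi, .p6, .hi, .p7, .hi, .p8, .hi,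
   .p, .hi, .p10, .xii, .p5, .hi, .p5, .taui, .xii, .y6, .p, .xii, .y4, .p, .xii, .y1, .y4, .taui, .xii, .p10, .xii,
   .y9, .p10, .xii, .y4, .y5, .taui, .xii, .p6, .xii, .y6, .p2, .xii, .y1, .y8, .tau, .xii]⟩

theorem h552 : Hd F (g wAd) b552 := hdD (by decide +kernel)
theorem r552_0 : R9 F (g wAd) b552 [] 0 0 := .of (startD 0 1) (by decide +kernel)
theorem r552_1 : R9 F (g wAd) b552 [] 0 1 := .of (startD 0 1) (by decide +kernel)
theorem r552_2 : R9 F (g wAd) b552 [] 0 2 := .of (startD 0 1) (by decide +kernel)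
theorem r552_3 : R9 F (g wAd) b552 [] 1 0 := .of (startD 0 1) (by decide +kernel)
theorem r552_4 : R9 F (g wAd) b552 [] 1 1 := .of (startD 0 1) (by decide +kernel)
theorem r552_5 : R9 F (g wAd) b552 [] 1 2 := .of (startD 0 1) (by decide +kernel)
theorem r552_6 : R9 F (g wAd) b552 [] 2 0 := .of (startD 0 1) (by decide +kernel)
theorem r552_7 : R9 F (g wAd) b552 [] 2 1 := .of (startD 0 1) (by decide +kernel)
theorem r552_8 : R9 F (g wAd) b552 [] 2 2 := .of (startD 0 1) (by decide +kernel)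
theorem g552 : Gd F (g wAd) (0, d552) [] :=
  good9 ok h552 r552_0 r552_1 r552_2 r552_3 r552_4 r552_5 r552_6 r552_7 r552_8

def b553 : Wd := ⟨0, d553,
  [.Z8, .Z7, .Z5, .Z4, .Z2, .X7, .X5, .X4, .X1, .X0, .y9, .y7, .hi, .p3, .hi, .p8, .hi, .p5, .hi, .p4, .hi, .p, .xii,
   .p3, .hi, .xii, .y8, .p6, .taui, .y1, .xii, .y1, .hi, .xii, .p10, .xii, .y4, .y8, .tau, .p7, .xii, .p4, .xii, .y1,
   .y5, .y8, .p4, .xii, .tau, .xii, .p5, .xii, .y6, .hi, .p5, .hi, .tau, .xii, .y2, .p8],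
  [.z, .Z8, .Z6, .Z2, .Z1, .X10, .X8, .X6, .X4, .X3, .X2, .X1, .y10, .y5, .y4, .y2, .y1, .p9, .hi, .p, .hi, .p5, .hi,
   .p4, .hi, .p10, .hi, .p7, .hi, .xii, .hi, .xii, .p8, .xii, .y1, .y3, .tau, .X0, .hi, .xii, .p6, .xii, .hi, .y5,
   .p5, .hi, .taui, .xii, .p4, .xii, .y6, .p3, .y10, .hi, .p, .taui, .xii, .p5, .hi, .p2],
  [.Z8, .Z7, .Z5, .Z3, .Z0, .X9, .X8, .X6, .X5, .X1, .X0, .y9, .y6, .y1, .p7, .hi, .p3, .hi, .p6, .hi, .p6, .hi, .p4,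
   .hi, .p, .xii, .hi, .xii, .y8, .p9, .xii, .y5, .taui, .y1, .xii, .y2, .hi, .xii, .y9, .p10, .xii, .y8, .taui, .X0,
   .y1, .p4, .xii, .p7, .xii, .p6, .tau, .xii, .p6, .xii, .y2, .p, .xii, .y8, .y10, .taui, .xii, .p7, .xii, .y6]⟩

theorem h553 : Hd F (g wAd) b553 := hdD (by decide +kernel)
theorem r553_0 : R9 F (g wAd) b553 [] 0 0 := .of (startD 0 1) (by decide +kernel)
theorem r553_1 : R9 F (g wAd) b553 [] 0 1 := .of (startD 0 1) (by decide +kernel)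
theorem r553_2 : R9 F (g wAd) b553 [] 0 2 := .of (startD 0 1) (by decide +kernel)
theorem r553_3 : R9 F (g wAd) b553 [] 1 0 := .of (startD 0 1) (by decide +kernel)
theorem r553_4 : R9 F (g wAd) b553 [] 1 1 := .of (startD 0 2) (by decide +kernel)
theorem r553_5 : R9 F (g wAd) b553 [] 1 2 := .of (startD 0 1) (by decide +kernel)
theorem r553_6 : R9 F (g wAd) b553 [] 2 0 := .of (startD 0 1) (by decide +kernel)
theorem r553_7 : R9 F (g wAd) b553 [] 2 1 := .of (startD 0 1) (by decide +kernel)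
theorem r553_8 : R9 F (g wAd) b553 [] 2 2 := .of (startD 0 1) (by decide +kernel)
theorem g553 : Gd F (g wAd) (0, d553) [] :=
  good9 ok h553 r553_0 r553_1 r553_2 r553_3 r553_4 r553_5 r553_6 r553_7 r553_8

def b554 : Wd := ⟨0, d554,
  [.Z8, .Z7, .Z5, .Z4, .Z1, .X10, .X8, .X6, .X3, .X0, .y2, .p8, .hi, .p10, .hi, .p5, .hi, .p7, .hi, .p, .hi, .p2,
   .xii, .y2, .hi, .p3, .hi, .p5, .taui, .xii, .p, .xii, .y4, .hi, .xii, .y1, .y9, .tau, .X0, .p7, .xii, .p5, .xii,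
   .y4, .hi, .p7, .y5, .taui, .xii, .p8, .xii, .y4, .y5, .p8, .tau, .xii, .y2, .p7],
  [.z, .Z6, .Z0, .X10, .X9, .X8, .X6, .X3, .X2, .X1, .y7, .y6, .hi, .p7, .hi, .p8, .hi, .p3, .hi, .p10, .hi, .p3, .hi,
   .xii, .hi, .p2, .hi, .taui, .xii, .y6, .p, .xii, .p, .xii, .y1, .taui, .X0, .p4, .xii, .p9, .xii, .y5, .y10, .p5,
   .taui, .xii, .p2, .xii, .y1, .hi, .p6, .taui, .xii, .hi, .p6],
  [.Z8, .Z5, .Z3, .Z2, .Z1, .Z0, .X10, .X8, .X5, .X2, .X1, .y10, .y8, .y5, .y2, .hi, .p4, .hi, .p5, .hi, .p9, .hi, .p,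
   .hi, .p9, .xii, .p, .xii, .y2, .p, .xii, .y3, .taui, .xii, .p, .xii, .y4, .y10, .hi, .xii, .y4, .y7, .taui, .X0,
   .p5, .xii, .y9, .p6, .xii, .y5, .p2, .hi, .p4, .taui, .xii, .p3, .xii, .p, .y2, .xii, .y7, .y10, .taui, .xii, .p4,
   .xii, .y8]⟩

theorem h554 : Hd F (g wAd) b554 := hdD (by decide +kernel)
theorem r554_0 : R9 F (g wAd) b554 [] 0 0 := .of (startD 0 1) (by decide +kernel)
theorem r554_1 : R9 F (g wAd) b554 [] 0 1 := .of (startD 0 1) (by decide +kernel)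
theorem r554_2 : R9 F (g wAd) b554 [] 0 2 := .of (startD 0 1) (by decide +kernel)
theorem r554_3 : R9 F (g wAd) b554 [] 1 0 := .of (startD 0 1) (by decide +kernel)
theorem r554_4 : R9 F (g wAd) b554 [] 1 1 := .of (startD 0 1) (by decide +kernel)
theorem r554_5 : R9 F (g wAd) b554 [] 1 2 := .of (startD 0 1) (by decide +kernel)
theorem r554_6 : R9 F (g wAd) b554 [] 2 0 := .of (startD 0 1) (by decide +kernel)
theorem r554_7 : R9 F (g wAd) b554 [] 2 1 := .of (startD 0 1) (by decide +kernel)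
theorem r554_8 : R9 F (g wAd) b554 [] 2 2 := .of (startD 0 1) (by decide +kernel)
theorem g554 : Gd F (g wAd) (0, d554) [] :=
  good9 ok h554 r554_0 r554_1 r554_2 r554_3 r554_4 r554_5 r554_6 r554_7 r554_8

def b555 : Wd := ⟨0, d555,
  [.z, .Z9, .Z8, .Z6, .Z5, .Z4, .Z3, .Z2, .Z1, .Z0, .X10, .X8, .X5, .X4, .y10, .y8, .y7, .y5, .y2, .y1, .p9, .hi, .p9,
   .hi, .p4, .hi, .p5, .hi, .p10, .hi, .p5, .xii, .p3, .hi, .xii, .p10, .y7, .taui, .y1, .xii, .p10, .xii, .y1, .y7,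
   .p10, .xii, .taui, .xii, .y6, .p, .xii, .p, .xii, .y2, .y6, .y10, .taui, .p2, .xii, .hi, .xii, .y6, .taui, .xii,
   .p10, .hi, .p6, .xii, .y3, .y9, .hi, .taui, .xii],
  [.Z10, .Z6, .Z4, .Z3, .Z2, .Z1, .Z0, .X10, .X9, .X8, .X3, .y7, .y5, .y4, .y3, .p2, .hi, .p10, .hi, .p6, .hi, .p10,
   .hi, .p2, .hi, .p3, .xii, .y2, .p, .hi, .xii, .y5, .p3, .taui, .xii, .y1, .p, .xii, .y4, .p, .xii, .y5, .tau, .y1,
   .p7, .xii, .p5, .xii, .y8, .y10, .p6, .tau, .xii, .p3, .xii, .p10, .xii, .y6, .y10],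
  [.Z8, .Z6, .Z2, .X10, .X8, .X7, .X6, .X3, .y8, .y7, .y5, .y4, .y3, .y1, .p9, .hi, .p9, .hi, .p8, .hi, .p8, .hi, .p3,
   .hi, .p2, .xii, .p, .xii, .y10, .p9, .tau, .xii, .p, .xii, .y3, .y10, .hi, .xii, .y1, .tau, .X0, .xii, .y6, .p9,
   .xii, .y3, .p3, .xii, .y7, .y8, .taui, .xii, .p3, .xii, .p4, .y2, .xii, .tau, .xii]⟩

theorem h555 : Hd F (g wAd) b555 := hdD (by decide +kernel)
theorem r555_0 : R9 F (g wAd) b555 [] 0 0 := .of (startD 0 2) (by decide +kernel)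
theorem r555_1 : R9 F (g wAd) b555 [] 0 1 := .of (startD 0 1) (by decide +kernel)
theorem r555_2 : R9 F (g wAd) b555 [] 0 2 := .of (startD 0 1) (by decide +kernel)
theorem r555_3 : R9 F (g wAd) b555 [] 1 0 := .of (startD 0 1) (by decide +kernel)
theorem r555_4 : R9 F (g wAd) b555 [] 1 1 := .of (startD 0 1) (by decide +kernel)
theorem r555_5 : R9 F (g wAd) b555 [] 1 2 := .of (startD 0 1) (by decide +kernel)
theorem r555_6 : R9 F (g wAd) b555 [] 2 0 := .of (startD 0 1) (by decide +kernel)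
theorem r555_7 : R9 F (g wAd) b555 [] 2 1 := .of (startD 0 1) (by decide +kernel)
theorem r555_8 : R9 F (g wAd) b555 [] 2 2 := .of (startD 0 1) (by decide +kernel)
theorem g555 : Gd F (g wAd) (0, d555) [] :=
  good9 ok h555 r555_0 r555_1 r555_2 r555_3 r555_4 r555_5 r555_6 r555_7 r555_8

def b556 : Wd := ⟨0, d556,
  [.z, .Z10, .Z9, .Z7, .Z5, .Z4, .X10, .X9, .X4, .X3, .X2, .y10, .y9, .y7, .y6, .y5, .y4, .hi, .p10, .hi, .p10, .hi,
   .p6, .hi, .p3, .hi, .p5, .hi, .p9, .xii, .p, .xii, .y6, .y10, .tau, .y1, .xii, .y2, .hi, .xii, .y10, .p10, .xii,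
   .y9, .tau, .p7, .xii, .y2, .p4, .xii, .y1, .p4, .hi, .tau, .xii, .p9, .xii, .p4, .y9, .taui, .xii, .y2, .hi, .p10],
  [.z, .Z9, .Z6, .Z1, .Z0, .X10, .X8, .X7, .X6, .X0, .y10, .y9, .y8, .y6, .y3, .y2, .y1, .p10, .hi, .p2, .hi, .p10,
   .hi, .p8, .hi, .p8, .xii, .p10, .xii, .y4, .p10, .taui, .y1, .xii, .y1, .hi, .xii, .y6, .p10, .xii, .y4, .y10,
   .taui, .y1, .xii, .p8, .xii, .p10, .y7, .xii, .y8, .tau, .xii, .p8, .xii, .p6, .y4, .hi, .p8, .tau, .xii, .p8],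
  [.Z6, .Z4, .Z2, .Z0, .X8, .X4, .X0, .y9, .y7, .y6, .y4, .y1, .p10, .hi, .p4, .hi, .p9, .hi, .p9, .hi, .p5, .xii, .p,
   .xii, .y1, .y2, .taui, .y1, .xii, .y1, .hi, .xii, .p10, .xii, .y9, .y10, .tau, .p4, .xii, .y4, .p9, .xii, .y2, .p4,
   .hi, .p2, .tau, .xii, .p7, .xii, .p3, .y3, .y9, .xii, .y7, .taui, .xii, .p7]⟩

theorem h556 : Hd F (g wAd) b556 := hdD (by decide +kernel)
theorem r556_0 : R9 F (g wAd) b556 [] 0 0 := .of (startD 0 1) (by decide +kernel)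
theorem r556_1 : R9 F (g wAd) b556 [] 0 1 := .of (startD 0 1) (by decide +kernel)
theorem r556_2 : R9 F (g wAd) b556 [] 0 2 := .of (startD 0 1) (by decide +kernel)
theorem r556_3 : R9 F (g wAd) b556 [] 1 0 := .of (startD 0 1) (by decide +kernel)
theorem r556_4 : R9 F (g wAd) b556 [] 1 1 := .of (startD 0 1) (by decide +kernel)
theorem r556_5 : R9 F (g wAd) b556 [] 1 2 := .of (startD 0 1) (by decide +kernel)
theorem r556_6 : R9 F (g wAd) b556 [] 2 0 := .of (startD 0 1) (by decide +kernel)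
theorem r556_7 : R9 F (g wAd) b556 [] 2 1 := .of (startD 0 1) (by decide +kernel)
theorem r556_8 : R9 F (g wAd) b556 [] 2 2 := .of (startD 0 1) (by decide +kernel)
theorem g556 : Gd F (g wAd) (0, d556) [] :=
  good9 ok h556 r556_0 r556_1 r556_2 r556_3 r556_4 r556_5 r556_6 r556_7 r556_8

def b557 : Wd := ⟨0, d557,
  [.z, .Z10, .Z7, .Z5, .Z4, .X10, .X8, .X7, .X3, .y6, .y4, .y3, .p2, .hi, .p10, .hi, .p6, .hi, .p3, .hi, .p, .hi, .p4,
   .xii, .p3, .hi, .xii, .y3, .y5, .taui, .xii, .y1, .p, .xii, .p, .xii, .y3, .y4, .y9, .taui, .X0, .xii, .hi, .xii,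
   .p9, .y7, .xii, .y2, .taui, .xii, .p9, .xii, .y5, .y9, .p3, .xii, .y5, .tau, .xii, .y7, .hi, .p3],
  [.Z8, .Z4, .Z3, .Z2, .X10, .X9, .X6, .X5, .X4, .X3, .X1, .hi, .p7, .hi, .p7, .hi, .p8, .hi, .p10, .xii, .y2, .hi,
   .xii, .p9, .xii, .y2, .y7, .taui, .xii, .y6, .p, .hi, .xii, .y7, .tau, .X0, .p5, .xii, .y6, .p10, .xii, .y6, .p9,
   .tau, .xii, .p7, .xii, .y2, .p9, .xii, .y1, .y6, .taui, .xii, .y2, .p8],
  [.z, .Z10, .Z3, .Z0, .X9, .X8, .X6, .X5, .X3, .X2, .X0, .y10, .y7, .y5, .y3, .y2, .y1, .p3, .hi, .p6, .hi, .p3, .hi,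
   .p3, .hi, .p6, .xii, .y2, .p10, .xii, .y9, .p5, .xii, .y9, .tau, .xii, .p, .xii, .y3, .hi, .xii, .y4, .y6, .tau,
   .X0, .y1, .xii, .y2, .p5, .xii, .y7, .p8, .xii, .y2, .y7, .taui, .xii, .p2, .xii, .y7, .p2, .hi, .p6, .tau, .xii,
   .y2, .p3, .hi, .p10]⟩

theorem h557 : Hd F (g wAd) b557 := hdD (by decide +kernel)
theorem r557_0 : R9 F (g wAd) b557 [] 0 0 := .of (startD 0 1) (by decide +kernel)
theorem r557_1 : R9 F (g wAd) b557 [] 0 1 := .of (startD 0 1) (by decide +kernel)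
theorem r557_2 : R9 F (g wAd) b557 [] 0 2 := .of (startD 0 1) (by decide +kernel)
theorem r557_3 : R9 F (g wAd) b557 [] 1 0 := .of (startD 0 1) (by decide +kernel)
theorem r557_4 : R9 F (g wAd) b557 [] 1 1 := .of (startD 0 1) (by decide +kernel)
theorem r557_5 : R9 F (g wAd) b557 [] 1 2 := .of (startD 0 1) (by decide +kernel)
theorem r557_6 : R9 F (g wAd) b557 [] 2 0 := .of (startD 0 1) (by decide +kernel)
theorem r557_7 : R9 F (g wAd) b557 [] 2 1 := .of (startD 0 1) (by decide +kernel)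
theorem r557_8 : R9 F (g wAd) b557 [] 2 2 := .of (startD 0 1) (by decide +kernel)
theorem g557 : Gd F (g wAd) (0, d557) [] :=
  good9 ok h557 r557_0 r557_1 r557_2 r557_3 r557_4 r557_5 r557_6 r557_7 r557_8

def b558 : Wd := ⟨0, d558,
  [.Z9, .Z6, .Z4, .Z1, .X10, .X8, .X7, .X6, .X1, .y10, .y9, .y6, .y5, .y1, .p5, .hi, .p8, .hi, .p5, .hi, .p6, .hi,
   .p9, .hi, .p5, .hi, .xii, .p2, .hi, .xii, .y9, .p3, .taui, .y1, .xii, .p10, .xii, .y1, .p10, .xii, .y8, .taui, .p5,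
   .xii, .y6, .p7, .xii, .p10, .hi, .y5, .tau, .xii, .y2, .p5, .xii, .y3, .p2, .xii, .y2, .taui, .xii, .p4, .hi, .p7],
  [.z, .Z9, .Z7, .Z3, .Z2, .Z1, .Z0, .X8, .X7, .X6, .X0, .y10, .y5, .p9, .hi, .p, .hi, .p4, .hi, .p3, .hi, .p, .hi,
   .xii, .p, .xii, .y1, .tau, .xii, .p, .xii, .y4, .hi, .xii, .y4, .y6, .taui, .p7, .xii, .p8, .y5, .xii, .y5, .p8,
   .hi, .taui, .xii, .p9, .xii, .y4, .p3, .xii, .y2, .y3, .tau, .xii, .y4, .p2],
  [.Z10, .Z9, .Z8, .Z7, .Z5, .Z4, .Z3, .Z2, .Z1, .Z0, .X10, .X8, .X7, .X4, .X2, .X0, .y10, .y9, .y7, .y6, .y5, .y2,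
   .hi, .p9, .hi, .p7, .hi, .p10, .hi, .p10, .hi, .p5, .hi, .xii, .p, .xii, .p8, .y4, .xii, .y1, .tau, .xii, .y2, .p,
   .xii, .y2, .hi, .xii, .y5, .tau, .p9, .xii, .y2, .p2, .hi, .xii, .y5, .p2, .taui, .xii, .y2, .p8, .xii, .y4, .p2,
   .tau, .xii, .y2, .hi, .p6]⟩

theorem h558 : Hd F (g wAd) b558 := hdD (by decide +kernel)
theorem r558_0 : R9 F (g wAd) b558 [] 0 0 := .of (startD 0 1) (by decide +kernel)
theorem r558_1 : R9 F (g wAd) b558 [] 0 1 := .of (startD 0 1) (by decide +kernel)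
theorem r558_2 : R9 F (g wAd) b558 [] 0 2 := .of (startD 0 1) (by decide +kernel)
theorem r558_3 : R9 F (g wAd) b558 [] 1 0 := .of (startD 0 1) (by decide +kernel)
theorem r558_4 : R9 F (g wAd) b558 [] 1 1 := .of (startD 0 1) (by decide +kernel)
theorem r558_5 : R9 F (g wAd) b558 [] 1 2 := .of (startD 0 1) (by decide +kernel)
theorem r558_6 : R9 F (g wAd) b558 [] 2 0 := .of (startD 0 1) (by decide +kernel)
theorem r558_7 : R9 F (g wAd) b558 [] 2 1 := .of (startD 0 1) (by decide +kernel)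
theorem r558_8 : R9 F (g wAd) b558 [] 2 2 := .of (startD 0 1) (by decide +kernel)
theorem g558 : Gd F (g wAd) (0, d558) [] :=
  good9 ok h558 r558_0 r558_1 r558_2 r558_3 r558_4 r558_5 r558_6 r558_7 r558_8

def b559 : Wd := ⟨0, d559,
  [.z, .Z10, .Z9, .Z5, .Z2, .X9, .X7, .X6, .X5, .X4, .X3, .X2, .y10, .y7, .y6, .y5, .y3, .y2, .y1, .p4, .hi, .p10,
   .hi, .p5, .hi, .p8, .hi, .p6, .hi, .p3, .xii, .y2, .hi, .xii, .p10, .xii, .y2, .tau, .xii, .y1, .p, .xii, .y4, .p,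
   .xii, .y1, .tau, .xii, .y6, .p, .xii, .y2, .p, .xii, .y1, .y2, .taui, .p5, .xii, .hi, .xii, .y6, .tau, .xii, .p4,
   .xii, .y3, .y5, .p2, .tau, .xii, .y2, .p],
  [.z, .Z10, .Z9, .Z8, .Z7, .Z6, .Z2, .Z1, .X10, .X8, .X7, .X6, .X0, .y10, .y9, .y8, .y7, .y6, .y5, .p8, .hi, .p6,
   .hi, .p7, .hi, .p3, .hi, .p2, .xii, .p, .xii, .y3, .p3, .hi, .tau, .xii, .y2, .p, .xii, .y3, .hi, .xii, .y7, .taui,
   .p6, .xii, .p7, .xii, .y6, .p9, .xii, .y8, .taui, .xii, .p5, .hi, .xii, .p5, .y3],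
  [.z, .Z9, .Z8, .Z7, .Z2, .Z1, .Z0, .X9, .X8, .X7, .X6, .X5, .X3, .X2, .X1, .y8, .y6, .p10, .hi, .p9, .hi, .p10, .hi,
   .p6, .hi, .p10, .hi, .p9, .xii, .p, .xii, .p7, .xii, .y8, .y9, .tau, .xii, .y2, .p, .xii, .y2, .y10, .hi, .xii,
   .y5, .taui, .X0, .xii, .p4, .xii, .p9, .y5, .xii, .y5, .p, .taui, .xii, .p3, .xii, .y1, .p6, .xii, .taui, .xii,
   .y6, .p10]⟩

theorem h559 : Hd F (g wAd) b559 := hdD (by decide +kernel)
theorem r559_0 : R9 F (g wAd) b559 [] 0 0 := .of (startD 0 1) (by decide +kernel)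
theorem r559_1 : R9 F (g wAd) b559 [] 0 1 := .of (startD 0 1) (by decide +kernel)
theorem r559_2 : R9 F (g wAd) b559 [] 0 2 := .of (startD 0 1) (by decide +kernel)
theorem r559_3 : R9 F (g wAd) b559 [] 1 0 := .of (startD 0 1) (by decide +kernel)
theorem r559_4 : R9 F (g wAd) b559 [] 1 1 := .of (startD 0 1) (by decide +kernel)
theorem r559_5 : R9 F (g wAd) b559 [] 1 2 := .of (startD 0 1) (by decide +kernel)
theorem r559_6 : R9 F (g wAd) b559 [] 2 0 := .of (startD 0 1) (by decide +kernel)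
theorem r559_7 : R9 F (g wAd) b559 [] 2 1 := .of (startD 0 1) (by decide +kernel)
theorem r559_8 : R9 F (g wAd) b559 [] 2 2 := .of (startD 0 1) (by decide +kernel)
theorem g559 : Gd F (g wAd) (0, d559) [] :=
  good9 ok h559 r559_0 r559_1 r559_2 r559_3 r559_4 r559_5 r559_6 r559_7 r559_8

theorem all : AllG F (g wAd) LD55 :=
  .cons g550 (.cons g551 (.cons g552 (.cons g553 (.cons g554 (.cons g555 (.cons g556 (.cons g557 (.cons g558 (.cons g559 (.nil))))))))))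

end Cfsg.Agent.BX.No33.Bk.D55
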