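import Cfsg.Agent.BX.No33.Cheap
set_option linter.all false

/-!
# Tests, diagonal case, part 56 (helper5; generated)
-/

set_option autoImplicit false
set_option maxRecDepth 100000
set_option Elab.async false

namespace Cfsg.Agent.BX.No33.Bk.D56

open Cfsg.Agent.H819.U33 Cfsg.Agent.BX.No33.Front

def b560 : Wd := ⟨0, d560,
  [.z, .Z9, .Z8, .Z3, .Z1, .X9, .X7, .X3, .y10, .y9, .y8, .y6, .y1, .p5, .hi, .p7, .hi, .p8, .hi, .p5, .hi, .p7, .hi,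
   .xii, .p3, .hi, .taui, .xii, .y2, .p, .xii, .y3, .hi, .xii, .y7, .taui, .X0, .xii, .p5, .xii, .y8, .p, .xii, .y1,
   .y4, .p, .taui, .xii, .p4, .xii, .y3, .y5, .p5, .xii, .y2, .tau, .xii, .y7, .p7],
  [.Z9, .Z8, .Z7, .Z6, .Z3, .Z2, .Z0, .X10, .X9, .X7, .X3, .X1, .X0, .y10, .y8, .y7, .y6, .y2, .p4, .hi, .p8, .hi, .p,
   .hi, .p6, .hi, .p9, .hi, .p5, .xii, .p10, .xii, .y5, .p9, .xii, .y6, .taui, .xii, .y6, .p, .xii, .y2, .p, .xii,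
   .y6, .tau, .p4, .xii, .p9, .xii, .p2, .taui, .xii, .p5, .xii, .hi, .y7, .p8, .tau, .xii, .p],
  [.z, .Z10, .Z4, .Z0, .X9, .X8, .X6, .X5, .X3, .X1, .y10, .y9, .y5, .y1, .hi, .p5, .hi, .p3, .hi, .p9, .hi, .p9, .hi,
   .p7, .hi, .p5, .xii, .hi, .p8, .xii, .tau, .xii, .y1, .p, .xii, .y4, .p, .xii, .y1, .y2, .tau, .X0, .p2, .xii, .p4,
   .xii, .p10, .hi, .p7, .y7, .taui, .xii, .p5, .xii, .y5, .y8, .p2, .xii, .y3, .taui, .xii, .y2, .p4]⟩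

theorem h560 : Hd F (g wAd) b560 := hdD (by decide +kernel)
theorem r560_0 : R9 F (g wAd) b560 [] 0 0 := .of (startD 0 1) (by decide +kernel)
theorem r560_1 : R9 F (g wAd) b560 [] 0 1 := .of (startD 0 1) (by decide +kernel)
theorem r560_2 : R9 F (g wAd) b560 [] 0 2 := .of (startD 0 1) (by decide +kernel)
theorem r560_3 : R9 F (g wAd) b560 [] 1 0 := .of (startD 0 1) (by decide +kernel)
theorem r560_4 : R9 F (g wAd) b560 [] 1 1 := .of (startD 0 1) (by decide +kernel)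
theorem r560_5 : R9 F (g wAd) b560 [] 1 2 := .of (startD 0 1) (by decide +kernel)
theorem r560_6 : R9 F (g wAd) b560 [] 2 0 := .of (startD 0 1) (by decide +kernel)
theorem r560_7 : R9 F (g wAd) b560 [] 2 1 := .of (startD 0 1) (by decide +kernel)
theorem r560_8 : R9 F (g wAd) b560 [] 2 2 := .of (startD 0 1) (by decide +kernel)
theorem g560 : Gd F (g wAd) (0, d560) [] :=
  good9 ok h560 r560_0 r560_1 r560_2 r560_3 r560_4 r560_5 r560_6 r560_7 r560_8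

def b561 : Wd := ⟨0, d561,
  [.z, .Z10, .Z6, .Z5, .Z4, .Z3, .Z2, .X9, .X8, .X7, .X5, .X4, .X3, .X2, .X1, .y10, .y8, .y4, .y1, .p10, .hi, .p3,
   .hi, .p7, .hi, .p5, .hi, .p9, .hi, .p8, .hi, .p9, .xii, .p, .xii, .hi, .p4, .taui, .xii, .y1, .p, .xii, .p, .xii,
   .y2, .y3, .tau, .xii, .p8, .xii, .p4, .xii, .y3, .y9, .p4, .tau, .xii, .p5, .xii, .p2, .y4, .xii, .y5, .tau, .xii,
   .p3],
  [.Z9, .Z8, .Z6, .Z4, .Z2, .Z1, .X8, .X7, .X6, .X5, .X4, .X3, .X2, .X1, .y4, .p8, .hi, .p5, .hi, .p4, .hi, .p6, .hi,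
   .p3, .hi, .p4, .xii, .p5, .hi, .p5, .taui, .xii, .p, .xii, .y3, .y10, .hi, .xii, .y1, .taui, .X0, .p10, .xii, .y7,
   .p8, .xii, .y10, .p3, .hi, .p10, .tau, .xii, .hi, .p6, .xii, .y1, .y4, .p6, .taui, .xii, .p],
  [.z, .Z10, .Z8, .Z7, .Z5, .Z4, .Z2, .Z0, .X6, .X5, .X4, .X1, .y7, .y6, .y5, .y4, .y2, .y1, .p3, .hi, .p7, .hi, .p7,
   .hi, .p3, .hi, .p9, .hi, .p6, .xii, .p10, .xii, .y5, .p9, .xii, .y2, .y7, .taui, .y1, .xii, .y1, .p10, .xii, .tau,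
   .p9, .xii, .p2, .y4, .xii, .p6, .taui, .xii, .p3, .xii, .p6, .taui, .xii, .p3]⟩

theorem h561 : Hd F (g wAd) b561 := hdD (by decide +kernel)
theorem r561_0 : R9 F (g wAd) b561 [] 0 0 := .of (startD 0 2) (by decide +kernel)
theorem r561_1 : R9 F (g wAd) b561 [] 0 1 := .of (startD 0 1) (by decide +kernel)
theorem r561_2 : R9 F (g wAd) b561 [] 0 2 := .of (startD 0 1) (by decide +kernel)
theorem r561_3 : R9 F (g wAd) b561 [] 1 0 := .of (startD 0 1) (by decide +kernel)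
theorem r561_4 : R9 F (g wAd) b561 [] 1 1 := .of (startD 0 1) (by decide +kernel)
theorem r561_5 : R9 F (g wAd) b561 [] 1 2 := .of (startD 0 1) (by decide +kernel)
theorem r561_6 : R9 F (g wAd) b561 [] 2 0 := .of (startD 0 1) (by decide +kernel)
theorem r561_7 : R9 F (g wAd) b561 [] 2 1 := .of (startD 0 1) (by decide +kernel)
theorem r561_8 : R9 F (g wAd) b561 [] 2 2 := .of (startD 0 1) (by decide +kernel)
theorem g561 : Gd F (g wAd) (0, d561) [] :=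
  good9 ok h561 r561_0 r561_1 r561_2 r561_3 r561_4 r561_5 r561_6 r561_7 r561_8

def b562 : Wd := ⟨0, d562,
  [.z, .Z9, .Z7, .Z2, .Z0, .X10, .X8, .X6, .X5, .X4, .X2, .X1, .y7, .y6, .y5, .y2, .p10, .hi, .p, .hi, .p4, .hi, .p,
   .hi, .p4, .hi, .p9, .hi, .xii, .y2, .p, .xii, .p9, .xii, .y10, .taui, .X0, .p5, .xii, .y2, .p, .hi, .xii, .y7,
   .tau, .xii, .p2, .xii, .hi, .p2, .y6, .tau, .xii, .y2, .p7],
  [.z, .Z9, .Z7, .Z5, .Z2, .X10, .X8, .X6, .X5, .X4, .X2, .X1, .y10, .y4, .y2, .y1, .p5, .hi, .p9, .hi, .p8, .hi,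
   .p10, .hi, .p2, .hi, .p6, .xii, .p, .xii, .y1, .y2, .tau, .xii, .y6, .p, .xii, .p, .xii, .y4, .y7, .y8, .taui, .X0,
   .xii, .p7, .xii, .y9, .p5, .xii, .y5, .y7, .y8, .y10, .taui, .xii, .y2, .p8, .xii, .y1, .p4, .hi, .tau, .xii, .hi,
   .p7],
  [.Z10, .Z8, .Z4, .Z3, .Z1, .X7, .X4, .X2, .X1, .y10, .y6, .y4, .y3, .p3, .hi, .p5, .hi, .p, .hi, .p7, .hi, .p10,
   .hi, .p3, .xii, .y2, .taui, .xii, .y1, .p, .xii, .y4, .p, .xii, .y5, .tau, .xii, .p8, .xii, .y2, .p4, .y1, .xii,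
   .y2, .y9, .tau, .xii, .p3, .xii, .p6, .y10, .xii, .taui, .xii, .y6, .p3, .xii]⟩

theorem h562 : Hd F (g wAd) b562 := hdD (by decide +kernel)
theorem r562_0 : R9 F (g wAd) b562 [] 0 0 := .of (startD 0 1) (by decide +kernel)
theorem r562_1 : R9 F (g wAd) b562 [] 0 1 := .of (startD 0 1) (by decide +kernel)
theorem r562_2 : R9 F (g wAd) b562 [] 0 2 := .of (startD 0 1) (by decide +kernel)
theorem r562_3 : R9 F (g wAd) b562 [] 1 0 := .of (startD 0 1) (by decide +kernel)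
theorem r562_4 : R9 F (g wAd) b562 [] 1 1 := .of (startD 0 1) (by decide +kernel)
theorem r562_5 : R9 F (g wAd) b562 [] 1 2 := .of (startD 0 1) (by decide +kernel)
theorem r562_6 : R9 F (g wAd) b562 [] 2 0 := .of (startD 0 1) (by decide +kernel)
theorem r562_7 : R9 F (g wAd) b562 [] 2 1 := .of (startD 0 1) (by decide +kernel)
theorem r562_8 : R9 F (g wAd) b562 [] 2 2 := .of (startD 0 1) (by decide +kernel)
theorem g562 : Gd F (g wAd) (0, d562) [] :=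
  good9 ok h562 r562_0 r562_1 r562_2 r562_3 r562_4 r562_5 r562_6 r562_7 r562_8

def b563 : Wd := ⟨0, d563,
  [.z, .Z9, .Z8, .Z7, .Z6, .Z4, .Z3, .Z2, .Z1, .X7, .X6, .X4, .X2, .y10, .y8, .y7, .y6, .y5, .p5, .hi, .p4, .hi, .p6,
   .hi, .p6, .hi, .p3, .hi, .p9, .xii, .p3, .hi, .xii, .y8, .p6, .tau, .xii, .y1, .p, .xii, .y1, .y6, .p, .xii, .y6,
   .tau, .y1, .xii, .p10, .xii, .y8, .p10, .xii, .y8, .y10, .tau, .X0, .p10, .xii, .y5, .p10, .xii, .taui, .xii, .p5,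
   .xii, .p8, .y4, .xii, .y7, .y10, .taui, .xii, .hi, .p3],
  [.z, .Z10, .Z8, .Z6, .Z3, .Z1, .Z0, .X10, .X8, .X7, .X5, .X4, .X3, .y9, .y8, .y7, .y3, .y1, .p10, .hi, .p4, .hi,
   .p9, .hi, .p, .hi, .p8, .hi, .p4, .xii, .y2, .p10, .taui, .xii, .p, .xii, .y1, .hi, .xii, .y1, .y4, .tau, .p4,
   .xii, .p5, .xii, .y4, .hi, .p10, .y7, .tau, .xii, .p2, .xii, .p10, .y10, .xii, .y10, .tau],
  [.Z10, .Z7, .Z6, .Z3, .Z1, .X9, .X8, .X7, .X5, .X2, .X1, .X0, .y10, .y5, .y4, .y3, .p10, .hi, .p5, .hi, .p, .hi,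
   .p5, .hi, .p8, .hi, .p4, .xii, .hi, .xii, .p8, .y10, .xii, .y4, .tau, .xii, .p, .xii, .y4, .hi, .xii, .y2, .y7,
   .tau, .X0, .p8, .xii, .p4, .xii, .y2, .y3, .p10, .hi, .p7, .tau, .xii, .y2, .p4, .xii, .p4, .xii, .y6, .tau, .xii,
   .p10, .xii, .y8]⟩

theorem h563 : Hd F (g wAd) b563 := hdD (by decide +kernel)
theorem r563_0 : R9 F (g wAd) b563 [] 0 0 := .of (startD 0 1) (by decide +kernel)
theorem r563_1 : R9 F (g wAd) b563 [] 0 1 := .of (startD 0 1) (by decide +kernel)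
theorem r563_2 : R9 F (g wAd) b563 [] 0 2 := .of (startD 0 1) (by decide +kernel)
theorem r563_3 : R9 F (g wAd) b563 [] 1 0 := .of (startD 0 1) (by decide +kernel)
theorem r563_4 : R9 F (g wAd) b563 [] 1 1 := .of (startD 0 1) (by decide +kernel)
theorem r563_5 : R9 F (g wAd) b563 [] 1 2 := .of (startD 0 1) (by decide +kernel)
theorem r563_6 : R9 F (g wAd) b563 [] 2 0 := .of (startD 0 1) (by decide +kernel)
theorem r563_7 : R9 F (g wAd) b563 [] 2 1 := .of (startD 0 1) (by decide +kernel)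
theorem r563_8 : R9 F (g wAd) b563 [] 2 2 := .of (startD 0 1) (by decide +kernel)
theorem g563 : Gd F (g wAd) (0, d563) [] :=
  good9 ok h563 r563_0 r563_1 r563_2 r563_3 r563_4 r563_5 r563_6 r563_7 r563_8

def b564 : Wd := ⟨0, d564,
  [.z, .Z9, .Z7, .Z6, .Z3, .Z2, .Z1, .Z0, .X9, .X8, .X4, .X3, .X1, .y10, .y9, .y8, .y7, .y1, .p8, .hi, .p7, .hi, .p5,
   .hi, .p5, .hi, .p9, .xii, .hi, .xii, .p8, .xii, .y4, .y9, .tau, .xii, .p, .xii, .hi, .y8, .xii, .y4, .y5, .taui,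
   .xii, .y2, .p5, .xii, .p, .y7, .xii, .y8, .y10, .taui, .xii, .p6, .xii, .y4, .p4, .xii, .y3, .y10, .taui, .xii,
   .p5, .xii, .y7],
  [.Z9, .Z8, .Z7, .Z6, .Z5, .Z4, .Z3, .Z2, .Z1, .Z0, .X10, .X9, .X3, .y10, .y9, .y7, .y6, .y3, .y2, .hi, .p5, .hi,
   .p10, .hi, .p, .hi, .p4, .hi, .xii, .p, .xii, .y6, .y10, .tau, .xii, .p, .xii, .y4, .hi, .xii, .y7, .y8, .tau,
   .xii, .p2, .xii, .y9, .p7, .xii, .p10, .y6, .tau, .xii, .p7, .xii, .p, .y7, .y10, .hi, .p4],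
  [.Z7, .Z6, .Z4, .Z3, .Z1, .X10, .X6, .X4, .X3, .X2, .y10, .y8, .y3, .y2, .y1, .hi, .p6, .hi, .p3, .hi, .p7, .hi,
   .p6, .hi, .p4, .xii, .p10, .xii, .y4, .p8, .tau, .xii, .p, .xii, .hi, .y8, .xii, .y3, .y10, .taui, .p4, .xii, .y2,
   .p5, .hi, .xii, .y9, .p2, .tau, .xii, .p9, .xii, .y8, .y9, .p5, .xii, .y4, .tau, .xii, .hi, .xii, .y6]⟩

theorem h564 : Hd F (g wAd) b564 := hdD (by decide +kernel)
theorem r564_0 : R9 F (g wAd) b564 [] 0 0 := .of (startD 0 1) (by decide +kernel)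
theorem r564_1 : R9 F (g wAd) b564 [] 0 1 := .of (startD 0 1) (by decide +kernel)
theorem r564_2 : R9 F (g wAd) b564 [] 0 2 := .of (startD 0 1) (by decide +kernel)
theorem r564_3 : R9 F (g wAd) b564 [] 1 0 := .of (startD 0 1) (by decide +kernel)
theorem r564_4 : R9 F (g wAd) b564 [] 1 1 := .of (startD 0 1) (by decide +kernel)
theorem r564_5 : R9 F (g wAd) b564 [] 1 2 := .of (startD 0 1) (by decide +kernel)
theorem r564_6 : R9 F (g wAd) b564 [] 2 0 := .of (startD 0 1) (by decide +kernel)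
theorem r564_7 : R9 F (g wAd) b564 [] 2 1 := .of (startD 0 1) (by decide +kernel)
theorem r564_8 : R9 F (g wAd) b564 [] 2 2 := .of (startD 0 1) (by decide +kernel)
theorem g564 : Gd F (g wAd) (0, d564) [] :=
  good9 ok h564 r564_0 r564_1 r564_2 r564_3 r564_4 r564_5 r564_6 r564_7 r564_8

def b565 : Wd := ⟨0, d565,
  [.Z10, .Z6, .Z4, .Z2, .Z1, .X10, .X9, .X8, .X7, .X4, .X2, .y9, .y7, .y5, .y2, .y1, .p10, .hi, .p6, .hi, .p3, .hi,
   .p7, .xii, .p10, .xii, .y5, .p5, .hi, .p5, .tau, .xii, .y6, .p, .xii, .p, .xii, .y4, .y7, .y8, .taui, .X0, .xii,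
   .p2, .xii, .y1, .y7, .p4, .xii, .y9, .p7, .tau, .xii, .p5, .xii, .y3, .y4, .p8, .xii, .y1, .y5, .taui, .xii, .y4],
  [.Z10, .Z8, .Z6, .Z2, .Z0, .X9, .y7, .y6, .y5, .y4, .y1, .hi, .p3, .hi, .p4, .hi, .p5, .hi, .p3, .hi, .p4, .hi, .p9,
   .taui, .X0, .p4, .xii, .p10, .xii, .y8, .p8, .tau, .y1, .p10, .xii, .p9, .xii, .y3, .p3, .taui, .xii, .p9, .xii,
   .y6, .p6, .y7, .xii, .y2, .taui, .xii, .p7],
  [.Z9, .Z7, .Z3, .Z0, .X10, .X9, .X5, .X4, .X3, .X1, .X0, .y9, .y8, .y6, .y4, .p7, .hi, .p4, .hi, .p5, .hi, .p3, .hi,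
   .p, .hi, .p9, .hi, .xii, .p10, .xii, .y6, .p2, .xii, .y5, .y8, .taui, .y1, .xii, .p10, .xii, .y5, .p10, .xii, .y2,
   .y8, .taui, .xii, .hi, .xii, .p5, .y4, .xii, .y7, .p3, .taui, .xii, .p3, .xii, .p, .y4, .hi, .tau, .xii, .y2, .p3]⟩

theorem h565 : Hd F (g wAd) b565 := hdD (by decide +kernel)
theorem r565_0 : R9 F (g wAd) b565 [] 0 0 := .of (startD 0 1) (by decide +kernel)
theorem r565_1 : R9 F (g wAd) b565 [] 0 1 := .of (startD 0 1) (by decide +kernel)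
theorem r565_2 : R9 F (g wAd) b565 [] 0 2 := .of (startD 0 1) (by decide +kernel)
theorem r565_3 : R9 F (g wAd) b565 [] 1 0 := .of (startD 0 1) (by decide +kernel)
theorem r565_4 : R9 F (g wAd) b565 [] 1 1 := .of (startD 0 1) (by decide +kernel)
theorem r565_5 : R9 F (g wAd) b565 [] 1 2 := .of (startD 0 1) (by decide +kernel)
theorem r565_6 : R9 F (g wAd) b565 [] 2 0 := .of (startD 0 1) (by decide +kernel)
theorem r565_7 : R9 F (g wAd) b565 [] 2 1 := .of (startD 0 1) (by decide +kernel)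
theorem r565_8 : R9 F (g wAd) b565 [] 2 2 := .of (startD 0 1) (by decide +kernel)
theorem g565 : Gd F (g wAd) (0, d565) [] :=
  good9 ok h565 r565_0 r565_1 r565_2 r565_3 r565_4 r565_5 r565_6 r565_7 r565_8

def b566 : Wd := ⟨0, d566,
  [.Z10, .Z6, .Z5, .Z3, .Z2, .Z1, .Z0, .X10, .X9, .X5, .X4, .X3, .y7, .y5, .y4, .y2, .y1, .p5, .hi, .p8, .hi, .p3,
   .hi, .p4, .hi, .p2, .xii, .y2, .p2, .hi, .xii, .y6, .p3, .taui, .xii, .y1, .p, .xii, .y4, .p, .xii, .y1, .y4,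
   .taui, .y1, .xii, .y1, .hi, .xii, .p10, .xii, .y10, .tau, .X0, .p9, .xii, .p3, .xii, .y3, .tau, .xii, .p6, .xii,
   .p, .hi, .p, .taui, .xii, .p7],
  [.z, .Z8, .Z7, .Z3, .Z2, .Z1, .X8, .X6, .X5, .X4, .X3, .X0, .y10, .y8, .y3, .y2, .y1, .hi, .p7, .hi, .p8, .hi, .p3,
   .hi, .p4, .hi, .xii, .hi, .p8, .hi, .p8, .taui, .y1, .xii, .p10, .xii, .y5, .p10, .xii, .y2, .y8, .tau, .X0, .p2,
   .xii, .y6, .p7, .xii, .y4, .p5, .taui, .xii, .p9, .xii, .y3, .p5, .xii, .y2, .y8, .taui],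
  [.z, .Z10, .Z8, .Z7, .Z5, .Z4, .Z2, .Z0, .X10, .X7, .X6, .X5, .X4, .X2, .X1, .y10, .y8, .y7, .y6, .y2, .y1, .p10,
   .hi, .p4, .hi, .p8, .hi, .p3, .hi, .p9, .xii, .p3, .hi, .xii, .y1, .p10, .taui, .y1, .xii, .y1, .hi, .xii, .y6,
   .p10, .xii, .y8, .y10, .tau, .xii, .p, .xii, .y1, .hi, .xii, .y5, .y8, .taui, .X0, .p6, .xii, .p9, .xii, .y2, .tau,
   .xii, .p5, .xii, .y9, .p9, .xii, .y1, .tau, .xii, .y7, .p4, .hi]⟩

theorem h566 : Hd F (g wAd) b566 := hdD (by decide +kernel)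
theorem r566_0 : R9 F (g wAd) b566 [] 0 0 := .of (startD 0 1) (by decide +kernel)
theorem r566_1 : R9 F (g wAd) b566 [] 0 1 := .of (startD 0 1) (by decide +kernel)
theorem r566_2 : R9 F (g wAd) b566 [] 0 2 := .of (startD 0 1) (by decide +kernel)
theorem r566_3 : R9 F (g wAd) b566 [] 1 0 := .of (startD 0 1) (by decide +kernel)
theorem r566_4 : R9 F (g wAd) b566 [] 1 1 := .of (startD 0 2) (by decide +kernel)
theorem r566_5 : R9 F (g wAd) b566 [] 1 2 := .of (startD 0 2) (by decide +kernel)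
theorem r566_6 : R9 F (g wAd) b566 [] 2 0 := .of (startD 0 1) (by decide +kernel)
theorem r566_7 : R9 F (g wAd) b566 [] 2 1 := .of (startD 0 1) (by decide +kernel)
theorem r566_8 : R9 F (g wAd) b566 [] 2 2 := .of (startD 0 1) (by decide +kernel)
theorem g566 : Gd F (g wAd) (0, d566) [] :=
  good9 ok h566 r566_0 r566_1 r566_2 r566_3 r566_4 r566_5 r566_6 r566_7 r566_8

def b567 : Wd := ⟨0, d567,
  [.z, .Z10, .Z9, .Z8, .Z6, .Z5, .Z3, .Z2, .Z1, .Z0, .X10, .X9, .X7, .X5, .X3, .X2, .X1, .y10, .y9, .y8, .y7, .y5,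
   .y4, .y3, .y1, .hi, .p10, .hi, .p4, .hi, .p3, .hi, .p3, .hi, .p4, .hi, .p10, .hi, .taui, .xii, .y6, .p, .xii, .p,
   .y7, .xii, .y1, .taui, .X0, .y1, .xii, .p3, .xii, .hi, .xii, .y3, .y9, .taui, .xii, .p5, .xii, .y5, .p2, .y4, .xii,
   .y5, .taui],
  [.z, .Z7, .Z4, .Z2, .Z1, .Z0, .X10, .X9, .X8, .X7, .X6, .X4, .X3, .y8, .y7, .y6, .y4, .y2, .p8, .hi, .p9, .hi, .p3,
   .hi, .p8, .hi, .p6, .xii, .p2, .hi, .p3, .hi, .tau, .xii, .y1, .p, .xii, .p, .xii, .y7, .y10, .tau, .X0, .hi, .xii,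
   .p8, .xii, .y2, .y3, .taui, .xii, .p9, .xii, .p6, .y7, .xii, .y2, .y10, .tau, .xii, .y2, .p7],
  [.Z10, .Z8, .Z7, .Z5, .Z4, .Z0, .X10, .X9, .X6, .X5, .X4, .X3, .X2, .X1, .X0, .y9, .y6, .y5, .y4, .y3, .y2, .y1,
   .p6, .hi, .p6, .hi, .p6, .hi, .p, .hi, .p10, .xii, .p10, .xii, .y7, .p6, .xii, .y7, .y10, .tau, .xii, .p, .xii,
   .hi, .y8, .xii, .y6, .taui, .p8, .xii, .y1, .p4, .hi, .xii, .y2, .y10, .taui, .xii, .p7, .xii, .y6, .p10, .xii,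
   .y4, .tau, .xii, .p9]⟩

theorem h567 : Hd F (g wAd) b567 := hdD (by decide +kernel)
theorem r567_0 : R9 F (g wAd) b567 [] 0 0 := .of (startD 0 1) (by decide +kernel)
theorem r567_1 : R9 F (g wAd) b567 [] 0 1 := .of (startD 0 2) (by decide +kernel)
theorem r567_2 : R9 F (g wAd) b567 [] 0 2 := .of (startD 0 1) (by decide +kernel)
theorem r567_3 : R9 F (g wAd) b567 [] 1 0 := .of (startD 0 1) (by decide +kernel)
theorem r567_4 : R9 F (g wAd) b567 [] 1 1 := .of (startD 0 1) (by decide +kernel)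
theorem r567_5 : R9 F (g wAd) b567 [] 1 2 := .of (startD 0 1) (by decide +kernel)
theorem r567_6 : R9 F (g wAd) b567 [] 2 0 := .of (startD 0 1) (by decide +kernel)
theorem r567_7 : R9 F (g wAd) b567 [] 2 1 := .of (startD 0 1) (by decide +kernel)
theorem r567_8 : R9 F (g wAd) b567 [] 2 2 := .of (startD 0 1) (by decide +kernel)
theorem g567 : Gd F (g wAd) (0, d567) [] :=
  good9 ok h567 r567_0 r567_1 r567_2 r567_3 r567_4 r567_5 r567_6 r567_7 r567_8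

def b568 : Wd := ⟨0, d568,
  [.z, .Z9, .Z8, .Z7, .Z5, .Z1, .Z0, .X10, .X9, .X8, .X7, .X6, .X5, .X3, .X2, .X1, .X0, .y10, .y9, .y8, .y7, .y6, .y5,
   .y3, .y2, .y1, .hi, .p10, .hi, .p9, .hi, .p3, .hi, .p4, .hi, .p6, .hi, .xii, .p, .xii, .y10, .p, .xii, .y3, .y10,
   .tau, .xii, .y1, .p, .xii, .y10, .p, .xii, .y4, .y6, .taui, .xii, .y6, .p7, .xii, .p8, .xii, .p2, .y7, .taui, .xii,
   .p4, .xii, .y5, .p4, .y4, .xii, .y6, .taui, .xii, .hi, .xii],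
  [.Z9, .Z6, .Z5, .Z3, .Z0, .X9, .X7, .X4, .X2, .y9, .y6, .y5, .y2, .p7, .hi, .p9, .hi, .p9, .hi, .p, .hi, .p7, .hi,
   .p2, .hi, .xii, .y2, .hi, .p8, .taui, .xii, .p, .xii, .y2, .hi, .xii, .y2, .y7, .taui, .X0, .p7, .xii, .p4, .xii,
   .p2, .hi, .y5, .tau, .xii, .p4, .xii, .y2, .p5, .y7, .taui, .xii, .p, .hi],
  [.Z10, .Z6, .Z5, .Z3, .Z1, .X10, .X8, .X7, .X5, .X0, .y7, .y5, .y4, .y2, .p10, .hi, .p4, .hi, .p7, .hi, .p5, .hi,
   .p8, .hi, .p5, .hi, .xii, .p3, .hi, .xii, .p3, .hi, .taui, .xii, .p, .xii, .y4, .hi, .xii, .y2, .y7, .tau, .X0,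
   .p4, .xii, .y2, .p4, .xii, .y3, .hi, .p9, .tau, .xii, .p2, .xii, .p7, .y7, .taui, .xii, .y2, .p10, .hi, .p8]⟩

theorem h568 : Hd F (g wAd) b568 := hdD (by decide +kernel)
theorem r568_0 : R9 F (g wAd) b568 [] 0 0 := .of (startD 0 1) (by decide +kernel)
theorem r568_1 : R9 F (g wAd) b568 [] 0 1 := .of (startD 0 1) (by decide +kernel)
theorem r568_2 : R9 F (g wAd) b568 [] 0 2 := .of (startD 0 1) (by decide +kernel)
theorem r568_3 : R9 F (g wAd) b568 [] 1 0 := .of (startD 0 1) (by decide +kernel)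
theorem r568_4 : R9 F (g wAd) b568 [] 1 1 := .of (startD 0 1) (by decide +kernel)
theorem r568_5 : R9 F (g wAd) b568 [] 1 2 := .of (startD 0 1) (by decide +kernel)
theorem r568_6 : R9 F (g wAd) b568 [] 2 0 := .of (startD 0 1) (by decide +kernel)
theorem r568_7 : R9 F (g wAd) b568 [] 2 1 := .of (startD 0 1) (by decide +kernel)
theorem r568_8 : R9 F (g wAd) b568 [] 2 2 := .of (startD 0 1) (by decide +kernel)
theorem g568 : Gd F (g wAd) (0, d568) [] :=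
  good9 ok h568 r568_0 r568_1 r568_2 r568_3 r568_4 r568_5 r568_6 r568_7 r568_8

def b569 : Wd := ⟨0, d569,
  [.Z10, .Z8, .Z2, .Z1, .X10, .X9, .X7, .X6, .X5, .X4, .X1, .y4, .y3, .p8, .hi, .p7, .hi, .p7, .hi, .p3, .hi, .p9,
   .hi, .p3, .xii, .hi, .xii, .p6, .xii, .y7, .y10, .taui, .y1, .xii, .p10, .xii, .y4, .p10, .xii, .y2, .taui, .y1,
   .p9, .xii, .p10, .xii, .y9, .p2, .taui, .xii, .p4, .xii, .p5, .y2, .xii, .y8, .tau, .xii, .p8],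
  [.Z10, .Z9, .Z8, .Z7, .Z4, .Z2, .Z1, .Z0, .X10, .X6, .X4, .X1, .X0, .y10, .y9, .y8, .y7, .y3, .p3, .hi, .p6, .hi,
   .p6, .hi, .p9, .hi, .p4, .hi, .p4, .xii, .p10, .xii, .p8, .y7, .xii, .tau, .xii, .y6, .p, .xii, .p, .xii, .y5, .y8,
   .y10, .tau, .xii, .p9, .xii, .hi, .y7, .xii, .y7, .tau, .xii, .p6, .xii, .y2, .p7, .xii, .y2],
  [.Z10, .Z9, .Z8, .Z7, .Z6, .Z2, .Z0, .X9, .X8, .X7, .X5, .X4, .X3, .X2, .X0, .y10, .y9, .y6, .y5, .y1, .p9, .hi, .p,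
   .hi, .p6, .hi, .p3, .hi, .p5, .hi, .p5, .hi, .xii, .y2, .p10, .hi, .p8, .taui, .y1, .xii, .y1, .hi, .xii, .p10,
   .xii, .y8, .y10, .tau, .X0, .y1, .xii, .p2, .xii, .y4, .p2, .xii, .y8, .tau, .xii, .p6, .xii, .p5, .hi, .p10, .y9,
   .tau, .xii, .hi, .p6]⟩

theorem h569 : Hd F (g wAd) b569 := hdD (by decide +kernel)
theorem r569_0 : R9 F (g wAd) b569 [] 0 0 := .of (startD 0 1) (by decide +kernel)
theorem r569_1 : R9 F (g wAd) b569 [] 0 1 := .of (startD 0 2) (by decide +kernel)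
theorem r569_2 : R9 F (g wAd) b569 [] 0 2 := .of (startD 0 1) (by decide +kernel)
theorem r569_3 : R9 F (g wAd) b569 [] 1 0 := .of (startD 0 1) (by decide +kernel)
theorem r569_4 : R9 F (g wAd) b569 [] 1 1 := .of (startD 0 1) (by decide +kernel)
theorem r569_5 : R9 F (g wAd) b569 [] 1 2 := .of (startD 0 1) (by decide +kernel)
theorem r569_6 : R9 F (g wAd) b569 [] 2 0 := .of (startD 0 1) (by decide +kernel)
theorem r569_7 : R9 F (g wAd) b569 [] 2 1 := .of (startD 0 1) (by decide +kernel)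
theorem r569_8 : R9 F (g wAd) b569 [] 2 2 := .of (startD 0 1) (by decide +kernel)
theorem g569 : Gd F (g wAd) (0, d569) [] :=
  good9 ok h569 r569_0 r569_1 r569_2 r569_3 r569_4 r569_5 r569_6 r569_7 r569_8

theorem all : AllG F (g wAd) LD56 :=
  .cons g560 (.cons g561 (.cons g562 (.cons g563 (.cons g564 (.cons g565 (.cons g566 (.cons g567 (.cons g568 (.cons g569 (.nil))))))))))

end Cfsg.Agent.BX.No33.Bk.D56
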