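import Cfsg.Agent.BX.No33.Cheap
set_option linter.all false

/-!
# Tests, diagonal case, part 57 (helper5; generated)
-/

set_option autoImplicit false
set_option maxRecDepth 100000
set_option Elab.async false

namespace Cfsg.Agent.BX.No33.Bk.D57

open Cfsg.Agent.H819.U33 Cfsg.Agent.BX.No33.Front

def b570 : Wd := ⟨0, d570,
  [.z, .Z10, .Z7, .Z6, .Z5, .Z4, .Z3, .Z1, .Z0, .X10, .X5, .X2, .y9, .y8, .y6, .y3, .y2, .p5, .hi, .p8, .hi, .p5, .hi,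
   .p, .hi, .p6, .hi, .p2, .hi, .xii, .y2, .hi, .p8, .xii, .y2, .tau, .y1, .xii, .p10, .xii, .y1, .y7, .p10, .xii,
   .y9, .tau, .p4, .xii, .y1, .p8, .xii, .y4, .y5, .tau, .xii, .p7, .xii, .y9, .hi, .p10, .y6, .tau, .xii, .y2, .p2,
   .hi],
  [.Z10, .Z9, .Z8, .Z6, .Z4, .Z2, .Z1, .X9, .X6, .X4, .X2, .X1, .y10, .y9, .y6, .y1, .hi, .p9, .hi, .p5, .hi, .p8,
   .hi, .p10, .xii, .p, .xii, .y2, .p9, .xii, .taui, .y1, .xii, .p10, .xii, .y1, .p10, .y9, .xii, .y8, .taui, .p8,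
   .xii, .p, .y2, .xii, .y4, .taui, .xii, .y2, .p2, .xii, .y5, .p9],
  [.Z9, .Z8, .Z7, .Z2, .X7, .X4, .X3, .X2, .X0, .y10, .y8, .y3, .y2, .p4, .hi, .p7, .hi, .p, .hi, .p5, .hi, .p6, .hi,
   .p3, .xii, .p10, .xii, .y10, .p2, .xii, .y6, .tau, .xii, .y1, .p, .xii, .y1, .y6, .p, .xii, .y6, .tau, .X0, .p7,
   .xii, .y6, .p7, .xii, .p, .y7, .taui, .xii, .p8, .xii, .y4, .y5, .p3, .hi, .tau, .xii, .p3, .hi, .p10]⟩

theorem h570 : Hd F (g wAd) b570 := hdD (by decide +kernel)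
theorem r570_0 : R9 F (g wAd) b570 [] 0 0 := .of (startD 0 1) (by decide +kernel)
theorem r570_1 : R9 F (g wAd) b570 [] 0 1 := .of (startD 0 1) (by decide +kernel)
theorem r570_2 : R9 F (g wAd) b570 [] 0 2 := .of (startD 0 1) (by decide +kernel)
theorem r570_3 : R9 F (g wAd) b570 [] 1 0 := .of (startD 0 2) (by decide +kernel)
theorem r570_4 : R9 F (g wAd) b570 [] 1 1 := .of (startD 0 1) (by decide +kernel)
theorem r570_5 : R9 F (g wAd) b570 [] 1 2 := .of (startD 0 1) (by decide +kernel)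
theorem r570_6 : R9 F (g wAd) b570 [] 2 0 := .of (startD 0 1) (by decide +kernel)
theorem r570_7 : R9 F (g wAd) b570 [] 2 1 := .of (startD 0 1) (by decide +kernel)
theorem r570_8 : R9 F (g wAd) b570 [] 2 2 := .of (startD 0 1) (by decide +kernel)
theorem g570 : Gd F (g wAd) (0, d570) [] :=
  good9 ok h570 r570_0 r570_1 r570_2 r570_3 r570_4 r570_5 r570_6 r570_7 r570_8

def b571 : Wd := ⟨0, d571,
  [.z, .Z6, .Z5, .Z3, .Z1, .X10, .X8, .X7, .y8, .y7, .y3, .p7, .hi, .p9, .hi, .p3, .hi, .p6, .hi, .p4, .hi, .xii,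
   .p10, .hi, .p2, .hi, .p10, .taui, .xii, .p, .xii, .y1, .hi, .xii, .y1, .y4, .taui, .X0, .p2, .xii, .p9, .xii, .hi,
   .p6, .y4, .y10, .taui, .xii, .p7, .xii, .p5, .y1, .xii, .y4, .taui, .xii, .p5, .xii],
  [.z, .Z9, .Z7, .Z6, .Z5, .Z2, .X6, .X5, .X4, .X3, .X2, .X1, .y5, .p3, .hi, .p3, .hi, .p3, .hi, .p6, .hi, .p, .hi,
   .p5, .hi, .xii, .p, .xii, .y6, .y10, .taui, .xii, .p, .xii, .hi, .y8, .xii, .y1, .y9, .tau, .y1, .p6, .xii, .p9,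
   .xii, .y7, .p, .taui, .xii, .y2, .p4, .xii, .y4, .p2, .hi, .p8],
  [.z, .Z9, .Z6, .Z5, .Z2, .Z0, .X10, .X8, .X5, .X4, .X0, .y10, .y8, .y7, .y5, .y3, .y1, .p10, .hi, .p5, .hi, .p4,
   .hi, .p8, .hi, .p6, .hi, .p3, .hi, .xii, .hi, .xii, .p8, .xii, .y8, .taui, .xii, .y1, .p, .xii, .p, .xii, .y1,
   .tau, .X0, .xii, .p4, .xii, .y9, .p5, .xii, .y2, .p5, .tau, .xii, .p9, .xii, .y2, .p5, .xii, .y5, .y8, .tau, .xii,
   .y6, .p8]⟩

theorem h571 : Hd F (g wAd) b571 := hdD (by decide +kernel)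
theorem r571_0 : R9 F (g wAd) b571 [] 0 0 := .of (startD 0 1) (by decide +kernel)
theorem r571_1 : R9 F (g wAd) b571 [] 0 1 := .of (startD 0 1) (by decide +kernel)
theorem r571_2 : R9 F (g wAd) b571 [] 0 2 := .of (startD 0 1) (by decide +kernel)
theorem r571_3 : R9 F (g wAd) b571 [] 1 0 := .of (startD 0 1) (by decide +kernel)
theorem r571_4 : R9 F (g wAd) b571 [] 1 1 := .of (startD 0 1) (by decide +kernel)
theorem r571_5 : R9 F (g wAd) b571 [] 1 2 := .of (startD 0 1) (by decide +kernel)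
theorem r571_6 : R9 F (g wAd) b571 [] 2 0 := .of (startD 0 1) (by decide +kernel)
theorem r571_7 : R9 F (g wAd) b571 [] 2 1 := .of (startD 0 1) (by decide +kernel)
theorem r571_8 : R9 F (g wAd) b571 [] 2 2 := .of (startD 0 1) (by decide +kernel)
theorem g571 : Gd F (g wAd) (0, d571) [] :=
  good9 ok h571 r571_0 r571_1 r571_2 r571_3 r571_4 r571_5 r571_6 r571_7 r571_8

def b572 : Wd := ⟨0, d572,
  [.Z8, .Z7, .Z6, .Z5, .Z3, .Z2, .Z1, .Z0, .X10, .X9, .X7, .X4, .y10, .y4, .y1, .p2, .hi, .p10, .hi, .p7, .hi, .p7,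
   .hi, .p6, .hi, .p6, .hi, .xii, .p, .xii, .y6, .hi, .p, .hi, .p3, .taui, .y1, .xii, .y6, .p10, .xii, .y8, .p10,
   .xii, .tau, .p6, .xii, .y2, .p3, .hi, .xii, .p4, .hi, .taui, .xii, .p8, .xii, .y9, .p2, .xii, .y2, .tau, .xii, .y2,
   .p2, .hi],
  [.Z10, .Z8, .Z5, .Z4, .Z3, .Z2, .X10, .X9, .X7, .X6, .X1, .X0, .y10, .y5, .y1, .hi, .p10, .hi, .p2, .hi, .p8, .hi,
   .p6, .hi, .p4, .taui, .p10, .xii, .y6, .hi, .xii, .y5, .p5, .tau, .X0, .p9, .xii, .y7, .p2, .xii, .y5, .p7, .taui,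
   .xii, .p8, .xii, .y1, .p2, .xii, .y3, .y7, .taui, .xii, .p],
  [.Z10, .Z9, .Z8, .Z7, .Z6, .Z3, .Z2, .Z0, .X9, .X6, .X3, .X2, .X0, .y9, .y2, .p7, .hi, .p10, .hi, .p3, .hi, .p10,
   .hi, .p, .hi, .p6, .xii, .p10, .xii, .y7, .p8, .xii, .taui, .y1, .xii, .p10, .xii, .y1, .p10, .xii, .y9, .tau,
   .p10, .xii, .y4, .p9, .xii, .p7, .hi, .taui, .xii, .p3, .xii, .y1, .y2, .p2, .xii, .y4, .tau, .xii, .y7, .p2, .xii]⟩

theorem h572 : Hd F (g wAd) b572 := hdD (by decide +kernel)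
theorem r572_0 : R9 F (g wAd) b572 [] 0 0 := .of (startD 0 1) (by decide +kernel)
theorem r572_1 : R9 F (g wAd) b572 [] 0 1 := .of (startD 0 1) (by decide +kernel)
theorem r572_2 : R9 F (g wAd) b572 [] 0 2 := .of (startD 0 1) (by decide +kernel)
theorem r572_3 : R9 F (g wAd) b572 [] 1 0 := .of (startD 0 1) (by decide +kernel)
theorem r572_4 : R9 F (g wAd) b572 [] 1 1 := .of (startD 0 1) (by decide +kernel)
theorem r572_5 : R9 F (g wAd) b572 [] 1 2 := .of (startD 0 1) (by decide +kernel)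
theorem r572_6 : R9 F (g wAd) b572 [] 2 0 := .of (startD 0 1) (by decide +kernel)
theorem r572_7 : R9 F (g wAd) b572 [] 2 1 := .of (startD 0 1) (by decide +kernel)
theorem r572_8 : R9 F (g wAd) b572 [] 2 2 := .of (startD 0 1) (by decide +kernel)
theorem g572 : Gd F (g wAd) (0, d572) [] :=
  good9 ok h572 r572_0 r572_1 r572_2 r572_3 r572_4 r572_5 r572_6 r572_7 r572_8

def b573 : Wd := ⟨0, d573,
  [.z, .Z7, .Z2, .Z1, .X10, .X9, .X6, .X4, .X1, .X0, .y8, .y7, .y5, .y3, .y1, .p5, .hi, .p8, .hi, .p7, .hi, .p, .hi,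
   .p4, .hi, .p10, .xii, .p10, .xii, .y8, .p6, .xii, .y7, .tau, .y1, .xii, .p10, .xii, .y5, .p10, .xii, .y10, .tau,
   .X0, .xii, .y2, .p4, .xii, .y10, .p5, .xii, .y3, .y5, .tau, .xii, .p4, .xii, .y2, .y8, .p5, .xii, .y6, .taui, .xii,
   .y4, .p8],
  [.z, .Z10, .Z7, .Z4, .X10, .X9, .X7, .X6, .X3, .X1, .X0, .y10, .y9, .y5, .y3, .y2, .y1, .p7, .hi, .p9, .hi, .p, .hi,
   .p8, .hi, .p2, .hi, .xii, .p, .xii, .y6, .taui, .xii, .y6, .p, .hi, .xii, .y6, .taui, .X0, .p8, .xii, .y1, .p,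
   .xii, .hi, .p4, .y6, .tau, .xii, .p7, .xii, .p7, .y5, .hi, .tau, .xii, .hi, .p6],
  [.Z8, .Z6, .Z5, .Z4, .Z2, .X7, .X6, .X5, .X4, .X3, .X2, .X1, .y5, .y4, .y1, .hi, .p8, .hi, .p, .hi, .p3, .hi, .p7,
   .hi, .p4, .hi, .p6, .xii, .y2, .p, .xii, .y4, .hi, .xii, .y6, .taui, .y1, .xii, .y2, .hi, .xii, .y10, .p10, .xii,
   .y4, .y9, .taui, .X0, .p6, .xii, .p9, .xii, .y1, .y10, .p4, .tau, .xii, .p4, .xii, .y3, .p5, .xii, .y4, .y5, .tau,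
   .xii, .p4]⟩

theorem h573 : Hd F (g wAd) b573 := hdD (by decide +kernel)
theorem r573_0 : R9 F (g wAd) b573 [] 0 0 := .of (startD 0 1) (by decide +kernel)
theorem r573_1 : R9 F (g wAd) b573 [] 0 1 := .of (startD 0 1) (by decide +kernel)
theorem r573_2 : R9 F (g wAd) b573 [] 0 2 := .of (startD 0 1) (by decide +kernel)
theorem r573_3 : R9 F (g wAd) b573 [] 1 0 := .of (startD 0 1) (by decide +kernel)
theorem r573_4 : R9 F (g wAd) b573 [] 1 1 := .of (startD 0 1) (by decide +kernel)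
theorem r573_5 : R9 F (g wAd) b573 [] 1 2 := .of (startD 0 1) (by decide +kernel)
theorem r573_6 : R9 F (g wAd) b573 [] 2 0 := .of (startD 0 1) (by decide +kernel)
theorem r573_7 : R9 F (g wAd) b573 [] 2 1 := .of (startD 0 1) (by decide +kernel)
theorem r573_8 : R9 F (g wAd) b573 [] 2 2 := .of (startD 0 1) (by decide +kernel)
theorem g573 : Gd F (g wAd) (0, d573) [] :=
  good9 ok h573 r573_0 r573_1 r573_2 r573_3 r573_4 r573_5 r573_6 r573_7 r573_8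

def b574 : Wd := ⟨0, d574,
  [.Z9, .Z6, .Z5, .Z3, .Z2, .X6, .X5, .X4, .X3, .X1, .X0, .y10, .y9, .y6, .y5, .y3, .y1, .hi, .p, .hi, .p7, .hi, .p3,
   .hi, .p5, .hi, .p5, .hi, .p2, .hi, .xii, .hi, .p8, .xii, .y2, .y9, .taui, .y1, .xii, .p10, .xii, .y1, .y7, .p10,
   .xii, .taui, .X0, .xii, .p6, .xii, .y2, .p6, .y10, .xii, .y5, .y8, .taui, .xii, .y2, .p4, .xii, .p3, .hi, .tau,
   .xii, .y2, .p],
  [.z, .Z8, .Z6, .Z5, .Z4, .X8, .X4, .X0, .y9, .y8, .y7, .y6, .y2, .y1, .p9, .hi, .p3, .hi, .p8, .hi, .p9, .hi, .p5,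
   .xii, .p, .xii, .y3, .y10, .taui, .xii, .p, .xii, .y2, .hi, .xii, .y3, .y10, .tau, .X0, .y1, .p6, .xii, .p2, .xii,
   .y6, .taui, .xii, .y2, .p7, .xii, .y5, .p9, .hi, .taui, .xii, .hi, .p2],
  [.z, .Z9, .Z8, .Z7, .Z6, .Z5, .Z2, .Z1, .Z0, .X10, .X9, .y10, .y9, .y6, .y5, .y4, .y3, .hi, .p8, .hi, .p7, .hi, .p3,
   .hi, .p3, .hi, .p7, .hi, .p8, .xii, .p, .xii, .y3, .p3, .hi, .taui, .xii, .y1, .p, .xii, .y2, .p, .xii, .y3, .y4,
   .tau, .p9, .xii, .hi, .p8, .xii, .y5, .p, .tau, .xii, .p5, .xii, .y2, .p5, .y8, .xii, .y1, .taui, .xii, .hi]⟩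

theorem h574 : Hd F (g wAd) b574 := hdD (by decide +kernel)
theorem r574_0 : R9 F (g wAd) b574 [] 0 0 := .of (startD 0 1) (by decide +kernel)
theorem r574_1 : R9 F (g wAd) b574 [] 0 1 := .of (startD 0 1) (by decide +kernel)
theorem r574_2 : R9 F (g wAd) b574 [] 0 2 := .of (startD 0 1) (by decide +kernel)
theorem r574_3 : R9 F (g wAd) b574 [] 1 0 := .of (startD 0 1) (by decide +kernel)
theorem r574_4 : R9 F (g wAd) b574 [] 1 1 := .of (startD 0 1) (by decide +kernel)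
theorem r574_5 : R9 F (g wAd) b574 [] 1 2 := .of (startD 0 1) (by decide +kernel)
theorem r574_6 : R9 F (g wAd) b574 [] 2 0 := .of (startD 0 1) (by decide +kernel)
theorem r574_7 : R9 F (g wAd) b574 [] 2 1 := .of (startD 0 1) (by decide +kernel)
theorem r574_8 : R9 F (g wAd) b574 [] 2 2 := .of (startD 0 1) (by decide +kernel)
theorem g574 : Gd F (g wAd) (0, d574) [] :=
  good9 ok h574 r574_0 r574_1 r574_2 r574_3 r574_4 r574_5 r574_6 r574_7 r574_8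

def b575 : Wd := ⟨0, d575,
  [.z, .Z10, .Z5, .Z3, .Z0, .X7, .X5, .X2, .X1, .y9, .y8, .y5, .y1, .hi, .p4, .hi, .p10, .hi, .p7, .hi, .p6, .hi, .p7,
   .hi, .p6, .xii, .y2, .p3, .hi, .xii, .y1, .y6, .taui, .xii, .y1, .p, .xii, .y4, .p, .xii, .y5, .tau, .X0, .xii,
   .p4, .xii, .y4, .hi, .p5, .xii, .y6, .y10, .tau, .xii, .p3, .xii, .p4, .y3, .xii, .y2, .taui, .xii, .p10, .xii,
   .y9],
  [.z, .Z9, .Z5, .Z4, .Z0, .X10, .X9, .X7, .X4, .X2, .y9, .y8, .y7, .y6, .p10, .hi, .p7, .hi, .p8, .hi, .p7, .hi, .p3,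
   .hi, .p4, .hi, .xii, .hi, .p8, .tau, .xii, .y2, .hi, .p8, .xii, .y9, .taui, .p10, .xii, .p6, .xii, .p10, .y3,
   .taui, .xii, .p6, .xii, .p4, .y8, .taui, .xii, .y2, .p10, .hi, .p7],
  [.Z8, .Z7, .Z2, .Z1, .Z0, .X9, .X8, .X7, .X6, .X5, .X3, .X2, .X1, .X0, .y10, .y9, .y8, .y3, .y2, .p9, .hi, .p4, .hi,
   .p6, .hi, .p4, .hi, .p5, .hi, .p7, .xii, .p, .xii, .y3, .y10, .tau, .y1, .xii, .p10, .xii, .y1, .y9, .p10, .xii,
   .y4, .tau, .X0, .p10, .xii, .y10, .hi, .p6, .xii, .y8, .p, .tau, .xii, .y2, .hi, .p6, .xii, .y10, .hi, .p2, .taui,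
   .xii, .hi, .p6]⟩

theorem h575 : Hd F (g wAd) b575 := hdD (by decide +kernel)
theorem r575_0 : R9 F (g wAd) b575 [] 0 0 := .of (startD 0 1) (by decide +kernel)
theorem r575_1 : R9 F (g wAd) b575 [] 0 1 := .of (startD 0 1) (by decide +kernel)
theorem r575_2 : R9 F (g wAd) b575 [] 0 2 := .of (startD 0 1) (by decide +kernel)
theorem r575_3 : R9 F (g wAd) b575 [] 1 0 := .of (startD 0 1) (by decide +kernel)
theorem r575_4 : R9 F (g wAd) b575 [] 1 1 := .of (startD 0 1) (by decide +kernel)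
theorem r575_5 : R9 F (g wAd) b575 [] 1 2 := .of (startD 0 1) (by decide +kernel)
theorem r575_6 : R9 F (g wAd) b575 [] 2 0 := .of (startD 0 1) (by decide +kernel)
theorem r575_7 : R9 F (g wAd) b575 [] 2 1 := .of (startD 0 1) (by decide +kernel)
theorem r575_8 : R9 F (g wAd) b575 [] 2 2 := .of (startD 0 1) (by decide +kernel)
theorem g575 : Gd F (g wAd) (0, d575) [] :=
  good9 ok h575 r575_0 r575_1 r575_2 r575_3 r575_4 r575_5 r575_6 r575_7 r575_8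

def b576 : Wd := ⟨0, d576,
  [.z, .Z10, .Z9, .Z7, .Z6, .Z5, .Z4, .Z2, .X10, .X9, .X7, .X6, .X3, .X1, .X0, .y9, .y7, .y6, .p9, .hi, .p7, .hi, .p6,
   .hi, .p, .hi, .p, .hi, .p7, .hi, .xii, .p5, .hi, .p5, .taui, .xii, .p, .xii, .hi, .y8, .xii, .y3, .tau, .X0, .y1,
   .xii, .y1, .p, .xii, .p9, .xii, .y4, .p, .taui, .xii, .p9, .xii, .y7, .hi, .xii, .y4, .tau, .xii, .p5, .xii],
  [.z, .Z10, .Z9, .Z8, .Z6, .Z5, .Z4, .Z2, .X8, .X7, .X6, .X5, .X4, .X2, .X1, .y8, .y6, .y5, .y4, .y2, .y1, .p7, .hi,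
   .p, .hi, .p5, .hi, .p10, .hi, .p6, .xii, .p10, .xii, .y5, .p5, .hi, .p5, .tau, .xii, .y1, .p, .xii, .y4, .p, .xii,
   .y5, .taui, .X0, .y1, .xii, .p4, .xii, .p10, .y7, .xii, .y4, .p9, .taui, .xii, .hi, .xii, .p10, .xii, .y3, .y10],
  [.Z10, .Z8, .Z7, .Z6, .Z4, .Z1, .X9, .X7, .X5, .X3, .X0, .y10, .y8, .y3, .p9, .hi, .p9, .hi, .p7, .hi, .p6, .hi,
   .p5, .hi, .p8, .xii, .hi, .xii, .y6, .tau, .xii, .p, .xii, .y3, .hi, .xii, .y7, .y8, .tau, .y1, .xii, .y2, .hi,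
   .xii, .p10, .xii, .y2, .y4, .taui, .p9, .xii, .y2, .p10, .xii, .y7, .tau, .xii, .p5, .xii, .p5, .y5, .xii, .y9,
   .y10, .tau]⟩

theorem h576 : Hd F (g wAd) b576 := hdD (by decide +kernel)
theorem r576_0 : R9 F (g wAd) b576 [] 0 0 := .of (startD 0 1) (by decide +kernel)
theorem r576_1 : R9 F (g wAd) b576 [] 0 1 := .of (startD 0 1) (by decide +kernel)
theorem r576_2 : R9 F (g wAd) b576 [] 0 2 := .of (startD 0 1) (by decide +kernel)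
theorem r576_3 : R9 F (g wAd) b576 [] 1 0 := .of (startD 0 2) (by decide +kernel)
theorem r576_4 : R9 F (g wAd) b576 [] 1 1 := .of (startD 0 1) (by decide +kernel)
theorem r576_5 : R9 F (g wAd) b576 [] 1 2 := .of (startD 0 1) (by decide +kernel)
theorem r576_6 : R9 F (g wAd) b576 [] 2 0 := .of (startD 0 1) (by decide +kernel)
theorem r576_7 : R9 F (g wAd) b576 [] 2 1 := .of (startD 0 1) (by decide +kernel)
theorem r576_8 : R9 F (g wAd) b576 [] 2 2 := .of (startD 0 1) (by decide +kernel)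
theorem g576 : Gd F (g wAd) (0, d576) [] :=
  good9 ok h576 r576_0 r576_1 r576_2 r576_3 r576_4 r576_5 r576_6 r576_7 r576_8

def b577 : Wd := ⟨0, d577,
  [.z, .Z10, .Z7, .Z6, .Z5, .Z3, .X9, .X5, .X3, .X0, .y10, .y8, .y3, .y1, .p5, .hi, .p4, .hi, .p10, .hi, .p4, .hi,
   .p4, .hi, .p8, .hi, .xii, .hi, .p8, .tau, .y1, .xii, .p10, .xii, .y2, .p10, .xii, .y8, .tau, .p5, .xii, .p, .hi,
   .p8, .xii, .y7, .y10, .hi, .taui, .xii, .p6, .xii, .y7, .hi, .p10, .tau, .xii, .y2, .hi, .p6],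
  [.z, .Z9, .Z8, .Z6, .Z5, .Z4, .Z1, .X10, .X9, .X6, .X3, .y10, .y9, .y6, .y3, .y2, .p7, .hi, .p9, .hi, .p3, .hi,
   .p10, .xii, .hi, .xii, .p8, .xii, .y1, .y3, .taui, .xii, .y1, .p, .xii, .p, .xii, .y3, .y8, .tau, .X0, .p6, .xii,
   .p9, .xii, .y1, .y8, .hi, .p7, .tau, .xii, .y2, .p6, .xii, .y6, .p7, .taui, .xii, .p3, .hi, .p8],
  [.Z10, .Z9, .Z8, .Z7, .Z6, .Z5, .Z3, .X10, .X8, .X5, .X2, .X1, .y10, .y5, .y3, .y2, .p8, .hi, .p5, .hi, .p, .hi,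
   .p5, .hi, .p9, .hi, .p6, .xii, .y2, .p3, .hi, .xii, .p6, .taui, .xii, .p, .xii, .y4, .hi, .xii, .y1, .y2, .taui,
   .p4, .xii, .p8, .xii, .p, .y5, .tau, .xii, .p9, .xii, .y3, .p3, .y3, .xii, .y8, .tau, .xii, .p2, .xii]⟩

theorem h577 : Hd F (g wAd) b577 := hdD (by decide +kernel)
theorem r577_0 : R9 F (g wAd) b577 [] 0 0 := .of (startD 0 1) (by decide +kernel)
theorem r577_1 : R9 F (g wAd) b577 [] 0 1 := .of (startD 0 1) (by decide +kernel)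
theorem r577_2 : R9 F (g wAd) b577 [] 0 2 := .of (startD 0 1) (by decide +kernel)
theorem r577_3 : R9 F (g wAd) b577 [] 1 0 := .of (startD 0 1) (by decide +kernel)
theorem r577_4 : R9 F (g wAd) b577 [] 1 1 := .of (startD 0 1) (by decide +kernel)
theorem r577_5 : R9 F (g wAd) b577 [] 1 2 := .of (startD 0 1) (by decide +kernel)
theorem r577_6 : R9 F (g wAd) b577 [] 2 0 := .of (startD 0 1) (by decide +kernel)
theorem r577_7 : R9 F (g wAd) b577 [] 2 1 := .of (startD 0 1) (by decide +kernel)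
theorem r577_8 : R9 F (g wAd) b577 [] 2 2 := .of (startD 0 1) (by decide +kernel)
theorem g577 : Gd F (g wAd) (0, d577) [] :=
  good9 ok h577 r577_0 r577_1 r577_2 r577_3 r577_4 r577_5 r577_6 r577_7 r577_8

def b578 : Wd := ⟨0, d578,
  [.z, .Z10, .Z9, .Z8, .Z5, .Z4, .X8, .X6, .X4, .X2, .X1, .X0, .y9, .y8, .y4, .y3, .p6, .hi, .p8, .hi, .p10, .hi, .p,
   .hi, .p5, .hi, .p4, .xii, .p, .xii, .y4, .p, .xii, .y6, .taui, .y1, .xii, .p10, .xii, .y2, .p10, .xii, .y10, .taui,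
   .X0, .p2, .xii, .p4, .y8, .xii, .y3, .p10, .hi, .p5, .tau, .xii, .p9, .xii, .y9, .y10, .p, .xii, .y8, .y10, .tau,
   .xii, .p9, .xii, .y10],
  [.z, .Z6, .Z5, .Z2, .Z0, .X10, .X5, .X4, .X1, .y7, .y6, .y4, .y3, .y1, .hi, .p, .hi, .p, .hi, .p4, .hi, .p5, .hi,
   .p10, .hi, .p2, .xii, .hi, .p8, .taui, .xii, .p, .xii, .y2, .hi, .xii, .y1, .taui, .p8, .xii, .p, .y2, .xii, .hi,
   .y8, .tau, .xii, .p4, .xii, .p5, .y2, .y7, .xii, .y9, .tau],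
  [.Z10, .Z9, .Z6, .Z3, .Z1, .X6, .X4, .X3, .X2, .X1, .X0, .y10, .y8, .y7, .y6, .y3, .hi, .p8, .hi, .p, .hi, .p, .hi,
   .p5, .hi, .p10, .xii, .p, .xii, .y6, .taui, .xii, .p, .xii, .y2, .hi, .xii, .y5, .y9, .taui, .xii, .p2, .xii, .p5,
   .y7, .hi, .y7, .xii, .y2, .taui, .xii, .p5, .xii, .p9, .xii, .y2, .y5, .y10, .tau, .xii, .hi, .xii, .y3]⟩

theorem h578 : Hd F (g wAd) b578 := hdD (by decide +kernel)
theorem r578_0 : R9 F (g wAd) b578 [] 0 0 := .of (startD 0 1) (by decide +kernel)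
theorem r578_1 : R9 F (g wAd) b578 [] 0 1 := .of (startD 0 1) (by decide +kernel)
theorem r578_2 : R9 F (g wAd) b578 [] 0 2 := .of (startD 0 2) (by decide +kernel)
theorem r578_3 : R9 F (g wAd) b578 [] 1 0 := .of (startD 0 1) (by decide +kernel)
theorem r578_4 : R9 F (g wAd) b578 [] 1 1 := .of (startD 0 1) (by decide +kernel)
theorem r578_5 : R9 F (g wAd) b578 [] 1 2 := .of (startD 0 1) (by decide +kernel)
theorem r578_6 : R9 F (g wAd) b578 [] 2 0 := .of (startD 0 1) (by decide +kernel)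
theorem r578_7 : R9 F (g wAd) b578 [] 2 1 := .of (startD 0 1) (by decide +kernel)
theorem r578_8 : R9 F (g wAd) b578 [] 2 2 := .of (startD 0 1) (by decide +kernel)
theorem g578 : Gd F (g wAd) (0, d578) [] :=
  good9 ok h578 r578_0 r578_1 r578_2 r578_3 r578_4 r578_5 r578_6 r578_7 r578_8

def b579 : Wd := ⟨0, d579,
  [.z, .Z10, .Z6, .Z5, .Z4, .Z2, .Z1, .Z0, .X10, .X9, .X5, .X4, .X2, .y9, .y8, .y5, .y4, .y3, .y2, .y1, .p6, .hi, .p3,
   .hi, .p6, .hi, .p, .hi, .p7, .hi, .p7, .hi, .xii, .p, .xii, .p8, .y8, .xii, .y1, .taui, .xii, .y6, .p3, .hi, .xii,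
   .y1, .p2, .hi, .taui, .X0, .hi, .xii, .y7, .p8, .xii, .y7, .tau, .xii, .y2, .p5, .xii, .y4, .hi, .p8, .tau, .xii,
   .hi, .p10],
  [.z, .Z8, .Z7, .Z6, .Z4, .X9, .X8, .X7, .X5, .X4, .X0, .y10, .y9, .y7, .y5, .y2, .y1, .p7, .hi, .p4, .hi, .p6, .hi,
   .p9, .hi, .p3, .hi, .xii, .hi, .xii, .p2, .xii, .y5, .y10, .tau, .xii, .p, .xii, .y4, .hi, .xii, .y5, .y9, .y10,
   .tau, .xii, .p6, .xii, .y7, .p2, .xii, .y6, .p10, .taui, .xii, .p2, .hi, .xii, .y8, .p5, .hi],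
  [.Z9, .Z5, .Z3, .Z2, .Z1, .Z0, .X9, .X7, .X5, .X4, .X1, .y9, .y8, .y7, .y6, .y5, .y4, .y1, .hi, .p9, .hi, .p6, .hi,
   .p5, .hi, .p8, .hi, .p5, .hi, .p, .xii, .p2, .hi, .tau, .xii, .p, .xii, .y2, .y10, .hi, .xii, .y7, .y10, .taui,
   .p7, .xii, .p9, .y1, .xii, .p5, .y1, .xii, .taui, .xii, .y2, .p9, .xii, .y2, .p4, .taui, .xii, .y2, .p]⟩

theorem h579 : Hd F (g wAd) b579 := hdD (by decide +kernel)
theorem r579_0 : R9 F (g wAd) b579 [] 0 0 := .of (startD 0 1) (by decide +kernel)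
theorem r579_1 : R9 F (g wAd) b579 [] 0 1 := .of (startD 0 1) (by decide +kernel)
theorem r579_2 : R9 F (g wAd) b579 [] 0 2 := .of (startD 0 1) (by decide +kernel)
theorem r579_3 : R9 F (g wAd) b579 [] 1 0 := .of (startD 0 1) (by decide +kernel)
theorem r579_4 : R9 F (g wAd) b579 [] 1 1 := .of (startD 0 1) (by decide +kernel)
theorem r579_5 : R9 F (g wAd) b579 [] 1 2 := .of (startD 0 1) (by decide +kernel)
theorem r579_6 : R9 F (g wAd) b579 [] 2 0 := .of (startD 0 1) (by decide +kernel)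
theorem r579_7 : R9 F (g wAd) b579 [] 2 1 := .of (startD 0 1) (by decide +kernel)
theorem r579_8 : R9 F (g wAd) b579 [] 2 2 := .of (startD 0 1) (by decide +kernel)
theorem g579 : Gd F (g wAd) (0, d579) [] :=
  good9 ok h579 r579_0 r579_1 r579_2 r579_3 r579_4 r579_5 r579_6 r579_7 r579_8

theorem all : AllG F (g wAd) LD57 :=
  .cons g570 (.cons g571 (.cons g572 (.cons g573 (.cons g574 (.cons g575 (.cons g576 (.cons g577 (.cons g578 (.cons g579 (.nil))))))))))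

end Cfsg.Agent.BX.No33.Bk.D57
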