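import Cfsg.Agent.BX.No33.Cheap
set_option linter.all false

/-!
# Tests, diagonal case, part 58 (helper5; generated)
-/

set_option autoImplicit false
set_option maxRecDepth 100000
set_option Elab.async false

namespace Cfsg.Agent.BX.No33.Bk.D58

open Cfsg.Agent.H819.U33 Cfsg.Agent.BX.No33.Front

def b580 : Wd := ⟨0, d580,
  [.Z9, .Z7, .Z5, .Z2, .Z0, .X10, .X9, .X8, .X5, .X1, .X0, .y10, .y9, .y6, .y5, .y4, .y3, .y1, .p8, .hi, .p4, .hi,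
   .p2, .hi, .taui, .xii, .y2, .p, .xii, .y4, .hi, .xii, .y4, .y6, .taui, .xii, .p, .xii, .y4, .hi, .xii, .y7, .y10,
   .taui, .p9, .xii, .y3, .p10, .xii, .y8, .taui, .xii, .p8, .xii, .y2, .p2, .y4, .xii, .taui, .xii, .p3, .hi],
  [.Z9, .Z8, .Z5, .Z4, .Z2, .X8, .X6, .X4, .X1, .y10, .y9, .y7, .y6, .y2, .y1, .hi, .p4, .hi, .p4, .hi, .p7, .hi, .p8,
   .hi, .p5, .xii, .p, .xii, .y10, .p, .xii, .y5, .tau, .xii, .y6, .p, .xii, .y2, .p, .xii, .y4, .y5, .taui, .X0, .p7,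
   .xii, .y4, .p7, .xii, .y4, .y5, .taui, .xii, .p8, .xii, .y1, .y6, .p4, .xii, .y10],
  [.z, .Z9, .Z7, .Z6, .Z5, .Z4, .Z2, .X10, .X9, .X5, .X4, .X3, .X2, .y8, .y7, .hi, .p9, .hi, .p6, .hi, .p5, .hi, .p5,
   .hi, .p4, .hi, .p4, .xii, .p, .xii, .y6, .p7, .xii, .taui, .xii, .p, .xii, .y4, .hi, .xii, .y1, .y9, .tau, .p9,
   .xii, .p3, .y10, .xii, .y6, .hi, .p3, .taui, .xii, .p9, .xii, .y2, .y9, .p6, .xii, .y2, .y10, .tau, .xii, .y2, .p]⟩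

theorem h580 : Hd F (g wAd) b580 := hdD (by decide +kernel)
theorem r580_0 : R9 F (g wAd) b580 [] 0 0 := .of (startD 0 1) (by decide +kernel)
theorem r580_1 : R9 F (g wAd) b580 [] 0 1 := .of (startD 0 1) (by decide +kernel)
theorem r580_2 : R9 F (g wAd) b580 [] 0 2 := .of (startD 0 1) (by decide +kernel)
theorem r580_3 : R9 F (g wAd) b580 [] 1 0 := .of (startD 0 1) (by decide +kernel)
theorem r580_4 : R9 F (g wAd) b580 [] 1 1 := .of (startD 0 1) (by decide +kernel)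
theorem r580_5 : R9 F (g wAd) b580 [] 1 2 := .of (startD 0 1) (by decide +kernel)
theorem r580_6 : R9 F (g wAd) b580 [] 2 0 := .of (startD 0 1) (by decide +kernel)
theorem r580_7 : R9 F (g wAd) b580 [] 2 1 := .of (startD 0 1) (by decide +kernel)
theorem r580_8 : R9 F (g wAd) b580 [] 2 2 := .of (startD 0 3) (by decide +kernel)
theorem g580 : Gd F (g wAd) (0, d580) [] :=
  good9 ok h580 r580_0 r580_1 r580_2 r580_3 r580_4 r580_5 r580_6 r580_7 r580_8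

def b581 : Wd := ⟨0, d581,
  [.z, .Z9, .Z8, .Z5, .Z2, .Z1, .X10, .X9, .X8, .X7, .X5, .X4, .X3, .X0, .y10, .y8, .y5, .y4, .p9, .hi, .p3, .hi, .p9,
   .hi, .p8, .hi, .p7, .xii, .p, .xii, .p8, .y8, .xii, .y7, .tau, .y1, .xii, .p10, .xii, .p10, .y7, .xii, .y10, .tau,
   .X0, .p7, .xii, .hi, .p5, .xii, .y5, .hi, .p2, .tau, .xii, .p4, .xii, .y2, .p10, .y6, .hi, .p6, .taui, .xii, .y2,
   .p2, .hi, .p],
  [.Z10, .Z8, .Z6, .Z5, .Z4, .Z1, .Z0, .X9, .X8, .X7, .X2, .y8, .y6, .y2, .y1, .p, .hi, .p6, .hi, .p, .hi, .p3, .hi,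
   .xii, .hi, .xii, .p8, .y2, .taui, .y1, .xii, .p10, .xii, .y1, .p10, .xii, .y4, .y8, .tau, .y1, .xii, .p5, .xii,
   .y5, .p5, .xii, .y4, .y10, .taui, .xii, .p6, .xii, .y4, .y7, .p, .taui, .xii, .p7],
  [.z, .Z0, .X9, .X8, .X7, .X5, .X4, .X3, .X2, .X1, .y10, .y9, .y4, .y1, .p6, .hi, .p4, .hi, .p10, .hi, .p5, .xii, .p,
   .xii, .p7, .xii, .y4, .taui, .y1, .xii, .p10, .xii, .y2, .p10, .xii, .y2, .y8, .tau, .X0, .xii, .p7, .xii, .y5,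
   .y7, .p7, .xii, .y2, .p5, .taui, .xii, .p4, .xii, .p4, .y5, .xii, .tau, .xii, .p2]⟩

theorem h581 : Hd F (g wAd) b581 := hdD (by decide +kernel)
theorem r581_0 : R9 F (g wAd) b581 [] 0 0 := .of (startD 0 1) (by decide +kernel)
theorem r581_1 : R9 F (g wAd) b581 [] 0 1 := .of (startD 0 1) (by decide +kernel)
theorem r581_2 : R9 F (g wAd) b581 [] 0 2 := .of (startD 0 1) (by decide +kernel)
theorem r581_3 : R9 F (g wAd) b581 [] 1 0 := .of (startD 0 1) (by decide +kernel)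
theorem r581_4 : R9 F (g wAd) b581 [] 1 1 := .of (startD 0 1) (by decide +kernel)
theorem r581_5 : R9 F (g wAd) b581 [] 1 2 := .of (startD 0 1) (by decide +kernel)
theorem r581_6 : R9 F (g wAd) b581 [] 2 0 := .of (startD 0 1) (by decide +kernel)
theorem r581_7 : R9 F (g wAd) b581 [] 2 1 := .of (startD 0 1) (by decide +kernel)
theorem r581_8 : R9 F (g wAd) b581 [] 2 2 := .of (startD 0 1) (by decide +kernel)
theorem g581 : Gd F (g wAd) (0, d581) [] :=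
  good9 ok h581 r581_0 r581_1 r581_2 r581_3 r581_4 r581_5 r581_6 r581_7 r581_8

def b582 : Wd := ⟨0, d582,
  [.Z10, .Z8, .Z3, .Z2, .Z1, .Z0, .X10, .X9, .X7, .X4, .X3, .X0, .y10, .y9, .y8, .y7, .y6, .y3, .p6, .hi, .p6, .hi,
   .p7, .hi, .p8, .hi, .p3, .hi, .p2, .xii, .y2, .p2, .hi, .xii, .y8, .p3, .taui, .y1, .xii, .p10, .xii, .y1, .p10,
   .xii, .taui, .xii, .p, .xii, .y4, .hi, .xii, .y4, .y7, .taui, .p5, .xii, .p10, .y1, .xii, .tau, .xii, .p8, .xii,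
   .y3, .y5, .p8, .hi, .tau, .xii, .y2, .p],
  [.Z10, .Z6, .Z3, .Z0, .X10, .X9, .X5, .X1, .X0, .y10, .y9, .y8, .y7, .y6, .y4, .hi, .p3, .hi, .p3, .hi, .p9, .hi,
   .p4, .xii, .y2, .taui, .xii, .y6, .p, .xii, .y2, .p, .xii, .y4, .y7, .tau, .p4, .xii, .y2, .p8, .xii, .y2, .y7,
   .p7, .taui, .xii, .p2, .xii, .y2, .hi, .p7, .taui, .xii, .y2, .p, .hi],
  [.Z10, .Z9, .Z8, .Z7, .Z6, .Z5, .Z4, .Z3, .Z1, .X10, .X9, .X7, .X5, .X3, .X1, .y6, .y4, .y2, .p9, .hi, .p3, .hi,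
   .p8, .hi, .p10, .hi, .p4, .hi, .p5, .xii, .p, .xii, .y6, .hi, .p, .hi, .p3, .taui, .y1, .xii, .y2, .hi, .xii, .y10,
   .p10, .xii, .y4, .y9, .taui, .xii, .y6, .p4, .xii, .y3, .p5, .xii, .p8, .tau, .xii, .p8, .xii, .y3, .p, .hi, .y8,
   .taui, .xii, .y2, .p5, .xii, .y3, .y4]⟩

theorem h582 : Hd F (g wAd) b582 := hdD (by decide +kernel)
theorem r582_0 : R9 F (g wAd) b582 [] 0 0 := .of (startD 0 1) (by decide +kernel)
theorem r582_1 : R9 F (g wAd) b582 [] 0 1 := .of (startD 0 1) (by decide +kernel)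
theorem r582_2 : R9 F (g wAd) b582 [] 0 2 := .of (startD 0 1) (by decide +kernel)
theorem r582_3 : R9 F (g wAd) b582 [] 1 0 := .of (startD 0 1) (by decide +kernel)
theorem r582_4 : R9 F (g wAd) b582 [] 1 1 := .of (startD 0 1) (by decide +kernel)
theorem r582_5 : R9 F (g wAd) b582 [] 1 2 := .of (startD 0 1) (by decide +kernel)
theorem r582_6 : R9 F (g wAd) b582 [] 2 0 := .of (startD 0 1) (by decide +kernel)
theorem r582_7 : R9 F (g wAd) b582 [] 2 1 := .of (startD 0 1) (by decide +kernel)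
theorem r582_8 : R9 F (g wAd) b582 [] 2 2 := .of (startD 0 1) (by decide +kernel)
theorem g582 : Gd F (g wAd) (0, d582) [] :=
  good9 ok h582 r582_0 r582_1 r582_2 r582_3 r582_4 r582_5 r582_6 r582_7 r582_8

def b583 : Wd := ⟨0, d583,
  [.Z10, .Z8, .Z3, .X10, .X8, .X6, .X2, .X1, .y10, .y8, .y5, .y4, .y1, .hi, .p2, .hi, .p8, .hi, .p10, .hi, .p7, .hi,
   .p10, .xii, .p5, .hi, .p5, .tau, .xii, .p3, .xii, .p5, .y10, .xii, .y7, .tau, .xii, .hi, .p6, .xii, .y1, .p, .tau,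
   .xii, .y2, .p2],
  [.z, .Z8, .Z6, .Z3, .Z1, .Z0, .X9, .X8, .X7, .X2, .X0, .y6, .y4, .y3, .y2, .p3, .hi, .p8, .hi, .p9, .hi, .p3, .hi,
   .p, .hi, .p, .xii, .y2, .hi, .p8, .xii, .tau, .xii, .y6, .p, .xii, .y10, .p, .xii, .y5, .y10, .tau, .X0, .p10,
   .xii, .y6, .p8, .xii, .y5, .y7, .p, .tau, .xii, .p8, .xii, .p5, .y7],
  [.z, .Z10, .Z9, .Z7, .Z6, .Z4, .Z3, .Z0, .X10, .X8, .X7, .X5, .X3, .X1, .y10, .y9, .y8, .y6, .y4, .y2, .hi, .p10,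
   .hi, .p6, .hi, .p4, .hi, .p6, .hi, .p8, .hi, .p4, .xii, .p, .xii, .y4, .p8, .xii, .y1, .taui, .xii, .p, .xii, .y2,
   .hi, .xii, .y1, .taui, .p9, .xii, .hi, .p8, .y6, .xii, .y7, .y10, .taui, .xii, .p7, .xii, .y10, .p10, .hi, .p2,
   .taui, .xii, .p5, .xii, .y2, .y7]⟩

theorem h583 : Hd F (g wAd) b583 := hdD (by decide +kernel)
theorem r583_0 : R9 F (g wAd) b583 [] 0 0 := .of (startD 0 1) (by decide +kernel)
theorem r583_1 : R9 F (g wAd) b583 [] 0 1 := .of (startD 0 1) (by decide +kernel)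
theorem r583_2 : R9 F (g wAd) b583 [] 0 2 := .of (startD 0 1) (by decide +kernel)
theorem r583_3 : R9 F (g wAd) b583 [] 1 0 := .of (startD 0 1) (by decide +kernel)
theorem r583_4 : R9 F (g wAd) b583 [] 1 1 := .of (startD 0 1) (by decide +kernel)
theorem r583_5 : R9 F (g wAd) b583 [] 1 2 := .of (startD 0 1) (by decide +kernel)
theorem r583_6 : R9 F (g wAd) b583 [] 2 0 := .of (startD 0 1) (by decide +kernel)
theorem r583_7 : R9 F (g wAd) b583 [] 2 1 := .of (startD 0 1) (by decide +kernel)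
theorem r583_8 : R9 F (g wAd) b583 [] 2 2 := .of (startD 0 1) (by decide +kernel)
theorem g583 : Gd F (g wAd) (0, d583) [] :=
  good9 ok h583 r583_0 r583_1 r583_2 r583_3 r583_4 r583_5 r583_6 r583_7 r583_8

def b584 : Wd := ⟨0, d584,
  [.Z10, .Z8, .Z7, .Z6, .Z3, .Z1, .X10, .X8, .X6, .X1, .y10, .y9, .y8, .y5, .y2, .p9, .hi, .p8, .hi, .p3, .hi, .p7,
   .hi, .p7, .hi, .p10, .hi, .p2, .xii, .p, .xii, .y4, .p4, .xii, .y9, .tau, .xii, .y1, .p, .xii, .p, .xii, .y1, .y2,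
   .tau, .X0, .p8, .xii, .y7, .p4, .hi, .xii, .hi, .p8, .taui, .xii, .p9, .xii, .y3, .p9, .xii, .y4, .tau, .xii, .y2,
   .p3],
  [.z, .Z9, .Z7, .Z5, .Z4, .Z2, .Z1, .Z0, .X9, .X8, .X6, .X5, .y5, .y4, .y3, .y1, .p4, .hi, .p5, .hi, .p8, .hi, .p10,
   .hi, .p6, .hi, .p6, .hi, .xii, .y2, .p, .xii, .y6, .taui, .xii, .y1, .p, .xii, .p, .y7, .xii, .y5, .taui, .X0, .p9,
   .xii, .p9, .xii, .p5, .xii, .y8, .y9, .taui, .xii, .p7, .xii, .p5, .y2, .hi, .p6, .tau, .xii, .p],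
  [.z, .Z10, .Z8, .Z7, .Z6, .Z5, .Z4, .Z2, .Z1, .Z0, .X9, .X8, .X7, .X6, .X4, .X0, .y10, .y9, .y7, .y5, .p7, .hi, .p6,
   .hi, .p5, .hi, .p, .hi, .p4, .hi, .xii, .p10, .xii, .y1, .p8, .xii, .y4, .tau, .xii, .y6, .p, .xii, .y10, .p, .xii,
   .y4, .y5, .taui, .X0, .y1, .xii, .p6, .xii, .p8, .y3, .xii, .y2, .p6, .tau, .xii, .p5, .xii, .hi, .taui, .xii, .p8]⟩

theorem h584 : Hd F (g wAd) b584 := hdD (by decide +kernel)
theorem r584_0 : R9 F (g wAd) b584 [] 0 0 := .of (startD 0 1) (by decide +kernel)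
theorem r584_1 : R9 F (g wAd) b584 [] 0 1 := .of (startD 0 1) (by decide +kernel)
theorem r584_2 : R9 F (g wAd) b584 [] 0 2 := .of (startD 0 1) (by decide +kernel)
theorem r584_3 : R9 F (g wAd) b584 [] 1 0 := .of (startD 0 1) (by decide +kernel)
theorem r584_4 : R9 F (g wAd) b584 [] 1 1 := .of (startD 0 1) (by decide +kernel)
theorem r584_5 : R9 F (g wAd) b584 [] 1 2 := .of (startD 0 2) (by decide +kernel)
theorem r584_6 : R9 F (g wAd) b584 [] 2 0 := .of (startD 0 1) (by decide +kernel)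
theorem r584_7 : R9 F (g wAd) b584 [] 2 1 := .of (startD 0 1) (by decide +kernel)
theorem r584_8 : R9 F (g wAd) b584 [] 2 2 := .of (startD 0 1) (by decide +kernel)
theorem g584 : Gd F (g wAd) (0, d584) [] :=
  good9 ok h584 r584_0 r584_1 r584_2 r584_3 r584_4 r584_5 r584_6 r584_7 r584_8

def b585 : Wd := ⟨0, d585,
  [.Z10, .Z6, .Z5, .Z4, .X9, .X8, .X7, .X6, .X3, .X2, .X1, .y10, .y9, .y8, .y1, .p9, .hi, .p7, .hi, .p10, .hi, .p7,
   .hi, .p6, .hi, .p7, .xii, .y2, .p, .xii, .y3, .y4, .taui, .xii, .p, .xii, .y3, .hi, .xii, .y7, .taui, .p7, .xii,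
   .p4, .xii, .y5, .hi, .p6, .tau, .xii, .y2, .p8, .xii, .y5, .p10, .tau, .xii, .y2, .p],
  [.Z9, .Z7, .Z5, .Z4, .Z3, .Z1, .X9, .X8, .X5, .X4, .X2, .X1, .X0, .y9, .y6, .y5, .y3, .y2, .y1, .p6, .hi, .p8, .hi,
   .p, .hi, .p6, .hi, .p3, .hi, .p, .xii, .hi, .p8, .xii, .y4, .taui, .xii, .p, .xii, .y1, .y10, .hi, .xii, .y5, .tau,
   .y1, .p4, .xii, .p4, .xii, .y3, .p6, .y8, .tau, .xii, .y2, .p9, .xii, .p, .y2, .xii, .tau],
  [.z, .Z8, .Z7, .Z6, .Z3, .Z2, .X10, .X9, .X8, .X4, .X2, .y9, .y8, .y7, .y5, .y2, .p10, .hi, .p8, .hi, .p3, .hi,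
   .p10, .hi, .p5, .hi, .p, .xii, .p5, .hi, .p5, .tau, .xii, .y6, .p, .xii, .p, .xii, .y1, .y2, .y10, .tau, .X0, .xii,
   .p4, .xii, .y4, .p9, .y8, .xii, .y1, .y2, .tau, .xii, .y2, .p8, .xii, .y5, .p4, .xii, .y1, .y9, .tau, .xii, .p7]⟩

theorem h585 : Hd F (g wAd) b585 := hdD (by decide +kernel)
theorem r585_0 : R9 F (g wAd) b585 [] 0 0 := .of (startD 0 1) (by decide +kernel)
theorem r585_1 : R9 F (g wAd) b585 [] 0 1 := .of (startD 0 1) (by decide +kernel)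
theorem r585_2 : R9 F (g wAd) b585 [] 0 2 := .of (startD 0 1) (by decide +kernel)
theorem r585_3 : R9 F (g wAd) b585 [] 1 0 := .of (startD 0 1) (by decide +kernel)
theorem r585_4 : R9 F (g wAd) b585 [] 1 1 := .of (startD 0 1) (by decide +kernel)
theorem r585_5 : R9 F (g wAd) b585 [] 1 2 := .of (startD 0 1) (by decide +kernel)
theorem r585_6 : R9 F (g wAd) b585 [] 2 0 := .of (startD 0 1) (by decide +kernel)
theorem r585_7 : R9 F (g wAd) b585 [] 2 1 := .of (startD 0 1) (by decide +kernel)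
theorem r585_8 : R9 F (g wAd) b585 [] 2 2 := .of (startD 0 1) (by decide +kernel)
theorem g585 : Gd F (g wAd) (0, d585) [] :=
  good9 ok h585 r585_0 r585_1 r585_2 r585_3 r585_4 r585_5 r585_6 r585_7 r585_8

def b586 : Wd := ⟨0, d586,
  [.Z7, .Z0, .X10, .X9, .X7, .X4, .X3, .X2, .y8, .y6, .y2, .p2, .hi, .p5, .hi, .p4, .hi, .p6, .hi, .p3, .hi, .p7,
   .xii, .y2, .p, .xii, .y3, .p9, .xii, .tau, .y1, .xii, .p10, .xii, .y8, .p10, .xii, .y4, .y9, .tau, .X0, .p10, .xii,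
   .y8, .hi, .p5, .xii, .y4, .p, .tau, .xii, .p5, .xii, .p9, .y2, .xii, .y1, .y2, .taui, .xii, .p4, .hi, .p],
  [.z, .Z10, .Z8, .Z4, .Z3, .Z1, .X8, .X6, .X1, .y2, .y1, .p2, .hi, .p8, .hi, .p7, .hi, .p3, .hi, .p5, .xii, .hi,
   .xii, .p2, .xii, .y1, .y8, .tau, .xii, .p, .xii, .y4, .hi, .xii, .y3, .y9, .tau, .X0, .y1, .hi, .xii, .p8, .xii,
   .y5, .p4, .xii, .y10, .tau, .xii, .y2, .p3, .hi],
  [.z, .Z10, .Z7, .Z5, .Z4, .Z2, .Z0, .X9, .X7, .X6, .X3, .X2, .y9, .y8, .y6, .y5, .y2, .p6, .hi, .p5, .hi, .p6, .hi,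
   .p10, .hi, .p9, .hi, .p8, .hi, .xii, .hi, .p8, .xii, .y10, .taui, .xii, .p, .xii, .y4, .hi, .xii, .y3, .y10, .tau,
   .xii, .p, .xii, .y2, .hi, .xii, .y4, .y7, .tau, .p10, .xii, .y7, .p10, .xii, .tau, .xii, .y2, .p5, .xii, .y4, .p2,
   .xii, .y8, .tau, .xii, .y2]⟩

theorem h586 : Hd F (g wAd) b586 := hdD (by decide +kernel)
theorem r586_0 : R9 F (g wAd) b586 [24] 0 0 := .of (startD 0 1) (by decide +kernel)
theorem r586_1 : R9 F (g wAd) b586 [24] 0 1 := .of (startD 0 1) (by decide +kernel)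
theorem r586_2 : R9 F (g wAd) b586 [24] 0 2 := .of' (startD 0 1) (skip := [6]) (by decide +kernel) (by decide)
theorem r586_3 : R9 F (g wAd) b586 [24] 1 0 := .of (startD 0 1) (by decide +kernel)
theorem r586_4 : R9 F (g wAd) b586 [24] 1 1 := .of (startD 0 1) (by decide +kernel)
theorem r586_5 : R9 F (g wAd) b586 [24] 1 2 := .of (startD 0 1) (by decide +kernel)
theorem r586_6 : R9 F (g wAd) b586 [24] 2 0 := .of (startD 0 1) (by decide +kernel)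
theorem r586_7 : R9 F (g wAd) b586 [24] 2 1 := .of (startD 0 1) (by decide +kernel)
theorem r586_8 : R9 F (g wAd) b586 [24] 2 2 := .of (startD 0 1) (by decide +kernel)
theorem g586 : Gd F (g wAd) (0, d586) [24] :=
  good9 ok h586 r586_0 r586_1 r586_2 r586_3 r586_4 r586_5 r586_6 r586_7 r586_8

def b587 : Wd := ⟨0, d587,
  [.Z10, .Z6, .Z5, .Z2, .Z1, .X9, .X8, .X5, .X4, .X2, .X0, .y10, .y8, .y3, .y2, .hi, .p10, .hi, .p6, .hi, .p4, .hi,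
   .p3, .hi, .p4, .hi, .p7, .xii, .p10, .xii, .y8, .p10, .xii, .y4, .tau, .y1, .xii, .p10, .xii, .y8, .p10, .xii,
   .taui, .X0, .p4, .xii, .y6, .p7, .xii, .y2, .p5, .hi, .p6, .taui, .xii, .p7, .xii, .y10, .p6, .tau, .xii, .y2, .p8],
  [.z, .Z9, .Z7, .Z6, .Z5, .Z3, .X10, .X9, .X8, .X7, .X6, .X2, .X1, .y10, .y9, .y4, .p9, .hi, .p5, .hi, .p, .hi, .p8,
   .hi, .p8, .hi, .p8, .hi, .xii, .taui, .xii, .p, .xii, .y1, .y6, .hi, .xii, .y4, .y7, .tau, .X0, .p5, .xii, .y8,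
   .hi, .p7, .xii, .y5, .p3, .tau, .xii, .p3, .xii, .y3, .p6, .xii, .y4, .y10, .taui, .xii],
  [.z, .Z10, .Z8, .Z5, .Z3, .Z2, .Z1, .Z0, .X10, .X8, .X7, .X6, .X4, .X3, .X2, .y10, .y9, .y6, .y5, .y2, .p6, .hi,
   .p7, .hi, .p6, .hi, .p7, .hi, .p9, .hi, .p7, .xii, .p10, .xii, .y1, .p6, .xii, .y7, .tau, .xii, .p, .xii, .y4, .hi,
   .xii, .y5, .y9, .tau, .X0, .p5, .xii, .p3, .hi, .xii, .y4, .y6, .p3, .taui, .xii, .y2, .p8, .xii, .y8, .p2, .xii,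
   .tau, .xii, .p8]⟩

theorem h587 : Hd F (g wAd) b587 := hdD (by decide +kernel)
theorem r587_0 : R9 F (g wAd) b587 [] 0 0 := .of (startD 0 1) (by decide +kernel)
theorem r587_1 : R9 F (g wAd) b587 [] 0 1 := .of (startD 0 1) (by decide +kernel)
theorem r587_2 : R9 F (g wAd) b587 [] 0 2 := .of (startD 0 1) (by decide +kernel)
theorem r587_3 : R9 F (g wAd) b587 [] 1 0 := .of (startD 0 1) (by decide +kernel)
theorem r587_4 : R9 F (g wAd) b587 [] 1 1 := .of (startD 0 1) (by decide +kernel)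
theorem r587_5 : R9 F (g wAd) b587 [] 1 2 := .of (startD 0 1) (by decide +kernel)
theorem r587_6 : R9 F (g wAd) b587 [] 2 0 := .of (startD 0 1) (by decide +kernel)
theorem r587_7 : R9 F (g wAd) b587 [] 2 1 := .of (startD 0 1) (by decide +kernel)
theorem r587_8 : R9 F (g wAd) b587 [] 2 2 := .of (startD 0 1) (by decide +kernel)
theorem g587 : Gd F (g wAd) (0, d587) [] :=
  good9 ok h587 r587_0 r587_1 r587_2 r587_3 r587_4 r587_5 r587_6 r587_7 r587_8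

def b588 : Wd := ⟨0, d588,
  [.Z10, .Z9, .Z8, .Z4, .Z3, .Z2, .Z1, .X8, .X7, .X6, .X5, .X4, .X3, .y10, .y7, .y6, .y4, .y1, .p6, .hi, .p3, .hi,
   .p8, .hi, .xii, .p2, .hi, .xii, .y5, .y9, .p3, .tau, .xii, .y1, .p, .xii, .p, .xii, .y1, .y10, .taui, .p10, .xii,
   .y8, .p8, .xii, .p5, .hi, .p3, .taui, .xii, .p9, .xii, .y1, .hi, .y5, .p7, .tau, .xii, .y2, .p8],
  [.z, .Z7, .Z6, .Z2, .Z1, .Z0, .X6, .X5, .X4, .X2, .y10, .y8, .y7, .y6, .y4, .y2, .y1, .p5, .hi, .p6, .hi, .p4, .hi,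
   .p5, .hi, .p5, .hi, .xii, .y2, .p, .xii, .y3, .y4, .taui, .y1, .xii, .p10, .xii, .y1, .p10, .xii, .y3, .y7, .taui,
   .p4, .xii, .p8, .xii, .p, .hi, .y7, .taui, .xii, .y2, .hi, .p6, .xii, .y4, .y9, .taui, .xii, .p7],
  [.Z6, .Z4, .Z3, .Z2, .Z0, .X6, .X5, .X3, .X2, .X1, .y8, .y7, .hi, .p5, .hi, .p6, .hi, .p6, .hi, .p3, .hi, .p4, .xii,
   .p10, .xii, .y10, .p2, .xii, .y5, .tau, .xii, .p, .xii, .y1, .hi, .xii, .y3, .y9, .tau, .p6, .xii, .p8, .xii, .y2,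
   .p6, .tau, .xii, .p4, .xii, .y8, .p4, .xii, .y4, .y6, .tau, .xii, .y6, .hi, .p7]⟩

theorem h588 : Hd F (g wAd) b588 := hdD (by decide +kernel)
theorem r588_0 : R9 F (g wAd) b588 [] 0 0 := .of (startD 0 1) (by decide +kernel)
theorem r588_1 : R9 F (g wAd) b588 [] 0 1 := .of (startD 0 1) (by decide +kernel)
theorem r588_2 : R9 F (g wAd) b588 [] 0 2 := .of (startD 0 1) (by decide +kernel)
theorem r588_3 : R9 F (g wAd) b588 [] 1 0 := .of (startD 0 1) (by decide +kernel)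
theorem r588_4 : R9 F (g wAd) b588 [] 1 1 := .of (startD 0 1) (by decide +kernel)
theorem r588_5 : R9 F (g wAd) b588 [] 1 2 := .of (startD 0 1) (by decide +kernel)
theorem r588_6 : R9 F (g wAd) b588 [] 2 0 := .of (startD 0 1) (by decide +kernel)
theorem r588_7 : R9 F (g wAd) b588 [] 2 1 := .of (startD 0 1) (by decide +kernel)
theorem r588_8 : R9 F (g wAd) b588 [] 2 2 := .of (startD 0 1) (by decide +kernel)
theorem g588 : Gd F (g wAd) (0, d588) [] :=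
  good9 ok h588 r588_0 r588_1 r588_2 r588_3 r588_4 r588_5 r588_6 r588_7 r588_8

def b589 : Wd := ⟨0, d589,
  [.z, .Z10, .Z9, .Z5, .Z3, .Z1, .Z0, .X9, .X8, .X7, .X6, .X5, .X3, .X2, .X0, .y7, .y5, .y4, .y3, .y1, .p8, .hi, .p6,
   .hi, .p3, .hi, .p3, .hi, .p10, .hi, .p, .xii, .y2, .hi, .p8, .xii, .y2, .taui, .y1, .xii, .p10, .xii, .y8, .p10,
   .xii, .y8, .y10, .taui, .X0, .p5, .xii, .p, .y7, .xii, .hi, .p2, .y8, .taui, .xii, .p4, .xii, .y3, .p, .hi, .y5,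
   .taui, .xii, .y2, .p7],
  [.z, .Z9, .Z8, .Z7, .Z5, .Z4, .Z3, .Z0, .X9, .X8, .X6, .X5, .X3, .X2, .X1, .X0, .y10, .y8, .y7, .y6, .y4, .y1, .hi,
   .p5, .hi, .p4, .hi, .p6, .hi, .p4, .hi, .p7, .hi, .p4, .hi, .xii, .y2, .hi, .xii, .p10, .taui, .xii, .y2, .p, .xii,
   .y1, .hi, .xii, .y6, .y10, .taui, .hi, .xii, .p8, .xii, .y7, .y10, .p4, .tau, .xii, .y2, .p3, .hi, .xii, .p3, .hi],
  [.Z7, .Z6, .Z4, .X10, .X8, .X7, .X1, .y9, .y5, .y1, .p7, .hi, .p8, .hi, .p10, .hi, .p2, .hi, .p5, .hi, .p9, .xii,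
   .hi, .p8, .xii, .y9, .taui, .xii, .y2, .p, .xii, .y1, .hi, .xii, .y3, .y4, .tau, .p4, .xii, .y1, .p4, .xii, .y1,
   .hi, .p9, .taui, .xii, .p4, .xii, .y5, .p10, .xii, .y2, .y3, .taui]⟩

theorem h589 : Hd F (g wAd) b589 := hdD (by decide +kernel)
theorem r589_0 : R9 F (g wAd) b589 [] 0 0 := .of (startD 0 1) (by decide +kernel)
theorem r589_1 : R9 F (g wAd) b589 [] 0 1 := .of (startD 0 1) (by decide +kernel)
theorem r589_2 : R9 F (g wAd) b589 [] 0 2 := .of (startD 0 1) (by decide +kernel)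
theorem r589_3 : R9 F (g wAd) b589 [] 1 0 := .of (startD 0 1) (by decide +kernel)
theorem r589_4 : R9 F (g wAd) b589 [] 1 1 := .of (startD 0 1) (by decide +kernel)
theorem r589_5 : R9 F (g wAd) b589 [] 1 2 := .of (startD 0 1) (by decide +kernel)
theorem r589_6 : R9 F (g wAd) b589 [] 2 0 := .of (startD 0 1) (by decide +kernel)
theorem r589_7 : R9 F (g wAd) b589 [] 2 1 := .of (startD 0 1) (by decide +kernel)
theorem r589_8 : R9 F (g wAd) b589 [] 2 2 := .of (startD 0 1) (by decide +kernel)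
theorem g589 : Gd F (g wAd) (0, d589) [] :=
  good9 ok h589 r589_0 r589_1 r589_2 r589_3 r589_4 r589_5 r589_6 r589_7 r589_8

theorem all : AllG F (g wAd) LD58 :=
  .cons g580 (.cons g581 (.cons g582 (.cons g583 (.cons g584 (.cons g585 (.cons g586 (.cons g587 (.cons g588 (.cons g589 (.nil))))))))))

end Cfsg.Agent.BX.No33.Bk.D58
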