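import Cfsg.Agent.BX.No33.Cheap
set_option linter.all false

/-!
# Tests, diagonal case, part 59 (helper5; generated)
-/

set_option autoImplicit false
set_option maxRecDepth 100000
set_option Elab.async false

namespace Cfsg.Agent.BX.No33.Bk.D59

open Cfsg.Agent.H819.U33 Cfsg.Agent.BX.No33.Front

def b590 : Wd := ⟨0, d590,
  [.Z10, .Z9, .Z7, .Z6, .Z5, .Z4, .Z3, .Z1, .X7, .X0, .y9, .y8, .y6, .y5, .y4, .y1, .hi, .p5, .hi, .p3, .hi, .p3, .hi,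
   .p7, .xii, .p10, .xii, .y4, .p2, .xii, .y5, .y10, .tau, .y1, .xii, .y6, .p10, .xii, .y8, .p10, .xii, .y4, .tau,
   .xii, .p7, .xii, .y1, .y8, .p9, .xii, .y5, .y10, .tau, .xii, .p9, .xii, .p3, .y6, .xii, .y1, .taui, .xii, .hi,
   .xii],
  [.Z9, .Z7, .Z2, .Z1, .Z0, .X10, .X9, .X1, .y10, .y6, .y5, .y4, .y2, .hi, .p3, .hi, .p5, .hi, .p8, .hi, .p8, .xii,
   .p, .xii, .y3, .hi, .xii, .y5, .taui, .xii, .y1, .p, .xii, .y2, .p, .xii, .y1, .taui, .X0, .p10, .xii, .p8, .xii,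
   .y1, .y2, .p6, .hi, .p3, .taui, .xii, .p7, .xii, .y5, .p10, .y10, .hi, .p10],
  [.Z10, .Z9, .Z7, .Z6, .Z5, .Z4, .X9, .X8, .X7, .X6, .X4, .y10, .y9, .y6, .y5, .y4, .y3, .p10, .hi, .p6, .hi, .p6,
   .hi, .p3, .hi, .p3, .hi, .p4, .xii, .p, .xii, .y6, .p3, .hi, .tau, .y1, .xii, .y6, .p10, .xii, .y8, .p10, .xii,
   .y4, .y10, .tau, .X0, .y1, .hi, .xii, .p5, .xii, .y4, .p10, .hi, .p9, .taui, .xii, .p2, .xii, .p5, .hi, .p6, .tau,
   .xii, .hi, .p6]⟩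

theorem h590 : Hd F (g wAd) b590 := hdD (by decide +kernel)
theorem r590_0 : R9 F (g wAd) b590 [] 0 0 := .of (startD 0 1) (by decide +kernel)
theorem r590_1 : R9 F (g wAd) b590 [] 0 1 := .of (startD 0 1) (by decide +kernel)
theorem r590_2 : R9 F (g wAd) b590 [] 0 2 := .of (startD 0 1) (by decide +kernel)
theorem r590_3 : R9 F (g wAd) b590 [] 1 0 := .of (startD 0 1) (by decide +kernel)
theorem r590_4 : R9 F (g wAd) b590 [] 1 1 := .of (startD 0 1) (by decide +kernel)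
theorem r590_5 : R9 F (g wAd) b590 [] 1 2 := .of (startD 0 1) (by decide +kernel)
theorem r590_6 : R9 F (g wAd) b590 [] 2 0 := .of (startD 0 1) (by decide +kernel)
theorem r590_7 : R9 F (g wAd) b590 [] 2 1 := .of (startD 0 1) (by decide +kernel)
theorem r590_8 : R9 F (g wAd) b590 [] 2 2 := .of (startD 0 1) (by decide +kernel)
theorem g590 : Gd F (g wAd) (0, d590) [] :=
  good9 ok h590 r590_0 r590_1 r590_2 r590_3 r590_4 r590_5 r590_6 r590_7 r590_8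

def b591 : Wd := ⟨0, d591,
  [.z, .Z10, .Z9, .Z8, .Z7, .Z6, .Z5, .Z3, .Z2, .Z1, .X10, .X9, .X7, .X6, .X5, .X3, .X1, .y10, .y9, .y8, .y7, .y6,
   .y4, .y3, .y2, .hi, .p9, .hi, .p10, .hi, .p5, .hi, .p10, .hi, .p5, .xii, .p, .xii, .y1, .y2, .taui, .xii, .y1, .p,
   .xii, .p, .xii, .y5, .y8, .taui, .X0, .y1, .xii, .y6, .p5, .xii, .y6, .p8, .xii, .y2, .y4, .tau, .xii, .y2, .p9,
   .xii, .p5, .hi, .tau, .xii, .p],
  [.Z4, .Z0, .X10, .X9, .X8, .X5, .X4, .y9, .y6, .y2, .hi, .p6, .hi, .p10, .hi, .p2, .hi, .p10, .hi, .p8, .hi, .p6,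
   .xii, .p, .xii, .y4, .p, .xii, .y7, .taui, .xii, .p, .xii, .y2, .hi, .xii, .y4, .y5, .taui, .X0, .hi, .xii, .p9,
   .xii, .y2, .y10, .p2, .hi, .p10, .tau, .xii, .hi, .p5, .xii, .p5, .y5],
  [.Z10, .Z9, .Z8, .Z5, .Z4, .Z1, .X8, .X7, .X4, .X1, .X0, .y10, .y2, .p10, .hi, .p5, .hi, .p8, .hi, .p3, .hi, .p10,
   .hi, .p4, .xii, .y2, .p, .xii, .y6, .hi, .p10, .taui, .y1, .xii, .p10, .xii, .y1, .y7, .p10, .xii, .y4, .taui, .X0,
   .xii, .p4, .xii, .y1, .y7, .p8, .xii, .y6, .p2, .taui, .xii, .y2, .p9, .xii, .y3, .p9, .xii, .y10, .tau, .xii, .p]⟩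

theorem h591 : Hd F (g wAd) b591 := hdD (by decide +kernel)
theorem r591_0 : R9 F (g wAd) b591 [44] 0 0 := .of (startD 0 1) (by decide +kernel)
theorem r591_1 : R9 F (g wAd) b591 [44] 0 1 := .of (startD 0 1) (by decide +kernel)
theorem r591_2 : R9 F (g wAd) b591 [44] 0 2 := .of (startD 0 1) (by decide +kernel)
theorem r591_3 : R9 F (g wAd) b591 [44] 1 0 := .of (startD 0 1) (by decide +kernel)
theorem r591_4 : R9 F (g wAd) b591 [44] 1 1 := .of' (startD 0 1) (skip := [8]) (by decide +kernel) (by decide)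
theorem r591_5 : R9 F (g wAd) b591 [44] 1 2 := .of (startD 0 1) (by decide +kernel)
theorem r591_6 : R9 F (g wAd) b591 [44] 2 0 := .of (startD 0 1) (by decide +kernel)
theorem r591_7 : R9 F (g wAd) b591 [44] 2 1 := .of (startD 0 1) (by decide +kernel)
theorem r591_8 : R9 F (g wAd) b591 [44] 2 2 := .of (startD 0 1) (by decide +kernel)
theorem g591 : Gd F (g wAd) (0, d591) [44] :=
  good9 ok h591 r591_0 r591_1 r591_2 r591_3 r591_4 r591_5 r591_6 r591_7 r591_8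

def b592 : Wd := ⟨0, d592,
  [.Z9, .Z4, .Z2, .Z0, .X10, .X8, .X7, .X6, .X5, .X3, .y9, .y6, .y4, .y3, .y2, .y1, .p6, .hi, .p8, .hi, .p, .hi, .p8,
   .hi, .p9, .hi, .p7, .hi, .xii, .y2, .hi, .p2, .hi, .taui, .xii, .p, .xii, .y1, .hi, .xii, .y5, .y9, .taui, .X0,
   .hi, .xii, .p9, .xii, .y2, .p3, .y7, .xii, .taui, .xii, .hi, .p6, .xii, .hi, .y5, .p10, .tau, .xii, .y2, .p, .hi,
   .p4],
  [.Z10, .Z9, .Z8, .Z6, .X9, .X7, .X5, .X1, .y10, .hi, .p4, .hi, .p4, .hi, .p10, .hi, .p, .hi, .p, .hi, .xii, .p10,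
   .xii, .y4, .p3, .hi, .p5, .taui, .xii, .y1, .p, .xii, .y3, .y4, .hi, .p8, .taui, .y1, .p8, .xii, .y5, .p4, .xii,
   .y4, .y8, .taui, .xii, .y2, .p5, .xii, .p9, .xii, .y6, .y10, .taui],
  [.Z6, .Z5, .Z4, .Z3, .Z1, .Z0, .X8, .X4, .X0, .y7, .y5, .y4, .y3, .y2, .y1, .p10, .hi, .p3, .hi, .p6, .hi, .p10,
   .hi, .p3, .hi, .p4, .xii, .p, .xii, .hi, .p10, .y9, .tau, .xii, .p, .xii, .hi, .y8, .xii, .y7, .y8, .tau, .X0, .p7,
   .xii, .y2, .p4, .xii, .y1, .p5, .hi, .p9, .taui, .xii, .y2, .p4, .xii, .p5, .xii, .y10, .taui, .xii, .p10, .xii,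
   .y4]⟩

theorem h592 : Hd F (g wAd) b592 := hdD (by decide +kernel)
theorem r592_0 : R9 F (g wAd) b592 [] 0 0 := .of (startD 0 1) (by decide +kernel)
theorem r592_1 : R9 F (g wAd) b592 [] 0 1 := .of (startD 0 1) (by decide +kernel)
theorem r592_2 : R9 F (g wAd) b592 [] 0 2 := .of (startD 0 1) (by decide +kernel)
theorem r592_3 : R9 F (g wAd) b592 [] 1 0 := .of (startD 0 1) (by decide +kernel)
theorem r592_4 : R9 F (g wAd) b592 [] 1 1 := .of (startD 0 1) (by decide +kernel)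
theorem r592_5 : R9 F (g wAd) b592 [] 1 2 := .of (startD 0 1) (by decide +kernel)
theorem r592_6 : R9 F (g wAd) b592 [] 2 0 := .of (startD 0 1) (by decide +kernel)
theorem r592_7 : R9 F (g wAd) b592 [] 2 1 := .of (startD 0 1) (by decide +kernel)
theorem r592_8 : R9 F (g wAd) b592 [] 2 2 := .of (startD 0 1) (by decide +kernel)
theorem g592 : Gd F (g wAd) (0, d592) [] :=
  good9 ok h592 r592_0 r592_1 r592_2 r592_3 r592_4 r592_5 r592_6 r592_7 r592_8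

def b593 : Wd := ⟨0, d593,
  [.z, .Z8, .Z7, .Z5, .Z4, .Z3, .Z2, .X10, .X9, .X7, .X6, .X5, .X4, .X3, .X1, .X0, .y9, .y8, .y7, .y6, .y5, .y2, .hi,
   .p9, .hi, .p5, .hi, .p, .hi, .p4, .hi, .p9, .xii, .y2, .p, .xii, .y1, .hi, .p8, .tau, .xii, .p, .xii, .y1, .hi,
   .xii, .y5, .taui, .p5, .xii, .y8, .p, .xii, .hi, .p, .y5, .taui, .xii, .p2, .xii, .y3, .p, .xii, .y10, .taui, .xii,
   .hi],
  [.Z9, .Z5, .Z4, .Z3, .Z2, .Z1, .X8, .X6, .X5, .X4, .X2, .X1, .X0, .y10, .y9, .y7, .y5, .y4, .y1, .p5, .hi, .p10,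
   .hi, .p8, .hi, .p5, .hi, .p4, .hi, .p9, .hi, .xii, .p3, .hi, .xii, .y2, .p6, .tau, .xii, .y2, .p, .xii, .y4, .hi,
   .xii, .y4, .y5, .taui, .X0, .xii, .p3, .xii, .y4, .p6, .y3, .xii, .y5, .tau, .xii, .p9, .xii, .y8, .p9, .taui,
   .xii, .p7],
  [.Z10, .Z9, .Z6, .Z4, .Z2, .Z1, .X9, .X8, .X7, .X4, .X3, .y9, .y7, .y4, .y3, .y2, .y1, .hi, .p6, .hi, .p, .hi, .p7,
   .hi, .p5, .hi, .p10, .xii, .p10, .xii, .y7, .p4, .hi, .tau, .xii, .p, .xii, .y1, .hi, .xii, .y1, .y9, .tau, .X0,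
   .xii, .p7, .xii, .p9, .y5, .xii, .y1, .p4, .tau, .xii, .p4, .xii, .p4, .y5, .tau, .xii, .p8]⟩

theorem h593 : Hd F (g wAd) b593 := hdD (by decide +kernel)
theorem r593_0 : R9 F (g wAd) b593 [] 0 0 := .of (startD 0 1) (by decide +kernel)
theorem r593_1 : R9 F (g wAd) b593 [] 0 1 := .of (startD 0 1) (by decide +kernel)
theorem r593_2 : R9 F (g wAd) b593 [] 0 2 := .of (startD 0 1) (by decide +kernel)
theorem r593_3 : R9 F (g wAd) b593 [] 1 0 := .of (startD 0 1) (by decide +kernel)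
theorem r593_4 : R9 F (g wAd) b593 [] 1 1 := .of (startD 0 1) (by decide +kernel)
theorem r593_5 : R9 F (g wAd) b593 [] 1 2 := .of (startD 0 1) (by decide +kernel)
theorem r593_6 : R9 F (g wAd) b593 [] 2 0 := .of (startD 0 1) (by decide +kernel)
theorem r593_7 : R9 F (g wAd) b593 [] 2 1 := .of (startD 0 1) (by decide +kernel)
theorem r593_8 : R9 F (g wAd) b593 [] 2 2 := .of (startD 0 1) (by decide +kernel)
theorem g593 : Gd F (g wAd) (0, d593) [] :=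
  good9 ok h593 r593_0 r593_1 r593_2 r593_3 r593_4 r593_5 r593_6 r593_7 r593_8

def b594 : Wd := ⟨0, d594,
  [.z, .Z8, .Z6, .Z5, .Z3, .Z2, .Z1, .Z0, .X8, .X7, .X5, .X3, .X2, .y8, .y5, .y4, .y3, .p10, .hi, .p6, .hi, .p8, .hi,
   .p3, .hi, .p3, .hi, .p9, .hi, .p9, .hi, .xii, .y2, .p, .xii, .hi, .p10, .y8, .taui, .y1, .xii, .p10, .xii, .p10,
   .y7, .xii, .taui, .p5, .xii, .p9, .y6, .xii, .p6, .y3, .xii, .y3, .taui, .xii, .p5, .xii, .y5, .y8, .p8, .xii,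
   .taui, .xii, .hi, .p2],
  [.Z9, .Z7, .Z5, .Z3, .Z1, .X7, .X5, .X2, .X1, .y10, .y8, .y7, .y4, .hi, .p3, .hi, .p4, .hi, .p4, .hi, .xii, .y2,
   .p10, .xii, .y9, .taui, .y1, .xii, .p10, .xii, .y1, .y9, .p10, .xii, .tau, .xii, .p2, .xii, .hi, .xii, .p10, .y7,
   .y9, .tau, .xii, .p4, .xii, .y6, .p5, .xii, .y2, .y3],
  [.Z6, .Z5, .Z2, .Z0, .X9, .X7, .X6, .X4, .X3, .X1, .X0, .y9, .y8, .y6, .y4, .y2, .y1, .hi, .p6, .hi, .p6, .hi, .p7,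
   .hi, .p9, .hi, .p4, .hi, .p8, .hi, .xii, .p10, .xii, .y10, .p9, .xii, .y6, .taui, .xii, .p, .xii, .hi, .y8, .xii,
   .y4, .y7, .y8, .tau, .X0, .p10, .xii, .p8, .xii, .y4, .y9, .p4, .hi, .taui, .xii, .p5, .xii, .y1, .y3, .p2, .xii,
   .y10, .tau, .xii, .y2, .p4, .xii]⟩

theorem h594 : Hd F (g wAd) b594 := hdD (by decide +kernel)
theorem r594_0 : R9 F (g wAd) b594 [] 0 0 := .of (startD 0 1) (by decide +kernel)
theorem r594_1 : R9 F (g wAd) b594 [] 0 1 := .of (startD 0 1) (by decide +kernel)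
theorem r594_2 : R9 F (g wAd) b594 [] 0 2 := .of (startD 0 1) (by decide +kernel)
theorem r594_3 : R9 F (g wAd) b594 [] 1 0 := .of (startD 0 1) (by decide +kernel)
theorem r594_4 : R9 F (g wAd) b594 [] 1 1 := .of (startD 0 1) (by decide +kernel)
theorem r594_5 : R9 F (g wAd) b594 [] 1 2 := .of (startD 0 1) (by decide +kernel)
theorem r594_6 : R9 F (g wAd) b594 [] 2 0 := .of (startD 0 1) (by decide +kernel)
theorem r594_7 : R9 F (g wAd) b594 [] 2 1 := .of (startD 0 1) (by decide +kernel)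
theorem r594_8 : R9 F (g wAd) b594 [] 2 2 := .of (startD 0 1) (by decide +kernel)
theorem g594 : Gd F (g wAd) (0, d594) [] :=
  good9 ok h594 r594_0 r594_1 r594_2 r594_3 r594_4 r594_5 r594_6 r594_7 r594_8

def b595 : Wd := ⟨0, d595,
  [.Z9, .Z8, .Z6, .Z5, .Z4, .Z3, .Z1, .Z0, .X8, .X5, .X3, .X2, .y10, .y4, .y3, .y2, .p3, .hi, .p9, .hi, .p8, .hi, .p6,
   .hi, .p6, .hi, .p7, .hi, .xii, .y2, .p5, .hi, .p5, .tau, .xii, .y1, .p, .xii, .y4, .p, .xii, .y3, .taui, .X0, .p7,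
   .xii, .y4, .p7, .xii, .y7, .hi, .p6, .tau, .xii, .y2, .p7, .xii, .y6, .p3, .xii, .y1, .tau, .xii, .y2, .p6],
  [.z, .Z10, .Z9, .Z8, .Z3, .Z1, .X10, .X9, .X7, .X6, .X3, .X0, .y10, .hi, .p, .hi, .p3, .hi, .p3, .hi, .p6, .xii,
   .p10, .hi, .p2, .hi, .p10, .tau, .y1, .xii, .p10, .xii, .y4, .p10, .xii, .y1, .y3, .tau, .y1, .p10, .xii, .p2,
   .xii, .hi, .p4, .y8, .tau, .xii, .p4, .xii, .y2, .y8, .p6, .xii, .y7, .tau],
  [.Z6, .Z5, .Z4, .Z3, .Z2, .Z1, .Z0, .X10, .X9, .X8, .X6, .X1, .y10, .y6, .y5, .y4, .y3, .y1, .hi, .p, .hi, .p10,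
   .hi, .p2, .hi, .p10, .hi, .p8, .hi, .xii, .y2, .hi, .xii, .p5, .xii, .taui, .xii, .y6, .p, .xii, .p, .xii, .y6,
   .tau, .X0, .p9, .xii, .p5, .xii, .p2, .y3, .xii, .y8, .taui, .xii, .p9, .xii, .y6, .p5, .xii, .y1, .tau, .xii,
   .p10]⟩

theorem h595 : Hd F (g wAd) b595 := hdD (by decide +kernel)
theorem r595_0 : R9 F (g wAd) b595 [] 0 0 := .of (startD 0 1) (by decide +kernel)
theorem r595_1 : R9 F (g wAd) b595 [] 0 1 := .of (startD 0 1) (by decide +kernel)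
theorem r595_2 : R9 F (g wAd) b595 [] 0 2 := .of (startD 0 1) (by decide +kernel)
theorem r595_3 : R9 F (g wAd) b595 [] 1 0 := .of (startD 0 1) (by decide +kernel)
theorem r595_4 : R9 F (g wAd) b595 [] 1 1 := .of (startD 0 1) (by decide +kernel)
theorem r595_5 : R9 F (g wAd) b595 [] 1 2 := .of (startD 0 1) (by decide +kernel)
theorem r595_6 : R9 F (g wAd) b595 [] 2 0 := .of (startD 0 1) (by decide +kernel)
theorem r595_7 : R9 F (g wAd) b595 [] 2 1 := .of (startD 0 1) (by decide +kernel)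
theorem r595_8 : R9 F (g wAd) b595 [] 2 2 := .of (startD 0 1) (by decide +kernel)
theorem g595 : Gd F (g wAd) (0, d595) [] :=
  good9 ok h595 r595_0 r595_1 r595_2 r595_3 r595_4 r595_5 r595_6 r595_7 r595_8

def b596 : Wd := ⟨0, d596,
  [.Z9, .Z7, .Z5, .Z2, .Z1, .Z0, .X8, .X7, .X6, .X2, .X1, .y2, .y1, .p10, .hi, .p6, .hi, .p, .hi, .p, .hi, .p8, .hi,
   .p6, .hi, .xii, .y2, .p2, .hi, .tau, .y1, .xii, .p10, .xii, .y8, .p10, .xii, .y3, .y5, .taui, .X0, .p5, .xii, .p7,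
   .y1, .xii, .p10, .hi, .y5, .p6, .tau, .xii, .p4, .xii, .p5, .y7, .xii, .y2, .taui, .xii, .hi, .p8],
  [.z, .Z10, .Z6, .Z3, .Z2, .Z1, .X10, .X9, .X8, .X7, .X6, .X4, .X2, .X1, .X0, .y10, .y6, .y2, .p, .hi, .p5, .hi, .p6,
   .hi, .p10, .hi, .p8, .xii, .y2, .p10, .xii, .y8, .taui, .y1, .xii, .p10, .xii, .y5, .p10, .xii, .y9, .y10, .taui,
   .xii, .p8, .xii, .p4, .y2, .xii, .y2, .y9, .p4, .taui, .xii, .p5, .xii, .p7, .y9, .tau, .xii, .y2, .p7],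
  [.z, .Z8, .Z7, .Z4, .Z3, .Z2, .Z1, .X9, .X8, .X7, .X5, .X3, .X1, .y9, .y8, .y6, .y4, .y1, .hi, .p8, .hi, .p7, .hi,
   .p, .hi, .p4, .hi, .p7, .xii, .hi, .xii, .y6, .p9, .xii, .y6, .taui, .xii, .y2, .p, .xii, .y3, .hi, .xii, .y5,
   .tau, .X0, .p9, .xii, .y6, .p, .xii, .p4, .hi, .p, .tau, .xii, .p7, .xii, .p5, .xii, .y5, .y9, .taui, .xii, .y2,
   .hi, .p]⟩

theorem h596 : Hd F (g wAd) b596 := hdD (by decide +kernel)
theorem r596_0 : R9 F (g wAd) b596 [] 0 0 := .of (startD 0 1) (by decide +kernel)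
theorem r596_1 : R9 F (g wAd) b596 [] 0 1 := .of (startD 0 1) (by decide +kernel)
theorem r596_2 : R9 F (g wAd) b596 [] 0 2 := .of (startD 0 1) (by decide +kernel)
theorem r596_3 : R9 F (g wAd) b596 [] 1 0 := .of (startD 0 1) (by decide +kernel)
theorem r596_4 : R9 F (g wAd) b596 [] 1 1 := .of (startD 0 1) (by decide +kernel)
theorem r596_5 : R9 F (g wAd) b596 [] 1 2 := .of (startD 0 1) (by decide +kernel)
theorem r596_6 : R9 F (g wAd) b596 [] 2 0 := .of (startD 0 1) (by decide +kernel)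
theorem r596_7 : R9 F (g wAd) b596 [] 2 1 := .of (startD 0 1) (by decide +kernel)
theorem r596_8 : R9 F (g wAd) b596 [] 2 2 := .of (startD 0 2) (by decide +kernel)
theorem g596 : Gd F (g wAd) (0, d596) [] :=
  good9 ok h596 r596_0 r596_1 r596_2 r596_3 r596_4 r596_5 r596_6 r596_7 r596_8

def b597 : Wd := ⟨0, d597,
  [.Z8, .Z4, .Z1, .Z0, .X7, .X3, .X1, .X0, .y8, .y5, .y2, .y1, .p8, .hi, .p10, .hi, .p6, .hi, .p5, .hi, .p4, .hi, .p2,
   .xii, .p10, .xii, .y4, .p8, .xii, .y8, .tau, .xii, .p, .xii, .hi, .y8, .xii, .y1, .taui, .X0, .p4, .xii, .p5, .xii,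
   .p10, .y1, .taui, .xii, .y2, .p2, .xii, .y10, .p6, .xii, .y1, .tau, .xii, .p5, .hi, .p4],
  [.z, .Z9, .Z5, .Z4, .Z2, .Z1, .X10, .X8, .X7, .X6, .X4, .X3, .y9, .y3, .y2, .p7, .hi, .p7, .hi, .p9, .hi, .p3, .hi,
   .p10, .xii, .y2, .p2, .hi, .xii, .y8, .tau, .xii, .y1, .p, .xii, .y6, .p3, .hi, .taui, .p9, .xii, .p10, .xii, .y1,
   .p2, .tau, .xii, .p8, .xii, .p8, .y3, .hi, .p10, .taui, .xii, .y2, .p4, .hi, .p9],
  [.z, .Z10, .Z3, .Z2, .Z1, .X6, .X4, .X2, .X1, .y9, .y8, .y7, .y4, .y3, .y2, .p8, .hi, .p10, .hi, .p5, .hi, .p4, .hi,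
   .p4, .hi, .p4, .hi, .p2, .hi, .xii, .p10, .xii, .p5, .y1, .xii, .y9, .taui, .X0, .xii, .p3, .xii, .hi, .xii, .p8,
   .taui, .X0, .p10, .xii, .p8, .xii, .y7, .y8, .p4, .hi, .tau, .xii, .p9, .xii, .p6, .xii, .y2, .y8, .tau, .xii, .y8,
   .p5]⟩

theorem h597 : Hd F (g wAd) b597 := hdD (by decide +kernel)
theorem r597_0 : R9 F (g wAd) b597 [] 0 0 := .of (startD 0 2) (by decide +kernel)
theorem r597_1 : R9 F (g wAd) b597 [] 0 1 := .of (startD 0 1) (by decide +kernel)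
theorem r597_2 : R9 F (g wAd) b597 [] 0 2 := .of (startD 0 1) (by decide +kernel)
theorem r597_3 : R9 F (g wAd) b597 [] 1 0 := .of (startD 0 2) (by decide +kernel)
theorem r597_4 : R9 F (g wAd) b597 [] 1 1 := .of (startD 0 1) (by decide +kernel)
theorem r597_5 : R9 F (g wAd) b597 [] 1 2 := .of (startD 0 1) (by decide +kernel)
theorem r597_6 : R9 F (g wAd) b597 [] 2 0 := .of (startD 0 1) (by decide +kernel)
theorem r597_7 : R9 F (g wAd) b597 [] 2 1 := .of (startD 0 1) (by decide +kernel)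
theorem r597_8 : R9 F (g wAd) b597 [] 2 2 := .of (startD 0 1) (by decide +kernel)
theorem g597 : Gd F (g wAd) (0, d597) [] :=
  good9 ok h597 r597_0 r597_1 r597_2 r597_3 r597_4 r597_5 r597_6 r597_7 r597_8

def b598 : Wd := ⟨0, d598,
  [.Z9, .Z7, .Z5, .Z3, .Z2, .Z1, .X10, .X9, .X8, .X7, .X5, .X2, .X0, .y10, .y9, .y8, .hi, .p3, .hi, .p9, .hi, .p9,
   .hi, .p7, .hi, .p, .hi, .p8, .xii, .p10, .xii, .y5, .p6, .xii, .y4, .y7, .taui, .xii, .y1, .p, .xii, .p, .y7, .xii,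
   .y5, .y10, .taui, .X0, .p8, .xii, .hi, .y5, .p6, .xii, .p6, .taui, .xii, .p3, .xii, .y4, .hi, .p6, .taui, .xii,
   .p2, .hi, .p10],
  [.z, .Z10, .Z9, .Z6, .Z5, .Z4, .Z3, .Z1, .X9, .X5, .X4, .X2, .X1, .X0, .y10, .y9, .y7, .y6, .y5, .y1, .p9, .hi, .p9,
   .hi, .p9, .hi, .p5, .hi, .p9, .hi, .p7, .xii, .y2, .p3, .hi, .taui, .xii, .p, .xii, .p2, .y2, .hi, .tau, .X0, .p9,
   .xii, .y4, .p, .xii, .y4, .hi, .p4, .tau, .xii, .p9, .xii, .y7, .p9, .xii, .y7, .tau, .xii, .hi, .xii],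
  [.Z8, .Z4, .Z2, .Z1, .X10, .X7, .X5, .X4, .X0, .y10, .y4, .p9, .hi, .p8, .hi, .p, .hi, .p7, .hi, .p3, .hi, .p10,
   .hi, .xii, .y2, .hi, .xii, .p9, .xii, .y1, .y10, .taui, .y1, .xii, .p10, .xii, .p10, .y7, .xii, .y4, .tau, .p7,
   .xii, .p9, .y5, .xii, .p3, .y8, .hi, .tau, .xii, .p3, .xii, .y5, .hi, .p3, .hi, .tau, .xii, .p, .hi]⟩

theorem h598 : Hd F (g wAd) b598 := hdD (by decide +kernel)
theorem r598_0 : R9 F (g wAd) b598 [] 0 0 := .of (startD 0 1) (by decide +kernel)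
theorem r598_1 : R9 F (g wAd) b598 [] 0 1 := .of (startD 0 1) (by decide +kernel)
theorem r598_2 : R9 F (g wAd) b598 [] 0 2 := .of (startD 0 1) (by decide +kernel)
theorem r598_3 : R9 F (g wAd) b598 [] 1 0 := .of (startD 0 1) (by decide +kernel)
theorem r598_4 : R9 F (g wAd) b598 [] 1 1 := .of (startD 0 1) (by decide +kernel)
theorem r598_5 : R9 F (g wAd) b598 [] 1 2 := .of (startD 0 1) (by decide +kernel)
theorem r598_6 : R9 F (g wAd) b598 [] 2 0 := .of (startD 0 1) (by decide +kernel)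
theorem r598_7 : R9 F (g wAd) b598 [] 2 1 := .of (startD 0 1) (by decide +kernel)
theorem r598_8 : R9 F (g wAd) b598 [] 2 2 := .of (startD 0 1) (by decide +kernel)
theorem g598 : Gd F (g wAd) (0, d598) [] :=
  good9 ok h598 r598_0 r598_1 r598_2 r598_3 r598_4 r598_5 r598_6 r598_7 r598_8

def b599 : Wd := ⟨0, d599,
  [.Z10, .Z7, .Z5, .Z4, .Z1, .X9, .X8, .X7, .X6, .X5, .X4, .X3, .y8, .y7, .y6, .y5, .y4, .y3, .p2, .hi, .p5, .hi, .p5,
   .hi, .p, .xii, .hi, .p8, .xii, .p2, .taui, .xii, .p, .xii, .hi, .y8, .xii, .y4, .y5, .taui, .y1, .xii, .p10, .xii,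
   .y5, .p10, .xii, .y9, .tau, .X0, .p10, .xii, .y5, .p2, .xii, .tau, .xii, .p5, .xii, .y6, .p, .xii, .y9, .taui,
   .xii, .p5, .xii, .y4],
  [.z, .Z9, .Z8, .Z7, .Z6, .Z4, .X10, .X9, .X8, .X7, .X6, .X4, .X3, .y10, .y7, .y2, .hi, .p9, .hi, .p7, .hi, .p7, .hi,
   .p9, .hi, .p9, .hi, .p9, .hi, .xii, .p3, .hi, .xii, .y3, .y7, .p10, .tau, .p7, .xii, .p7, .xii, .y6, .p6, .y10,
   .taui, .xii, .p8, .xii, .y9, .p2, .y9, .xii, .y8, .tau, .xii, .p9],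
  [.z, .Z10, .Z8, .Z6, .X10, .X9, .X8, .X7, .X6, .X4, .X3, .X2, .X1, .y9, .y8, .y7, .y6, .y5, .y4, .y3, .y2, .y1, .p7,
   .hi, .p9, .hi, .p4, .hi, .p3, .hi, .p3, .hi, .p4, .xii, .p, .xii, .y6, .p4, .xii, .y2, .tau, .xii, .y6, .p, .xii,
   .y2, .p, .xii, .y6, .tau, .xii, .p9, .xii, .hi, .y10, .xii, .y1, .p2, .taui, .xii, .y2, .p8, .xii, .p2, .y8, .xii,
   .y10, .tau, .xii, .p7, .xii, .y2]⟩

theorem h599 : Hd F (g wAd) b599 := hdD (by decide +kernel)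
theorem r599_0 : R9 F (g wAd) b599 [] 0 0 := .of (startD 0 1) (by decide +kernel)
theorem r599_1 : R9 F (g wAd) b599 [] 0 1 := .of (startD 0 1) (by decide +kernel)
theorem r599_2 : R9 F (g wAd) b599 [] 0 2 := .of (startD 0 1) (by decide +kernel)
theorem r599_3 : R9 F (g wAd) b599 [] 1 0 := .of (startD 0 1) (by decide +kernel)
theorem r599_4 : R9 F (g wAd) b599 [] 1 1 := .of (startD 0 1) (by decide +kernel)
theorem r599_5 : R9 F (g wAd) b599 [] 1 2 := .of (startD 0 1) (by decide +kernel)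
theorem r599_6 : R9 F (g wAd) b599 [] 2 0 := .of (startD 0 1) (by decide +kernel)
theorem r599_7 : R9 F (g wAd) b599 [] 2 1 := .of (startD 0 1) (by decide +kernel)
theorem r599_8 : R9 F (g wAd) b599 [] 2 2 := .of (startD 0 1) (by decide +kernel)
theorem g599 : Gd F (g wAd) (0, d599) [] :=
  good9 ok h599 r599_0 r599_1 r599_2 r599_3 r599_4 r599_5 r599_6 r599_7 r599_8

theorem all : AllG F (g wAd) LD59 :=
  .cons g590 (.cons g591 (.cons g592 (.cons g593 (.cons g594 (.cons g595 (.cons g596 (.cons g597 (.cons g598 (.cons g599 (.nil))))))))))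

end Cfsg.Agent.BX.No33.Bk.D59
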