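import Cfsg.Agent.BX.No33.Cheap
set_option linter.all false

/-!
# Tests, diagonal case, part 60 (helper5; generated)
-/

set_option autoImplicit false
set_option maxRecDepth 100000
set_option Elab.async false

namespace Cfsg.Agent.BX.No33.Bk.D60

open Cfsg.Agent.H819.U33 Cfsg.Agent.BX.No33.Front

def b600 : Wd := ⟨0, d600,
  [.Z7, .Z5, .Z3, .Z0, .X8, .X4, .X3, .X1, .X0, .y9, .y3, .y2, .hi, .p8, .hi, .p8, .hi, .p5, .hi, .p3, .hi, .p9, .xii,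
   .p, .xii, .y2, .p, .xii, .y3, .tau, .xii, .y1, .p, .xii, .y2, .p, .xii, .y6, .tau, .p2, .xii, .p4, .xii, .p5, .y8,
   .xii, .y2, .taui, .xii, .y2, .p5, .xii, .y3, .p2, .xii, .y2, .taui, .xii, .y7, .p7],
  [.Z6, .Z3, .Z0, .X8, .X7, .X6, .X0, .y10, .y9, .y8, .y6, .y5, .y3, .p5, .hi, .p3, .hi, .p8, .hi, .xii, .p3, .hi,
   .xii, .p10, .y7, .tau, .y1, .xii, .hi, .xii, .y5, .tau, .X0, .p10, .xii, .hi, .p5, .xii, .y5, .y7, .tau, .xii, .y2,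
   .p2, .xii, .y7, .p8, .taui, .xii, .p, .hi, .p3],
  [.z, .Z10, .Z8, .Z7, .Z6, .Z5, .Z4, .Z3, .Z2, .X10, .X9, .X4, .X2, .p10, .hi, .p3, .hi, .p3, .hi, .p7, .hi, .p7,
   .hi, .p8, .hi, .xii, .y2, .p, .xii, .p8, .xii, .y1, .y10, .tau, .xii, .p, .xii, .y1, .hi, .xii, .y4, .y5, .y9,
   .tau, .p4, .xii, .p2, .hi, .xii, .p2, .y5, .tau, .xii, .y2, .p4, .xii, .y10, .p4, .xii, .y2, .y3, .taui, .xii,
   .p10, .xii]⟩

theorem h600 : Hd F (g wAd) b600 := hdD (by decide +kernel)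
theorem r600_0 : R9 F (g wAd) b600 [] 0 0 := .of (startD 0 1) (by decide +kernel)
theorem r600_1 : R9 F (g wAd) b600 [] 0 1 := .of (startD 0 1) (by decide +kernel)
theorem r600_2 : R9 F (g wAd) b600 [] 0 2 := .of (startD 0 1) (by decide +kernel)
theorem r600_3 : R9 F (g wAd) b600 [] 1 0 := .of (startD 0 1) (by decide +kernel)
theorem r600_4 : R9 F (g wAd) b600 [] 1 1 := .of (startD 0 1) (by decide +kernel)
theorem r600_5 : R9 F (g wAd) b600 [] 1 2 := .of (startD 0 1) (by decide +kernel)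
theorem r600_6 : R9 F (g wAd) b600 [] 2 0 := .of (startD 0 1) (by decide +kernel)
theorem r600_7 : R9 F (g wAd) b600 [] 2 1 := .of (startD 0 1) (by decide +kernel)
theorem r600_8 : R9 F (g wAd) b600 [] 2 2 := .of (startD 0 1) (by decide +kernel)
theorem g600 : Gd F (g wAd) (0, d600) [] :=
  good9 ok h600 r600_0 r600_1 r600_2 r600_3 r600_4 r600_5 r600_6 r600_7 r600_8

def b601 : Wd := ⟨0, d601,
  [.z, .Z8, .Z4, .Z2, .X9, .X6, .X4, .X3, .X2, .X0, .y10, .y9, .y7, .y5, .y3, .y1, .p5, .hi, .p5, .hi, .p9, .hi, .p7,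
   .hi, .p8, .xii, .y2, .p3, .hi, .xii, .y1, .y3, .taui, .xii, .y2, .p, .xii, .y2, .hi, .xii, .y5, .y10, .tau, .X0,
   .p10, .xii, .y4, .p6, .xii, .y5, .hi, .p7, .taui, .xii, .p7, .xii, .y1, .y2, .p8, .xii, .y4, .y8, .taui, .xii, .hi,
   .xii, .y4],
  [.z, .Z7, .Z5, .Z3, .Z2, .Z0, .X9, .X8, .X6, .X5, .X4, .X1, .X0, .y10, .y9, .y5, .y4, .y3, .p10, .hi, .p7, .hi, .p7,
   .hi, .p7, .hi, .p5, .hi, .p9, .hi, .xii, .p10, .hi, .p, .tau, .y1, .xii, .p10, .xii, .y1, .p10, .xii, .y4, .y9,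
   .taui, .X0, .p7, .xii, .y2, .p9, .xii, .hi, .p5, .y2, .taui, .xii, .hi, .p10, .hi, .p7, .hi],
  [.Z9, .Z6, .Z4, .Z3, .Z2, .Z0, .X9, .X8, .X7, .X4, .X3, .X1, .y8, .y7, .y5, .y4, .y3, .y2, .y1, .p6, .hi, .p5, .hi,
   .p4, .hi, .p10, .hi, .p, .hi, .xii, .p10, .xii, .p6, .xii, .y4, .y7, .y8, .taui, .y1, .xii, .p10, .xii, .y1, .y7,
   .p10, .xii, .y10, .tau, .p8, .xii, .y4, .p3, .xii, .y1, .p, .hi, .p10, .taui, .xii, .p8, .xii, .p8, .y1, .hi, .p2]⟩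

theorem h601 : Hd F (g wAd) b601 := hdD (by decide +kernel)
theorem r601_0 : R9 F (g wAd) b601 [] 0 0 := .of (startD 0 1) (by decide +kernel)
theorem r601_1 : R9 F (g wAd) b601 [] 0 1 := .of (startD 0 1) (by decide +kernel)
theorem r601_2 : R9 F (g wAd) b601 [] 0 2 := .of (startD 0 1) (by decide +kernel)
theorem r601_3 : R9 F (g wAd) b601 [] 1 0 := .of (startD 0 1) (by decide +kernel)
theorem r601_4 : R9 F (g wAd) b601 [] 1 1 := .of (startD 0 1) (by decide +kernel)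
theorem r601_5 : R9 F (g wAd) b601 [] 1 2 := .of (startD 0 2) (by decide +kernel)
theorem r601_6 : R9 F (g wAd) b601 [] 2 0 := .of (startD 0 1) (by decide +kernel)
theorem r601_7 : R9 F (g wAd) b601 [] 2 1 := .of (startD 0 1) (by decide +kernel)
theorem r601_8 : R9 F (g wAd) b601 [] 2 2 := .of (startD 0 1) (by decide +kernel)
theorem g601 : Gd F (g wAd) (0, d601) [] :=
  good9 ok h601 r601_0 r601_1 r601_2 r601_3 r601_4 r601_5 r601_6 r601_7 r601_8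

def b602 : Wd := ⟨0, d602,
  [.z, .Z8, .Z6, .Z4, .Z2, .Z0, .X10, .X4, .X2, .X1, .y8, .y7, .y6, .y5, .y4, .y2, .hi, .p, .hi, .p8, .hi, .p, .hi,
   .p3, .hi, .p3, .hi, .p2, .hi, .xii, .y2, .hi, .p2, .hi, .tau, .xii, .p9, .xii, .y2, .p2, .y10, .xii, .y5, .taui,
   .xii, .p9, .xii, .y4, .y6, .hi, .p7, .tau, .xii, .y2, .p8],
  [.z, .Z10, .Z4, .Z2, .X10, .X9, .X8, .X5, .X3, .X2, .X1, .X0, .y8, .y6, .y3, .p10, .hi, .p2, .hi, .p3, .hi, .p9,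
   .hi, .p9, .hi, .p7, .hi, .xii, .y2, .hi, .xii, .p9, .xii, .y1, .y2, .taui, .xii, .p, .xii, .y1, .y3, .hi, .p10,
   .taui, .p8, .xii, .y7, .p, .xii, .p6, .tau, .xii, .p5, .xii, .y2, .y3, .hi, .p3],
  [.z, .Z9, .Z8, .Z7, .Z4, .Z3, .Z2, .Z0, .X8, .X6, .X4, .X3, .X2, .X1, .X0, .y6, .y5, .y4, .y3, .y2, .hi, .p5, .hi,
   .p10, .hi, .p4, .hi, .p8, .xii, .p10, .xii, .y8, .p10, .xii, .y4, .taui, .xii, .p, .xii, .y4, .hi, .xii, .y5, .tau,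
   .p9, .xii, .p2, .y7, .xii, .y1, .p5, .hi, .p8, .taui, .xii, .p9, .xii, .y8, .p5, .xii, .y10, .taui, .xii, .p3,
   .xii]⟩

theorem h602 : Hd F (g wAd) b602 := hdD (by decide +kernel)
theorem r602_0 : R9 F (g wAd) b602 [] 0 0 := .of (startD 0 1) (by decide +kernel)
theorem r602_1 : R9 F (g wAd) b602 [] 0 1 := .of (startD 0 1) (by decide +kernel)
theorem r602_2 : R9 F (g wAd) b602 [] 0 2 := .of (startD 0 1) (by decide +kernel)
theorem r602_3 : R9 F (g wAd) b602 [] 1 0 := .of (startD 0 1) (by decide +kernel)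
theorem r602_4 : R9 F (g wAd) b602 [] 1 1 := .of (startD 0 1) (by decide +kernel)
theorem r602_5 : R9 F (g wAd) b602 [] 1 2 := .of (startD 0 2) (by decide +kernel)
theorem r602_6 : R9 F (g wAd) b602 [] 2 0 := .of (startD 0 1) (by decide +kernel)
theorem r602_7 : R9 F (g wAd) b602 [] 2 1 := .of (startD 0 1) (by decide +kernel)
theorem r602_8 : R9 F (g wAd) b602 [] 2 2 := .of (startD 0 1) (by decide +kernel)
theorem g602 : Gd F (g wAd) (0, d602) [] :=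
  good9 ok h602 r602_0 r602_1 r602_2 r602_3 r602_4 r602_5 r602_6 r602_7 r602_8

def b603 : Wd := ⟨0, d603,
  [.Z9, .Z7, .Z5, .Z2, .X10, .X7, .X6, .X5, .X1, .X0, .y10, .y5, .y4, .y2, .y1, .hi, .p10, .hi, .p5, .hi, .p4, .hi,
   .p8, .hi, .p8, .hi, .p3, .hi, .xii, .p, .xii, .p9, .y1, .taui, .xii, .y1, .p, .xii, .p, .y7, .xii, .y4, .y7, .taui,
   .y1, .xii, .p7, .xii, .y9, .p3, .xii, .y3, .y4, .tau, .xii, .p2, .xii, .p10, .xii, .y1, .y8, .tau, .xii, .y7, .p4],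
  [.Z9, .Z7, .Z5, .Z3, .Z2, .Z1, .Z0, .X9, .X8, .X6, .X4, .X1, .X0, .y10, .y9, .y4, .hi, .p8, .hi, .p8, .hi, .p3, .hi,
   .p6, .hi, .p7, .hi, .p6, .xii, .hi, .xii, .p8, .y2, .xii, .y4, .taui, .xii, .p, .xii, .y1, .y6, .hi, .xii, .y5,
   .tau, .X0, .p8, .xii, .y9, .hi, .p6, .xii, .p2, .y10, .taui, .xii, .p7, .xii, .hi, .y4, .p4],
  [.Z9, .Z8, .Z7, .Z6, .Z4, .Z2, .X9, .X7, .X5, .X3, .y9, .y8, .y6, .y4, .y3, .y1, .p4, .hi, .p, .hi, .p8, .hi, .p5,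
   .hi, .p10, .hi, .p5, .hi, .xii, .p, .xii, .y10, .p4, .xii, .y9, .tau, .xii, .p, .xii, .y4, .hi, .xii, .y4, .y6,
   .taui, .xii, .y2, .p4, .xii, .y5, .p4, .xii, .y2, .y3, .y4, .y9, .tau, .xii, .p6, .xii, .p, .xii, .y5, .tau, .xii,
   .p7]⟩

theorem h603 : Hd F (g wAd) b603 := hdD (by decide +kernel)
theorem r603_0 : R9 F (g wAd) b603 [] 0 0 := .of (startD 0 1) (by decide +kernel)
theorem r603_1 : R9 F (g wAd) b603 [] 0 1 := .of (startD 0 1) (by decide +kernel)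
theorem r603_2 : R9 F (g wAd) b603 [] 0 2 := .of (startD 0 1) (by decide +kernel)
theorem r603_3 : R9 F (g wAd) b603 [] 1 0 := .of (startD 0 1) (by decide +kernel)
theorem r603_4 : R9 F (g wAd) b603 [] 1 1 := .of (startD 0 1) (by decide +kernel)
theorem r603_5 : R9 F (g wAd) b603 [] 1 2 := .of (startD 0 1) (by decide +kernel)
theorem r603_6 : R9 F (g wAd) b603 [] 2 0 := .of (startD 0 1) (by decide +kernel)
theorem r603_7 : R9 F (g wAd) b603 [] 2 1 := .of (startD 0 1) (by decide +kernel)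
theorem r603_8 : R9 F (g wAd) b603 [] 2 2 := .of (startD 0 1) (by decide +kernel)
theorem g603 : Gd F (g wAd) (0, d603) [] :=
  good9 ok h603 r603_0 r603_1 r603_2 r603_3 r603_4 r603_5 r603_6 r603_7 r603_8

def b604 : Wd := ⟨0, d604,
  [.Z10, .Z9, .Z7, .Z6, .Z2, .Z1, .Z0, .X10, .X5, .X4, .X3, .y10, .y9, .y7, .y6, .y5, .y2, .y1, .hi, .p8, .hi, .p7,
   .hi, .p9, .hi, .p10, .hi, .p4, .xii, .p3, .hi, .xii, .y2, .y8, .tau, .xii, .y1, .p, .xii, .y4, .p, .xii, .y1, .y10,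
   .tau, .X0, .xii, .p10, .xii, .y5, .p2, .xii, .y2, .p7, .tau, .xii, .p7, .xii, .p8, .xii, .y9, .taui, .xii, .y2,
   .p10, .xii],
  [.Z10, .Z9, .Z7, .Z6, .Z5, .Z4, .Z3, .X10, .X7, .X5, .X4, .y4, .y3, .hi, .p4, .hi, .p5, .hi, .p5, .hi, .p, .hi, .p,
   .hi, .p2, .xii, .y2, .p, .xii, .p4, .hi, .p5, .tau, .y1, .xii, .p10, .xii, .p10, .y7, .xii, .y8, .tau, .X0, .p10,
   .xii, .p8, .xii, .y4, .y7, .p10, .taui, .xii, .p7, .xii, .p, .hi, .p6, .y10],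
  [.Z10, .Z4, .Z3, .Z1, .Z0, .X10, .X9, .X8, .X7, .X6, .X5, .X4, .X3, .X1, .X0, .y8, .y7, .y5, .y4, .y3, .y1, .p6,
   .hi, .p3, .hi, .p, .hi, .p, .hi, .p8, .xii, .p, .xii, .y1, .y6, .hi, .xii, .y4, .y5, .taui, .xii, .y6, .p, .xii,
   .y10, .p, .xii, .y5, .taui, .xii, .p10, .xii, .p8, .xii, .y6, .p10, .y7, .taui, .xii, .p8, .xii, .y1, .y5, .p4,
   .xii, .y1, .y9, .taui, .xii, .y4, .p10]⟩

theorem h604 : Hd F (g wAd) b604 := hdD (by decide +kernel)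
theorem r604_0 : R9 F (g wAd) b604 [] 0 0 := .of (startD 0 1) (by decide +kernel)
theorem r604_1 : R9 F (g wAd) b604 [] 0 1 := .of (startD 0 1) (by decide +kernel)
theorem r604_2 : R9 F (g wAd) b604 [] 0 2 := .of (startD 0 1) (by decide +kernel)
theorem r604_3 : R9 F (g wAd) b604 [] 1 0 := .of (startD 0 1) (by decide +kernel)
theorem r604_4 : R9 F (g wAd) b604 [] 1 1 := .of (startD 0 1) (by decide +kernel)
theorem r604_5 : R9 F (g wAd) b604 [] 1 2 := .of (startD 0 1) (by decide +kernel)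
theorem r604_6 : R9 F (g wAd) b604 [] 2 0 := .of (startD 0 1) (by decide +kernel)
theorem r604_7 : R9 F (g wAd) b604 [] 2 1 := .of (startD 0 1) (by decide +kernel)
theorem r604_8 : R9 F (g wAd) b604 [] 2 2 := .of (startD 0 1) (by decide +kernel)
theorem g604 : Gd F (g wAd) (0, d604) [] :=
  good9 ok h604 r604_0 r604_1 r604_2 r604_3 r604_4 r604_5 r604_6 r604_7 r604_8

def b605 : Wd := ⟨0, d605,
  [.Z10, .Z9, .Z8, .Z6, .Z3, .X10, .X8, .X5, .X3, .y9, .y8, .y7, .y6, .y3, .y1, .p7, .hi, .p3, .hi, .p10, .hi, .p10,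
   .hi, .p8, .hi, .p3, .hi, .xii, .p10, .xii, .p8, .y7, .xii, .taui, .xii, .p, .xii, .hi, .y8, .xii, .y6, .y10, .tau,
   .X0, .xii, .p5, .xii, .y7, .p, .y8, .xii, .p7, .taui, .xii, .p4, .xii, .y2, .y4, .p5, .xii, .y1, .taui, .xii, .y4,
   .p, .xii],
  [.z, .Z10, .Z9, .Z8, .Z6, .Z5, .Z2, .Z1, .X9, .X8, .X5, .X0, .y10, .y8, .y3, .y2, .hi, .p9, .hi, .p10, .hi, .p8,
   .hi, .p4, .hi, .p7, .hi, .xii, .y2, .p2, .hi, .xii, .y2, .tau, .y1, .xii, .p10, .xii, .y1, .y7, .p10, .xii, .y10,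
   .tau, .p2, .xii, .hi, .p8, .xii, .hi, .taui, .xii, .y2, .p2, .xii, .y3, .p7, .xii, .y10],
  [.z, .Z8, .Z4, .Z2, .X9, .X8, .X7, .X6, .X4, .X2, .X1, .y9, .y7, .y6, .y3, .y1, .p8, .hi, .p7, .hi, .p9, .hi, .p6,
   .hi, .p6, .hi, .p7, .hi, .xii, .p10, .xii, .p6, .y7, .xii, .y7, .taui, .xii, .p, .xii, .y1, .y10, .hi, .xii, .y7,
   .taui, .X0, .p4, .xii, .y4, .p9, .xii, .p3, .y8, .xii, .y9, .taui, .xii, .p4, .xii, .p, .hi, .p7, .tau, .xii, .y2,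
   .hi, .p10]⟩

theorem h605 : Hd F (g wAd) b605 := hdD (by decide +kernel)
theorem r605_0 : R9 F (g wAd) b605 [] 0 0 := .of (startD 0 2) (by decide +kernel)
theorem r605_1 : R9 F (g wAd) b605 [] 0 1 := .of (startD 0 1) (by decide +kernel)
theorem r605_2 : R9 F (g wAd) b605 [] 0 2 := .of (startD 0 1) (by decide +kernel)
theorem r605_3 : R9 F (g wAd) b605 [] 1 0 := .of (startD 0 1) (by decide +kernel)
theorem r605_4 : R9 F (g wAd) b605 [] 1 1 := .of (startD 0 1) (by decide +kernel)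
theorem r605_5 : R9 F (g wAd) b605 [] 1 2 := .of (startD 0 1) (by decide +kernel)
theorem r605_6 : R9 F (g wAd) b605 [] 2 0 := .of (startD 0 1) (by decide +kernel)
theorem r605_7 : R9 F (g wAd) b605 [] 2 1 := .of (startD 0 1) (by decide +kernel)
theorem r605_8 : R9 F (g wAd) b605 [] 2 2 := .of (startD 0 1) (by decide +kernel)
theorem g605 : Gd F (g wAd) (0, d605) [] :=
  good9 ok h605 r605_0 r605_1 r605_2 r605_3 r605_4 r605_5 r605_6 r605_7 r605_8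

def b606 : Wd := ⟨0, d606,
  [.z, .Z9, .Z6, .Z3, .Z2, .Z1, .X7, .X5, .X2, .y10, .y7, .y6, .y5, .y4, .y3, .hi, .p6, .hi, .p3, .hi, .p7, .hi, .p3,
   .hi, .xii, .y2, .p, .xii, .p8, .xii, .y7, .tau, .xii, .y6, .p, .xii, .y2, .p, .xii, .y5, .tau, .y1, .xii, .p8,
   .xii, .p3, .y6, .xii, .y1, .taui, .xii, .p9, .xii, .y1, .y9, .p9, .xii, .y9, .y10, .taui, .xii, .y4],
  [.Z10, .Z8, .Z4, .Z3, .Z2, .X10, .X9, .X7, .X6, .X4, .X3, .X1, .X0, .y10, .y6, .y5, .y4, .y3, .y1, .hi, .p9, .hi,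
   .p9, .hi, .p4, .hi, .p7, .hi, .p3, .xii, .p, .xii, .p9, .y7, .tau, .xii, .y6, .p, .xii, .y10, .p, .xii, .y7, .y10,
   .tau, .X0, .p10, .xii, .p5, .hi, .p3, .xii, .y8, .taui, .xii, .y2, .p9, .xii, .y7, .p, .xii, .y7],
  [.z, .Z9, .Z8, .Z6, .Z5, .Z4, .Z2, .Z0, .X8, .X6, .X5, .X4, .X3, .y8, .y6, .y5, .y4, .y3, .y2, .y1, .p9, .hi, .p5,
   .hi, .p10, .hi, .p2, .hi, .p5, .hi, .p5, .hi, .xii, .hi, .xii, .y6, .p9, .xii, .y1, .y9, .tau, .xii, .p, .xii, .y1,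
   .hi, .xii, .y4, .y6, .tau, .xii, .p4, .xii, .y5, .p5, .xii, .taui, .xii, .p7, .xii, .y5, .y10, .hi, .p2, .tau,
   .xii, .p8]⟩

theorem h606 : Hd F (g wAd) b606 := hdD (by decide +kernel)
theorem r606_0 : R9 F (g wAd) b606 [] 0 0 := .of (startD 0 1) (by decide +kernel)
theorem r606_1 : R9 F (g wAd) b606 [] 0 1 := .of (startD 0 1) (by decide +kernel)
theorem r606_2 : R9 F (g wAd) b606 [] 0 2 := .of (startD 0 1) (by decide +kernel)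
theorem r606_3 : R9 F (g wAd) b606 [] 1 0 := .of (startD 0 1) (by decide +kernel)
theorem r606_4 : R9 F (g wAd) b606 [] 1 1 := .of (startD 0 1) (by decide +kernel)
theorem r606_5 : R9 F (g wAd) b606 [] 1 2 := .of (startD 0 1) (by decide +kernel)
theorem r606_6 : R9 F (g wAd) b606 [] 2 0 := .of (startD 0 1) (by decide +kernel)
theorem r606_7 : R9 F (g wAd) b606 [] 2 1 := .of (startD 0 1) (by decide +kernel)
theorem r606_8 : R9 F (g wAd) b606 [] 2 2 := .of (startD 0 1) (by decide +kernel)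
theorem g606 : Gd F (g wAd) (0, d606) [] :=
  good9 ok h606 r606_0 r606_1 r606_2 r606_3 r606_4 r606_5 r606_6 r606_7 r606_8

def b607 : Wd := ⟨0, d607,
  [.Z10, .Z9, .Z8, .X10, .X8, .X7, .X6, .X5, .X2, .X0, .y8, .p2, .hi, .p6, .hi, .p10, .hi, .p4, .hi, .p9, .xii, .y2,
   .p, .xii, .p5, .xii, .y4, .y7, .tau, .xii, .p, .xii, .y2, .hi, .xii, .y1, .taui, .X0, .p10, .xii, .p10, .xii, .y2,
   .y8, .p9, .xii, .taui, .xii, .p8, .xii, .y6, .p, .taui, .xii, .hi, .p8],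
  [.z, .Z9, .Z8, .Z5, .Z4, .Z0, .X8, .X6, .X4, .X3, .X2, .X1, .X0, .y10, .y8, .y6, .y5, .y3, .y1, .hi, .p9, .hi, .p4,
   .hi, .p4, .hi, .p4, .hi, .p9, .hi, .xii, .hi, .p8, .xii, .y9, .tau, .xii, .y1, .hi, .p8, .xii, .y2, .p2, .hi,
   .taui, .y1, .p5, .xii, .p10, .xii, .y2, .taui, .xii, .p3, .xii, .y7, .p9, .tau, .xii, .p7],
  [.z, .Z9, .Z8, .Z6, .Z5, .Z2, .Z0, .X10, .X8, .X6, .X5, .X4, .X3, .X1, .X0, .y9, .y7, .y6, .y3, .y2, .p3, .hi, .p8,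
   .hi, .p, .hi, .p5, .hi, .p, .hi, .xii, .p, .xii, .y1, .y2, .taui, .xii, .p, .xii, .y4, .hi, .xii, .y1, .tau, .X0,
   .xii, .p5, .xii, .y1, .hi, .y10, .xii, .y8, .taui, .xii, .p8, .xii, .p4, .y7, .xii, .y4, .y7, .taui, .xii, .y4,
   .p4]⟩

theorem h607 : Hd F (g wAd) b607 := hdD (by decide +kernel)
theorem r607_0 : R9 F (g wAd) b607 [] 0 0 := .of (startD 0 1) (by decide +kernel)
theorem r607_1 : R9 F (g wAd) b607 [] 0 1 := .of (startD 0 1) (by decide +kernel)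
theorem r607_2 : R9 F (g wAd) b607 [] 0 2 := .of (startD 0 1) (by decide +kernel)
theorem r607_3 : R9 F (g wAd) b607 [] 1 0 := .of (startD 0 1) (by decide +kernel)
theorem r607_4 : R9 F (g wAd) b607 [] 1 1 := .of (startD 0 1) (by decide +kernel)
theorem r607_5 : R9 F (g wAd) b607 [] 1 2 := .of (startD 0 2) (by decide +kernel)
theorem r607_6 : R9 F (g wAd) b607 [] 2 0 := .of (startD 0 1) (by decide +kernel)
theorem r607_7 : R9 F (g wAd) b607 [] 2 1 := .of (startD 0 1) (by decide +kernel)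
theorem r607_8 : R9 F (g wAd) b607 [] 2 2 := .of (startD 0 1) (by decide +kernel)
theorem g607 : Gd F (g wAd) (0, d607) [] :=
  good9 ok h607 r607_0 r607_1 r607_2 r607_3 r607_4 r607_5 r607_6 r607_7 r607_8

def b608 : Wd := ⟨0, d608,
  [.z, .Z9, .Z8, .Z6, .Z0, .X10, .X9, .X8, .X2, .X0, .y10, .y8, .y7, .y6, .y3, .p6, .hi, .p3, .hi, .p5, .hi, .p8, .hi,
   .p6, .hi, .p, .hi, .xii, .hi, .p8, .xii, .y2, .p10, .taui, .xii, .y1, .p, .xii, .y4, .p, .xii, .y3, .y10, .taui,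
   .y1, .xii, .p10, .xii, .y8, .p10, .xii, .y1, .y5, .taui, .X0, .y1, .p8, .xii, .p3, .xii, .y7, .taui, .xii, .p7,
   .xii, .y10, .p3, .xii, .y7, .taui, .xii, .y8],
  [.Z10, .Z8, .Z4, .Z2, .Z1, .X10, .X8, .X6, .X5, .X4, .X3, .X0, .y10, .y7, .y6, .y5, .p10, .hi, .p, .hi, .p3, .hi,
   .p9, .hi, .p9, .hi, .p9, .xii, .y2, .hi, .p10, .hi, .p8, .taui, .xii, .p, .xii, .y1, .hi, .xii, .y1, .y4, .tau,
   .X0, .y1, .p7, .xii, .p5, .xii, .y4, .taui, .xii, .p9, .xii, .y4, .hi, .p2, .taui, .xii, .p7],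
  [.Z10, .Z9, .Z8, .Z5, .Z4, .Z3, .Z1, .Z0, .X10, .X9, .X8, .X7, .X5, .X4, .X1, .X0, .y8, .y3, .y1, .p5, .hi, .p7,
   .hi, .p6, .hi, .p10, .hi, .p8, .hi, .p6, .hi, .xii, .p, .xii, .p9, .y1, .xii, .y8, .taui, .xii, .y6, .p, .xii, .p,
   .xii, .y7, .y8, .y10, .taui, .xii, .p3, .xii, .y1, .y3, .p2, .xii, .tau, .xii, .p8, .xii, .y5, .p4, .xii, .taui,
   .xii, .y8, .p4, .xii]⟩

theorem h608 : Hd F (g wAd) b608 := hdD (by decide +kernel)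
theorem r608_0 : R9 F (g wAd) b608 [] 0 0 := .of (startD 0 1) (by decide +kernel)
theorem r608_1 : R9 F (g wAd) b608 [] 0 1 := .of (startD 0 1) (by decide +kernel)
theorem r608_2 : R9 F (g wAd) b608 [] 0 2 := .of (startD 0 1) (by decide +kernel)
theorem r608_3 : R9 F (g wAd) b608 [] 1 0 := .of (startD 0 1) (by decide +kernel)
theorem r608_4 : R9 F (g wAd) b608 [] 1 1 := .of (startD 0 1) (by decide +kernel)
theorem r608_5 : R9 F (g wAd) b608 [] 1 2 := .of (startD 0 2) (by decide +kernel)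
theorem r608_6 : R9 F (g wAd) b608 [] 2 0 := .of (startD 0 1) (by decide +kernel)
theorem r608_7 : R9 F (g wAd) b608 [] 2 1 := .of (startD 0 1) (by decide +kernel)
theorem r608_8 : R9 F (g wAd) b608 [] 2 2 := .of (startD 0 1) (by decide +kernel)
theorem g608 : Gd F (g wAd) (0, d608) [] :=
  good9 ok h608 r608_0 r608_1 r608_2 r608_3 r608_4 r608_5 r608_6 r608_7 r608_8

def b609 : Wd := ⟨0, d609,
  [.Z8, .Z7, .Z6, .Z3, .Z2, .Z0, .X10, .X9, .X5, .X4, .X3, .X1, .y10, .y8, .y7, .y6, .y1, .p6, .hi, .p10, .hi, .p9,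
   .hi, .p6, .hi, .p7, .hi, .p10, .xii, .hi, .p8, .xii, .y4, .p10, .tau, .y1, .xii, .p10, .xii, .y1, .y9, .p10, .xii,
   .y2, .y4, .tau, .p4, .xii, .p4, .xii, .p2, .y4, .hi, .p8, .tau, .xii, .y2, .p7, .xii, .p9, .xii, .y5, .y9, .taui,
   .xii, .y6],
  [.z, .Z9, .Z8, .Z7, .Z3, .Z1, .Z0, .X8, .X7, .X6, .X5, .X2, .X0, .y10, .y9, .y8, .y7, .y5, .y4, .y3, .p10, .hi, .p,
   .hi, .p7, .hi, .p9, .hi, .p, .hi, .p2, .xii, .y2, .p10, .hi, .p8, .tau, .p10, .xii, .y6, .p2, .xii, .y3, .p, .hi,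
   .tau, .xii, .y2, .p9, .xii, .y9, .p3, .xii, .y4, .y8, .tau, .xii, .p10, .hi],
  [.z, .Z10, .Z9, .Z8, .Z6, .Z5, .Z3, .Z0, .X10, .X9, .X5, .X4, .X2, .y10, .y5, .y4, .y2, .p3, .hi, .p8, .hi, .p10,
   .hi, .p7, .hi, .p6, .hi, .xii, .p, .xii, .y2, .hi, .p, .hi, .p3, .tau, .xii, .y2, .p, .xii, .y1, .hi, .xii, .y4,
   .y7, .tau, .xii, .y1, .p, .xii, .p, .xii, .y3, .y8, .tau, .X0, .p10, .xii, .y2, .p2, .xii, .y6, .tau, .xii, .p8,
   .xii, .y2, .p5, .hi, .p, .tau, .xii, .hi, .p7]⟩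

theorem h609 : Hd F (g wAd) b609 := hdD (by decide +kernel)
theorem r609_0 : R9 F (g wAd) b609 [] 0 0 := .of (startD 0 1) (by decide +kernel)
theorem r609_1 : R9 F (g wAd) b609 [] 0 1 := .of (startD 0 1) (by decide +kernel)
theorem r609_2 : R9 F (g wAd) b609 [] 0 2 := .of (startD 0 1) (by decide +kernel)
theorem r609_3 : R9 F (g wAd) b609 [] 1 0 := .of (startD 0 1) (by decide +kernel)
theorem r609_4 : R9 F (g wAd) b609 [] 1 1 := .of (startD 0 1) (by decide +kernel)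
theorem r609_5 : R9 F (g wAd) b609 [] 1 2 := .of (startD 0 1) (by decide +kernel)
theorem r609_6 : R9 F (g wAd) b609 [] 2 0 := .of (startD 0 1) (by decide +kernel)
theorem r609_7 : R9 F (g wAd) b609 [] 2 1 := .of (startD 0 1) (by decide +kernel)
theorem r609_8 : R9 F (g wAd) b609 [] 2 2 := .of (startD 0 1) (by decide +kernel)
theorem g609 : Gd F (g wAd) (0, d609) [] :=
  good9 ok h609 r609_0 r609_1 r609_2 r609_3 r609_4 r609_5 r609_6 r609_7 r609_8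

theorem all : AllG F (g wAd) LD60 :=
  .cons g600 (.cons g601 (.cons g602 (.cons g603 (.cons g604 (.cons g605 (.cons g606 (.cons g607 (.cons g608 (.cons g609 (.nil))))))))))

end Cfsg.Agent.BX.No33.Bk.D60
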