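import Cfsg.Agent.BX.No33.Cheap
set_option linter.all false

/-!
# Tests, diagonal case, part 61 (helper5; generated)
-/

set_option autoImplicit false
set_option maxRecDepth 100000
set_option Elab.async false

namespace Cfsg.Agent.BX.No33.Bk.D61

open Cfsg.Agent.H819.U33 Cfsg.Agent.BX.No33.Front

def b610 : Wd := ⟨0, d610,
  [.z, .Z10, .Z9, .Z1, .Z0, .X10, .X9, .X8, .X7, .X6, .X5, .X1, .y10, .y9, .y8, .y6, .y5, .y2, .p4, .hi, .p, .hi, .p8,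
   .hi, .p9, .hi, .p7, .hi, .p, .xii, .y2, .p, .xii, .p8, .xii, .y6, .taui, .xii, .y2, .p, .xii, .y1, .hi, .xii, .y1,
   .y4, .taui, .X0, .p5, .xii, .y6, .p7, .xii, .y4, .hi, .y10, .tau, .xii, .p9, .xii, .p3, .y9, .hi, .p3, .tau, .xii,
   .y2, .p7],
  [.z, .Z10, .Z9, .Z7, .Z3, .Z2, .X9, .X7, .X6, .X5, .X4, .X3, .X2, .y5, .y3, .p6, .hi, .p8, .hi, .p10, .hi, .p, .hi,
   .p4, .hi, .p8, .xii, .y2, .p10, .xii, .y10, .p8, .xii, .y4, .taui, .X0, .p4, .xii, .y2, .p, .xii, .y8, .taui, .xii,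
   .y2, .p9, .xii, .y10, .p6, .xii, .y5, .tau, .xii, .p9],
  [.z, .Z10, .Z8, .Z7, .Z6, .Z5, .Z2, .Z1, .X10, .X7, .X5, .X4, .X1, .y10, .y9, .y8, .y7, .y6, .y5, .y1, .hi, .p10,
   .hi, .p10, .hi, .p2, .hi, .p4, .xii, .hi, .p8, .xii, .y1, .y7, .taui, .xii, .p, .xii, .y2, .hi, .xii, .y2, .y3,
   .tau, .X0, .xii, .y6, .p2, .xii, .p7, .y1, .xii, .hi, .taui, .xii, .y2, .p4, .xii, .p4, .y3, .xii, .y3, .taui,
   .xii, .p2, .xii]⟩

theorem h610 : Hd F (g wAd) b610 := hdD (by decide +kernel)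
theorem r610_0 : R9 F (g wAd) b610 [] 0 0 := .of (startD 0 1) (by decide +kernel)
theorem r610_1 : R9 F (g wAd) b610 [] 0 1 := .of (startD 0 1) (by decide +kernel)
theorem r610_2 : R9 F (g wAd) b610 [] 0 2 := .of (startD 0 1) (by decide +kernel)
theorem r610_3 : R9 F (g wAd) b610 [] 1 0 := .of (startD 0 1) (by decide +kernel)
theorem r610_4 : R9 F (g wAd) b610 [] 1 1 := .of (startD 0 1) (by decide +kernel)
theorem r610_5 : R9 F (g wAd) b610 [] 1 2 := .of (startD 0 1) (by decide +kernel)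
theorem r610_6 : R9 F (g wAd) b610 [] 2 0 := .of (startD 0 1) (by decide +kernel)
theorem r610_7 : R9 F (g wAd) b610 [] 2 1 := .of (startD 0 1) (by decide +kernel)
theorem r610_8 : R9 F (g wAd) b610 [] 2 2 := .of (startD 0 1) (by decide +kernel)
theorem g610 : Gd F (g wAd) (0, d610) [] :=
  good9 ok h610 r610_0 r610_1 r610_2 r610_3 r610_4 r610_5 r610_6 r610_7 r610_8

def b611 : Wd := ⟨0, d611,
  [.Z10, .Z9, .Z8, .Z7, .Z4, .Z3, .Z2, .Z1, .X9, .X7, .X6, .X5, .X2, .X0, .y7, .y3, .p6, .hi, .p9, .hi, .p9, .hi, .p,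
   .hi, .xii, .hi, .p8, .xii, .y9, .taui, .xii, .y1, .p, .xii, .y10, .p, .xii, .y4, .y6, .tau, .p9, .xii, .p3, .xii,
   .y5, .hi, .p6, .y4, .taui, .xii, .p9, .xii, .p2, .hi, .p2, .y10, .tau, .xii, .y2, .p7],
  [.z, .Z10, .Z8, .Z6, .Z5, .Z4, .Z2, .X9, .X2, .X1, .X0, .y7, .y6, .y2, .y1, .p6, .hi, .p6, .xii, .p3, .hi, .xii,
   .y1, .p10, .tau, .xii, .p, .xii, .y4, .hi, .xii, .y4, .y7, .tau, .hi, .xii, .hi, .p6, .xii, .y10, .p6, .y6, .taui,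
   .xii, .p9, .xii, .p8, .y1, .xii, .y10, .tau, .xii, .p3],
  [.Z10, .Z8, .Z6, .Z5, .Z3, .X10, .X9, .X8, .X4, .X3, .X0, .y10, .y9, .y8, .y6, .y4, .y3, .y2, .hi, .p3, .hi, .p6,
   .hi, .p9, .hi, .p9, .hi, .p7, .xii, .y2, .p10, .xii, .y10, .p8, .xii, .taui, .xii, .y1, .p, .xii, .p, .y7, .xii,
   .y4, .y5, .taui, .p6, .xii, .hi, .p8, .xii, .p5, .y6, .taui, .xii, .p2, .xii, .y2, .p4, .xii, .taui, .xii, .p6,
   .xii, .y4]⟩

theorem h611 : Hd F (g wAd) b611 := hdD (by decide +kernel)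
theorem r611_0 : R9 F (g wAd) b611 [] 0 0 := .of (startD 0 1) (by decide +kernel)
theorem r611_1 : R9 F (g wAd) b611 [] 0 1 := .of (startD 0 1) (by decide +kernel)
theorem r611_2 : R9 F (g wAd) b611 [] 0 2 := .of (startD 0 1) (by decide +kernel)
theorem r611_3 : R9 F (g wAd) b611 [] 1 0 := .of (startD 0 1) (by decide +kernel)
theorem r611_4 : R9 F (g wAd) b611 [] 1 1 := .of (startD 0 1) (by decide +kernel)
theorem r611_5 : R9 F (g wAd) b611 [] 1 2 := .of (startD 0 1) (by decide +kernel)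
theorem r611_6 : R9 F (g wAd) b611 [] 2 0 := .of (startD 0 1) (by decide +kernel)
theorem r611_7 : R9 F (g wAd) b611 [] 2 1 := .of (startD 0 1) (by decide +kernel)
theorem r611_8 : R9 F (g wAd) b611 [] 2 2 := .of (startD 0 1) (by decide +kernel)
theorem g611 : Gd F (g wAd) (0, d611) [] :=
  good9 ok h611 r611_0 r611_1 r611_2 r611_3 r611_4 r611_5 r611_6 r611_7 r611_8

def b612 : Wd := ⟨0, d612,
  [.Z9, .Z8, .Z5, .Z0, .X10, .X9, .X6, .X4, .X2, .y5, .y1, .hi, .p3, .hi, .p3, .hi, .p10, .hi, .p2, .hi, .p, .hi, .p4,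
   .hi, .xii, .p10, .xii, .y4, .p6, .xii, .y3, .taui, .xii, .p, .xii, .hi, .y8, .xii, .y3, .taui, .p9, .xii, .y6, .p,
   .xii, .hi, .y7, .p2, .tau, .xii, .p4, .xii, .y8, .hi, .p9, .tau, .xii, .p, .hi, .p4],
  [.z, .Z5, .Z2, .Z0, .X9, .X5, .X1, .y6, .y5, .y4, .y1, .hi, .p4, .hi, .p7, .hi, .p10, .hi, .p8, .hi, .p10, .xii,
   .hi, .xii, .y6, .p5, .hi, .p8, .tau, .xii, .p, .xii, .hi, .y8, .xii, .y6, .taui, .y1, .p4, .xii, .p8, .xii, .p4,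
   .hi, .p10, .tau, .xii, .p9, .xii, .y2, .y7, .p4],
  [.Z10, .Z8, .Z7, .Z6, .Z3, .Z0, .X10, .X9, .X8, .X4, .X3, .X2, .X1, .X0, .y10, .y9, .y8, .y4, .hi, .p4, .hi, .p6,
   .hi, .p4, .hi, .p10, .hi, .p7, .hi, .p7, .hi, .xii, .hi, .xii, .p9, .y4, .xii, .y1, .taui, .xii, .y6, .p, .xii, .p,
   .xii, .y2, .y6, .y10, .taui, .xii, .p2, .xii, .p4, .y8, .xii, .y1, .y7, .y8, .taui, .xii, .p4, .xii, .p3, .hi, .y5,
   .p10, .taui, .xii, .y2, .hi, .p10, .hi]⟩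

theorem h612 : Hd F (g wAd) b612 := hdD (by decide +kernel)
theorem r612_0 : R9 F (g wAd) b612 [] 0 0 := .of (startD 0 1) (by decide +kernel)
theorem r612_1 : R9 F (g wAd) b612 [] 0 1 := .of (startD 0 1) (by decide +kernel)
theorem r612_2 : R9 F (g wAd) b612 [] 0 2 := .of (startD 0 1) (by decide +kernel)
theorem r612_3 : R9 F (g wAd) b612 [] 1 0 := .of (startD 0 1) (by decide +kernel)
theorem r612_4 : R9 F (g wAd) b612 [] 1 1 := .of (startD 0 1) (by decide +kernel)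
theorem r612_5 : R9 F (g wAd) b612 [] 1 2 := .of (startD 0 1) (by decide +kernel)
theorem r612_6 : R9 F (g wAd) b612 [] 2 0 := .of (startD 0 1) (by decide +kernel)
theorem r612_7 : R9 F (g wAd) b612 [] 2 1 := .of (startD 0 1) (by decide +kernel)
theorem r612_8 : R9 F (g wAd) b612 [] 2 2 := .of (startD 0 1) (by decide +kernel)
theorem g612 : Gd F (g wAd) (0, d612) [] :=
  good9 ok h612 r612_0 r612_1 r612_2 r612_3 r612_4 r612_5 r612_6 r612_7 r612_8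

def b613 : Wd := ⟨0, d613,
  [.Z9, .Z8, .Z2, .Z0, .X10, .X7, .X6, .X5, .X4, .X1, .X0, .y9, .y6, .y5, .y4, .y3, .y2, .p10, .hi, .p3, .hi, .p7,
   .hi, .p10, .hi, .p9, .hi, .p8, .xii, .p, .xii, .y1, .y4, .hi, .p8, .tau, .xii, .y2, .p, .xii, .y1, .hi, .xii, .y3,
   .y10, .tau, .xii, .y1, .p8, .xii, .y4, .p4, .xii, .y5, .hi, .tau, .xii, .p2, .xii, .p2, .y1, .hi, .p, .tau, .xii,
   .y2, .hi, .p6],
  [.Z9, .Z7, .Z3, .Z2, .Z1, .X10, .X7, .X6, .X4, .y10, .y8, .y4, .hi, .p8, .hi, .p4, .hi, .p5, .xii, .p5, .hi, .p8,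
   .hi, .taui, .xii, .p, .xii, .y2, .y10, .hi, .xii, .y5, .y10, .tau, .X0, .xii, .y2, .p7, .xii, .y10, .hi, .xii, .y7,
   .y8, .taui, .xii, .p8, .xii, .y3, .y5, .p5, .hi, .p9, .tau, .xii, .p8],
  [.Z7, .Z6, .Z5, .Z3, .Z2, .Z1, .Z0, .X9, .X8, .X5, .X4, .X3, .X2, .X1, .y8, .y5, .y3, .p7, .hi, .p8, .hi, .p6, .hi,
   .p8, .hi, .p10, .hi, .xii, .p10, .xii, .y7, .p8, .xii, .taui, .xii, .p, .xii, .y1, .hi, .xii, .y7, .y10, .taui,
   .X0, .p7, .xii, .p7, .xii, .y2, .y10, .p4, .hi, .tau, .xii, .y2, .p9, .xii, .p3, .xii, .y3, .y5, .tau, .xii, .p5]⟩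

theorem h613 : Hd F (g wAd) b613 := hdD (by decide +kernel)
theorem r613_0 : R9 F (g wAd) b613 [] 0 0 := .of (startD 0 1) (by decide +kernel)
theorem r613_1 : R9 F (g wAd) b613 [] 0 1 := .of (startD 0 1) (by decide +kernel)
theorem r613_2 : R9 F (g wAd) b613 [] 0 2 := .of (startD 0 1) (by decide +kernel)
theorem r613_3 : R9 F (g wAd) b613 [] 1 0 := .of (startD 0 1) (by decide +kernel)
theorem r613_4 : R9 F (g wAd) b613 [] 1 1 := .of (startD 0 1) (by decide +kernel)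
theorem r613_5 : R9 F (g wAd) b613 [] 1 2 := .of (startD 0 1) (by decide +kernel)
theorem r613_6 : R9 F (g wAd) b613 [] 2 0 := .of (startD 0 1) (by decide +kernel)
theorem r613_7 : R9 F (g wAd) b613 [] 2 1 := .of (startD 0 1) (by decide +kernel)
theorem r613_8 : R9 F (g wAd) b613 [] 2 2 := .of (startD 0 1) (by decide +kernel)
theorem g613 : Gd F (g wAd) (0, d613) [] :=
  good9 ok h613 r613_0 r613_1 r613_2 r613_3 r613_4 r613_5 r613_6 r613_7 r613_8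

def b614 : Wd := ⟨0, d614,
  [.Z10, .Z9, .Z7, .Z4, .Z0, .X8, .X5, .X0, .y10, .y9, .y5, .hi, .p9, .hi, .p3, .hi, .p5, .hi, .p, .hi, .p8, .hi, .p9,
   .xii, .y2, .p10, .xii, .y8, .p3, .hi, .tau, .y1, .xii, .p10, .xii, .y5, .p10, .xii, .y8, .taui, .p4, .xii, .p9,
   .xii, .y4, .p5, .xii, .y5, .tau, .xii, .p3, .xii, .y6, .p, .xii, .y1, .tau, .xii, .p5],
  [.z, .Z7, .Z5, .Z3, .Z0, .X10, .X9, .X8, .X7, .X6, .X5, .X3, .X1, .y10, .y9, .y6, .y5, .y4, .y1, .p8, .hi, .p4, .hi,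
   .p4, .hi, .p5, .hi, .p9, .hi, .p7, .xii, .p10, .xii, .y1, .p10, .tau, .xii, .y1, .p8, .xii, .y8, .p4, .xii, .y10,
   .p3, .taui, .xii, .p9, .xii, .y4, .hi, .xii, .y6, .tau, .xii, .p5, .xii, .y7],
  [.Z8, .Z1, .X7, .X6, .X5, .X4, .X3, .X2, .X1, .X0, .y9, .y7, .y4, .y3, .p7, .hi, .p9, .hi, .p10, .hi, .p4, .hi, .p7,
   .hi, .p4, .hi, .xii, .p10, .xii, .y5, .p9, .xii, .y6, .taui, .y1, .xii, .y2, .hi, .xii, .p10, .xii, .taui, .xii,
   .p10, .xii, .p10, .y4, .xii, .y5, .y9, .y10, .tau, .xii, .p5, .xii, .y7, .p, .xii, .y8, .tau, .xii, .hi]⟩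

theorem h614 : Hd F (g wAd) b614 := hdD (by decide +kernel)
theorem r614_0 : R9 F (g wAd) b614 [] 0 0 := .of (startD 0 1) (by decide +kernel)
theorem r614_1 : R9 F (g wAd) b614 [] 0 1 := .of (startD 0 1) (by decide +kernel)
theorem r614_2 : R9 F (g wAd) b614 [] 0 2 := .of (startD 0 1) (by decide +kernel)
theorem r614_3 : R9 F (g wAd) b614 [] 1 0 := .of (startD 0 1) (by decide +kernel)
theorem r614_4 : R9 F (g wAd) b614 [] 1 1 := .of (startD 0 1) (by decide +kernel)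
theorem r614_5 : R9 F (g wAd) b614 [] 1 2 := .of (startD 0 1) (by decide +kernel)
theorem r614_6 : R9 F (g wAd) b614 [] 2 0 := .of (startD 0 1) (by decide +kernel)
theorem r614_7 : R9 F (g wAd) b614 [] 2 1 := .of (startD 0 1) (by decide +kernel)
theorem r614_8 : R9 F (g wAd) b614 [] 2 2 := .of (startD 0 1) (by decide +kernel)
theorem g614 : Gd F (g wAd) (0, d614) [] :=
  good9 ok h614 r614_0 r614_1 r614_2 r614_3 r614_4 r614_5 r614_6 r614_7 r614_8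

def b615 : Wd := ⟨0, d615,
  [.z, .Z10, .Z7, .Z6, .Z4, .Z2, .Z0, .X10, .X8, .X7, .X6, .X5, .X4, .y10, .y8, .y5, .y4, .y3, .hi, .p6, .hi, .p7,
   .hi, .p7, .hi, .p, .hi, .p6, .hi, .p2, .hi, .xii, .p10, .xii, .y7, .p6, .xii, .y7, .taui, .xii, .y1, .p, .xii, .y4,
   .p, .xii, .y6, .y10, .tau, .X0, .p2, .xii, .p7, .xii, .y7, .p10, .hi, .p4, .y4, .tau, .xii, .y2, .p9, .xii, .y8,
   .p2, .hi, .p2, .tau, .xii, .hi, .p10],
  [.z, .Z10, .Z5, .Z4, .X8, .X7, .X6, .X4, .X3, .X2, .X0, .y9, .y8, .y7, .y6, .y4, .y3, .p4, .hi, .p5, .hi, .p, .hi,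
   .p, .hi, .p6, .hi, .p6, .xii, .y2, .p10, .xii, .tau, .xii, .y1, .p, .xii, .p, .xii, .y1, .y2, .taui, .X0, .p8,
   .xii, .y9, .p3, .xii, .y4, .p5, .hi, .p2, .tau, .xii, .y2, .p9, .xii, .y2, .p3, .xii],
  [.Z8, .Z4, .Z2, .Z0, .X10, .X7, .X6, .X4, .X3, .X1, .X0, .y4, .y2, .y1, .hi, .p10, .hi, .p7, .hi, .p9, .hi, .p10,
   .hi, .p5, .hi, .p6, .xii, .p3, .hi, .xii, .y7, .p4, .hi, .p2, .taui, .y1, .xii, .y2, .hi, .xii, .p10, .xii, .taui,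
   .X0, .p10, .xii, .y7, .hi, .p6, .xii, .y1, .p9, .y1, .taui, .xii, .p4, .xii, .p9, .y9, .xii, .y10, .taui, .xii,
   .p3, .xii]⟩

theorem h615 : Hd F (g wAd) b615 := hdD (by decide +kernel)
theorem r615_0 : R9 F (g wAd) b615 [] 0 0 := .of (startD 0 1) (by decide +kernel)
theorem r615_1 : R9 F (g wAd) b615 [] 0 1 := .of (startD 0 1) (by decide +kernel)
theorem r615_2 : R9 F (g wAd) b615 [] 0 2 := .of (startD 0 1) (by decide +kernel)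
theorem r615_3 : R9 F (g wAd) b615 [] 1 0 := .of (startD 0 1) (by decide +kernel)
theorem r615_4 : R9 F (g wAd) b615 [] 1 1 := .of (startD 0 1) (by decide +kernel)
theorem r615_5 : R9 F (g wAd) b615 [] 1 2 := .of (startD 0 1) (by decide +kernel)
theorem r615_6 : R9 F (g wAd) b615 [] 2 0 := .of (startD 0 1) (by decide +kernel)
theorem r615_7 : R9 F (g wAd) b615 [] 2 1 := .of (startD 0 1) (by decide +kernel)
theorem r615_8 : R9 F (g wAd) b615 [] 2 2 := .of (startD 0 1) (by decide +kernel)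
theorem g615 : Gd F (g wAd) (0, d615) [] :=
  good9 ok h615 r615_0 r615_1 r615_2 r615_3 r615_4 r615_5 r615_6 r615_7 r615_8

def b616 : Wd := ⟨0, d616,
  [.Z10, .Z7, .Z5, .Z3, .Z1, .X9, .X8, .X7, .X4, .X3, .X2, .X1, .y7, .y5, .y4, .y2, .p5, .hi, .p9, .hi, .p8, .hi, .p,
   .hi, .p7, .hi, .p9, .xii, .p, .xii, .y2, .hi, .xii, .y4, .y5, .tau, .y1, .xii, .y1, .hi, .xii, .y6, .p10, .taui,
   .X0, .p5, .xii, .y2, .y3, .p6, .xii, .y4, .tau, .xii, .p5, .xii, .y2, .y7, .p9, .xii, .y5, .tau, .xii, .p5, .hi,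
   .p9],
  [.z, .Z10, .Z4, .Z3, .Z2, .Z0, .X10, .X9, .X8, .X5, .X4, .X1, .y10, .y9, .y8, .y7, .y4, .y1, .p7, .hi, .p3, .hi,
   .p10, .hi, .p4, .hi, .p10, .hi, .p7, .xii, .p2, .hi, .taui, .xii, .p, .xii, .hi, .y8, .xii, .y3, .y9, .tau, .X0,
   .xii, .hi, .xii, .p9, .y1, .xii, .y7, .y8, .hi, .taui, .xii, .p4, .xii, .y4, .p2, .hi, .p10, .tau, .xii, .y2, .p8],
  [.z, .Z10, .Z9, .Z8, .Z3, .Z1, .Z0, .X10, .X8, .X7, .X6, .X4, .X1, .X0, .y10, .y8, .y5, .y4, .y3, .hi, .p8, .hi, .p,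
   .hi, .p5, .hi, .p9, .hi, .p5, .hi, .p8, .xii, .p, .xii, .y6, .p9, .tau, .y1, .xii, .p10, .xii, .y8, .p10, .xii,
   .y4, .y8, .tau, .xii, .p7, .xii, .y1, .p5, .xii, .y10, .taui, .xii, .p9, .xii, .p3, .hi, .p3, .y9, .taui, .xii,
   .p3]⟩

theorem h616 : Hd F (g wAd) b616 := hdD (by decide +kernel)
theorem r616_0 : R9 F (g wAd) b616 [] 0 0 := .of (startD 0 1) (by decide +kernel)
theorem r616_1 : R9 F (g wAd) b616 [] 0 1 := .of (startD 0 1) (by decide +kernel)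
theorem r616_2 : R9 F (g wAd) b616 [] 0 2 := .of (startD 0 1) (by decide +kernel)
theorem r616_3 : R9 F (g wAd) b616 [] 1 0 := .of (startD 0 1) (by decide +kernel)
theorem r616_4 : R9 F (g wAd) b616 [] 1 1 := .of (startD 0 1) (by decide +kernel)
theorem r616_5 : R9 F (g wAd) b616 [] 1 2 := .of (startD 0 1) (by decide +kernel)
theorem r616_6 : R9 F (g wAd) b616 [] 2 0 := .of (startD 0 1) (by decide +kernel)
theorem r616_7 : R9 F (g wAd) b616 [] 2 1 := .of (startD 0 2) (by decide +kernel)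
theorem r616_8 : R9 F (g wAd) b616 [] 2 2 := .of (startD 0 1) (by decide +kernel)
theorem g616 : Gd F (g wAd) (0, d616) [] :=
  good9 ok h616 r616_0 r616_1 r616_2 r616_3 r616_4 r616_5 r616_6 r616_7 r616_8

def b617 : Wd := ⟨0, d617,
  [.z, .Z8, .Z7, .Z6, .Z4, .Z2, .Z1, .X10, .X8, .X7, .X6, .X5, .X4, .X3, .X1, .y10, .y9, .y7, .y6, .y3, .hi, .p9, .hi,
   .p8, .hi, .p10, .hi, .p10, .hi, .p4, .hi, .p3, .xii, .hi, .xii, .p5, .y1, .xii, .y8, .taui, .xii, .y6, .p, .xii,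
   .p, .y7, .xii, .y6, .taui, .X0, .xii, .y6, .p7, .xii, .p9, .y1, .xii, .y10, .p8, .taui, .xii, .p2, .xii, .p2, .hi,
   .p, .y10, .tau, .xii, .p4, .hi, .p2],
  [.Z10, .Z9, .Z5, .Z2, .Z1, .X10, .X9, .X8, .X6, .X4, .X2, .X0, .y10, .y7, .y5, .y1, .hi, .p, .hi, .p6, .hi, .p7,
   .hi, .p3, .hi, .p7, .hi, .xii, .y2, .p, .xii, .y6, .tau, .xii, .p, .xii, .hi, .y8, .xii, .y7, .y8, .y10, .tau, .y1,
   .p2, .xii, .hi, .xii, .y3, .p5, .tau, .xii, .p9, .xii, .y9, .p5, .xii, .y8, .tau, .xii, .p2],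
  [.z, .Z7, .Z6, .Z5, .Z4, .Z2, .Z0, .X10, .X7, .X6, .X3, .X2, .X1, .X0, .y8, .y6, .y5, .y3, .hi, .p10, .hi, .p10,
   .hi, .p6, .hi, .p7, .hi, .p3, .xii, .p10, .xii, .y8, .p4, .hi, .taui, .xii, .p3, .hi, .xii, .p3, .y5, .hi, .tau,
   .X0, .p10, .xii, .p9, .xii, .y1, .y5, .tau, .xii, .p4, .xii, .y8, .y10, .p4, .xii, .y3, .taui, .xii, .hi]⟩

theorem h617 : Hd F (g wAd) b617 := hdD (by decide +kernel)
theorem r617_0 : R9 F (g wAd) b617 [] 0 0 := .of (startD 0 1) (by decide +kernel)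
theorem r617_1 : R9 F (g wAd) b617 [] 0 1 := .of (startD 0 1) (by decide +kernel)
theorem r617_2 : R9 F (g wAd) b617 [] 0 2 := .of (startD 0 1) (by decide +kernel)
theorem r617_3 : R9 F (g wAd) b617 [] 1 0 := .of (startD 0 1) (by decide +kernel)
theorem r617_4 : R9 F (g wAd) b617 [] 1 1 := .of (startD 0 1) (by decide +kernel)
theorem r617_5 : R9 F (g wAd) b617 [] 1 2 := .of (startD 0 1) (by decide +kernel)
theorem r617_6 : R9 F (g wAd) b617 [] 2 0 := .of (startD 0 1) (by decide +kernel)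
theorem r617_7 : R9 F (g wAd) b617 [] 2 1 := .of (startD 0 1) (by decide +kernel)
theorem r617_8 : R9 F (g wAd) b617 [] 2 2 := .of (startD 0 1) (by decide +kernel)
theorem g617 : Gd F (g wAd) (0, d617) [] :=
  good9 ok h617 r617_0 r617_1 r617_2 r617_3 r617_4 r617_5 r617_6 r617_7 r617_8

def b618 : Wd := ⟨0, d618,
  [.z, .Z10, .Z6, .Z0, .X10, .X8, .X7, .X6, .X5, .X3, .X2, .X0, .y10, .y8, .y6, .y3, .p4, .hi, .p, .hi, .p7, .hi, .p7,
   .hi, .p7, .hi, .p, .xii, .p, .xii, .y10, .hi, .p10, .taui, .xii, .y2, .p, .xii, .y2, .hi, .xii, .y3, .taui, .xii,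
   .p, .xii, .y2, .y10, .hi, .xii, .y7, .y10, .taui, .X0, .p2, .xii, .p8, .xii, .y7, .taui, .xii, .p7, .xii, .y10,
   .p9, .y6, .taui, .xii, .y2, .p, .hi],
  [.z, .Z10, .Z9, .Z8, .Z6, .Z5, .Z4, .Z3, .Z2, .X10, .X8, .X7, .X5, .X3, .X2, .X0, .y9, .y8, .y7, .y2, .y1, .p9, .hi,
   .p5, .hi, .p3, .hi, .p6, .hi, .p9, .xii, .p10, .xii, .p9, .xii, .y1, .taui, .xii, .p, .xii, .y2, .hi, .xii, .y6,
   .taui, .p10, .xii, .p2, .xii, .y5, .p7, .xii, .tau, .xii, .p4, .xii, .y5, .y10, .p5, .hi],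
  [.Z7, .Z6, .Z5, .Z4, .Z2, .Z1, .X9, .X7, .X5, .X2, .X1, .y10, .y8, .y6, .y4, .y3, .y2, .y1, .p10, .hi, .p, .hi, .p6,
   .hi, .p6, .hi, .p8, .hi, .p7, .hi, .xii, .y2, .hi, .p8, .xii, .y2, .p10, .tau, .xii, .p, .xii, .hi, .y8, .xii, .y4,
   .y5, .tau, .X0, .p5, .xii, .p7, .xii, .y10, .p5, .y10, .taui, .xii, .y2, .p8, .xii, .y3, .p, .taui, .xii, .p8]⟩

theorem h618 : Hd F (g wAd) b618 := hdD (by decide +kernel)
theorem r618_0 : R9 F (g wAd) b618 [] 0 0 := .of (startD 0 1) (by decide +kernel)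
theorem r618_1 : R9 F (g wAd) b618 [] 0 1 := .of (startD 0 1) (by decide +kernel)
theorem r618_2 : R9 F (g wAd) b618 [] 0 2 := .of (startD 0 1) (by decide +kernel)
theorem r618_3 : R9 F (g wAd) b618 [] 1 0 := .of (startD 0 1) (by decide +kernel)
theorem r618_4 : R9 F (g wAd) b618 [] 1 1 := .of (startD 0 1) (by decide +kernel)
theorem r618_5 : R9 F (g wAd) b618 [] 1 2 := .of (startD 0 1) (by decide +kernel)
theorem r618_6 : R9 F (g wAd) b618 [] 2 0 := .of (startD 0 1) (by decide +kernel)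
theorem r618_7 : R9 F (g wAd) b618 [] 2 1 := .of (startD 0 1) (by decide +kernel)
theorem r618_8 : R9 F (g wAd) b618 [] 2 2 := .of (startD 0 1) (by decide +kernel)
theorem g618 : Gd F (g wAd) (0, d618) [] :=
  good9 ok h618 r618_0 r618_1 r618_2 r618_3 r618_4 r618_5 r618_6 r618_7 r618_8

def b619 : Wd := ⟨0, d619,
  [.z, .Z10, .Z9, .Z8, .Z2, .X10, .X8, .X7, .X4, .X3, .X0, .y7, .y5, .y4, .y1, .p10, .hi, .p4, .hi, .p3, .hi, .p10,
   .hi, .p8, .hi, .p4, .xii, .y2, .hi, .p10, .taui, .xii, .y6, .p, .xii, .p, .xii, .y1, .y10, .tau, .y1, .p7, .xii,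
   .hi, .p5, .xii, .y8, .p4, .tau, .xii, .p9, .xii, .p2, .y3, .hi, .p, .tau, .xii, .p],
  [.z, .Z10, .Z9, .Z7, .Z6, .Z3, .Z0, .X6, .X3, .X2, .X0, .y9, .y4, .y3, .y2, .p9, .hi, .p3, .hi, .p5, .hi, .p4, .hi,
   .p7, .hi, .xii, .hi, .xii, .y4, .p6, .xii, .y3, .taui, .xii, .y6, .p, .xii, .y1, .tau, .y1, .p5, .xii, .y6, .p2,
   .hi, .xii, .taui, .xii, .p5, .xii, .y2, .p5, .taui, .xii, .p2, .hi, .p],
  [.Z8, .Z7, .Z6, .Z2, .Z1, .Z0, .X9, .X4, .X0, .y10, .y4, .y3, .y2, .hi, .p10, .hi, .p9, .hi, .p, .hi, .p3, .hi, .p,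
   .hi, .p, .xii, .hi, .p8, .xii, .y4, .p10, .taui, .xii, .y1, .p, .xii, .p, .xii, .y5, .taui, .X0, .xii, .y1, .p7,
   .xii, .y9, .p7, .xii, .y2, .y7, .y8, .tau, .xii, .p4, .xii, .y1, .p6, .xii, .y2, .y10, .taui, .xii, .p10, .xii,
   .y4]⟩

theorem h619 : Hd F (g wAd) b619 := hdD (by decide +kernel)
theorem r619_0 : R9 F (g wAd) b619 [] 0 0 := .of (startD 0 1) (by decide +kernel)
theorem r619_1 : R9 F (g wAd) b619 [] 0 1 := .of (startD 0 1) (by decide +kernel)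
theorem r619_2 : R9 F (g wAd) b619 [] 0 2 := .of (startD 0 1) (by decide +kernel)
theorem r619_3 : R9 F (g wAd) b619 [] 1 0 := .of (startD 0 1) (by decide +kernel)
theorem r619_4 : R9 F (g wAd) b619 [] 1 1 := .of (startD 0 1) (by decide +kernel)
theorem r619_5 : R9 F (g wAd) b619 [] 1 2 := .of (startD 0 1) (by decide +kernel)
theorem r619_6 : R9 F (g wAd) b619 [] 2 0 := .of (startD 0 1) (by decide +kernel)
theorem r619_7 : R9 F (g wAd) b619 [] 2 1 := .of (startD 0 1) (by decide +kernel)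
theorem r619_8 : R9 F (g wAd) b619 [] 2 2 := .of (startD 0 1) (by decide +kernel)
theorem g619 : Gd F (g wAd) (0, d619) [] :=
  good9 ok h619 r619_0 r619_1 r619_2 r619_3 r619_4 r619_5 r619_6 r619_7 r619_8

theorem all : AllG F (g wAd) LD61 :=
  .cons g610 (.cons g611 (.cons g612 (.cons g613 (.cons g614 (.cons g615 (.cons g616 (.cons g617 (.cons g618 (.cons g619 (.nil))))))))))

end Cfsg.Agent.BX.No33.Bk.D61
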