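import Cfsg.Agent.BX.No33.Cheap
set_option linter.all false

/-!
# Tests, diagonal case, part 62 (helper5; generated)
-/

set_option autoImplicit false
set_option maxRecDepth 100000
set_option Elab.async false

namespace Cfsg.Agent.BX.No33.Bk.D62

open Cfsg.Agent.H819.U33 Cfsg.Agent.BX.No33.Front

def b620 : Wd := ⟨0, d620,
  [.z, .Z8, .Z2, .X9, .X6, .X5, .X2, .X1, .X0, .y10, .y9, .y3, .y2, .p2, .hi, .p3, .hi, .p4, .hi, .p4, .hi, .p, .hi,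
   .p2, .hi, .xii, .p, .xii, .y10, .p, .xii, .y3, .y10, .tau, .xii, .p, .xii, .y1, .hi, .xii, .y5, .y10, .taui, .X0,
   .xii, .y2, .p7, .xii, .p5, .xii, .p5, .y9, .tau, .xii, .p2, .xii, .y10, .p6, .xii, .y3, .y10, .tau, .xii, .p5, .hi,
   .p],
  [.Z10, .Z4, .Z1, .Z0, .X8, .X7, .X5, .X2, .X1, .y8, .y6, .y5, .y4, .y2, .p3, .hi, .p6, .hi, .p6, .hi, .p8, .hi, .p2,
   .xii, .taui, .xii, .y1, .p, .xii, .p, .xii, .y5, .y10, .tau, .X0, .p10, .xii, .y5, .p2, .xii, .p, .tau, .xii, .p8,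
   .xii, .y3, .y7, .p7, .tau, .xii, .p7],
  [.z, .Z7, .Z6, .Z4, .Z3, .Z1, .Z0, .X7, .X4, .X3, .X2, .y10, .y9, .y8, .y7, .y6, .y5, .y4, .y1, .p10, .hi, .p9, .hi,
   .p6, .hi, .p, .hi, .p6, .hi, .p, .hi, .p4, .xii, .p10, .xii, .y9, .p3, .hi, .tau, .y1, .xii, .y2, .hi, .xii, .y7,
   .p10, .xii, .y8, .taui, .xii, .y6, .p, .xii, .y4, .p, .xii, .y1, .tau, .p5, .xii, .y3, .p7, .xii, .tau, .xii, .p4,
   .xii, .y6, .y10, .p5, .xii, .y7, .tau, .xii, .p4]⟩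

theorem h620 : Hd F (g wAd) b620 := hdD (by decide +kernel)
theorem r620_0 : R9 F (g wAd) b620 [] 0 0 := .of (startD 0 1) (by decide +kernel)
theorem r620_1 : R9 F (g wAd) b620 [] 0 1 := .of (startD 0 1) (by decide +kernel)
theorem r620_2 : R9 F (g wAd) b620 [] 0 2 := .of (startD 0 2) (by decide +kernel)
theorem r620_3 : R9 F (g wAd) b620 [] 1 0 := .of (startD 0 1) (by decide +kernel)
theorem r620_4 : R9 F (g wAd) b620 [] 1 1 := .of (startD 0 1) (by decide +kernel)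
theorem r620_5 : R9 F (g wAd) b620 [] 1 2 := .of (startD 0 1) (by decide +kernel)
theorem r620_6 : R9 F (g wAd) b620 [] 2 0 := .of (startD 0 1) (by decide +kernel)
theorem r620_7 : R9 F (g wAd) b620 [] 2 1 := .of (startD 0 1) (by decide +kernel)
theorem r620_8 : R9 F (g wAd) b620 [] 2 2 := .of (startD 0 1) (by decide +kernel)
theorem g620 : Gd F (g wAd) (0, d620) [] :=
  good9 ok h620 r620_0 r620_1 r620_2 r620_3 r620_4 r620_5 r620_6 r620_7 r620_8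

def b621 : Wd := ⟨0, d621,
  [.Z9, .Z7, .Z6, .Z0, .X1, .y10, .y8, .y5, .y2, .hi, .p7, .hi, .p9, .hi, .p3, .hi, .p5, .hi, .p6, .hi, .xii, .y2,
   .hi, .xii, .p10, .xii, .y8, .y9, .y10, .taui, .xii, .p, .xii, .y3, .y10, .hi, .xii, .y5, .y10, .taui, .X0, .p8,
   .xii, .hi, .y7, .p6, .xii, .y7, .p3, .tau, .xii, .p4, .xii, .hi, .p6, .y9, .taui, .xii, .p10, .hi, .p10],
  [.z, .Z10, .Z5, .Z2, .Z1, .X8, .X6, .X5, .X4, .X0, .y10, .y9, .y7, .y6, .y4, .p9, .hi, .p6, .hi, .p7, .hi, .p7, .hi,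
   .p9, .hi, .p7, .xii, .p3, .hi, .tau, .xii, .p, .xii, .y1, .hi, .xii, .y4, .y7, .tau, .X0, .xii, .p10, .xii, .p8,
   .y2, .xii, .y10, .taui, .xii, .y2, .p7, .xii, .y6, .p4, .taui, .xii, .p],
  [.Z10, .Z7, .Z3, .Z2, .Z1, .X10, .X8, .X7, .X6, .X5, .y10, .y9, .y6, .y2, .y1, .p9, .hi, .p, .hi, .p7, .hi, .p5,
   .hi, .p8, .xii, .p, .hi, .xii, .p10, .taui, .xii, .p, .xii, .y1, .hi, .xii, .y1, .tau, .xii, .y1, .p, .xii, .y4,
   .y10, .p, .xii, .y6, .taui, .hi, .xii, .p8, .xii, .y7, .taui, .xii, .p4, .xii, .p4, .y6, .xii, .y3, .y5, .taui]⟩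

theorem h621 : Hd F (g wAd) b621 := hdD (by decide +kernel)
theorem r621_0 : R9 F (g wAd) b621 [] 0 0 := .of (startD 0 1) (by decide +kernel)
theorem r621_1 : R9 F (g wAd) b621 [] 0 1 := .of (startD 0 1) (by decide +kernel)
theorem r621_2 : R9 F (g wAd) b621 [] 0 2 := .of (startD 0 1) (by decide +kernel)
theorem r621_3 : R9 F (g wAd) b621 [] 1 0 := .of (startD 0 1) (by decide +kernel)
theorem r621_4 : R9 F (g wAd) b621 [] 1 1 := .of (startD 0 1) (by decide +kernel)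
theorem r621_5 : R9 F (g wAd) b621 [] 1 2 := .of (startD 0 1) (by decide +kernel)
theorem r621_6 : R9 F (g wAd) b621 [] 2 0 := .of (startD 0 1) (by decide +kernel)
theorem r621_7 : R9 F (g wAd) b621 [] 2 1 := .of (startD 0 1) (by decide +kernel)
theorem r621_8 : R9 F (g wAd) b621 [] 2 2 := .of (startD 0 1) (by decide +kernel)
theorem g621 : Gd F (g wAd) (0, d621) [] :=
  good9 ok h621 r621_0 r621_1 r621_2 r621_3 r621_4 r621_5 r621_6 r621_7 r621_8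

def b622 : Wd := ⟨0, d622,
  [.Z9, .Z6, .Z5, .Z3, .Z1, .X9, .X8, .X6, .X5, .X4, .X3, .X2, .X0, .y9, .y6, .y3, .y1, .p3, .hi, .p9, .hi, .p7, .hi,
   .p9, .hi, .p7, .hi, .xii, .p3, .hi, .xii, .p4, .y9, .hi, .p2, .tau, .y1, .xii, .p10, .xii, .p10, .y7, .xii, .y4,
   .y8, .tau, .p7, .xii, .p8, .xii, .y3, .y5, .p3, .hi, .p9, .taui, .xii, .p7, .xii, .y7, .y10, .p10, .hi, .p3, .hi,
   .tau, .xii, .hi, .p10],
  [.Z10, .Z9, .Z8, .Z5, .Z4, .Z3, .X10, .X8, .X7, .X5, .X4, .X3, .X2, .X0, .y3, .y2, .p3, .hi, .p7, .hi, .p7, .hi,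
   .p4, .hi, .p8, .hi, .p7, .xii, .hi, .p8, .xii, .y2, .p10, .tau, .xii, .y1, .p, .xii, .y4, .p, .xii, .y1, .y10,
   .taui, .X0, .p9, .xii, .p2, .xii, .hi, .p2, .y7, .taui, .xii, .p, .xii, .p4, .xii, .y2, .y9],
  [.Z10, .Z9, .Z5, .Z1, .X10, .X9, .X8, .X6, .X3, .X1, .y9, .y6, .y3, .y2, .hi, .p10, .hi, .p5, .hi, .p8, .hi, .p6,
   .hi, .p2, .xii, .p10, .xii, .y5, .p6, .xii, .y7, .taui, .xii, .y2, .p, .xii, .y4, .hi, .xii, .y4, .y7, .tau, .X0,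
   .hi, .xii, .p, .hi, .xii, .y5, .y9, .p9, .taui, .xii, .y2, .hi, .p6, .xii, .y7, .p5, .taui, .xii, .p7]⟩

theorem h622 : Hd F (g wAd) b622 := hdD (by decide +kernel)
theorem r622_0 : R9 F (g wAd) b622 [] 0 0 := .of (startD 0 1) (by decide +kernel)
theorem r622_1 : R9 F (g wAd) b622 [] 0 1 := .of (startD 0 1) (by decide +kernel)
theorem r622_2 : R9 F (g wAd) b622 [] 0 2 := .of (startD 0 1) (by decide +kernel)
theorem r622_3 : R9 F (g wAd) b622 [] 1 0 := .of (startD 0 1) (by decide +kernel)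
theorem r622_4 : R9 F (g wAd) b622 [] 1 1 := .of (startD 0 1) (by decide +kernel)
theorem r622_5 : R9 F (g wAd) b622 [] 1 2 := .of (startD 0 1) (by decide +kernel)
theorem r622_6 : R9 F (g wAd) b622 [] 2 0 := .of (startD 0 2) (by decide +kernel)
theorem r622_7 : R9 F (g wAd) b622 [] 2 1 := .of (startD 0 1) (by decide +kernel)
theorem r622_8 : R9 F (g wAd) b622 [] 2 2 := .of (startD 0 1) (by decide +kernel)
theorem g622 : Gd F (g wAd) (0, d622) [] :=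
  good9 ok h622 r622_0 r622_1 r622_2 r622_3 r622_4 r622_5 r622_6 r622_7 r622_8

def b623 : Wd := ⟨0, d623,
  [.z, .Z10, .Z6, .Z0, .X10, .X9, .X8, .X4, .X0, .y8, .y2, .y1, .p7, .hi, .p9, .hi, .p, .hi, .p5, .hi, .p, .hi, .p6,
   .hi, .xii, .p10, .xii, .y4, .p10, .xii, .y3, .y7, .tau, .xii, .y1, .p, .xii, .y10, .p, .xii, .y4, .y6, .taui, .y1,
   .xii, .p5, .xii, .y4, .hi, .p8, .xii, .y3, .taui, .xii, .hi, .p6, .xii, .y4, .p3, .y8, .taui, .xii, .p7],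
  [.Z9, .Z8, .Z7, .Z6, .Z4, .Z2, .Z0, .X9, .X8, .X7, .X4, .X1, .X0, .y10, .y9, .y8, .y6, .y5, .y4, .y3, .y2, .y1, .p3,
   .hi, .p7, .hi, .p4, .hi, .p3, .hi, .p5, .hi, .p9, .xii, .p5, .hi, .p5, .taui, .y1, .xii, .p10, .xii, .y1, .y7,
   .p10, .xii, .y8, .taui, .X0, .p7, .xii, .y4, .p7, .xii, .p2, .y9, .taui, .xii, .y2, .p2, .xii, .p2, .xii, .y2, .y7,
   .tau, .xii, .y6, .hi, .p6],
  [.z, .Z9, .Z7, .Z5, .Z3, .Z2, .X10, .X9, .X7, .X6, .X3, .X0, .y10, .y7, .y4, .y2, .y1, .p5, .hi, .p9, .hi, .p8, .hi,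
   .p9, .hi, .p10, .hi, .p, .hi, .xii, .hi, .p8, .tau, .xii, .y6, .p, .xii, .p, .xii, .y1, .tau, .X0, .p6, .xii, .p4,
   .hi, .xii, .y2, .p8, .tau, .xii, .y2, .p9, .xii, .p, .taui, .xii, .y2, .p7]⟩

theorem h623 : Hd F (g wAd) b623 := hdD (by decide +kernel)
theorem r623_0 : R9 F (g wAd) b623 [] 0 0 := .of (startD 0 1) (by decide +kernel)
theorem r623_1 : R9 F (g wAd) b623 [] 0 1 := .of (startD 0 1) (by decide +kernel)
theorem r623_2 : R9 F (g wAd) b623 [] 0 2 := .of (startD 0 2) (by decide +kernel)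
theorem r623_3 : R9 F (g wAd) b623 [] 1 0 := .of (startD 0 1) (by decide +kernel)
theorem r623_4 : R9 F (g wAd) b623 [] 1 1 := .of (startD 0 1) (by decide +kernel)
theorem r623_5 : R9 F (g wAd) b623 [] 1 2 := .of (startD 0 1) (by decide +kernel)
theorem r623_6 : R9 F (g wAd) b623 [] 2 0 := .of (startD 0 1) (by decide +kernel)
theorem r623_7 : R9 F (g wAd) b623 [] 2 1 := .of (startD 0 1) (by decide +kernel)
theorem r623_8 : R9 F (g wAd) b623 [] 2 2 := .of (startD 0 1) (by decide +kernel)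
theorem g623 : Gd F (g wAd) (0, d623) [] :=
  good9 ok h623 r623_0 r623_1 r623_2 r623_3 r623_4 r623_5 r623_6 r623_7 r623_8

def b624 : Wd := ⟨0, d624,
  [.z, .Z10, .Z9, .Z8, .Z5, .Z4, .Z3, .Z0, .X10, .X8, .X7, .X3, .X2, .X0, .y10, .y7, .y5, .y2, .p, .hi, .p6, .hi, .p,
   .hi, .p, .hi, .p2, .xii, .y2, .tau, .y1, .xii, .p10, .xii, .y4, .p10, .xii, .y8, .tau, .p7, .xii, .y4, .p5, .hi,
   .xii, .y1, .p5, .taui, .xii, .p4, .xii, .y10, .p3, .y4, .hi, .p3, .tau, .xii, .p4, .hi, .p9],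
  [.Z9, .Z7, .Z6, .Z3, .Z2, .Z1, .Z0, .X10, .X9, .X5, .X1, .y9, .y3, .y1, .p, .hi, .p7, .hi, .p3, .hi, .p9, .hi, .p9,
   .hi, .xii, .p, .xii, .y10, .p9, .tau, .xii, .p, .xii, .hi, .y8, .xii, .y3, .y9, .tau, .xii, .p9, .xii, .y1, .p2,
   .xii, .y1, .y10, .tau, .xii, .p10, .xii, .p6, .xii, .y8, .y9],
  [.z, .Z9, .Z6, .Z5, .Z4, .Z2, .Z1, .X8, .X5, .X2, .X1, .y9, .y8, .p10, .hi, .p3, .hi, .p8, .hi, .p8, .hi, .p, .hi,
   .p6, .hi, .p6, .xii, .hi, .p4, .hi, .p4, .tau, .xii, .y6, .p, .xii, .y10, .p, .xii, .y4, .y7, .taui, .X0, .xii,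
   .y2, .p4, .xii, .p9, .y4, .xii, .y1, .y9, .taui, .xii, .p3, .xii, .y2, .p2, .hi, .p9, .taui, .xii, .y2, .hi]⟩

theorem h624 : Hd F (g wAd) b624 := hdD (by decide +kernel)
theorem r624_0 : R9 F (g wAd) b624 [] 0 0 := .of (startD 0 1) (by decide +kernel)
theorem r624_1 : R9 F (g wAd) b624 [] 0 1 := .of (startD 0 1) (by decide +kernel)
theorem r624_2 : R9 F (g wAd) b624 [] 0 2 := .of (startD 0 1) (by decide +kernel)
theorem r624_3 : R9 F (g wAd) b624 [] 1 0 := .of (startD 0 1) (by decide +kernel)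
theorem r624_4 : R9 F (g wAd) b624 [] 1 1 := .of (startD 0 1) (by decide +kernel)
theorem r624_5 : R9 F (g wAd) b624 [] 1 2 := .of (startD 0 1) (by decide +kernel)
theorem r624_6 : R9 F (g wAd) b624 [] 2 0 := .of (startD 0 1) (by decide +kernel)
theorem r624_7 : R9 F (g wAd) b624 [] 2 1 := .of (startD 0 1) (by decide +kernel)
theorem r624_8 : R9 F (g wAd) b624 [] 2 2 := .of (startD 0 1) (by decide +kernel)
theorem g624 : Gd F (g wAd) (0, d624) [] :=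
  good9 ok h624 r624_0 r624_1 r624_2 r624_3 r624_4 r624_5 r624_6 r624_7 r624_8

def b625 : Wd := ⟨0, d625,
  [.z, .Z10, .Z7, .Z6, .Z5, .Z3, .Z2, .Z0, .X10, .X7, .X5, .X4, .X3, .X2, .X1, .X0, .y9, .y8, .y7, .y4, .y3, .y2, .p7,
   .hi, .p, .hi, .p3, .hi, .p6, .hi, .p5, .hi, .xii, .y2, .p, .hi, .xii, .p5, .hi, .p5, .taui, .y1, .xii, .p10, .xii,
   .y8, .p10, .xii, .y1, .y7, .tau, .p4, .xii, .p9, .xii, .hi, .p8, .y8, .hi, .tau, .xii, .p4, .xii, .y1, .p3, .hi,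
   .p, .tau, .xii, .p2, .hi, .p10],
  [.z, .Z10, .Z7, .Z6, .Z5, .Z4, .Z1, .X9, .X7, .X6, .X5, .X4, .X2, .X1, .y10, .p5, .hi, .p8, .hi, .p10, .hi, .p7,
   .hi, .p9, .xii, .hi, .p8, .hi, .p8, .tau, .y1, .xii, .p10, .xii, .y8, .p10, .xii, .y10, .tau, .hi, .xii, .p8, .xii,
   .y2, .y7, .y8, .tau, .xii, .y2, .hi, .p8, .xii, .y1, .p],
  [.z, .Z9, .Z8, .Z4, .Z2, .Z1, .Z0, .X10, .X9, .X7, .X5, .X0, .y10, .y9, .y8, .y5, .y2, .p, .hi, .p10, .hi, .p4, .hi,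
   .p3, .hi, .p, .hi, .p9, .xii, .hi, .p8, .xii, .y1, .y9, .p10, .tau, .xii, .y2, .p, .xii, .y3, .y10, .hi, .xii, .y7,
   .tau, .X0, .y1, .xii, .p5, .xii, .y1, .y8, .p9, .xii, .y1, .taui, .xii, .p7, .xii, .y1, .hi, .y4, .p10, .taui,
   .xii, .hi, .p10, .hi]⟩

theorem h625 : Hd F (g wAd) b625 := hdD (by decide +kernel)
theorem r625_0 : R9 F (g wAd) b625 [] 0 0 := .of (startD 0 1) (by decide +kernel)
theorem r625_1 : R9 F (g wAd) b625 [] 0 1 := .of (startD 0 1) (by decide +kernel)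
theorem r625_2 : R9 F (g wAd) b625 [] 0 2 := .of (startD 0 1) (by decide +kernel)
theorem r625_3 : R9 F (g wAd) b625 [] 1 0 := .of (startD 0 1) (by decide +kernel)
theorem r625_4 : R9 F (g wAd) b625 [] 1 1 := .of (startD 0 1) (by decide +kernel)
theorem r625_5 : R9 F (g wAd) b625 [] 1 2 := .of (startD 0 1) (by decide +kernel)
theorem r625_6 : R9 F (g wAd) b625 [] 2 0 := .of (startD 0 1) (by decide +kernel)
theorem r625_7 : R9 F (g wAd) b625 [] 2 1 := .of (startD 0 1) (by decide +kernel)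
theorem r625_8 : R9 F (g wAd) b625 [] 2 2 := .of (startD 0 1) (by decide +kernel)
theorem g625 : Gd F (g wAd) (0, d625) [] :=
  good9 ok h625 r625_0 r625_1 r625_2 r625_3 r625_4 r625_5 r625_6 r625_7 r625_8

def b626 : Wd := ⟨0, d626,
  [.z, .Z9, .Z7, .Z6, .Z4, .Z3, .Z2, .Z1, .X10, .X8, .X7, .X6, .X5, .X2, .y10, .y8, .y7, .y5, .y3, .y2, .y1, .hi, .p6,
   .hi, .p, .hi, .p, .hi, .p4, .hi, .xii, .p10, .xii, .p6, .xii, .y6, .taui, .y1, .xii, .p10, .xii, .y2, .p10, .xii,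
   .y8, .tau, .xii, .y2, .p, .xii, .y2, .hi, .xii, .y3, .taui, .p7, .xii, .p5, .xii, .y8, .taui, .xii, .y2, .p9, .xii,
   .y3, .p5, .xii, .y2, .y8, .taui, .xii, .p10],
  [.z, .Z10, .Z9, .Z8, .Z5, .Z2, .Z1, .Z0, .X10, .X9, .X7, .X5, .X2, .X1, .y7, .y3, .p6, .hi, .p9, .hi, .p4, .hi, .p7,
   .hi, .p, .hi, .p5, .xii, .p, .xii, .y2, .hi, .xii, .y6, .taui, .y1, .xii, .y1, .hi, .xii, .y6, .p10, .xii, .tau,
   .X0, .p10, .xii, .y7, .p5, .xii, .y4, .y9, .p7, .tau, .xii, .p5, .xii, .y9, .p5, .y5, .xii, .y7, .taui],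
  [.z, .Z10, .Z9, .Z7, .Z1, .X9, .X8, .X7, .X3, .X2, .X1, .X0, .y10, .y3, .y1, .p10, .hi, .p7, .hi, .p10, .hi, .p7,
   .hi, .p8, .hi, .p9, .hi, .p8, .xii, .hi, .p8, .xii, .y4, .taui, .y1, .xii, .p10, .xii, .y8, .p10, .xii, .y4, .y9,
   .taui, .p4, .xii, .p7, .xii, .y5, .p3, .y1, .hi, .tau, .xii, .p4, .xii, .p, .y3, .hi, .p3, .taui, .xii, .hi, .p10]⟩

theorem h626 : Hd F (g wAd) b626 := hdD (by decide +kernel)
theorem r626_0 : R9 F (g wAd) b626 [] 0 0 := .of (startD 0 1) (by decide +kernel)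
theorem r626_1 : R9 F (g wAd) b626 [] 0 1 := .of (startD 0 1) (by decide +kernel)
theorem r626_2 : R9 F (g wAd) b626 [] 0 2 := .of (startD 0 1) (by decide +kernel)
theorem r626_3 : R9 F (g wAd) b626 [] 1 0 := .of (startD 0 1) (by decide +kernel)
theorem r626_4 : R9 F (g wAd) b626 [] 1 1 := .of (startD 0 1) (by decide +kernel)
theorem r626_5 : R9 F (g wAd) b626 [] 1 2 := .of (startD 0 1) (by decide +kernel)
theorem r626_6 : R9 F (g wAd) b626 [] 2 0 := .of (startD 0 1) (by decide +kernel)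
theorem r626_7 : R9 F (g wAd) b626 [] 2 1 := .of (startD 0 1) (by decide +kernel)
theorem r626_8 : R9 F (g wAd) b626 [] 2 2 := .of (startD 0 1) (by decide +kernel)
theorem g626 : Gd F (g wAd) (0, d626) [] :=
  good9 ok h626 r626_0 r626_1 r626_2 r626_3 r626_4 r626_5 r626_6 r626_7 r626_8

def b627 : Wd := ⟨0, d627,
  [.z, .Z10, .Z7, .Z4, .X9, .X8, .X2, .X1, .X0, .y10, .y9, .y3, .y2, .y1, .p5, .hi, .p10, .hi, .p10, .hi, .p5, .hi,
   .p9, .hi, .xii, .p, .xii, .hi, .y7, .p10, .tau, .xii, .y6, .p, .xii, .y10, .p, .xii, .y5, .y10, .taui, .X0, .y1,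
   .p2, .xii, .p7, .xii, .p, .hi, .y9, .p6, .tau, .xii, .p3, .xii, .y6, .p2, .hi, .p9, .tau, .xii, .y2, .p8],
  [.z, .Z10, .Z9, .Z6, .Z3, .Z1, .X10, .X9, .X8, .X7, .X6, .X3, .X0, .y8, .y4, .y2, .hi, .p3, .hi, .p, .hi, .p5, .hi,
   .xii, .p10, .xii, .y8, .taui, .xii, .p, .xii, .y3, .hi, .xii, .y7, .y10, .taui, .xii, .p9, .xii, .p3, .y6, .xii,
   .y1, .y6, .tau, .xii, .p9, .xii, .p9, .y1, .xii, .tau, .xii, .hi, .p3],
  [.z, .Z10, .Z9, .Z4, .X10, .X8, .X6, .X1, .X0, .y7, .y4, .y1, .p5, .hi, .p8, .hi, .p9, .hi, .p7, .hi, .p10, .hi, .p,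
   .xii, .p10, .xii, .y4, .p3, .hi, .taui, .y1, .xii, .p10, .xii, .y1, .p10, .y9, .xii, .y4, .taui, .X0, .xii, .p8,
   .xii, .y1, .y7, .p4, .xii, .y1, .hi, .tau, .xii, .p3, .xii, .y5, .p, .xii, .y1, .y9]⟩

theorem h627 : Hd F (g wAd) b627 := hdD (by decide +kernel)
theorem r627_0 : R9 F (g wAd) b627 [] 0 0 := .of (startD 0 1) (by decide +kernel)
theorem r627_1 : R9 F (g wAd) b627 [] 0 1 := .of (startD 0 1) (by decide +kernel)
theorem r627_2 : R9 F (g wAd) b627 [] 0 2 := .of (startD 0 1) (by decide +kernel)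
theorem r627_3 : R9 F (g wAd) b627 [] 1 0 := .of (startD 0 1) (by decide +kernel)
theorem r627_4 : R9 F (g wAd) b627 [] 1 1 := .of (startD 0 2) (by decide +kernel)
theorem r627_5 : R9 F (g wAd) b627 [] 1 2 := .of (startD 0 1) (by decide +kernel)
theorem r627_6 : R9 F (g wAd) b627 [] 2 0 := .of (startD 0 1) (by decide +kernel)
theorem r627_7 : R9 F (g wAd) b627 [] 2 1 := .of (startD 0 1) (by decide +kernel)
theorem r627_8 : R9 F (g wAd) b627 [] 2 2 := .of (startD 0 1) (by decide +kernel)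
theorem g627 : Gd F (g wAd) (0, d627) [] :=
  good9 ok h627 r627_0 r627_1 r627_2 r627_3 r627_4 r627_5 r627_6 r627_7 r627_8

def b628 : Wd := ⟨0, d628,
  [.z, .Z6, .Z4, .Z3, .Z2, .Z0, .X9, .X6, .X5, .X2, .y10, .y9, .y4, .p9, .hi, .p3, .hi, .p9, .hi, .p, .hi, .p4, .hi,
   .p8, .xii, .p10, .xii, .p9, .xii, .y1, .y10, .tau, .y1, .xii, .y1, .hi, .xii, .p10, .xii, .y1, .y6, .tau, .X0, .hi,
   .xii, .p5, .xii, .y9, .p10, .hi, .p5, .taui, .xii, .p9, .xii, .p6, .y4, .xii, .y8, .taui, .xii, .y2, .p4],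
  [.z, .Z9, .Z8, .Z3, .Z1, .Z0, .X5, .X3, .y8, .y7, .y6, .y5, .y4, .y3, .y2, .y1, .p5, .hi, .p5, .hi, .p8, .hi, .p8,
   .hi, .p, .hi, .p3, .hi, .xii, .p10, .xii, .y1, .p4, .hi, .taui, .X0, .p2, .xii, .p4, .y8, .xii, .p10, .y9, .hi,
   .tau, .xii, .hi, .p6, .xii, .y1, .y10, .p6, .tau, .xii, .y2, .p7],
  [.z, .Z5, .Z2, .Z0, .X8, .X6, .X5, .X3, .X1, .y10, .y9, .y8, .y7, .y4, .y1, .p8, .hi, .p8, .hi, .p4, .hi, .p3, .hi,
   .p5, .hi, .p10, .hi, .xii, .y2, .p, .xii, .p2, .hi, .taui, .y1, .xii, .p10, .xii, .y4, .p10, .xii, .y1, .y3, .taui,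
   .X0, .p8, .xii, .hi, .p7, .xii, .y4, .p6, .taui, .xii, .p9, .xii, .y3, .p6, .xii, .y1, .y7, .tau, .xii, .y2, .p9]⟩

theorem h628 : Hd F (g wAd) b628 := hdD (by decide +kernel)
theorem r628_0 : R9 F (g wAd) b628 [] 0 0 := .of (startD 0 1) (by decide +kernel)
theorem r628_1 : R9 F (g wAd) b628 [] 0 1 := .of (startD 0 1) (by decide +kernel)
theorem r628_2 : R9 F (g wAd) b628 [] 0 2 := .of (startD 0 1) (by decide +kernel)
theorem r628_3 : R9 F (g wAd) b628 [] 1 0 := .of (startD 0 1) (by decide +kernel)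
theorem r628_4 : R9 F (g wAd) b628 [] 1 1 := .of (startD 0 1) (by decide +kernel)
theorem r628_5 : R9 F (g wAd) b628 [] 1 2 := .of (startD 0 1) (by decide +kernel)
theorem r628_6 : R9 F (g wAd) b628 [] 2 0 := .of (startD 0 1) (by decide +kernel)
theorem r628_7 : R9 F (g wAd) b628 [] 2 1 := .of (startD 0 1) (by decide +kernel)
theorem r628_8 : R9 F (g wAd) b628 [] 2 2 := .of (startD 0 1) (by decide +kernel)
theorem g628 : Gd F (g wAd) (0, d628) [] :=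
  good9 ok h628 r628_0 r628_1 r628_2 r628_3 r628_4 r628_5 r628_6 r628_7 r628_8

def b629 : Wd := ⟨0, d629,
  [.z, .Z10, .Z5, .Z3, .Z1, .X9, .X8, .X7, .X5, .X3, .X2, .X1, .X0, .y10, .y9, .y8, .y6, .y5, .y4, .hi, .p6, .hi, .p8,
   .hi, .p, .hi, .p3, .hi, .p4, .xii, .hi, .xii, .y4, .p9, .xii, .y5, .tau, .y1, .xii, .p10, .xii, .y1, .p10, .y9,
   .xii, .taui, .xii, .p7, .xii, .p9, .xii, .p5, .y7, .y10, .tau, .xii, .p8, .xii, .p8, .y6, .hi, .p5, .taui, .xii,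
   .p3],
  [.z, .Z9, .Z8, .Z7, .Z5, .Z3, .Z2, .Z1, .X10, .X9, .X8, .X7, .X5, .X4, .X3, .X2, .X0, .y10, .y8, .y7, .y6, .y4, .y2,
   .hi, .p10, .hi, .p3, .hi, .p7, .hi, .p8, .hi, .p10, .tau, .y1, .xii, .p10, .xii, .y1, .y9, .p10, .xii, .y2, .y4,
   .tau, .p8, .xii, .y2, .p4, .xii, .p10, .hi, .p6, .y1, .taui, .xii, .y2, .p6, .xii, .p2, .xii, .y1, .y2, .taui,
   .xii, .hi, .p3],
  [.Z8, .Z5, .Z2, .X10, .X9, .X6, .X5, .X2, .y10, .y5, .y4, .p5, .hi, .p10, .hi, .p5, .hi, .p5, .hi, .p, .xii, .hi,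
   .xii, .p2, .xii, .y3, .y10, .taui, .xii, .y2, .p, .xii, .y4, .hi, .xii, .y7, .taui, .X0, .xii, .y2, .p9, .xii, .y5,
   .p3, .xii, .y1, .y6, .taui, .xii, .y2, .p9, .xii, .y1, .p6, .xii, .y7, .tau, .xii, .hi]⟩

theorem h629 : Hd F (g wAd) b629 := hdD (by decide +kernel)
theorem r629_0 : R9 F (g wAd) b629 [] 0 0 := .of (startD 0 1) (by decide +kernel)
theorem r629_1 : R9 F (g wAd) b629 [] 0 1 := .of (startD 0 1) (by decide +kernel)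
theorem r629_2 : R9 F (g wAd) b629 [] 0 2 := .of (startD 0 1) (by decide +kernel)
theorem r629_3 : R9 F (g wAd) b629 [] 1 0 := .of (startD 0 1) (by decide +kernel)
theorem r629_4 : R9 F (g wAd) b629 [] 1 1 := .of (startD 0 1) (by decide +kernel)
theorem r629_5 : R9 F (g wAd) b629 [] 1 2 := .of (startD 0 1) (by decide +kernel)
theorem r629_6 : R9 F (g wAd) b629 [] 2 0 := .of (startD 0 1) (by decide +kernel)
theorem r629_7 : R9 F (g wAd) b629 [] 2 1 := .of (startD 0 1) (by decide +kernel)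
theorem r629_8 : R9 F (g wAd) b629 [] 2 2 := .of (startD 0 1) (by decide +kernel)
theorem g629 : Gd F (g wAd) (0, d629) [] :=
  good9 ok h629 r629_0 r629_1 r629_2 r629_3 r629_4 r629_5 r629_6 r629_7 r629_8

theorem all : AllG F (g wAd) LD62 :=
  .cons g620 (.cons g621 (.cons g622 (.cons g623 (.cons g624 (.cons g625 (.cons g626 (.cons g627 (.cons g628 (.cons g629 (.nil))))))))))

end Cfsg.Agent.BX.No33.Bk.D62
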