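import Cfsg.Agent.BX.No33.Cheap
set_option linter.all false

/-!
# Tests, diagonal case, part 64 (helper5; generated)
-/

set_option autoImplicit false
set_option maxRecDepth 100000
set_option Elab.async false

namespace Cfsg.Agent.BX.No33.Bk.D64

open Cfsg.Agent.H819.U33 Cfsg.Agent.BX.No33.Front

def b640 : Wd := ⟨0, d640,
  [.z, .Z6, .Z4, .Z2, .Z0, .X8, .X5, .X4, .X3, .X2, .X0, .y9, .y8, .y7, .y6, .y4, .y2, .y1, .p4, .hi, .p3, .hi, .p,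
   .hi, .p4, .hi, .p5, .hi, .p2, .xii, .y2, .p10, .xii, .y1, .y7, .taui, .xii, .p, .xii, .y4, .hi, .xii, .y1, .y9,
   .taui, .xii, .y6, .p, .xii, .y10, .p, .xii, .y6, .y10, .tau, .X0, .y1, .p7, .xii, .hi, .xii, .tau, .xii, .p6, .xii,
   .y2, .p, .xii, .y2, .tau, .xii, .hi],
  [.Z8, .Z6, .Z4, .Z3, .Z2, .Z1, .X10, .X6, .X5, .X4, .X1, .X0, .y9, .y5, .y2, .y1, .p2, .hi, .p10, .hi, .p3, .hi,
   .p10, .hi, .p4, .hi, .xii, .y2, .p, .xii, .p8, .xii, .y4, .y6, .tau, .y1, .xii, .p10, .xii, .y1, .y9, .p10, .xii,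
   .y10, .tau, .hi, .xii, .p5, .xii, .hi, .p, .y1, .y5, .hi, .tau, .xii, .p5, .hi, .xii, .y8, .p5, .hi, .p3],
  [.Z10, .Z9, .Z8, .Z5, .Z1, .X10, .X9, .X8, .X6, .X5, .X4, .X3, .X1, .X0, .y10, .y9, .y8, .y7, .y6, .y1, .hi, .p8,
   .hi, .p6, .hi, .p, .hi, .p2, .hi, .xii, .p, .xii, .y1, .y2, .hi, .p8, .tau, .xii, .y6, .p, .xii, .y2, .p, .xii,
   .y1, .y2, .tau, .X0, .p9, .xii, .p, .xii, .hi, .y9, .p, .y5, .tau, .xii, .p6, .xii, .y5, .hi, .p5, .hi, .taui,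
   .xii, .y2, .p7]⟩

theorem h640 : Hd F (g wAd) b640 := hdD (by decide +kernel)
theorem r640_0 : R9 F (g wAd) b640 [] 0 0 := .of (startD 0 1) (by decide +kernel)
theorem r640_1 : R9 F (g wAd) b640 [] 0 1 := .of (startD 0 2) (by decide +kernel)
theorem r640_2 : R9 F (g wAd) b640 [] 0 2 := .of (startD 0 1) (by decide +kernel)
theorem r640_3 : R9 F (g wAd) b640 [] 1 0 := .of (startD 0 1) (by decide +kernel)
theorem r640_4 : R9 F (g wAd) b640 [] 1 1 := .of (startD 0 1) (by decide +kernel)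
theorem r640_5 : R9 F (g wAd) b640 [] 1 2 := .of (startD 0 1) (by decide +kernel)
theorem r640_6 : R9 F (g wAd) b640 [] 2 0 := .of (startD 0 1) (by decide +kernel)
theorem r640_7 : R9 F (g wAd) b640 [] 2 1 := .of (startD 0 2) (by decide +kernel)
theorem r640_8 : R9 F (g wAd) b640 [] 2 2 := .of (startD 0 1) (by decide +kernel)
theorem g640 : Gd F (g wAd) (0, d640) [] :=
  good9 ok h640 r640_0 r640_1 r640_2 r640_3 r640_4 r640_5 r640_6 r640_7 r640_8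

def b641 : Wd := ⟨0, d641,
  [.z, .Z9, .Z6, .Z5, .Z2, .Z1, .Z0, .X9, .X3, .X2, .X1, .X0, .y10, .y3, .hi, .p4, .hi, .p9, .hi, .p3, .hi, .p6, .hi,
   .p2, .hi, .xii, .p, .xii, .p, .xii, .y1, .taui, .xii, .y1, .p, .xii, .y4, .p, .xii, .y1, .y2, .tau, .xii, .y1, .p,
   .xii, .y4, .p, .xii, .y1, .y4, .taui, .p10, .xii, .y10, .p10, .xii, .y8, .taui, .xii, .p4, .xii, .y4, .p8, .xii,
   .taui, .xii, .hi, .p3],
  [.Z10, .Z9, .Z8, .Z6, .Z2, .Z1, .Z0, .X9, .X5, .X4, .y8, .y5, .y3, .y1, .p3, .hi, .p5, .hi, .p, .hi, .p10, .hi,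
   .xii, .p, .xii, .y6, .taui, .xii, .y6, .p, .xii, .p, .xii, .y7, .y8, .y10, .tau, .X0, .p8, .xii, .y1, .p4, .xii,
   .y9, .p3, .y1, .hi, .p2, .tau, .xii, .p7, .xii, .y1, .y2, .p4, .hi, .taui, .xii, .p3, .hi, .p8],
  [.Z8, .Z7, .Z5, .Z3, .Z1, .X8, .X7, .X5, .X4, .X3, .y10, .y4, .y3, .p8, .hi, .p5, .hi, .p6, .hi, .p10, .hi, .p6,
   .hi, .p2, .xii, .y2, .p, .xii, .y3, .y4, .tau, .xii, .y6, .p, .xii, .p, .xii, .y7, .y8, .tau, .p4, .xii, .y6, .p8,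
   .xii, .y1, .p6, .hi, .p8, .taui, .xii, .y2, .p9, .xii, .y5, .p2, .hi, .p3, .taui, .xii, .p3, .hi, .p10]⟩

theorem h641 : Hd F (g wAd) b641 := hdD (by decide +kernel)
theorem r641_0 : R9 F (g wAd) b641 [] 0 0 := .of (startD 0 1) (by decide +kernel)
theorem r641_1 : R9 F (g wAd) b641 [] 0 1 := .of (startD 0 1) (by decide +kernel)
theorem r641_2 : R9 F (g wAd) b641 [] 0 2 := .of (startD 0 1) (by decide +kernel)
theorem r641_3 : R9 F (g wAd) b641 [] 1 0 := .of (startD 0 2) (by decide +kernel)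
theorem r641_4 : R9 F (g wAd) b641 [] 1 1 := .of (startD 0 1) (by decide +kernel)
theorem r641_5 : R9 F (g wAd) b641 [] 1 2 := .of (startD 0 1) (by decide +kernel)
theorem r641_6 : R9 F (g wAd) b641 [] 2 0 := .of (startD 0 1) (by decide +kernel)
theorem r641_7 : R9 F (g wAd) b641 [] 2 1 := .of (startD 0 1) (by decide +kernel)
theorem r641_8 : R9 F (g wAd) b641 [] 2 2 := .of (startD 0 1) (by decide +kernel)
theorem g641 : Gd F (g wAd) (0, d641) [] :=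
  good9 ok h641 r641_0 r641_1 r641_2 r641_3 r641_4 r641_5 r641_6 r641_7 r641_8

def b642 : Wd := ⟨0, d642,
  [.Z6, .Z3, .Z2, .Z1, .X9, .X2, .y9, .y8, .y7, .y4, .y3, .hi, .p9, .hi, .p9, .hi, .p6, .hi, .p, .hi, .p2, .hi, .xii,
   .hi, .p8, .xii, .y1, .p2, .taui, .y1, .xii, .p10, .xii, .y4, .p10, .xii, .y8, .tau, .X0, .p8, .xii, .y9, .p4, .xii,
   .y1, .y9, .taui, .xii, .y2, .p7, .xii, .y2, .p10, .hi, .p3, .hi, .tau, .xii, .p, .hi],
  [.z, .Z10, .Z9, .Z8, .Z7, .Z5, .Z4, .Z3, .Z2, .X7, .X6, .X5, .X4, .X3, .y9, .y7, .y6, .p9, .hi, .p4, .hi, .p5, .hi,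
   .p6, .hi, .p3, .hi, .xii, .p10, .xii, .p5, .y1, .tau, .xii, .p, .xii, .y2, .hi, .xii, .y3, .tau, .xii, .p9, .xii,
   .y2, .p3, .xii, .y9, .p10, .tau, .xii, .p7, .xii, .y10, .p7, .xii, .y3, .y9, .tau, .xii, .y7],
  [.Z9, .Z8, .Z6, .Z2, .Z0, .X5, .X4, .X1, .X0, .y10, .y7, .p9, .hi, .p4, .hi, .p10, .hi, .p2, .hi, .p7, .hi, .p10,
   .xii, .hi, .xii, .y8, .p2, .xii, .y6, .tau, .xii, .p, .xii, .y1, .hi, .xii, .y7, .taui, .X0, .y1, .hi, .xii, .p8,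
   .xii, .y8, .p5, .hi, .p, .taui, .xii, .p4, .xii, .y2, .p6, .xii, .y1, .taui, .xii, .p4, .xii]⟩

theorem h642 : Hd F (g wAd) b642 := hdD (by decide +kernel)
theorem r642_0 : R9 F (g wAd) b642 [] 0 0 := .of (startD 0 1) (by decide +kernel)
theorem r642_1 : R9 F (g wAd) b642 [] 0 1 := .of (startD 0 1) (by decide +kernel)
theorem r642_2 : R9 F (g wAd) b642 [] 0 2 := .of (startD 0 2) (by decide +kernel)
theorem r642_3 : R9 F (g wAd) b642 [] 1 0 := .of (startD 0 1) (by decide +kernel)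
theorem r642_4 : R9 F (g wAd) b642 [] 1 1 := .of (startD 0 1) (by decide +kernel)
theorem r642_5 : R9 F (g wAd) b642 [] 1 2 := .of (startD 0 1) (by decide +kernel)
theorem r642_6 : R9 F (g wAd) b642 [] 2 0 := .of (startD 0 1) (by decide +kernel)
theorem r642_7 : R9 F (g wAd) b642 [] 2 1 := .of (startD 0 1) (by decide +kernel)
theorem r642_8 : R9 F (g wAd) b642 [] 2 2 := .of (startD 0 1) (by decide +kernel)
theorem g642 : Gd F (g wAd) (0, d642) [] :=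
  good9 ok h642 r642_0 r642_1 r642_2 r642_3 r642_4 r642_5 r642_6 r642_7 r642_8

def b643 : Wd := ⟨0, d643,
  [.Z9, .Z8, .Z5, .Z4, .Z3, .Z1, .Z0, .X10, .X6, .X4, .X3, .X0, .y10, .y7, .y4, .y1, .p2, .hi, .p10, .hi, .p10, .hi,
   .p9, .hi, .p9, .hi, .xii, .hi, .xii, .p8, .xii, .y4, .tau, .xii, .p, .xii, .y3, .hi, .xii, .y5, .taui, .X0, .y1,
   .xii, .p7, .xii, .y2, .p3, .y3, .xii, .y7, .taui, .xii, .p4, .xii, .y4, .y5, .p4, .xii, .y3, .taui],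
  [.z, .Z10, .Z9, .Z7, .Z6, .Z5, .Z2, .X10, .X7, .X6, .X3, .X2, .X0, .y10, .y7, .y3, .y1, .p3, .hi, .p7, .hi, .p9,
   .hi, .p6, .hi, .p9, .hi, .p9, .hi, .xii, .p3, .hi, .xii, .y1, .y8, .p6, .tau, .y1, .xii, .p10, .xii, .y8, .p10,
   .xii, .y2, .y10, .tau, .p10, .xii, .p10, .xii, .y10, .p7, .taui, .xii, .p7, .xii, .p8, .y8, .y9, .xii, .y3],
  [.z, .Z10, .Z9, .Z8, .Z5, .Z4, .X10, .X8, .X4, .X3, .y10, .y9, .y7, .y6, .y5, .y3, .y1, .p6, .hi, .p7, .hi, .p5,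
   .hi, .p5, .hi, .p6, .hi, .p2, .xii, .p3, .hi, .xii, .y7, .p6, .taui, .xii, .p, .xii, .y3, .hi, .xii, .y5, .taui,
   .xii, .y6, .p7, .xii, .p9, .y5, .xii, .y5, .y7, .tau, .xii, .p7, .xii, .y4, .y10, .hi, .p8, .tau, .xii, .hi, .p8]⟩

theorem h643 : Hd F (g wAd) b643 := hdD (by decide +kernel)
theorem r643_0 : R9 F (g wAd) b643 [] 0 0 := .of (startD 0 1) (by decide +kernel)
theorem r643_1 : R9 F (g wAd) b643 [] 0 1 := .of (startD 0 1) (by decide +kernel)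
theorem r643_2 : R9 F (g wAd) b643 [] 0 2 := .of (startD 0 1) (by decide +kernel)
theorem r643_3 : R9 F (g wAd) b643 [] 1 0 := .of (startD 0 1) (by decide +kernel)
theorem r643_4 : R9 F (g wAd) b643 [] 1 1 := .of (startD 0 1) (by decide +kernel)
theorem r643_5 : R9 F (g wAd) b643 [] 1 2 := .of (startD 0 1) (by decide +kernel)
theorem r643_6 : R9 F (g wAd) b643 [] 2 0 := .of (startD 0 1) (by decide +kernel)
theorem r643_7 : R9 F (g wAd) b643 [] 2 1 := .of (startD 0 1) (by decide +kernel)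
theorem r643_8 : R9 F (g wAd) b643 [] 2 2 := .of (startD 0 1) (by decide +kernel)
theorem g643 : Gd F (g wAd) (0, d643) [] :=
  good9 ok h643 r643_0 r643_1 r643_2 r643_3 r643_4 r643_5 r643_6 r643_7 r643_8

def b644 : Wd := ⟨0, d644,
  [.Z9, .Z8, .Z6, .Z5, .Z4, .Z1, .X10, .X9, .X7, .X4, .X1, .X0, .y10, .y9, .y7, .y6, .y5, .y4, .y3, .hi, .p8, .hi,
   .p5, .hi, .p3, .hi, .p6, .hi, .p3, .hi, .xii, .p10, .xii, .p3, .hi, .taui, .xii, .y6, .p, .xii, .p, .xii, .y4, .y5,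
   .tau, .y1, .xii, .y6, .p10, .xii, .y8, .p10, .xii, .y4, .y8, .taui, .p10, .xii, .p2, .xii, .y8, .y10, .tau, .xii,
   .y2, .p4, .xii, .p10, .y9, .hi, .p8, .taui, .xii, .hi, .p10],
  [.z, .Z10, .Z9, .Z7, .Z5, .Z2, .Z0, .X8, .X3, .X0, .y10, .y8, .y7, .y6, .y4, .p9, .hi, .p4, .hi, .p4, .hi, .p3, .hi,
   .p10, .hi, .xii, .y2, .hi, .xii, .p5, .hi, .p8, .taui, .y1, .xii, .hi, .xii, .y7, .taui, .X0, .p10, .xii, .p9,
   .xii, .y2, .y7, .hi, .tau, .xii, .p8, .xii, .y1, .p2, .xii, .y3, .tau],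
  [.Z9, .Z7, .Z6, .Z5, .Z4, .Z3, .Z2, .X10, .X8, .X7, .X5, .X2, .X0, .y10, .y9, .y5, .y3, .y1, .p9, .hi, .p8, .hi,
   .p5, .hi, .p6, .hi, .p10, .hi, .p9, .xii, .p, .xii, .y10, .p4, .xii, .y9, .taui, .xii, .p, .xii, .y1, .hi, .xii,
   .y5, .y8, .taui, .X0, .p8, .xii, .p4, .xii, .y1, .p10, .y5, .tau, .xii, .p7, .xii, .y1, .y10, .p9, .tau, .xii, .hi,
   .p8, .hi]⟩

theorem h644 : Hd F (g wAd) b644 := hdD (by decide +kernel)
theorem r644_0 : R9 F (g wAd) b644 [] 0 0 := .of (startD 0 1) (by decide +kernel)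
theorem r644_1 : R9 F (g wAd) b644 [] 0 1 := .of (startD 0 1) (by decide +kernel)
theorem r644_2 : R9 F (g wAd) b644 [] 0 2 := .of (startD 0 1) (by decide +kernel)
theorem r644_3 : R9 F (g wAd) b644 [] 1 0 := .of (startD 0 1) (by decide +kernel)
theorem r644_4 : R9 F (g wAd) b644 [] 1 1 := .of (startD 0 1) (by decide +kernel)
theorem r644_5 : R9 F (g wAd) b644 [] 1 2 := .of (startD 0 1) (by decide +kernel)
theorem r644_6 : R9 F (g wAd) b644 [] 2 0 := .of (startD 0 1) (by decide +kernel)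
theorem r644_7 : R9 F (g wAd) b644 [] 2 1 := .of (startD 0 1) (by decide +kernel)
theorem r644_8 : R9 F (g wAd) b644 [] 2 2 := .of (startD 0 1) (by decide +kernel)
theorem g644 : Gd F (g wAd) (0, d644) [] :=
  good9 ok h644 r644_0 r644_1 r644_2 r644_3 r644_4 r644_5 r644_6 r644_7 r644_8

def b645 : Wd := ⟨0, d645,
  [.z, .Z10, .Z7, .Z5, .Z3, .X8, .X5, .X4, .X3, .X2, .X0, .y9, .y8, .y2, .hi, .p, .hi, .p6, .hi, .p7, .hi, .p3, .hi,
   .p2, .hi, .xii, .y2, .p10, .xii, .y5, .p5, .taui, .xii, .y6, .p, .xii, .p, .xii, .y1, .y4, .taui, .y1, .p4, .xii,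
   .p8, .xii, .y7, .p3, .hi, .p, .tau, .xii, .p7, .xii, .y4, .y6, .p9, .xii, .y2, .taui, .xii, .p],
  [.z, .Z9, .Z8, .Z7, .Z4, .X10, .X8, .X7, .X6, .X2, .X1, .y9, .y8, .y5, .y4, .y1, .p7, .hi, .p9, .hi, .p3, .hi, .p4,
   .hi, .p, .hi, .p2, .xii, .tau, .xii, .y2, .p, .xii, .y3, .hi, .xii, .y5, .tau, .y1, .p2, .xii, .p8, .xii, .p5, .hi,
   .y5, .p9, .tau, .xii, .p6, .xii, .y6, .p, .hi, .p, .tau, .xii, .p],
  [.Z10, .Z9, .Z8, .Z6, .Z1, .X8, .y10, .y9, .y7, .y6, .y4, .y3, .y1, .p6, .hi, .p3, .hi, .p3, .hi, .p9, .hi, .p8,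
   .hi, .p5, .hi, .xii, .hi, .xii, .p10, .y8, .xii, .taui, .y1, .xii, .y2, .hi, .xii, .p10, .xii, .y1, .y7, .taui,
   .hi, .xii, .p6, .xii, .hi, .xii, .y10, .tau, .xii, .p7, .xii, .y5, .p4, .taui, .xii, .p5, .xii, .y1, .y6]⟩

theorem h645 : Hd F (g wAd) b645 := hdD (by decide +kernel)
theorem r645_0 : R9 F (g wAd) b645 [] 0 0 := .of (startD 0 1) (by decide +kernel)
theorem r645_1 : R9 F (g wAd) b645 [] 0 1 := .of (startD 0 1) (by decide +kernel)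
theorem r645_2 : R9 F (g wAd) b645 [] 0 2 := .of (startD 0 1) (by decide +kernel)
theorem r645_3 : R9 F (g wAd) b645 [] 1 0 := .of (startD 0 1) (by decide +kernel)
theorem r645_4 : R9 F (g wAd) b645 [] 1 1 := .of (startD 0 1) (by decide +kernel)
theorem r645_5 : R9 F (g wAd) b645 [] 1 2 := .of (startD 0 1) (by decide +kernel)
theorem r645_6 : R9 F (g wAd) b645 [] 2 0 := .of (startD 0 1) (by decide +kernel)
theorem r645_7 : R9 F (g wAd) b645 [] 2 1 := .of (startD 0 1) (by decide +kernel)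
theorem r645_8 : R9 F (g wAd) b645 [] 2 2 := .of (startD 0 1) (by decide +kernel)
theorem g645 : Gd F (g wAd) (0, d645) [] :=
  good9 ok h645 r645_0 r645_1 r645_2 r645_3 r645_4 r645_5 r645_6 r645_7 r645_8

def b646 : Wd := ⟨0, d646,
  [.z, .Z8, .Z6, .Z4, .Z3, .Z2, .Z1, .X10, .X8, .X5, .X3, .X2, .X1, .X0, .y8, .y7, .y5, .y4, .y3, .y1, .p3, .hi, .p9,
   .hi, .p8, .hi, .p3, .hi, .p, .xii, .y2, .hi, .xii, .p9, .xii, .y7, .taui, .xii, .y2, .p, .xii, .y1, .hi, .xii, .y1,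
   .y2, .taui, .X0, .p7, .xii, .p3, .hi, .p5, .xii, .y10, .hi, .p8, .taui, .xii, .p9, .xii, .y1, .y2, .p8, .xii,
   .taui, .xii, .p10, .xii],
  [.Z10, .Z8, .Z6, .Z5, .Z4, .Z2, .Z1, .X8, .X7, .X5, .X3, .X2, .X1, .y10, .y8, .y4, .p5, .hi, .p6, .hi, .p3, .hi,
   .p6, .hi, .p8, .xii, .p10, .hi, .p2, .hi, .p10, .taui, .y1, .xii, .y1, .p10, .xii, .y4, .tau, .X0, .p10, .xii, .y8,
   .p6, .xii, .p8, .y2, .tau, .xii, .y2, .p5, .xii, .y7, .hi, .p6, .tau, .xii, .p3, .hi, .p8, .hi],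
  [.Z9, .Z8, .Z7, .Z5, .Z1, .X10, .X9, .X7, .X4, .X2, .y9, .y8, .y4, .y2, .p5, .hi, .p3, .hi, .p6, .hi, .p, .hi, .p4,
   .hi, .p4, .xii, .p, .xii, .hi, .p10, .taui, .xii, .p, .xii, .y1, .hi, .xii, .y1, .y9, .tau, .xii, .y6, .p4, .xii,
   .y3, .p4, .xii, .y9, .p2, .taui, .xii, .y2, .p9, .xii, .y8, .p3, .xii, .y1, .tau, .xii, .p2]⟩

theorem h646 : Hd F (g wAd) b646 := hdD (by decide +kernel)
theorem r646_0 : R9 F (g wAd) b646 [] 0 0 := .of (startD 0 1) (by decide +kernel)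
theorem r646_1 : R9 F (g wAd) b646 [] 0 1 := .of (startD 0 1) (by decide +kernel)
theorem r646_2 : R9 F (g wAd) b646 [] 0 2 := .of (startD 0 1) (by decide +kernel)
theorem r646_3 : R9 F (g wAd) b646 [] 1 0 := .of (startD 0 1) (by decide +kernel)
theorem r646_4 : R9 F (g wAd) b646 [] 1 1 := .of (startD 0 1) (by decide +kernel)
theorem r646_5 : R9 F (g wAd) b646 [] 1 2 := .of (startD 0 1) (by decide +kernel)
theorem r646_6 : R9 F (g wAd) b646 [] 2 0 := .of (startD 0 1) (by decide +kernel)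
theorem r646_7 : R9 F (g wAd) b646 [] 2 1 := .of (startD 0 1) (by decide +kernel)
theorem r646_8 : R9 F (g wAd) b646 [] 2 2 := .of (startD 0 1) (by decide +kernel)
theorem g646 : Gd F (g wAd) (0, d646) [] :=
  good9 ok h646 r646_0 r646_1 r646_2 r646_3 r646_4 r646_5 r646_6 r646_7 r646_8

def b647 : Wd := ⟨0, d647,
  [.Z10, .Z9, .Z1, .Z0, .X10, .X9, .X6, .X5, .X3, .X2, .X1, .X0, .y10, .y9, .p5, .hi, .p8, .hi, .p, .hi, .p7, .hi,
   .p6, .xii, .y2, .hi, .p4, .hi, .p4, .taui, .xii, .y1, .p, .xii, .y2, .p, .xii, .y3, .tau, .p4, .xii, .y1, .p7,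
   .xii, .y7, .p10, .taui, .xii, .p7, .xii, .y4, .p7, .xii, .y6, .tau, .xii, .y2, .hi, .p6],
  [.Z8, .Z6, .Z5, .Z2, .Z1, .Z0, .X10, .X9, .X8, .X3, .y7, .y6, .y3, .y2, .y1, .p3, .hi, .p8, .hi, .p, .hi, .p7, .hi,
   .p3, .hi, .p8, .xii, .p3, .hi, .p8, .hi, .p6, .taui, .xii, .y6, .p, .xii, .p, .xii, .y1, .y9, .tau, .X0, .p7, .xii,
   .p7, .xii, .y5, .p9, .y1, .hi, .tau, .xii, .hi, .p6, .xii, .y3, .p7, .taui, .xii, .hi, .p6],
  [.Z8, .Z7, .Z6, .Z5, .Z4, .Z3, .X5, .X4, .X3, .X0, .y10, .y8, .y4, .y3, .y1, .p4, .hi, .p10, .hi, .p9, .hi, .p4,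
   .hi, .p2, .hi, .xii, .hi, .xii, .y4, .p9, .xii, .y7, .taui, .y1, .xii, .p10, .xii, .y5, .p10, .xii, .y8, .y10,
   .taui, .X0, .p10, .xii, .p9, .xii, .p3, .y3, .hi, .p8, .taui, .xii, .hi, .xii, .p2, .xii, .y3, .y5]⟩

theorem h647 : Hd F (g wAd) b647 := hdD (by decide +kernel)
theorem r647_0 : R9 F (g wAd) b647 [] 0 0 := .of (startD 0 1) (by decide +kernel)
theorem r647_1 : R9 F (g wAd) b647 [] 0 1 := .of (startD 0 1) (by decide +kernel)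
theorem r647_2 : R9 F (g wAd) b647 [] 0 2 := .of (startD 0 1) (by decide +kernel)
theorem r647_3 : R9 F (g wAd) b647 [] 1 0 := .of (startD 0 1) (by decide +kernel)
theorem r647_4 : R9 F (g wAd) b647 [] 1 1 := .of (startD 0 1) (by decide +kernel)
theorem r647_5 : R9 F (g wAd) b647 [] 1 2 := .of (startD 0 1) (by decide +kernel)
theorem r647_6 : R9 F (g wAd) b647 [] 2 0 := .of (startD 0 1) (by decide +kernel)
theorem r647_7 : R9 F (g wAd) b647 [] 2 1 := .of (startD 0 1) (by decide +kernel)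
theorem r647_8 : R9 F (g wAd) b647 [] 2 2 := .of (startD 0 1) (by decide +kernel)
theorem g647 : Gd F (g wAd) (0, d647) [] :=
  good9 ok h647 r647_0 r647_1 r647_2 r647_3 r647_4 r647_5 r647_6 r647_7 r647_8

def b648 : Wd := ⟨0, d648,
  [.z, .Z10, .Z9, .Z8, .Z6, .Z4, .Z3, .Z1, .Z0, .X10, .X9, .X8, .X4, .X3, .y10, .y9, .y6, .y5, .y4, .y2, .hi, .p5,
   .hi, .p10, .hi, .p4, .hi, .p4, .hi, .p3, .hi, .p, .hi, .xii, .hi, .xii, .y8, .p9, .xii, .y1, .taui, .y1, .xii,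
   .p10, .xii, .y4, .p10, .xii, .y2, .taui, .y1, .xii, .p2, .xii, .y8, .p6, .xii, .p4, .taui, .xii, .p6, .xii, .y6,
   .p6, .xii, .y1, .y3, .taui, .xii, .hi],
  [.z, .Z10, .Z7, .Z3, .Z2, .Z1, .X10, .X7, .X6, .X3, .X2, .X1, .y9, .y8, .y7, .y1, .p7, .hi, .p9, .hi, .p3, .hi, .p8,
   .hi, .p9, .hi, .p4, .hi, .xii, .taui, .xii, .y2, .p, .xii, .y4, .hi, .xii, .y5, .y9, .taui, .p7, .xii, .p5, .xii,
   .y4, .p4, .hi, .p3, .taui, .xii, .p9, .xii, .p5, .y8, .xii, .y3, .tau, .xii, .p5, .hi, .p2],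
  [.Z9, .Z7, .Z6, .Z4, .Z2, .Z1, .X8, .X5, .X2, .y8, .y7, .y4, .y2, .y1, .hi, .p5, .hi, .p3, .hi, .p5, .hi, .p8, .hi,
   .p, .hi, .p, .hi, .xii, .hi, .p3, .hi, .p5, .tau, .xii, .y2, .p, .xii, .y1, .hi, .xii, .y6, .taui, .xii, .y6, .p7,
   .xii, .p5, .xii, .y1, .p8, .taui, .xii, .p5, .xii, .y2, .y8, .hi, .p, .hi]⟩

theorem h648 : Hd F (g wAd) b648 := hdD (by decide +kernel)
theorem r648_0 : R9 F (g wAd) b648 [] 0 0 := .of (startD 0 1) (by decide +kernel)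
theorem r648_1 : R9 F (g wAd) b648 [] 0 1 := .of (startD 0 1) (by decide +kernel)
theorem r648_2 : R9 F (g wAd) b648 [] 0 2 := .of (startD 0 1) (by decide +kernel)
theorem r648_3 : R9 F (g wAd) b648 [] 1 0 := .of (startD 0 1) (by decide +kernel)
theorem r648_4 : R9 F (g wAd) b648 [] 1 1 := .of (startD 0 1) (by decide +kernel)
theorem r648_5 : R9 F (g wAd) b648 [] 1 2 := .of (startD 0 1) (by decide +kernel)
theorem r648_6 : R9 F (g wAd) b648 [] 2 0 := .of (startD 0 1) (by decide +kernel)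
theorem r648_7 : R9 F (g wAd) b648 [] 2 1 := .of (startD 0 1) (by decide +kernel)
theorem r648_8 : R9 F (g wAd) b648 [] 2 2 := .of (startD 0 1) (by decide +kernel)
theorem g648 : Gd F (g wAd) (0, d648) [] :=
  good9 ok h648 r648_0 r648_1 r648_2 r648_3 r648_4 r648_5 r648_6 r648_7 r648_8

def b649 : Wd := ⟨0, d649,
  [.z, .Z9, .Z8, .Z5, .Z4, .Z2, .Z1, .X10, .X9, .X7, .X4, .X2, .y7, .y6, .y5, .y4, .y3, .y2, .p3, .hi, .p, .hi, .p7,
   .hi, .p7, .hi, .p9, .hi, .p10, .hi, .xii, .p2, .hi, .p3, .hi, .taui, .y1, .xii, .p10, .xii, .y5, .p10, .xii, .y2,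
   .y4, .tau, .X0, .p8, .xii, .y8, .p4, .xii, .y1, .y9, .taui, .xii, .p7, .xii, .p10, .hi, .y7, .p2, .tau, .xii, .y2,
   .hi, .p6],
  [.Z9, .Z8, .Z6, .Z5, .X9, .X8, .X7, .X4, .X3, .X2, .y8, .y2, .y1, .p9, .hi, .p3, .hi, .p9, .hi, .p9, .hi, .p3, .xii,
   .hi, .xii, .y6, .taui, .y1, .xii, .y2, .hi, .xii, .y9, .p10, .xii, .y8, .tau, .y1, .xii, .p2, .xii, .y1, .p8, .xii,
   .p, .y3, .tau, .xii, .y2, .p8, .xii, .p10, .y9, .hi, .taui, .xii, .p2],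
  [.Z10, .Z9, .Z7, .Z6, .Z1, .X10, .X6, .X4, .X0, .y9, .y8, .y7, .y6, .y4, .p3, .hi, .p3, .hi, .p9, .hi, .p9, .hi, .p,
   .hi, .p10, .hi, .xii, .p10, .xii, .y8, .p6, .xii, .y3, .tau, .xii, .p, .xii, .y1, .y10, .hi, .xii, .y5, .taui, .y1,
   .xii, .y6, .p9, .xii, .y6, .p5, .xii, .y8, .taui, .xii, .p6, .xii, .y7, .p6, .xii, .taui, .xii, .y2, .p3, .xii]⟩

theorem h649 : Hd F (g wAd) b649 := hdD (by decide +kernel)
theorem r649_0 : R9 F (g wAd) b649 [] 0 0 := .of (startD 0 1) (by decide +kernel)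
theorem r649_1 : R9 F (g wAd) b649 [] 0 1 := .of (startD 0 1) (by decide +kernel)
theorem r649_2 : R9 F (g wAd) b649 [] 0 2 := .of (startD 0 1) (by decide +kernel)
theorem r649_3 : R9 F (g wAd) b649 [] 1 0 := .of (startD 0 1) (by decide +kernel)
theorem r649_4 : R9 F (g wAd) b649 [] 1 1 := .of (startD 0 1) (by decide +kernel)
theorem r649_5 : R9 F (g wAd) b649 [] 1 2 := .of (startD 0 1) (by decide +kernel)
theorem r649_6 : R9 F (g wAd) b649 [] 2 0 := .of (startD 0 1) (by decide +kernel)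
theorem r649_7 : R9 F (g wAd) b649 [] 2 1 := .of (startD 0 1) (by decide +kernel)
theorem r649_8 : R9 F (g wAd) b649 [] 2 2 := .of (startD 0 1) (by decide +kernel)
theorem g649 : Gd F (g wAd) (0, d649) [] :=
  good9 ok h649 r649_0 r649_1 r649_2 r649_3 r649_4 r649_5 r649_6 r649_7 r649_8

theorem all : AllG F (g wAd) LD64 :=
  .cons g640 (.cons g641 (.cons g642 (.cons g643 (.cons g644 (.cons g645 (.cons g646 (.cons g647 (.cons g648 (.cons g649 (.nil))))))))))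

end Cfsg.Agent.BX.No33.Bk.D64
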