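import Cfsg.Agent.BX.No33.Cheap
set_option linter.all false

/-!
# Tests, diagonal case, part 65 (helper5; generated)
-/

set_option autoImplicit false
set_option maxRecDepth 100000
set_option Elab.async false

namespace Cfsg.Agent.BX.No33.Bk.D65

open Cfsg.Agent.H819.U33 Cfsg.Agent.BX.No33.Front

def b650 : Wd := ⟨0, d650,
  [.z, .Z10, .Z9, .Z8, .Z5, .Z4, .Z3, .Z2, .Z1, .X10, .X7, .X6, .y10, .y9, .y7, .y5, .y3, .y2, .p2, .hi, .p6, .hi,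
   .p7, .hi, .p4, .hi, .p4, .xii, .p10, .xii, .y10, .p2, .xii, .y3, .taui, .y1, .xii, .p10, .xii, .y1, .p10, .y9,
   .xii, .y10, .taui, .X0, .p10, .xii, .y4, .p2, .xii, .y8, .p2, .hi, .p2, .tau, .xii, .p9, .xii, .p5, .y7, .xii, .y1,
   .y3, .tau, .xii, .y7, .p5],
  [.Z10, .Z9, .Z8, .Z2, .Z0, .X10, .X9, .X8, .X7, .X6, .X5, .X2, .X0, .y9, .y7, .y6, .y5, .y4, .y2, .y1, .p5, .hi,
   .p3, .hi, .p3, .hi, .p10, .hi, .p5, .xii, .p, .xii, .y1, .y3, .hi, .p10, .taui, .xii, .y2, .p, .xii, .y4, .hi,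
   .xii, .y6, .y10, .taui, .xii, .p4, .xii, .y1, .y4, .p4, .xii, .p5, .y10, .tau, .xii, .hi, .p6, .xii, .y4, .y8, .p6],
  [.Z10, .Z9, .Z7, .Z6, .Z1, .X9, .X7, .X5, .X4, .X3, .X2, .X0, .y8, .y7, .y5, .y1, .p10, .hi, .p9, .hi, .p7, .hi,
   .p10, .hi, .p2, .hi, .p4, .hi, .p7, .xii, .p3, .hi, .xii, .p10, .y5, .taui, .xii, .p, .xii, .y3, .y10, .hi, .xii,
   .y7, .tau, .p8, .xii, .p4, .xii, .y1, .y4, .p2, .hi, .p6, .taui, .xii, .p5, .xii, .p9, .y5, .xii, .y8, .tau, .xii,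
   .y2, .p5]⟩

theorem h650 : Hd F (g wAd) b650 := hdD (by decide +kernel)
theorem r650_0 : R9 F (g wAd) b650 [] 0 0 := .of (startD 0 1) (by decide +kernel)
theorem r650_1 : R9 F (g wAd) b650 [] 0 1 := .of (startD 0 1) (by decide +kernel)
theorem r650_2 : R9 F (g wAd) b650 [] 0 2 := .of (startD 0 1) (by decide +kernel)
theorem r650_3 : R9 F (g wAd) b650 [] 1 0 := .of (startD 0 1) (by decide +kernel)
theorem r650_4 : R9 F (g wAd) b650 [] 1 1 := .of (startD 0 1) (by decide +kernel)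
theorem r650_5 : R9 F (g wAd) b650 [] 1 2 := .of (startD 0 1) (by decide +kernel)
theorem r650_6 : R9 F (g wAd) b650 [] 2 0 := .of (startD 0 1) (by decide +kernel)
theorem r650_7 : R9 F (g wAd) b650 [] 2 1 := .of (startD 0 1) (by decide +kernel)
theorem r650_8 : R9 F (g wAd) b650 [] 2 2 := .of (startD 0 1) (by decide +kernel)
theorem g650 : Gd F (g wAd) (0, d650) [] :=
  good9 ok h650 r650_0 r650_1 r650_2 r650_3 r650_4 r650_5 r650_6 r650_7 r650_8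

def b651 : Wd := ⟨0, d651,
  [.Z8, .Z3, .Z1, .X10, .X6, .X5, .X3, .X1, .X0, .y10, .y9, .y8, .y7, .y4, .p3, .hi, .p5, .hi, .p3, .hi, .p4, .hi,
   .p9, .xii, .p, .xii, .y2, .p4, .xii, .y2, .tau, .y1, .xii, .p10, .xii, .y4, .p10, .xii, .y9, .tau, .X0, .y1, .p4,
   .xii, .p5, .xii, .p8, .y4, .taui, .xii, .y2, .p2, .xii, .y2, .p10, .xii, .y8, .taui, .xii, .p8, .xii, .y4],
  [.z, .Z10, .Z8, .Z7, .Z6, .Z4, .Z1, .Z0, .X10, .X8, .X6, .X5, .X0, .y6, .y2, .hi, .p5, .hi, .p7, .hi, .p4, .hi, .p7,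
   .hi, .p9, .xii, .p, .xii, .y4, .p8, .xii, .y5, .tau, .xii, .y6, .p, .xii, .y6, .p3, .hi, .tau, .p2, .xii, .p5,
   .xii, .y1, .y8, .p8, .tau, .xii, .p8, .xii, .p3, .y9, .y10, .tau, .xii, .hi, .p5],
  [.z, .Z9, .Z7, .Z5, .Z4, .Z2, .Z0, .X7, .X6, .X3, .X2, .X0, .y9, .y5, .p2, .hi, .p, .hi, .p8, .hi, .p, .hi, .p5,
   .hi, .p2, .hi, .xii, .p, .xii, .y6, .p4, .hi, .p8, .tau, .xii, .y1, .p, .xii, .p, .y7, .xii, .y5, .tau, .X0, .y1,
   .p7, .xii, .p7, .xii, .y2, .p9, .hi, .tau, .xii, .p5, .hi, .xii, .y4, .p2, .taui, .xii, .p3, .hi, .p2]⟩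

theorem h651 : Hd F (g wAd) b651 := hdD (by decide +kernel)
theorem r651_0 : R9 F (g wAd) b651 [] 0 0 := .of (startD 0 1) (by decide +kernel)
theorem r651_1 : R9 F (g wAd) b651 [] 0 1 := .of (startD 0 1) (by decide +kernel)
theorem r651_2 : R9 F (g wAd) b651 [] 0 2 := .of (startD 0 1) (by decide +kernel)
theorem r651_3 : R9 F (g wAd) b651 [] 1 0 := .of (startD 0 1) (by decide +kernel)
theorem r651_4 : R9 F (g wAd) b651 [] 1 1 := .of (startD 0 1) (by decide +kernel)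
theorem r651_5 : R9 F (g wAd) b651 [] 1 2 := .of (startD 0 1) (by decide +kernel)
theorem r651_6 : R9 F (g wAd) b651 [] 2 0 := .of (startD 0 1) (by decide +kernel)
theorem r651_7 : R9 F (g wAd) b651 [] 2 1 := .of (startD 0 1) (by decide +kernel)
theorem r651_8 : R9 F (g wAd) b651 [] 2 2 := .of (startD 0 1) (by decide +kernel)
theorem g651 : Gd F (g wAd) (0, d651) [] :=
  good9 ok h651 r651_0 r651_1 r651_2 r651_3 r651_4 r651_5 r651_6 r651_7 r651_8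

def b652 : Wd := ⟨0, d652,
  [.z, .Z5, .Z3, .Z0, .X10, .X9, .X6, .X5, .X1, .y7, .y5, .y1, .p8, .hi, .p5, .hi, .p5, .hi, .p5, .hi, .p9, .hi, .p9,
   .hi, .xii, .p10, .xii, .y4, .p10, .xii, .y8, .y9, .tau, .xii, .y6, .p, .xii, .y10, .p, .xii, .y3, .taui, .xii, .p6,
   .xii, .p6, .xii, .y7, .p9, .y10, .tau, .xii, .p9, .xii, .y1, .y2, .p, .xii, .y4, .taui, .xii, .p4, .xii, .y1],
  [.Z10, .Z8, .Z6, .Z5, .Z2, .X10, .X7, .X6, .X4, .X3, .y9, .y5, .y4, .y2, .p9, .hi, .p7, .hi, .p, .hi, .p5, .hi, .p5,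
   .xii, .y2, .p, .xii, .y3, .taui, .y1, .xii, .y6, .p10, .xii, .y8, .p10, .xii, .y8, .y10, .taui, .X0, .p8, .xii,
   .p3, .xii, .y7, .p4, .y7, .taui, .xii, .p9, .xii, .p4, .y4, .hi, .p2, .tau, .xii, .y2, .hi, .p10, .hi],
  [.Z10, .Z8, .Z6, .Z2, .X10, .X9, .X5, .X2, .y9, .y8, .y7, .y6, .y5, .y4, .y3, .p4, .hi, .p6, .hi, .p5, .hi, .p4,
   .hi, .p6, .xii, .p, .xii, .y1, .y6, .hi, .xii, .y5, .taui, .xii, .y6, .p, .xii, .y4, .p, .xii, .y1, .y4, .tau, .X0,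
   .p10, .xii, .p9, .xii, .y9, .p2, .y6, .hi, .p10, .tau, .xii, .p6, .xii, .y7, .hi, .p4, .tau, .xii, .y2, .p7]⟩

theorem h652 : Hd F (g wAd) b652 := hdD (by decide +kernel)
theorem r652_0 : R9 F (g wAd) b652 [] 0 0 := .of (startD 0 1) (by decide +kernel)
theorem r652_1 : R9 F (g wAd) b652 [] 0 1 := .of (startD 0 1) (by decide +kernel)
theorem r652_2 : R9 F (g wAd) b652 [] 0 2 := .of (startD 0 1) (by decide +kernel)
theorem r652_3 : R9 F (g wAd) b652 [] 1 0 := .of (startD 0 1) (by decide +kernel)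
theorem r652_4 : R9 F (g wAd) b652 [] 1 1 := .of (startD 0 1) (by decide +kernel)
theorem r652_5 : R9 F (g wAd) b652 [] 1 2 := .of (startD 0 1) (by decide +kernel)
theorem r652_6 : R9 F (g wAd) b652 [] 2 0 := .of (startD 0 1) (by decide +kernel)
theorem r652_7 : R9 F (g wAd) b652 [] 2 1 := .of (startD 0 1) (by decide +kernel)
theorem r652_8 : R9 F (g wAd) b652 [] 2 2 := .of (startD 0 1) (by decide +kernel)
theorem g652 : Gd F (g wAd) (0, d652) [] :=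
  good9 ok h652 r652_0 r652_1 r652_2 r652_3 r652_4 r652_5 r652_6 r652_7 r652_8

def b653 : Wd := ⟨0, d653,
  [.z, .Z9, .Z7, .Z6, .Z5, .Z2, .Z1, .Z0, .X9, .X8, .X7, .X6, .X5, .X4, .X0, .y9, .y7, .p6, .hi, .p6, .hi, .p10, .hi,
   .p8, .hi, .p9, .hi, .p5, .xii, .y2, .p2, .hi, .xii, .y5, .p3, .tau, .y1, .xii, .p10, .xii, .y4, .p10, .xii, .y1,
   .y3, .tau, .p10, .xii, .y10, .hi, .p6, .xii, .y8, .y10, .p5, .tau, .xii, .p4, .xii, .p3, .hi, .y5, .p10, .taui,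
   .xii, .y2, .p2, .hi, .p],
  [.Z9, .Z7, .Z5, .Z4, .Z1, .Z0, .X10, .X7, .X6, .X4, .X3, .X1, .y7, .p9, .hi, .p10, .hi, .p3, .hi, .p7, .hi, .p9,
   .hi, .p3, .xii, .y2, .p10, .hi, .p6, .hi, .p2, .tau, .xii, .y6, .p, .xii, .y10, .p, .xii, .y1, .y10, .taui, .p4,
   .xii, .y2, .hi, .p5, .xii, .p3, .y8, .taui, .xii, .p4, .xii, .y4, .y10, .p3, .hi, .p8],
  [.Z10, .Z9, .Z8, .Z6, .Z3, .Z2, .Z1, .Z0, .X10, .X6, .X5, .X3, .X1, .X0, .y10, .y9, .y8, .y6, .y3, .y1, .p5, .hi,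
   .p5, .hi, .p7, .hi, .p7, .hi, .p5, .hi, .p6, .hi, .xii, .hi, .xii, .p6, .xii, .y3, .tau, .y1, .xii, .y1, .hi, .xii,
   .p10, .xii, .y4, .y10, .tau, .X0, .p10, .xii, .y6, .hi, .p6, .xii, .y7, .p4, .taui, .xii, .p4, .xii, .y2, .p9,
   .xii, .y5, .y10, .tau, .xii, .p3]⟩

theorem h653 : Hd F (g wAd) b653 := hdD (by decide +kernel)
theorem r653_0 : R9 F (g wAd) b653 [] 0 0 := .of (startD 0 1) (by decide +kernel)
theorem r653_1 : R9 F (g wAd) b653 [] 0 1 := .of (startD 0 1) (by decide +kernel)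
theorem r653_2 : R9 F (g wAd) b653 [] 0 2 := .of (startD 0 1) (by decide +kernel)
theorem r653_3 : R9 F (g wAd) b653 [] 1 0 := .of (startD 0 1) (by decide +kernel)
theorem r653_4 : R9 F (g wAd) b653 [] 1 1 := .of (startD 0 1) (by decide +kernel)
theorem r653_5 : R9 F (g wAd) b653 [] 1 2 := .of (startD 0 1) (by decide +kernel)
theorem r653_6 : R9 F (g wAd) b653 [] 2 0 := .of (startD 0 1) (by decide +kernel)
theorem r653_7 : R9 F (g wAd) b653 [] 2 1 := .of (startD 0 1) (by decide +kernel)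
theorem r653_8 : R9 F (g wAd) b653 [] 2 2 := .of (startD 0 1) (by decide +kernel)
theorem g653 : Gd F (g wAd) (0, d653) [] :=
  good9 ok h653 r653_0 r653_1 r653_2 r653_3 r653_4 r653_5 r653_6 r653_7 r653_8

def b654 : Wd := ⟨0, d654,
  [.Z8, .Z4, .Z3, .Z2, .X10, .X8, .X6, .X4, .X2, .y10, .y7, .y6, .y4, .y2, .p6, .hi, .p6, .hi, .p8, .hi, .p5, .hi, .p,
   .hi, .p6, .xii, .p10, .xii, .y4, .p6, .xii, .y4, .y7, .taui, .y1, .xii, .y2, .hi, .xii, .y7, .p10, .xii, .y10,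
   .taui, .X0, .p6, .xii, .y2, .p6, .xii, .y5, .hi, .xii, .y1, .tau, .xii, .p10, .xii, .y5, .p2, .xii, .y1, .y4, .tau],
  [.z, .Z10, .Z9, .Z5, .Z3, .Z1, .Z0, .X4, .y10, .y9, .y8, .y7, .y6, .y4, .y3, .y2, .p9, .hi, .p4, .hi, .p10, .hi,
   .p4, .hi, .p8, .xii, .p, .xii, .y6, .hi, .p4, .tau, .X0, .y1, .p6, .xii, .p, .xii, .hi, .p4, .taui, .p9, .xii, .y6,
   .p, .xii, .taui, .xii, .p6, .xii, .p10, .xii, .y8, .tau, .xii, .p5],
  [.z, .Z10, .Z7, .Z6, .Z5, .Z0, .X10, .X7, .X2, .y9, .y8, .y7, .y6, .y5, .y4, .y3, .y2, .y1, .p10, .hi, .p4, .hi,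
   .p8, .hi, .p10, .hi, .p2, .hi, .p, .hi, .xii, .hi, .xii, .y8, .p2, .xii, .y1, .taui, .y1, .xii, .p10, .xii, .y8,
   .p10, .xii, .y8, .taui, .xii, .p4, .xii, .y1, .p8, .y2, .xii, .y6, .tau, .xii, .p5, .xii, .p2, .y7, .xii, .y3, .y7,
   .taui, .xii, .hi]⟩

theorem h654 : Hd F (g wAd) b654 := hdD (by decide +kernel)
theorem r654_0 : R9 F (g wAd) b654 [] 0 0 := .of (startD 0 1) (by decide +kernel)
theorem r654_1 : R9 F (g wAd) b654 [] 0 1 := .of (startD 0 1) (by decide +kernel)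
theorem r654_2 : R9 F (g wAd) b654 [] 0 2 := .of (startD 0 1) (by decide +kernel)
theorem r654_3 : R9 F (g wAd) b654 [] 1 0 := .of (startD 0 1) (by decide +kernel)
theorem r654_4 : R9 F (g wAd) b654 [] 1 1 := .of (startD 0 1) (by decide +kernel)
theorem r654_5 : R9 F (g wAd) b654 [] 1 2 := .of (startD 0 1) (by decide +kernel)
theorem r654_6 : R9 F (g wAd) b654 [] 2 0 := .of (startD 0 1) (by decide +kernel)
theorem r654_7 : R9 F (g wAd) b654 [] 2 1 := .of (startD 0 1) (by decide +kernel)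
theorem r654_8 : R9 F (g wAd) b654 [] 2 2 := .of (startD 0 1) (by decide +kernel)
theorem g654 : Gd F (g wAd) (0, d654) [] :=
  good9 ok h654 r654_0 r654_1 r654_2 r654_3 r654_4 r654_5 r654_6 r654_7 r654_8

def b655 : Wd := ⟨0, d655,
  [.Z10, .Z8, .Z7, .Z5, .Z4, .Z0, .X10, .X9, .X6, .X4, .X3, .y9, .y6, .y5, .y2, .hi, .p4, .hi, .p7, .hi, .p7, .hi, .p,
   .hi, .p3, .xii, .hi, .p4, .hi, .p4, .tau, .xii, .p, .xii, .y1, .hi, .xii, .y5, .y9, .tau, .X0, .p9, .xii, .y3, .p3,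
   .xii, .p2, .y9, .hi, .p, .tau, .xii, .p4, .xii, .y1, .y8, .p6, .xii, .y1, .tau, .xii, .p6],
  [.Z10, .Z9, .Z8, .Z7, .Z6, .Z5, .Z1, .Z0, .X10, .X8, .X6, .X5, .y9, .y7, .y6, .y4, .hi, .p6, .hi, .p10, .hi, .p9,
   .hi, .p6, .hi, .p2, .hi, .xii, .p10, .hi, .p, .tau, .y1, .xii, .y2, .hi, .xii, .p10, .xii, .y10, .tau, .hi, .xii,
   .p3, .hi, .xii, .p, .y5, .tau, .xii, .p7, .xii, .p, .y1, .hi, .p6, .taui, .xii, .y2, .p2],
  [.Z9, .Z8, .Z5, .Z3, .Z1, .Z0, .X10, .X9, .X8, .X4, .X3, .X2, .X1, .y10, .y9, .y6, .y3, .y2, .p6, .hi, .p5, .xii,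
   .y2, .p, .xii, .y6, .hi, .p10, .tau, .xii, .y6, .p, .xii, .y10, .p, .xii, .y6, .y10, .tau, .X0, .xii, .p4, .xii,
   .y4, .p4, .xii, .y1, .p5, .taui, .xii, .p5, .xii, .p9, .y1, .xii, .y4, .taui, .xii, .y7, .p7]⟩

theorem h655 : Hd F (g wAd) b655 := hdD (by decide +kernel)
theorem r655_0 : R9 F (g wAd) b655 [] 0 0 := .of (startD 0 1) (by decide +kernel)
theorem r655_1 : R9 F (g wAd) b655 [] 0 1 := .of (startD 0 1) (by decide +kernel)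
theorem r655_2 : R9 F (g wAd) b655 [] 0 2 := .of (startD 0 1) (by decide +kernel)
theorem r655_3 : R9 F (g wAd) b655 [] 1 0 := .of (startD 0 1) (by decide +kernel)
theorem r655_4 : R9 F (g wAd) b655 [] 1 1 := .of (startD 0 1) (by decide +kernel)
theorem r655_5 : R9 F (g wAd) b655 [] 1 2 := .of (startD 0 1) (by decide +kernel)
theorem r655_6 : R9 F (g wAd) b655 [] 2 0 := .of (startD 0 1) (by decide +kernel)
theorem r655_7 : R9 F (g wAd) b655 [] 2 1 := .of (startD 0 1) (by decide +kernel)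
theorem r655_8 : R9 F (g wAd) b655 [] 2 2 := .of (startD 0 1) (by decide +kernel)
theorem g655 : Gd F (g wAd) (0, d655) [] :=
  good9 ok h655 r655_0 r655_1 r655_2 r655_3 r655_4 r655_5 r655_6 r655_7 r655_8

def b656 : Wd := ⟨0, d656,
  [.Z9, .Z7, .Z6, .Z5, .Z4, .Z0, .X10, .X9, .X8, .X7, .X4, .X3, .X0, .y10, .y9, .y8, .y6, .y1, .p9, .hi, .p3, .hi,
   .p3, .hi, .p4, .hi, .p10, .hi, .p4, .hi, .p4, .hi, .xii, .p5, .hi, .p5, .taui, .xii, .y1, .p, .xii, .y4, .p, .xii,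
   .y3, .y4, .taui, .p7, .xii, .p5, .hi, .xii, .hi, .p9, .y9, .tau, .xii, .y2, .p5, .xii, .y2, .p4, .hi, .p6, .tau,
   .xii, .p5, .xii, .y3, .y4],
  [.Z10, .Z8, .Z6, .Z4, .Z3, .Z2, .Z1, .X6, .X4, .X1, .y10, .y9, .y8, .y7, .y6, .y3, .y1, .hi, .p4, .hi, .p7, .hi,
   .p7, .hi, .p7, .hi, .p, .xii, .p10, .xii, .y10, .taui, .xii, .p, .xii, .y1, .y2, .hi, .p10, .taui, .p2, .xii, .y6,
   .p4, .xii, .p6, .taui, .xii, .p9, .xii, .p5, .xii, .y4, .y9],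
  [.Z10, .Z5, .Z4, .Z3, .Z2, .Z1, .X10, .X9, .X8, .X7, .X5, .X3, .X0, .y9, .y8, .y5, .y4, .y3, .y1, .p6, .hi, .p8,
   .hi, .p3, .hi, .p3, .hi, .p9, .hi, .p3, .xii, .p, .xii, .y6, .y10, .taui, .y1, .xii, .p10, .xii, .y1, .p10, .xii,
   .y10, .tau, .y1, .xii, .y6, .p10, .xii, .y8, .p10, .xii, .y4, .y8, .tau, .p9, .xii, .p, .xii, .y8, .taui, .xii,
   .p4, .xii, .y1, .y8, .p4, .xii, .y4, .taui, .xii, .y6]⟩

theorem h656 : Hd F (g wAd) b656 := hdD (by decide +kernel)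
theorem r656_0 : R9 F (g wAd) b656 [] 0 0 := .of (startD 0 1) (by decide +kernel)
theorem r656_1 : R9 F (g wAd) b656 [] 0 1 := .of (startD 0 1) (by decide +kernel)
theorem r656_2 : R9 F (g wAd) b656 [] 0 2 := .of (startD 0 1) (by decide +kernel)
theorem r656_3 : R9 F (g wAd) b656 [] 1 0 := .of (startD 0 1) (by decide +kernel)
theorem r656_4 : R9 F (g wAd) b656 [] 1 1 := .of (startD 0 1) (by decide +kernel)
theorem r656_5 : R9 F (g wAd) b656 [] 1 2 := .of (startD 0 1) (by decide +kernel)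
theorem r656_6 : R9 F (g wAd) b656 [] 2 0 := .of (startD 0 1) (by decide +kernel)
theorem r656_7 : R9 F (g wAd) b656 [] 2 1 := .of (startD 0 1) (by decide +kernel)
theorem r656_8 : R9 F (g wAd) b656 [] 2 2 := .of (startD 0 1) (by decide +kernel)
theorem g656 : Gd F (g wAd) (0, d656) [] :=
  good9 ok h656 r656_0 r656_1 r656_2 r656_3 r656_4 r656_5 r656_6 r656_7 r656_8

def b657 : Wd := ⟨0, d657,
  [.Z9, .Z8, .Z6, .Z2, .Z0, .X8, .X7, .X5, .X1, .X0, .y10, .y9, .y4, .y3, .p2, .hi, .p5, .hi, .p3, .hi, .p9, .hi, .p,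
   .hi, .xii, .y2, .p, .xii, .y3, .hi, .p8, .taui, .xii, .y1, .p, .xii, .y2, .p, .xii, .y3, .taui, .xii, .y6, .p,
   .xii, .p, .xii, .y5, .y10, .tau, .p5, .xii, .hi, .xii, .y8, .tau, .xii, .p8, .xii, .p5, .y1, .hi, .p6, .tau, .xii,
   .y2, .p, .hi],
  [.Z9, .Z6, .Z5, .Z4, .Z1, .X8, .X7, .X6, .X5, .X4, .X3, .X0, .y10, .y8, .y7, .y6, .y5, .hi, .p10, .hi, .p2, .hi,
   .p8, .hi, .p8, .hi, .p2, .xii, .y2, .p2, .hi, .xii, .taui, .y1, .xii, .p10, .xii, .y1, .y7, .p10, .xii, .y9, .tau,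
   .X0, .p8, .xii, .p3, .xii, .y2, .hi, .p2, .tau, .xii, .y2, .p7, .xii, .y4, .p8, .xii, .tau],
  [.z, .Z7, .Z6, .Z4, .Z2, .Z1, .Z0, .X8, .X6, .X2, .X1, .y10, .y8, .y6, .y5, .y3, .y2, .p7, .hi, .p10, .hi, .p4, .hi,
   .p, .hi, .p4, .hi, .p5, .xii, .hi, .p8, .xii, .y3, .y7, .p10, .taui, .xii, .y2, .p, .xii, .y1, .hi, .xii, .y4, .y5,
   .taui, .p8, .xii, .p4, .y7, .xii, .y1, .y3, .p7, .tau, .xii, .p9, .xii, .y7, .p8, .xii, .y3, .taui, .xii]⟩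

theorem h657 : Hd F (g wAd) b657 := hdD (by decide +kernel)
theorem r657_0 : R9 F (g wAd) b657 [] 0 0 := .of (startD 0 1) (by decide +kernel)
theorem r657_1 : R9 F (g wAd) b657 [] 0 1 := .of (startD 0 1) (by decide +kernel)
theorem r657_2 : R9 F (g wAd) b657 [] 0 2 := .of (startD 0 1) (by decide +kernel)
theorem r657_3 : R9 F (g wAd) b657 [] 1 0 := .of (startD 0 1) (by decide +kernel)
theorem r657_4 : R9 F (g wAd) b657 [] 1 1 := .of (startD 0 1) (by decide +kernel)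
theorem r657_5 : R9 F (g wAd) b657 [] 1 2 := .of (startD 0 1) (by decide +kernel)
theorem r657_6 : R9 F (g wAd) b657 [] 2 0 := .of (startD 0 1) (by decide +kernel)
theorem r657_7 : R9 F (g wAd) b657 [] 2 1 := .of (startD 0 1) (by decide +kernel)
theorem r657_8 : R9 F (g wAd) b657 [] 2 2 := .of (startD 0 1) (by decide +kernel)
theorem g657 : Gd F (g wAd) (0, d657) [] :=
  good9 ok h657 r657_0 r657_1 r657_2 r657_3 r657_4 r657_5 r657_6 r657_7 r657_8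

def b658 : Wd := ⟨0, d658,
  [.Z8, .Z4, .Z2, .Z1, .X5, .X2, .X1, .y10, .y9, .y7, .y5, .y3, .p, .hi, .p, .hi, .p6, .hi, .p10, .hi, .p8, .hi, .p6,
   .hi, .xii, .y2, .p, .hi, .xii, .y5, .p3, .taui, .xii, .p, .xii, .y1, .hi, .xii, .y4, .y5, .taui, .X0, .p7, .xii,
   .y4, .p4, .xii, .p10, .hi, .y4, .tau, .xii, .p7, .xii, .y4, .y5, .y7, .p3, .xii, .y7, .tau, .xii, .p6, .xii, .y2],
  [.Z10, .Z8, .Z7, .Z5, .Z4, .Z2, .X10, .X9, .X7, .X6, .X2, .X1, .X0, .y10, .y8, .y4, .y1, .p, .hi, .p6, .hi, .p9,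
   .hi, .p8, .hi, .p6, .hi, .xii, .p10, .xii, .y6, .p2, .xii, .y4, .y5, .taui, .xii, .y6, .p, .xii, .p, .xii, .y1,
   .y5, .y7, .tau, .X0, .p9, .xii, .p10, .xii, .p3, .y10, .taui, .xii, .y2, .p7, .xii, .p2, .y6, .taui, .xii, .p8],
  [.Z10, .Z9, .Z8, .Z6, .Z5, .Z4, .Z3, .Z2, .Z1, .Z0, .X10, .X9, .X7, .X5, .X4, .X1, .y9, .y8, .y7, .y4, .y2, .y1,
   .p4, .hi, .p9, .hi, .p9, .hi, .p5, .hi, .p10, .hi, .p7, .hi, .xii, .hi, .p3, .hi, .p5, .taui, .xii, .y2, .p, .xii,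
   .y1, .hi, .xii, .y7, .tau, .p7, .xii, .p4, .xii, .y8, .p2, .hi, .p5, .tau, .xii, .p8, .xii, .p3, .hi, .p3, .taui,
   .xii, .y2, .p7]⟩

theorem h658 : Hd F (g wAd) b658 := hdD (by decide +kernel)
theorem r658_0 : R9 F (g wAd) b658 [] 0 0 := .of (startD 0 1) (by decide +kernel)
theorem r658_1 : R9 F (g wAd) b658 [] 0 1 := .of (startD 0 1) (by decide +kernel)
theorem r658_2 : R9 F (g wAd) b658 [] 0 2 := .of (startD 0 1) (by decide +kernel)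
theorem r658_3 : R9 F (g wAd) b658 [] 1 0 := .of (startD 0 1) (by decide +kernel)
theorem r658_4 : R9 F (g wAd) b658 [] 1 1 := .of (startD 0 1) (by decide +kernel)
theorem r658_5 : R9 F (g wAd) b658 [] 1 2 := .of (startD 0 1) (by decide +kernel)
theorem r658_6 : R9 F (g wAd) b658 [] 2 0 := .of (startD 0 2) (by decide +kernel)
theorem r658_7 : R9 F (g wAd) b658 [] 2 1 := .of (startD 0 1) (by decide +kernel)
theorem r658_8 : R9 F (g wAd) b658 [] 2 2 := .of (startD 0 1) (by decide +kernel)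
theorem g658 : Gd F (g wAd) (0, d658) [] :=
  good9 ok h658 r658_0 r658_1 r658_2 r658_3 r658_4 r658_5 r658_6 r658_7 r658_8

def b659 : Wd := ⟨0, d659,
  [.z, .Z10, .Z9, .Z6, .Z5, .Z4, .Z3, .Z2, .Z1, .Z0, .X10, .X8, .X7, .X6, .X3, .X1, .X0, .y9, .y8, .y7, .y6, .y5, .y4,
   .hi, .p, .hi, .p5, .hi, .p, .hi, .p7, .hi, .p5, .hi, .xii, .y2, .p, .xii, .p9, .xii, .taui, .xii, .p, .xii, .y4,
   .hi, .xii, .y4, .y6, .taui, .X0, .p2, .xii, .p3, .xii, .p10, .y1, .xii, .y9, .tau, .xii, .p7, .xii, .y6, .hi, .p10,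
   .tau, .xii, .y2, .p7],
  [.z, .Z9, .Z8, .Z5, .Z4, .Z3, .Z0, .X4, .X2, .y10, .y9, .y4, .y3, .p5, .hi, .p8, .hi, .p4, .hi, .p5, .hi, .p5, .hi,
   .p, .xii, .y2, .p, .xii, .p9, .xii, .y2, .tau, .xii, .y6, .p, .xii, .y4, .p, .xii, .y3, .taui, .X0, .xii, .p9,
   .xii, .hi, .xii, .y8, .taui, .xii, .p7, .xii, .y4, .p, .y3, .taui, .xii, .y2, .p],
  [.z, .Z10, .Z4, .Z1, .Z0, .X10, .X9, .X6, .X4, .X1, .y5, .y3, .hi, .p, .hi, .p8, .hi, .p7, .hi, .p10, .hi, .p9, .hi,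
   .xii, .p10, .xii, .y9, .tau, .y1, .xii, .p10, .xii, .y1, .p10, .xii, .y1, .y7, .tau, .X0, .p4, .xii, .y1, .p7,
   .xii, .y8, .hi, .p5, .tau, .xii, .p7, .xii, .y1, .y7, .p8, .xii, .y3, .taui, .xii, .p8]⟩

theorem h659 : Hd F (g wAd) b659 := hdD (by decide +kernel)
theorem r659_0 : R9 F (g wAd) b659 [] 0 0 := .of (startD 0 1) (by decide +kernel)
theorem r659_1 : R9 F (g wAd) b659 [] 0 1 := .of (startD 0 1) (by decide +kernel)
theorem r659_2 : R9 F (g wAd) b659 [] 0 2 := .of (startD 0 1) (by decide +kernel)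
theorem r659_3 : R9 F (g wAd) b659 [] 1 0 := .of (startD 0 1) (by decide +kernel)
theorem r659_4 : R9 F (g wAd) b659 [] 1 1 := .of (startD 0 1) (by decide +kernel)
theorem r659_5 : R9 F (g wAd) b659 [] 1 2 := .of (startD 0 1) (by decide +kernel)
theorem r659_6 : R9 F (g wAd) b659 [] 2 0 := .of (startD 0 1) (by decide +kernel)
theorem r659_7 : R9 F (g wAd) b659 [] 2 1 := .of (startD 0 1) (by decide +kernel)
theorem r659_8 : R9 F (g wAd) b659 [] 2 2 := .of (startD 0 1) (by decide +kernel)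
theorem g659 : Gd F (g wAd) (0, d659) [] :=
  good9 ok h659 r659_0 r659_1 r659_2 r659_3 r659_4 r659_5 r659_6 r659_7 r659_8

theorem all : AllG F (g wAd) LD65 :=
  .cons g650 (.cons g651 (.cons g652 (.cons g653 (.cons g654 (.cons g655 (.cons g656 (.cons g657 (.cons g658 (.cons g659 (.nil))))))))))

end Cfsg.Agent.BX.No33.Bk.D65
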