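import Cfsg.Agent.BX.No33.Cheap
set_option linter.all false

/-!
# Tests, diagonal case, part 66 (helper5; generated)
-/

set_option autoImplicit false
set_option maxRecDepth 100000
set_option Elab.async false

namespace Cfsg.Agent.BX.No33.Bk.D66

open Cfsg.Agent.H819.U33 Cfsg.Agent.BX.No33.Front

def b660 : Wd := ⟨0, d660,
  [.Z7, .Z3, .Z2, .Z1, .Z0, .X10, .X7, .X6, .X5, .X4, .X2, .y10, .y8, .y7, .y2, .y1, .p10, .hi, .p, .hi, .p7, .hi,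
   .p4, .hi, .p3, .hi, .p7, .hi, .p7, .hi, .xii, .p10, .hi, .p2, .hi, .p10, .tau, .X0, .xii, .p5, .xii, .y2, .y3, .y9,
   .p6, .xii, .y4, .tau, .xii, .p7, .xii, .p, .y7, .tau, .xii, .y2, .p7],
  [.Z8, .Z6, .Z5, .Z4, .X9, .X8, .X7, .X4, .X3, .X0, .y9, .y7, .y4, .y1, .p5, .hi, .p4, .hi, .p, .hi, .p6, .hi, .p4,
   .hi, .p5, .tau, .xii, .p, .xii, .y4, .hi, .xii, .y3, .y4, .taui, .X0, .xii, .p5, .xii, .p7, .y2, .xii, .y4, .hi,
   .y7, .tau, .xii, .y2, .p5, .xii, .y9, .p5, .xii, .y9],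
  [.Z10, .Z7, .Z6, .Z5, .Z1, .X10, .X8, .X1, .X0, .y10, .y7, .y5, .y2, .y1, .p10, .hi, .p5, .hi, .p7, .hi, .p7, .hi,
   .p7, .hi, .p4, .hi, .xii, .hi, .xii, .p5, .y7, .taui, .xii, .y2, .p, .xii, .y2, .hi, .xii, .y4, .y7, .taui, .p9,
   .xii, .p3, .xii, .y2, .p5, .hi, .p9, .taui, .xii, .y2, .p4, .xii, .y5, .p4, .xii, .y3, .tau, .xii, .hi, .p6]⟩

theorem h660 : Hd F (g wAd) b660 := hdD (by decide +kernel)
theorem r660_0 : R9 F (g wAd) b660 [] 0 0 := .of (startD 0 1) (by decide +kernel)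
theorem r660_1 : R9 F (g wAd) b660 [] 0 1 := .of (startD 0 1) (by decide +kernel)
theorem r660_2 : R9 F (g wAd) b660 [] 0 2 := .of (startD 0 1) (by decide +kernel)
theorem r660_3 : R9 F (g wAd) b660 [] 1 0 := .of (startD 0 1) (by decide +kernel)
theorem r660_4 : R9 F (g wAd) b660 [] 1 1 := .of (startD 0 2) (by decide +kernel)
theorem r660_5 : R9 F (g wAd) b660 [] 1 2 := .of (startD 0 1) (by decide +kernel)
theorem r660_6 : R9 F (g wAd) b660 [] 2 0 := .of (startD 0 1) (by decide +kernel)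
theorem r660_7 : R9 F (g wAd) b660 [] 2 1 := .of (startD 0 1) (by decide +kernel)
theorem r660_8 : R9 F (g wAd) b660 [] 2 2 := .of (startD 0 1) (by decide +kernel)
theorem g660 : Gd F (g wAd) (0, d660) [] :=
  good9 ok h660 r660_0 r660_1 r660_2 r660_3 r660_4 r660_5 r660_6 r660_7 r660_8

def b661 : Wd := ⟨0, d661,
  [.z, .Z5, .Z3, .Z2, .Z0, .X10, .X9, .X6, .X5, .X2, .X1, .X0, .y7, .y3, .p5, .hi, .p, .hi, .p7, .hi, .p7, .hi, .p,
   .hi, .p9, .xii, .y2, .p, .xii, .y2, .hi, .xii, .y1, .tau, .xii, .p, .xii, .y4, .hi, .xii, .y4, .y7, .tau, .xii,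
   .p2, .xii, .y1, .y8, .p4, .xii, .y4, .y9, .taui, .xii, .p4, .xii, .y2, .p4, .xii, .y5, .tau, .xii, .y6, .hi, .p9],
  [.Z10, .Z8, .Z6, .Z4, .Z0, .X9, .X7, .X6, .X5, .X4, .X2, .X1, .y8, .y5, .y4, .y1, .p10, .hi, .p4, .hi, .p, .xii,
   .p10, .xii, .y1, .y5, .taui, .xii, .y2, .p, .xii, .y4, .hi, .xii, .y7, .tau, .xii, .p7, .xii, .p7, .xii, .y1, .p2,
   .y1, .tau, .xii, .p9, .xii, .y4, .p3, .y6, .xii, .y1, .tau, .xii, .p3, .xii],
  [.z, .Z9, .Z8, .Z5, .Z4, .Z2, .Z0, .X10, .X9, .X8, .X3, .X2, .X0, .y9, .y8, .y7, .y3, .y2, .y1, .p2, .hi, .p5, .hi,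
   .p7, .hi, .p5, .hi, .p8, .hi, .p, .xii, .p10, .xii, .y5, .p10, .tau, .xii, .p, .xii, .y4, .hi, .xii, .y3, .y10,
   .tau, .X0, .y1, .p4, .xii, .p8, .xii, .y4, .p5, .hi, .p2, .taui, .xii, .p4, .xii, .y3, .y5, .p5, .xii, .y9, .tau,
   .xii, .y6, .p2, .xii]⟩

theorem h661 : Hd F (g wAd) b661 := hdD (by decide +kernel)
theorem r661_0 : R9 F (g wAd) b661 [] 0 0 := .of (startD 0 1) (by decide +kernel)
theorem r661_1 : R9 F (g wAd) b661 [] 0 1 := .of (startD 0 1) (by decide +kernel)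
theorem r661_2 : R9 F (g wAd) b661 [] 0 2 := .of (startD 0 1) (by decide +kernel)
theorem r661_3 : R9 F (g wAd) b661 [] 1 0 := .of (startD 0 1) (by decide +kernel)
theorem r661_4 : R9 F (g wAd) b661 [] 1 1 := .of (startD 0 1) (by decide +kernel)
theorem r661_5 : R9 F (g wAd) b661 [] 1 2 := .of (startD 0 1) (by decide +kernel)
theorem r661_6 : R9 F (g wAd) b661 [] 2 0 := .of (startD 0 1) (by decide +kernel)
theorem r661_7 : R9 F (g wAd) b661 [] 2 1 := .of (startD 0 1) (by decide +kernel)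
theorem r661_8 : R9 F (g wAd) b661 [] 2 2 := .of (startD 0 1) (by decide +kernel)
theorem g661 : Gd F (g wAd) (0, d661) [] :=
  good9 ok h661 r661_0 r661_1 r661_2 r661_3 r661_4 r661_5 r661_6 r661_7 r661_8

def b662 : Wd := ⟨0, d662,
  [.Z9, .Z8, .Z3, .Z0, .X10, .X7, .X6, .X4, .X3, .y10, .y8, .y3, .y2, .y1, .hi, .p6, .hi, .p5, .hi, .p10, .hi, .p10,
   .hi, .p, .hi, .p, .xii, .y2, .p, .xii, .y2, .hi, .xii, .y1, .taui, .y1, .xii, .y2, .hi, .xii, .y9, .p10, .xii, .y8,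
   .taui, .p8, .xii, .y6, .p3, .xii, .tau, .xii, .p5, .xii, .p2, .y9, .tau, .xii, .y2, .p3],
  [.z, .Z10, .Z8, .Z7, .Z4, .Z3, .Z2, .Z0, .X10, .X9, .X6, .X2, .y8, .y3, .y2, .y1, .hi, .p8, .hi, .p8, .hi, .p8, .hi,
   .p4, .hi, .p5, .xii, .p2, .hi, .tau, .y1, .xii, .p10, .xii, .y8, .p10, .xii, .y3, .y5, .tau, .xii, .p7, .xii, .y4,
   .y5, .p8, .xii, .y2, .y4, .y8, .tau, .xii, .p6, .xii, .y7, .p2, .xii, .y6, .tau],
  [.Z10, .Z7, .Z6, .Z5, .Z4, .Z2, .Z0, .X10, .X9, .X8, .X6, .X3, .X1, .y8, .y4, .y1, .hi, .p8, .hi, .p4, .hi, .p10,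
   .hi, .p5, .hi, .p7, .xii, .hi, .xii, .p2, .xii, .y5, .y10, .taui, .y1, .xii, .y1, .hi, .xii, .y6, .p10, .xii, .y8,
   .taui, .xii, .y1, .p, .xii, .p, .y7, .xii, .y5, .taui, .X0, .p7, .xii, .p9, .xii, .tau, .xii, .p4, .xii, .y5, .p6,
   .xii, .y3, .tau, .xii, .hi, .xii, .y8]⟩

theorem h662 : Hd F (g wAd) b662 := hdD (by decide +kernel)
theorem r662_0 : R9 F (g wAd) b662 [] 0 0 := .of (startD 0 1) (by decide +kernel)
theorem r662_1 : R9 F (g wAd) b662 [] 0 1 := .of (startD 0 1) (by decide +kernel)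
theorem r662_2 : R9 F (g wAd) b662 [] 0 2 := .of (startD 0 1) (by decide +kernel)
theorem r662_3 : R9 F (g wAd) b662 [] 1 0 := .of (startD 0 1) (by decide +kernel)
theorem r662_4 : R9 F (g wAd) b662 [] 1 1 := .of (startD 0 1) (by decide +kernel)
theorem r662_5 : R9 F (g wAd) b662 [] 1 2 := .of (startD 0 1) (by decide +kernel)
theorem r662_6 : R9 F (g wAd) b662 [] 2 0 := .of (startD 0 1) (by decide +kernel)
theorem r662_7 : R9 F (g wAd) b662 [] 2 1 := .of (startD 0 1) (by decide +kernel)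
theorem r662_8 : R9 F (g wAd) b662 [] 2 2 := .of (startD 0 1) (by decide +kernel)
theorem g662 : Gd F (g wAd) (0, d662) [] :=
  good9 ok h662 r662_0 r662_1 r662_2 r662_3 r662_4 r662_5 r662_6 r662_7 r662_8

def b663 : Wd := ⟨0, d663,
  [.Z10, .Z9, .Z8, .Z7, .Z4, .Z1, .X9, .X8, .X3, .y10, .y7, .y1, .p10, .hi, .p3, .hi, .p10, .hi, .p9, .hi, .p8, .hi,
   .p9, .xii, .y2, .p, .xii, .p5, .xii, .y3, .taui, .xii, .y1, .p, .hi, .xii, .y4, .y5, .tau, .X0, .p10, .xii, .p5,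
   .xii, .y9, .p6, .y5, .taui, .xii, .p9, .xii, .y8, .p6, .xii, .y4, .y10, .taui, .xii, .p2],
  [.Z4, .Z3, .Z1, .Z0, .X10, .X9, .X5, .X4, .X3, .X0, .y10, .y8, .y6, .y5, .p9, .hi, .p8, .hi, .p, .hi, .p3, .hi, .p,
   .hi, .p7, .xii, .p, .xii, .p9, .y1, .tau, .y1, .xii, .y2, .hi, .xii, .p10, .xii, .y2, .y4, .tau, .X0, .p2, .xii,
   .p, .xii, .y1, .y4, .hi, .tau, .xii, .p4, .xii, .y5, .y10, .p8, .xii, .y5, .taui],
  [.z, .Z9, .Z8, .Z5, .Z4, .Z3, .Z0, .X9, .X8, .X4, .X3, .y9, .y6, .y4, .y3, .hi, .p10, .hi, .p4, .hi, .p6, .hi, .p7,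
   .hi, .p10, .hi, .xii, .hi, .xii, .p8, .xii, .y3, .y7, .tau, .xii, .p, .xii, .y1, .hi, .xii, .y5, .y8, .tau, .X0,
   .xii, .p4, .xii, .y3, .p5, .y1, .xii, .y5, .p7, .taui, .xii, .p4, .xii, .p3, .y8, .hi, .p5, .tau, .xii, .y2, .p,
   .hi]⟩

theorem h663 : Hd F (g wAd) b663 := hdD (by decide +kernel)
theorem r663_0 : R9 F (g wAd) b663 [] 0 0 := .of (startD 0 1) (by decide +kernel)
theorem r663_1 : R9 F (g wAd) b663 [] 0 1 := .of (startD 0 1) (by decide +kernel)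
theorem r663_2 : R9 F (g wAd) b663 [] 0 2 := .of (startD 0 1) (by decide +kernel)
theorem r663_3 : R9 F (g wAd) b663 [] 1 0 := .of (startD 0 1) (by decide +kernel)
theorem r663_4 : R9 F (g wAd) b663 [] 1 1 := .of (startD 0 1) (by decide +kernel)
theorem r663_5 : R9 F (g wAd) b663 [] 1 2 := .of (startD 0 1) (by decide +kernel)
theorem r663_6 : R9 F (g wAd) b663 [] 2 0 := .of (startD 0 1) (by decide +kernel)
theorem r663_7 : R9 F (g wAd) b663 [] 2 1 := .of (startD 0 1) (by decide +kernel)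
theorem r663_8 : R9 F (g wAd) b663 [] 2 2 := .of (startD 0 1) (by decide +kernel)
theorem g663 : Gd F (g wAd) (0, d663) [] :=
  good9 ok h663 r663_0 r663_1 r663_2 r663_3 r663_4 r663_5 r663_6 r663_7 r663_8

def b664 : Wd := ⟨0, d664,
  [.z, .Z10, .Z9, .Z7, .Z6, .Z5, .Z2, .X9, .X8, .X6, .X1, .y9, .y8, .y6, .y5, .y4, .y3, .y2, .y1, .hi, .p4, .hi, .p7,
   .hi, .p6, .hi, .p8, .hi, .p7, .hi, .xii, .p10, .xii, .y8, .p6, .xii, .y7, .taui, .y1, .xii, .p10, .xii, .y5, .p10,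
   .xii, .y10, .tau, .p5, .xii, .y9, .p5, .xii, .y7, .p2, .y5, .xii, .y10, .tau, .xii, .p9, .xii, .p, .xii, .y10,
   .taui, .xii, .hi, .p9],
  [.Z4, .Z3, .Z2, .Z0, .X10, .X9, .X7, .X6, .X3, .X1, .X0, .y10, .y9, .y8, .y7, .y5, .y2, .p, .hi, .p10, .hi, .p7,
   .hi, .p8, .hi, .p4, .xii, .taui, .xii, .p, .xii, .y3, .hi, .xii, .y4, .y7, .taui, .X0, .p2, .xii, .y6, .p5, .xii,
   .hi, .p6, .y9, .taui, .xii, .p6, .xii, .y4, .y5, .p2, .xii, .y2, .tau, .xii, .hi, .xii, .y2],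
  [.Z10, .Z8, .Z5, .Z4, .Z3, .Z2, .Z0, .X7, .X6, .X4, .X3, .X2, .X1, .y9, .y8, .y5, .y3, .y2, .y1, .p9, .hi, .p7, .hi,
   .p7, .hi, .p6, .hi, .p5, .hi, .p2, .xii, .p, .xii, .y4, .p4, .xii, .y2, .tau, .xii, .y2, .p, .xii, .y4, .hi, .xii,
   .y6, .y10, .taui, .xii, .y6, .p6, .xii, .p5, .xii, .y10, .taui, .xii, .p7, .xii, .y1, .y7, .p8, .xii, .y3, .y4,
   .tau, .xii, .p6, .xii]⟩

theorem h664 : Hd F (g wAd) b664 := hdD (by decide +kernel)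
theorem r664_0 : R9 F (g wAd) b664 [] 0 0 := .of (startD 0 1) (by decide +kernel)
theorem r664_1 : R9 F (g wAd) b664 [] 0 1 := .of (startD 0 1) (by decide +kernel)
theorem r664_2 : R9 F (g wAd) b664 [] 0 2 := .of (startD 0 1) (by decide +kernel)
theorem r664_3 : R9 F (g wAd) b664 [] 1 0 := .of (startD 0 1) (by decide +kernel)
theorem r664_4 : R9 F (g wAd) b664 [] 1 1 := .of (startD 0 1) (by decide +kernel)
theorem r664_5 : R9 F (g wAd) b664 [] 1 2 := .of (startD 0 1) (by decide +kernel)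
theorem r664_6 : R9 F (g wAd) b664 [] 2 0 := .of (startD 0 1) (by decide +kernel)
theorem r664_7 : R9 F (g wAd) b664 [] 2 1 := .of (startD 0 1) (by decide +kernel)
theorem r664_8 : R9 F (g wAd) b664 [] 2 2 := .of (startD 0 1) (by decide +kernel)
theorem g664 : Gd F (g wAd) (0, d664) [] :=
  good9 ok h664 r664_0 r664_1 r664_2 r664_3 r664_4 r664_5 r664_6 r664_7 r664_8

def b665 : Wd := ⟨0, d665,
  [.z, .Z10, .Z5, .Z3, .Z0, .X6, .X5, .X4, .X3, .X2, .X1, .y10, .y9, .y8, .y7, .y5, .p2, .hi, .p6, .hi, .p8, .hi, .p7,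
   .hi, .p, .hi, .p, .xii, .hi, .p8, .xii, .y1, .y7, .taui, .xii, .y1, .p, .xii, .p, .xii, .y1, .y2, .taui, .xii, .y1,
   .p4, .xii, .p4, .y9, .xii, .y8, .y10, .taui, .xii, .p2, .xii, .y10, .p, .hi, .p5, .tau, .xii, .y2, .p],
  [.z, .Z9, .Z8, .Z7, .Z6, .Z5, .Z4, .Z3, .X9, .X6, .X3, .X0, .y10, .y9, .y6, .y4, .y1, .hi, .p2, .hi, .p8, .hi, .p8,
   .hi, .p4, .hi, .p6, .hi, .xii, .p, .xii, .y3, .hi, .xii, .y5, .taui, .xii, .y6, .p, .xii, .p, .y7, .xii, .y6,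
   .taui, .X0, .xii, .y6, .p9, .xii, .y7, .hi, .xii, .taui, .xii, .p4, .xii, .p5, .y7, .xii, .y2],
  [.z, .Z9, .Z4, .Z1, .X10, .X8, .X7, .X5, .X4, .y10, .y6, .y4, .y1, .p8, .hi, .p4, .hi, .p8, .hi, .p2, .xii, .y2,
   .p10, .hi, .p, .tau, .xii, .y1, .p, .xii, .y10, .p, .xii, .y4, .y5, .taui, .X0, .y1, .xii, .y2, .p5, .xii, .y7,
   .p8, .xii, .y1, .y2, .y7, .tau, .xii, .y2, .p5, .xii, .y2, .p9, .xii, .y10, .tau, .xii, .p3, .xii, .y1]⟩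

theorem h665 : Hd F (g wAd) b665 := hdD (by decide +kernel)
theorem r665_0 : R9 F (g wAd) b665 [] 0 0 := .of (startD 0 1) (by decide +kernel)
theorem r665_1 : R9 F (g wAd) b665 [] 0 1 := .of (startD 0 1) (by decide +kernel)
theorem r665_2 : R9 F (g wAd) b665 [] 0 2 := .of (startD 0 1) (by decide +kernel)
theorem r665_3 : R9 F (g wAd) b665 [] 1 0 := .of (startD 0 1) (by decide +kernel)
theorem r665_4 : R9 F (g wAd) b665 [] 1 1 := .of (startD 0 1) (by decide +kernel)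
theorem r665_5 : R9 F (g wAd) b665 [] 1 2 := .of (startD 0 1) (by decide +kernel)
theorem r665_6 : R9 F (g wAd) b665 [] 2 0 := .of (startD 0 1) (by decide +kernel)
theorem r665_7 : R9 F (g wAd) b665 [] 2 1 := .of (startD 0 1) (by decide +kernel)
theorem r665_8 : R9 F (g wAd) b665 [] 2 2 := .of (startD 0 1) (by decide +kernel)
theorem g665 : Gd F (g wAd) (0, d665) [] :=
  good9 ok h665 r665_0 r665_1 r665_2 r665_3 r665_4 r665_5 r665_6 r665_7 r665_8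

def b666 : Wd := ⟨0, d666,
  [.Z8, .Z7, .Z5, .Z2, .X9, .X8, .X0, .y6, .hi, .p8, .hi, .p10, .hi, .p5, .hi, .p4, .hi, .p9, .hi, .xii, .p, .xii,
   .y2, .p7, .xii, .y8, .tau, .xii, .y1, .p, .xii, .y4, .p, .xii, .y4, .y7, .tau, .y1, .xii, .p10, .xii, .y1, .p10,
   .y9, .xii, .y10, .tau, .y1, .p7, .xii, .p, .xii, .y3, .tau, .xii, .p3, .xii, .p3, .hi, .y8, .tau, .xii, .p7],
  [.z, .Z10, .Z6, .Z5, .Z4, .Z3, .Z2, .Z1, .X8, .X6, .X5, .X4, .X2, .X0, .y9, .y7, .y6, .y4, .y3, .y1, .p9, .hi, .p10,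
   .hi, .p6, .hi, .p5, .hi, .p5, .hi, .p9, .xii, .hi, .p8, .xii, .p2, .y8, .taui, .xii, .y6, .p, .xii, .y2, .p, .xii,
   .y3, .tau, .X0, .p2, .xii, .p5, .xii, .p10, .hi, .y7, .taui, .xii, .p8, .xii, .y2, .p, .y7, .hi, .tau, .xii, .p7],
  [.Z9, .Z8, .Z7, .Z5, .Z3, .X10, .X9, .X7, .X5, .X4, .X2, .y7, .y6, .y3, .y2, .p4, .hi, .p10, .hi, .p3, .hi, .p9,
   .hi, .p10, .xii, .p, .xii, .y10, .p7, .taui, .xii, .p, .xii, .hi, .y8, .xii, .y2, .y7, .y10, .taui, .p7, .xii, .p7,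
   .xii, .p8, .y4, .y5, .xii, .taui, .xii, .p5, .xii, .p10, .hi, .y7, .taui, .xii, .p2, .hi]⟩

theorem h666 : Hd F (g wAd) b666 := hdD (by decide +kernel)
theorem r666_0 : R9 F (g wAd) b666 [] 0 0 := .of (startD 0 1) (by decide +kernel)
theorem r666_1 : R9 F (g wAd) b666 [] 0 1 := .of (startD 0 1) (by decide +kernel)
theorem r666_2 : R9 F (g wAd) b666 [] 0 2 := .of (startD 0 1) (by decide +kernel)
theorem r666_3 : R9 F (g wAd) b666 [] 1 0 := .of (startD 0 1) (by decide +kernel)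
theorem r666_4 : R9 F (g wAd) b666 [] 1 1 := .of (startD 0 1) (by decide +kernel)
theorem r666_5 : R9 F (g wAd) b666 [] 1 2 := .of (startD 0 1) (by decide +kernel)
theorem r666_6 : R9 F (g wAd) b666 [] 2 0 := .of (startD 0 1) (by decide +kernel)
theorem r666_7 : R9 F (g wAd) b666 [] 2 1 := .of (startD 0 1) (by decide +kernel)
theorem r666_8 : R9 F (g wAd) b666 [] 2 2 := .of (startD 0 1) (by decide +kernel)
theorem g666 : Gd F (g wAd) (0, d666) [] :=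
  good9 ok h666 r666_0 r666_1 r666_2 r666_3 r666_4 r666_5 r666_6 r666_7 r666_8

def b667 : Wd := ⟨0, d667,
  [.z, .Z10, .Z9, .Z8, .Z5, .Z4, .Z2, .X8, .X5, .X3, .X1, .X0, .y10, .y9, .y8, .y7, .y5, .y3, .y1, .p9, .hi, .p8, .hi,
   .p3, .hi, .p7, .hi, .p3, .hi, .p8, .xii, .p10, .xii, .y10, .taui, .y1, .xii, .y1, .hi, .xii, .p10, .xii, .y1, .y3,
   .taui, .X0, .y1, .xii, .p3, .xii, .y4, .p7, .xii, .y5, .tau, .xii, .p4, .xii, .y1, .y3, .p8, .xii, .y7, .tau, .xii,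
   .hi, .p5],
  [.z, .Z10, .Z8, .Z6, .Z4, .X8, .X5, .X4, .X3, .X1, .y8, .y7, .y5, .y2, .hi, .p3, .hi, .p8, .hi, .p6, .hi, .p5, .hi,
   .p9, .xii, .p5, .hi, .p5, .taui, .xii, .y6, .p, .xii, .p, .xii, .y2, .y3, .taui, .X0, .xii, .y2, .p9, .xii, .p,
   .xii, .p3, .tau, .xii, .p7, .xii, .p8, .y3, .y8, .xii, .y3],
  [.Z7, .Z5, .Z3, .Z1, .X8, .X6, .X5, .X3, .X2, .X1, .X0, .y10, .y9, .y8, .y4, .y3, .y2, .y1, .p10, .hi, .p2, .hi,
   .p7, .hi, .p9, .hi, .p5, .hi, .p9, .xii, .p2, .hi, .p3, .hi, .tau, .xii, .p, .xii, .y1, .hi, .xii, .y2, .y3, .taui,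
   .xii, .p2, .xii, .y7, .p7, .y5, .xii, .y10, .taui, .xii, .p6, .xii, .p5, .y8, .hi, .p6, .taui, .xii, .p3, .hi, .p7]⟩

theorem h667 : Hd F (g wAd) b667 := hdD (by decide +kernel)
theorem r667_0 : R9 F (g wAd) b667 [] 0 0 := .of (startD 0 1) (by decide +kernel)
theorem r667_1 : R9 F (g wAd) b667 [] 0 1 := .of (startD 0 1) (by decide +kernel)
theorem r667_2 : R9 F (g wAd) b667 [] 0 2 := .of (startD 0 1) (by decide +kernel)
theorem r667_3 : R9 F (g wAd) b667 [] 1 0 := .of (startD 0 1) (by decide +kernel)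
theorem r667_4 : R9 F (g wAd) b667 [] 1 1 := .of (startD 0 1) (by decide +kernel)
theorem r667_5 : R9 F (g wAd) b667 [] 1 2 := .of (startD 0 1) (by decide +kernel)
theorem r667_6 : R9 F (g wAd) b667 [] 2 0 := .of (startD 0 1) (by decide +kernel)
theorem r667_7 : R9 F (g wAd) b667 [] 2 1 := .of (startD 0 1) (by decide +kernel)
theorem r667_8 : R9 F (g wAd) b667 [] 2 2 := .of (startD 0 1) (by decide +kernel)
theorem g667 : Gd F (g wAd) (0, d667) [] :=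
  good9 ok h667 r667_0 r667_1 r667_2 r667_3 r667_4 r667_5 r667_6 r667_7 r667_8

def b668 : Wd := ⟨0, d668,
  [.Z10, .Z9, .Z7, .Z6, .Z4, .Z3, .Z2, .X10, .X9, .X8, .X7, .X5, .X4, .X2, .X1, .X0, .y8, .y6, .y3, .y2, .y1, .p7,
   .hi, .p8, .hi, .p8, .hi, .p9, .hi, .p3, .hi, .p3, .hi, .xii, .p10, .xii, .y5, .p5, .hi, .p5, .tau, .xii, .y1, .p,
   .xii, .y4, .y10, .p, .xii, .y6, .tau, .X0, .p9, .xii, .y7, .hi, .xii, .y1, .tau, .xii, .p9, .xii, .p, .y7, .xii,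
   .y1, .y4, .taui, .xii, .p4],
  [.Z10, .Z6, .Z4, .Z2, .Z1, .X5, .X4, .X3, .X2, .X1, .y2, .y1, .hi, .p9, .hi, .p3, .hi, .p9, .hi, .p, .hi, .p6, .xii,
   .p, .xii, .hi, .p4, .y2, .taui, .xii, .hi, .p8, .xii, .y9, .y10, .tau, .X0, .p6, .xii, .p5, .xii, .p5, .y8, .tau,
   .xii, .p9, .xii, .y5, .p3, .y4, .xii, .tau, .xii, .hi, .p3],
  [.Z9, .Z8, .Z7, .Z6, .X1, .y8, .y7, .y6, .y4, .y1, .p10, .hi, .p3, .hi, .p5, .hi, .p6, .hi, .p8, .xii, .hi, .p8,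
   .xii, .y1, .y9, .p10, .taui, .y1, .xii, .p10, .xii, .y4, .p10, .taui, .X0, .p4, .xii, .p7, .xii, .y10, .p, .hi,
   .tau, .xii, .p8, .xii, .y2, .p10, .hi, .p9, .hi, .tau, .xii, .p7]⟩

theorem h668 : Hd F (g wAd) b668 := hdD (by decide +kernel)
theorem r668_0 : R9 F (g wAd) b668 [] 0 0 := .of (startD 0 1) (by decide +kernel)
theorem r668_1 : R9 F (g wAd) b668 [] 0 1 := .of (startD 0 1) (by decide +kernel)
theorem r668_2 : R9 F (g wAd) b668 [] 0 2 := .of (startD 0 1) (by decide +kernel)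
theorem r668_3 : R9 F (g wAd) b668 [] 1 0 := .of (startD 0 1) (by decide +kernel)
theorem r668_4 : R9 F (g wAd) b668 [] 1 1 := .of (startD 0 1) (by decide +kernel)
theorem r668_5 : R9 F (g wAd) b668 [] 1 2 := .of (startD 0 1) (by decide +kernel)
theorem r668_6 : R9 F (g wAd) b668 [] 2 0 := .of (startD 0 1) (by decide +kernel)
theorem r668_7 : R9 F (g wAd) b668 [] 2 1 := .of (startD 0 1) (by decide +kernel)
theorem r668_8 : R9 F (g wAd) b668 [] 2 2 := .of (startD 0 1) (by decide +kernel)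
theorem g668 : Gd F (g wAd) (0, d668) [] :=
  good9 ok h668 r668_0 r668_1 r668_2 r668_3 r668_4 r668_5 r668_6 r668_7 r668_8

def b669 : Wd := ⟨0, d669,
  [.z, .Z9, .Z8, .Z5, .Z4, .Z3, .X10, .X8, .X3, .X1, .y10, .y8, .y7, .y6, .y5, .y4, .y2, .y1, .p, .hi, .p7, .hi, .p9,
   .hi, .p6, .hi, .p9, .hi, .p, .hi, .xii, .y2, .p, .xii, .p8, .xii, .y1, .y10, .tau, .xii, .p, .xii, .y4, .hi, .xii,
   .y5, .y9, .tau, .X0, .p9, .xii, .y7, .p5, .xii, .y8, .hi, .xii, .taui, .xii, .p7, .xii, .y5, .p3, .y3, .xii, .tau,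
   .xii, .p5],
  [.z, .Z9, .Z8, .Z7, .Z5, .Z3, .Z2, .Z0, .X9, .X7, .X6, .X5, .X4, .X1, .X0, .y10, .y9, .y4, .y1, .p5, .hi, .p9, .hi,
   .p, .hi, .p7, .hi, .xii, .hi, .p8, .xii, .y1, .y7, .p10, .taui, .y1, .xii, .p10, .xii, .p10, .y7, .xii, .y8, .y10,
   .tau, .p2, .xii, .p9, .xii, .y1, .y8, .hi, .p3, .taui, .xii, .p7, .xii, .y4, .y7, .p8, .xii, .tau, .xii, .p5],
  [.z, .Z9, .Z8, .Z5, .Z4, .Z1, .Z0, .X9, .X6, .X4, .X0, .y8, .y5, .y4, .y2, .p9, .hi, .p10, .hi, .p4, .hi, .p8, .hi,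
   .p8, .xii, .p, .xii, .hi, .y8, .p4, .taui, .y1, .xii, .p10, .xii, .y1, .y7, .p10, .xii, .tau, .X0, .p9, .xii, .p3,
   .y4, .xii, .y4, .p5, .hi, .p5, .tau, .xii, .p4, .xii, .p6, .y7, .xii, .y6, .taui, .xii, .p10]⟩

theorem h669 : Hd F (g wAd) b669 := hdD (by decide +kernel)
theorem r669_0 : R9 F (g wAd) b669 [] 0 0 := .of (startD 0 1) (by decide +kernel)
theorem r669_1 : R9 F (g wAd) b669 [] 0 1 := .of (startD 0 1) (by decide +kernel)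
theorem r669_2 : R9 F (g wAd) b669 [] 0 2 := .of (startD 0 1) (by decide +kernel)
theorem r669_3 : R9 F (g wAd) b669 [] 1 0 := .of (startD 0 1) (by decide +kernel)
theorem r669_4 : R9 F (g wAd) b669 [] 1 1 := .of (startD 0 1) (by decide +kernel)
theorem r669_5 : R9 F (g wAd) b669 [] 1 2 := .of (startD 0 1) (by decide +kernel)
theorem r669_6 : R9 F (g wAd) b669 [] 2 0 := .of (startD 0 1) (by decide +kernel)
theorem r669_7 : R9 F (g wAd) b669 [] 2 1 := .of (startD 0 1) (by decide +kernel)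
theorem r669_8 : R9 F (g wAd) b669 [] 2 2 := .of (startD 0 1) (by decide +kernel)
theorem g669 : Gd F (g wAd) (0, d669) [] :=
  good9 ok h669 r669_0 r669_1 r669_2 r669_3 r669_4 r669_5 r669_6 r669_7 r669_8

theorem all : AllG F (g wAd) LD66 :=
  .cons g660 (.cons g661 (.cons g662 (.cons g663 (.cons g664 (.cons g665 (.cons g666 (.cons g667 (.cons g668 (.cons g669 (.nil))))))))))

end Cfsg.Agent.BX.No33.Bk.D66
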