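import Cfsg.Agent.BX.No33.Cheap
set_option linter.all false

/-!
# Tests, diagonal case, part 67 (helper5; generated)
-/

set_option autoImplicit false
set_option maxRecDepth 100000
set_option Elab.async false

namespace Cfsg.Agent.BX.No33.Bk.D67

open Cfsg.Agent.H819.U33 Cfsg.Agent.BX.No33.Front

def b670 : Wd := ⟨0, d670,
  [.Z10, .Z9, .Z5, .Z3, .Z2, .Z1, .X9, .X8, .X7, .X5, .X4, .X3, .X0, .y9, .y8, .y7, .y2, .y1, .p10, .hi, .p6, .hi,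
   .p6, .hi, .p4, .hi, .p3, .hi, .p3, .hi, .xii, .p10, .xii, .y1, .p8, .taui, .xii, .p, .xii, .hi, .y8, .xii, .y1,
   .y9, .taui, .X0, .y1, .hi, .xii, .p2, .xii, .y5, .p, .hi, .p6, .taui, .xii, .p6, .xii, .p3, .hi, .y4, .p3, .tau,
   .xii, .y2, .p2, .hi, .p10],
  [.Z10, .Z8, .Z7, .Z6, .Z5, .Z4, .Z3, .Z1, .Z0, .X8, .X7, .X4, .X3, .X2, .y10, .y9, .y8, .y7, .y6, .y4, .y3, .y1,
   .p8, .hi, .p3, .hi, .p9, .hi, .p10, .hi, .p4, .hi, .p7, .hi, .xii, .y2, .p, .xii, .y6, .hi, .p10, .tau, .xii, .p,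
   .xii, .y3, .hi, .xii, .y2, .y7, .taui, .X0, .p8, .xii, .p9, .xii, .p9, .xii, .y4, .y7, .tau, .xii, .y2, .p10, .hi,
   .p6, .xii],
  [.z, .Z3, .Z2, .Z0, .X10, .X8, .X5, .X4, .X3, .X2, .X0, .y10, .y8, .y6, .y3, .hi, .p10, .hi, .p2, .hi, .p6, .hi,
   .p10, .hi, .p7, .hi, .p8, .xii, .y2, .p3, .hi, .xii, .y6, .p6, .taui, .xii, .y6, .p, .xii, .p, .xii, .y1, .y5, .y7,
   .taui, .y1, .p5, .xii, .p7, .xii, .y6, .p3, .hi, .p10, .taui, .xii, .y2, .p7, .xii, .y6, .p10, .hi, .p7, .tau,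
   .xii, .p, .hi]⟩

theorem h670 : Hd F (g wAd) b670 := hdD (by decide +kernel)
theorem r670_0 : R9 F (g wAd) b670 [] 0 0 := .of (startD 0 1) (by decide +kernel)
theorem r670_1 : R9 F (g wAd) b670 [] 0 1 := .of (startD 0 1) (by decide +kernel)
theorem r670_2 : R9 F (g wAd) b670 [] 0 2 := .of (startD 0 1) (by decide +kernel)
theorem r670_3 : R9 F (g wAd) b670 [] 1 0 := .of (startD 0 2) (by decide +kernel)
theorem r670_4 : R9 F (g wAd) b670 [] 1 1 := .of (startD 0 1) (by decide +kernel)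
theorem r670_5 : R9 F (g wAd) b670 [] 1 2 := .of (startD 0 1) (by decide +kernel)
theorem r670_6 : R9 F (g wAd) b670 [] 2 0 := .of (startD 0 1) (by decide +kernel)
theorem r670_7 : R9 F (g wAd) b670 [] 2 1 := .of (startD 0 1) (by decide +kernel)
theorem r670_8 : R9 F (g wAd) b670 [] 2 2 := .of (startD 0 1) (by decide +kernel)
theorem g670 : Gd F (g wAd) (0, d670) [] :=
  good9 ok h670 r670_0 r670_1 r670_2 r670_3 r670_4 r670_5 r670_6 r670_7 r670_8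

def b671 : Wd := ⟨0, d671,
  [.z, .Z9, .Z8, .Z5, .Z0, .X10, .X8, .X6, .X5, .X4, .X3, .X2, .y8, .y5, .p5, .hi, .p9, .hi, .p9, .hi, .p7, .hi, .p,
   .hi, .p7, .xii, .p10, .xii, .y4, .p10, .xii, .y8, .y10, .tau, .xii, .p, .xii, .y1, .hi, .xii, .y3, .y4, .tau, .X0,
   .p10, .xii, .p6, .xii, .p5, .hi, .p5, .y6, .tau, .xii, .p6, .xii, .y4, .y7, .p4, .xii, .tau, .xii, .p10, .xii, .y7],
  [.z, .Z10, .Z8, .Z7, .Z6, .Z5, .Z4, .Z1, .Z0, .X9, .X7, .X6, .X4, .X3, .X2, .X0, .y8, .y4, .y3, .y2, .y1, .hi, .p5,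
   .hi, .p3, .hi, .p5, .hi, .p4, .hi, .p10, .tau, .y1, .xii, .y2, .hi, .xii, .y10, .p10, .xii, .y8, .tau, .X0, .xii,
   .p9, .xii, .y8, .p, .xii, .y9, .p8, .taui, .xii, .p3, .xii, .p6, .xii, .y1, .tau, .xii, .p8],
  [.Z9, .Z7, .Z6, .Z3, .Z2, .Z0, .X9, .X8, .X6, .X5, .X4, .X2, .X1, .X0, .y9, .y8, .y4, .y2, .p7, .hi, .p6, .hi, .p5,
   .hi, .p3, .hi, .p2, .hi, .xii, .p10, .xii, .y6, .p5, .tau, .xii, .p, .xii, .y1, .hi, .xii, .y3, .y10, .taui, .xii,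
   .p, .xii, .y4, .y10, .hi, .xii, .y4, .y7, .tau, .p9, .xii, .y7, .p10, .xii, .y7, .taui, .xii, .p9, .xii, .y5, .p3,
   .y4, .tau, .xii, .p, .hi]⟩

theorem h671 : Hd F (g wAd) b671 := hdD (by decide +kernel)
theorem r671_0 : R9 F (g wAd) b671 [] 0 0 := .of (startD 0 1) (by decide +kernel)
theorem r671_1 : R9 F (g wAd) b671 [] 0 1 := .of (startD 0 1) (by decide +kernel)
theorem r671_2 : R9 F (g wAd) b671 [] 0 2 := .of (startD 0 1) (by decide +kernel)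
theorem r671_3 : R9 F (g wAd) b671 [] 1 0 := .of (startD 0 1) (by decide +kernel)
theorem r671_4 : R9 F (g wAd) b671 [] 1 1 := .of (startD 0 1) (by decide +kernel)
theorem r671_5 : R9 F (g wAd) b671 [] 1 2 := .of (startD 0 1) (by decide +kernel)
theorem r671_6 : R9 F (g wAd) b671 [] 2 0 := .of (startD 0 1) (by decide +kernel)
theorem r671_7 : R9 F (g wAd) b671 [] 2 1 := .of (startD 0 1) (by decide +kernel)
theorem r671_8 : R9 F (g wAd) b671 [] 2 2 := .of (startD 0 1) (by decide +kernel)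
theorem g671 : Gd F (g wAd) (0, d671) [] :=
  good9 ok h671 r671_0 r671_1 r671_2 r671_3 r671_4 r671_5 r671_6 r671_7 r671_8

def b672 : Wd := ⟨0, d672,
  [.z, .Z7, .Z6, .Z5, .Z4, .Z3, .Z1, .Z0, .X8, .X6, .X4, .X1, .y9, .y8, .y7, .y5, .y4, .y3, .y2, .y1, .p9, .hi, .p4,
   .hi, .p4, .hi, .p, .hi, .p3, .hi, .p6, .xii, .y2, .hi, .p3, .hi, .p5, .tau, .X0, .hi, .xii, .hi, .xii, .y10, .p3,
   .hi, .p5, .taui, .p4, .xii, .y1, .hi, .p2, .tau, .xii, .p3, .xii, .y5, .p2],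
  [.z, .Z9, .Z6, .Z5, .Z2, .Z1, .X9, .X8, .X7, .X5, .X4, .X3, .X2, .X0, .y6, .y5, .y2, .y1, .p6, .hi, .p5, .hi, .p9,
   .hi, .p5, .hi, .p8, .hi, .xii, .y2, .p2, .hi, .taui, .xii, .y2, .p, .xii, .y1, .hi, .xii, .y2, .y3, .tau, .p10,
   .xii, .p2, .xii, .p, .y3, .hi, .taui, .xii, .p9, .xii, .y1, .y2, .p6, .tau, .xii, .y2, .hi, .p8],
  [.z, .Z7, .Z5, .Z1, .Z0, .X9, .X7, .X6, .X4, .X2, .X0, .y9, .y7, .y6, .y5, .y3, .y2, .y1, .p10, .hi, .p7, .hi, .p10,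
   .hi, .p2, .hi, .p10, .hi, .p9, .xii, .p10, .xii, .y1, .p10, .xii, .y3, .y7, .tau, .xii, .p, .xii, .hi, .y8, .xii,
   .y3, .y9, .taui, .X0, .xii, .p10, .xii, .p9, .xii, .y1, .y2, .taui, .xii, .y2, .p4, .xii, .y1, .p10, .xii, .y8,
   .taui, .xii, .p8]⟩

theorem h672 : Hd F (g wAd) b672 := hdD (by decide +kernel)
theorem r672_0 : R9 F (g wAd) b672 [] 0 0 := .of (startD 0 1) (by decide +kernel)
theorem r672_1 : R9 F (g wAd) b672 [] 0 1 := .of (startD 0 1) (by decide +kernel)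
theorem r672_2 : R9 F (g wAd) b672 [] 0 2 := .of (startD 0 1) (by decide +kernel)
theorem r672_3 : R9 F (g wAd) b672 [] 1 0 := .of (startD 0 1) (by decide +kernel)
theorem r672_4 : R9 F (g wAd) b672 [] 1 1 := .of (startD 0 1) (by decide +kernel)
theorem r672_5 : R9 F (g wAd) b672 [] 1 2 := .of (startD 0 1) (by decide +kernel)
theorem r672_6 : R9 F (g wAd) b672 [] 2 0 := .of (startD 0 1) (by decide +kernel)
theorem r672_7 : R9 F (g wAd) b672 [] 2 1 := .of (startD 0 1) (by decide +kernel)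
theorem r672_8 : R9 F (g wAd) b672 [] 2 2 := .of (startD 0 1) (by decide +kernel)
theorem g672 : Gd F (g wAd) (0, d672) [] :=
  good9 ok h672 r672_0 r672_1 r672_2 r672_3 r672_4 r672_5 r672_6 r672_7 r672_8

def b673 : Wd := ⟨0, d673,
  [.Z8, .Z6, .Z5, .Z3, .Z1, .Z0, .X10, .X9, .X8, .X7, .X6, .X4, .X3, .X2, .X0, .y9, .y8, .y7, .y5, .y3, .p2, .hi, .p,
   .hi, .p8, .hi, .p9, .hi, .p7, .hi, .p7, .xii, .p3, .hi, .xii, .y8, .p10, .tau, .xii, .p, .xii, .y4, .hi, .xii, .y3,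
   .taui, .X0, .p2, .xii, .p, .xii, .y9, .hi, .y8, .p2, .tau, .xii, .p4, .xii, .y2, .y3, .p2, .hi, .p, .taui, .xii,
   .y2, .p7],
  [.z, .Z8, .Z6, .Z5, .Z4, .Z1, .Z0, .X6, .X2, .y9, .y7, .y5, .y4, .y2, .y1, .p10, .hi, .p2, .hi, .p5, .hi, .p5, .hi,
   .p8, .hi, .p8, .xii, .y2, .hi, .p2, .hi, .taui, .xii, .y2, .p, .xii, .y4, .hi, .xii, .y6, .y10, .taui, .p2, .xii,
   .p4, .xii, .y10, .p2, .hi, .p6, .taui, .xii, .p7, .xii, .y4, .y7, .p5, .taui, .xii, .hi, .p6],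
  [.z, .Z10, .Z9, .Z8, .Z6, .Z5, .Z2, .Z0, .X8, .X6, .X2, .X1, .y7, .y6, .y5, .y4, .y3, .y2, .y1, .p9, .hi, .p6, .hi,
   .p8, .hi, .p6, .xii, .y2, .hi, .xii, .p10, .xii, .y3, .y7, .tau, .xii, .p, .xii, .y2, .hi, .xii, .y4, .y7, .taui,
   .p7, .xii, .y6, .p5, .xii, .p8, .y3, .xii, .y6, .taui, .xii, .p8, .xii, .p2, .xii, .tau, .xii, .p10]⟩

theorem h673 : Hd F (g wAd) b673 := hdD (by decide +kernel)
theorem r673_0 : R9 F (g wAd) b673 [] 0 0 := .of (startD 0 1) (by decide +kernel)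
theorem r673_1 : R9 F (g wAd) b673 [] 0 1 := .of (startD 0 1) (by decide +kernel)
theorem r673_2 : R9 F (g wAd) b673 [] 0 2 := .of (startD 0 1) (by decide +kernel)
theorem r673_3 : R9 F (g wAd) b673 [] 1 0 := .of (startD 0 1) (by decide +kernel)
theorem r673_4 : R9 F (g wAd) b673 [] 1 1 := .of (startD 0 1) (by decide +kernel)
theorem r673_5 : R9 F (g wAd) b673 [] 1 2 := .of (startD 0 1) (by decide +kernel)
theorem r673_6 : R9 F (g wAd) b673 [] 2 0 := .of (startD 0 1) (by decide +kernel)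
theorem r673_7 : R9 F (g wAd) b673 [] 2 1 := .of (startD 0 1) (by decide +kernel)
theorem r673_8 : R9 F (g wAd) b673 [] 2 2 := .of (startD 0 1) (by decide +kernel)
theorem g673 : Gd F (g wAd) (0, d673) [] :=
  good9 ok h673 r673_0 r673_1 r673_2 r673_3 r673_4 r673_5 r673_6 r673_7 r673_8

def b674 : Wd := ⟨0, d674,
  [.Z10, .Z8, .Z4, .Z0, .X8, .X7, .X4, .y9, .y7, .y5, .y1, .hi, .p8, .hi, .p3, .hi, .p4, .hi, .p, .hi, .p5, .hi, .p9,
   .xii, .p, .xii, .y2, .p4, .xii, .y2, .taui, .y1, .xii, .p10, .xii, .y5, .p10, .xii, .y8, .y10, .tau, .xii, .y1, .p,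
   .xii, .p, .xii, .y5, .y10, .tau, .X0, .p10, .xii, .p10, .xii, .y4, .tau, .xii, .p6, .xii, .y3, .p, .xii, .taui,
   .xii, .hi, .p7],
  [.z, .Z10, .Z8, .Z5, .Z4, .Z3, .Z2, .Z1, .X9, .X8, .X7, .X6, .X4, .X3, .X2, .y9, .y8, .y5, .y4, .p9, .hi, .p3, .hi,
   .p5, .hi, .p4, .hi, .p7, .xii, .p, .xii, .p4, .tau, .X0, .xii, .p3, .xii, .hi, .xii, .hi, .y9, .tau, .y1, .xii,
   .p9, .xii, .p9, .y9, .xii, .y2, .y4, .y9, .tau, .xii, .p3, .hi, .xii, .y1, .y3, .p],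
  [.Z10, .Z8, .Z5, .Z0, .X8, .X5, .X3, .X2, .X0, .y9, .y6, .y4, .y1, .p4, .hi, .p6, .hi, .p9, .hi, .p4, .hi, .p5, .hi,
   .p6, .xii, .p, .xii, .p9, .y1, .xii, .y10, .tau, .y1, .xii, .p10, .xii, .y1, .p10, .xii, .y2, .y4, .taui, .y1,
   .xii, .p10, .xii, .y1, .y9, .p10, .xii, .y2, .tau, .p10, .xii, .y10, .p8, .xii, .taui, .xii, .p2, .xii, .y5, .p6,
   .xii, .y5, .y10, .tau, .xii, .y2, .p]⟩

theorem h674 : Hd F (g wAd) b674 := hdD (by decide +kernel)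
theorem r674_0 : R9 F (g wAd) b674 [] 0 0 := .of (startD 0 2) (by decide +kernel)
theorem r674_1 : R9 F (g wAd) b674 [] 0 1 := .of (startD 0 1) (by decide +kernel)
theorem r674_2 : R9 F (g wAd) b674 [] 0 2 := .of (startD 0 1) (by decide +kernel)
theorem r674_3 : R9 F (g wAd) b674 [] 1 0 := .of (startD 0 1) (by decide +kernel)
theorem r674_4 : R9 F (g wAd) b674 [] 1 1 := .of (startD 0 1) (by decide +kernel)
theorem r674_5 : R9 F (g wAd) b674 [] 1 2 := .of (startD 0 1) (by decide +kernel)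
theorem r674_6 : R9 F (g wAd) b674 [] 2 0 := .of (startD 0 1) (by decide +kernel)
theorem r674_7 : R9 F (g wAd) b674 [] 2 1 := .of (startD 0 1) (by decide +kernel)
theorem r674_8 : R9 F (g wAd) b674 [] 2 2 := .of (startD 0 1) (by decide +kernel)
theorem g674 : Gd F (g wAd) (0, d674) [] :=
  good9 ok h674 r674_0 r674_1 r674_2 r674_3 r674_4 r674_5 r674_6 r674_7 r674_8

def b675 : Wd := ⟨0, d675,
  [.z, .Z8, .Z6, .Z5, .Z2, .Z0, .X8, .X7, .X4, .X3, .X0, .y9, .y8, .y3, .y2, .y1, .p, .hi, .p8, .hi, .p, .hi, .p, .hi,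
   .p5, .hi, .p4, .hi, .xii, .p10, .xii, .y4, .p3, .hi, .taui, .xii, .p, .xii, .y1, .y6, .hi, .xii, .y7, .tau, .X0,
   .xii, .p2, .xii, .y5, .y10, .p4, .xii, .y1, .y10, .tau, .xii, .p7, .xii, .p5, .y10, .hi, .p4, .tau, .xii, .y2, .p3,
   .hi, .p10],
  [.z, .Z10, .Z8, .Z7, .Z5, .Z4, .Z3, .Z2, .Z1, .Z0, .X8, .X7, .X6, .X5, .y10, .y8, .y7, .y5, .y1, .p8, .hi, .p, .hi,
   .p8, .hi, .p8, .hi, .p, .hi, .xii, .y2, .p, .xii, .y3, .y4, .taui, .xii, .p, .xii, .y1, .hi, .xii, .y3, .y4, .taui,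
   .y1, .xii, .p5, .xii, .y6, .p2, .y10, .xii, .y3, .tau, .xii, .p5, .xii, .p5, .y3, .y8],
  [.z, .Z9, .Z8, .Z7, .Z6, .Z3, .Z0, .X9, .X8, .X7, .X5, .X4, .X3, .X2, .X1, .X0, .y9, .y8, .y6, .y4, .y2, .y1, .p,
   .hi, .p4, .hi, .p, .hi, .p, .hi, .p7, .hi, .p7, .hi, .xii, .y2, .hi, .p8, .xii, .y9, .y10, .taui, .xii, .y2, .hi,
   .p8, .xii, .y4, .tau, .p10, .xii, .y6, .p2, .xii, .y10, .taui, .xii, .p9, .xii, .p5, .xii, .y2, .y3, .y6, .tau,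
   .xii, .p10, .xii, .y8]⟩

theorem h675 : Hd F (g wAd) b675 := hdD (by decide +kernel)
theorem r675_0 : R9 F (g wAd) b675 [] 0 0 := .of (startD 0 1) (by decide +kernel)
theorem r675_1 : R9 F (g wAd) b675 [] 0 1 := .of (startD 0 1) (by decide +kernel)
theorem r675_2 : R9 F (g wAd) b675 [] 0 2 := .of (startD 0 1) (by decide +kernel)
theorem r675_3 : R9 F (g wAd) b675 [] 1 0 := .of (startD 0 1) (by decide +kernel)
theorem r675_4 : R9 F (g wAd) b675 [] 1 1 := .of (startD 0 1) (by decide +kernel)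
theorem r675_5 : R9 F (g wAd) b675 [] 1 2 := .of (startD 0 1) (by decide +kernel)
theorem r675_6 : R9 F (g wAd) b675 [] 2 0 := .of (startD 0 1) (by decide +kernel)
theorem r675_7 : R9 F (g wAd) b675 [] 2 1 := .of (startD 0 1) (by decide +kernel)
theorem r675_8 : R9 F (g wAd) b675 [] 2 2 := .of (startD 0 1) (by decide +kernel)
theorem g675 : Gd F (g wAd) (0, d675) [] :=
  good9 ok h675 r675_0 r675_1 r675_2 r675_3 r675_4 r675_5 r675_6 r675_7 r675_8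

def b676 : Wd := ⟨0, d676,
  [.Z10, .Z8, .Z6, .Z5, .Z4, .Z3, .X8, .X6, .X5, .X1, .y10, .y9, .y7, .y5, .y3, .y2, .p4, .hi, .p7, .hi, .p7, .hi,
   .p6, .hi, .p, .hi, .p8, .hi, .xii, .p10, .xii, .y1, .p10, .xii, .y10, .taui, .X0, .xii, .p3, .xii, .hi, .xii, .hi,
   .y8, .tau, .X0, .xii, .hi, .xii, .p5, .y3, .xii, .y1, .y10, .p2, .tau, .xii, .p9, .xii, .y10, .p, .xii, .y2, .y4,
   .tau, .xii, .p, .xii, .y8],
  [.Z9, .Z7, .Z6, .Z3, .Z2, .Z1, .Z0, .X10, .X9, .X8, .X7, .X6, .X5, .X3, .X2, .X1, .X0, .y8, .y6, .y5, .y4, .y1,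
   .p10, .hi, .p2, .xii, .p, .xii, .y4, .p, .xii, .y7, .tau, .xii, .y6, .p, .xii, .y10, .p, .xii, .y4, .y5, .taui,
   .p7, .xii, .p5, .hi, .xii, .p9, .y4, .taui, .xii, .p5, .xii, .y8, .p5, .xii, .y4, .y6, .taui, .xii, .y6, .p5],
  [.Z10, .Z8, .Z6, .Z4, .Z1, .X7, .X5, .X4, .X2, .X1, .X0, .y10, .y7, .y4, .y3, .p7, .hi, .p7, .hi, .p3, .hi, .p3,
   .hi, .p6, .hi, .p5, .xii, .p, .hi, .xii, .p5, .hi, .y8, .p5, .tau, .xii, .p, .xii, .y4, .hi, .xii, .y2, .y7, .tau,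
   .p4, .xii, .y2, .p5, .hi, .xii, .y4, .hi, .p6, .taui, .xii, .p9, .xii, .p, .xii, .y3, .y4, .taui, .xii, .y2, .p5,
   .xii]⟩

theorem h676 : Hd F (g wAd) b676 := hdD (by decide +kernel)
theorem r676_0 : R9 F (g wAd) b676 [] 0 0 := .of (startD 0 1) (by decide +kernel)
theorem r676_1 : R9 F (g wAd) b676 [] 0 1 := .of (startD 0 1) (by decide +kernel)
theorem r676_2 : R9 F (g wAd) b676 [] 0 2 := .of (startD 0 1) (by decide +kernel)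
theorem r676_3 : R9 F (g wAd) b676 [] 1 0 := .of (startD 0 1) (by decide +kernel)
theorem r676_4 : R9 F (g wAd) b676 [] 1 1 := .of (startD 0 1) (by decide +kernel)
theorem r676_5 : R9 F (g wAd) b676 [] 1 2 := .of (startD 0 1) (by decide +kernel)
theorem r676_6 : R9 F (g wAd) b676 [] 2 0 := .of (startD 0 1) (by decide +kernel)
theorem r676_7 : R9 F (g wAd) b676 [] 2 1 := .of (startD 0 1) (by decide +kernel)
theorem r676_8 : R9 F (g wAd) b676 [] 2 2 := .of (startD 0 1) (by decide +kernel)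
theorem g676 : Gd F (g wAd) (0, d676) [] :=
  good9 ok h676 r676_0 r676_1 r676_2 r676_3 r676_4 r676_5 r676_6 r676_7 r676_8

def b677 : Wd := ⟨0, d677,
  [.z, .Z10, .Z9, .Z7, .Z6, .Z4, .Z0, .X9, .X7, .X1, .X0, .y10, .y8, .y6, .y5, .y3, .y2, .hi, .p2, .hi, .p3, .hi, .p6,
   .hi, .p7, .hi, .p5, .hi, .xii, .p, .xii, .p7, .tau, .xii, .p, .xii, .y2, .hi, .xii, .y4, .y7, .tau, .X0, .xii, .y6,
   .p7, .xii, .p7, .y9, .xii, .y3, .y10, .tau, .xii, .y2, .p4, .xii, .y5, .p10, .xii, .y3, .taui, .xii, .p5, .xii,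
   .y8],
  [.z, .Z9, .Z4, .Z3, .Z2, .Z1, .Z0, .X9, .X6, .X3, .X2, .y10, .y9, .y8, .y4, .y3, .y1, .p8, .hi, .p8, .hi, .p4, .hi,
   .p, .hi, .p6, .hi, .p9, .xii, .y2, .p3, .hi, .tau, .y1, .xii, .p10, .xii, .y8, .p10, .xii, .y2, .y8, .taui, .p8,
   .xii, .y2, .p2, .hi, .xii, .p2, .taui, .xii, .p9, .xii, .y9, .p3, .xii, .y5, .taui, .xii, .y4, .hi, .p2],
  [.z, .Z8, .Z7, .Z6, .Z4, .Z3, .Z0, .X10, .X6, .X5, .X3, .X2, .X0, .y10, .y8, .y7, .y6, .y4, .y2, .y1, .hi, .p, .hi,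
   .p8, .hi, .p5, .hi, .p7, .hi, .p8, .hi, .xii, .y2, .p10, .xii, .y1, .y7, .taui, .xii, .y2, .p, .xii, .y3, .hi,
   .xii, .y6, .tau, .X0, .p9, .xii, .y6, .p10, .xii, .y10, .p3, .hi, .tau, .xii, .p5, .xii, .y5, .p2, .xii, .tau,
   .xii, .y6, .p5, .hi]⟩

theorem h677 : Hd F (g wAd) b677 := hdD (by decide +kernel)
theorem r677_0 : R9 F (g wAd) b677 [] 0 0 := .of (startD 0 1) (by decide +kernel)
theorem r677_1 : R9 F (g wAd) b677 [] 0 1 := .of (startD 0 1) (by decide +kernel)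
theorem r677_2 : R9 F (g wAd) b677 [] 0 2 := .of (startD 0 1) (by decide +kernel)
theorem r677_3 : R9 F (g wAd) b677 [] 1 0 := .of (startD 0 1) (by decide +kernel)
theorem r677_4 : R9 F (g wAd) b677 [] 1 1 := .of (startD 0 1) (by decide +kernel)
theorem r677_5 : R9 F (g wAd) b677 [] 1 2 := .of (startD 0 1) (by decide +kernel)
theorem r677_6 : R9 F (g wAd) b677 [] 2 0 := .of (startD 0 1) (by decide +kernel)
theorem r677_7 : R9 F (g wAd) b677 [] 2 1 := .of (startD 0 1) (by decide +kernel)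
theorem r677_8 : R9 F (g wAd) b677 [] 2 2 := .of (startD 0 1) (by decide +kernel)
theorem g677 : Gd F (g wAd) (0, d677) [] :=
  good9 ok h677 r677_0 r677_1 r677_2 r677_3 r677_4 r677_5 r677_6 r677_7 r677_8

def b678 : Wd := ⟨0, d678,
  [.z, .Z6, .Z4, .Z3, .X10, .X8, .X7, .X6, .X5, .X2, .X1, .y7, .y5, .y3, .y2, .y1, .hi, .p, .hi, .p5, .hi, .p7, .hi,
   .p5, .hi, .p10, .xii, .hi, .p8, .xii, .p2, .y10, .taui, .xii, .y6, .p, .xii, .p, .xii, .y3, .y8, .taui, .xii, .y6,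
   .p2, .xii, .p9, .xii, .y8, .y9, .tau, .xii, .p9, .xii, .y5, .y9, .p4, .taui, .xii, .p8],
  [.Z9, .Z6, .Z3, .Z2, .Z0, .X9, .X8, .X5, .X4, .X3, .X1, .y10, .y9, .y7, .y4, .y2, .y1, .p8, .hi, .p, .hi, .p3, .hi,
   .p7, .hi, .p10, .hi, .p5, .xii, .p5, .hi, .p5, .taui, .xii, .y1, .p, .xii, .p, .xii, .y7, .taui, .X0, .p4, .xii,
   .p, .xii, .hi, .p4, .y2, .taui, .xii, .p10, .xii, .y5, .p8, .xii, .tau],
  [.z, .Z10, .Z9, .Z7, .Z5, .Z2, .Z0, .X8, .X7, .X4, .X1, .X0, .y10, .y9, .y3, .y2, .y1, .p4, .hi, .p, .hi, .p6, .hi,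
   .p9, .hi, .p6, .xii, .p3, .hi, .xii, .y8, .tau, .xii, .y2, .p, .xii, .y3, .hi, .xii, .y7, .tau, .X0, .xii, .p2,
   .xii, .p7, .y9, .xii, .y5, .y10, .hi, .taui, .xii, .p9, .xii, .p3, .y2, .xii, .y2, .y8, .tau, .xii, .hi, .p]⟩

theorem h678 : Hd F (g wAd) b678 := hdD (by decide +kernel)
theorem r678_0 : R9 F (g wAd) b678 [] 0 0 := .of (startD 0 1) (by decide +kernel)
theorem r678_1 : R9 F (g wAd) b678 [] 0 1 := .of (startD 0 1) (by decide +kernel)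
theorem r678_2 : R9 F (g wAd) b678 [] 0 2 := .of (startD 0 1) (by decide +kernel)
theorem r678_3 : R9 F (g wAd) b678 [] 1 0 := .of (startD 0 1) (by decide +kernel)
theorem r678_4 : R9 F (g wAd) b678 [] 1 1 := .of (startD 0 1) (by decide +kernel)
theorem r678_5 : R9 F (g wAd) b678 [] 1 2 := .of (startD 0 1) (by decide +kernel)
theorem r678_6 : R9 F (g wAd) b678 [] 2 0 := .of (startD 0 1) (by decide +kernel)
theorem r678_7 : R9 F (g wAd) b678 [] 2 1 := .of (startD 0 1) (by decide +kernel)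
theorem r678_8 : R9 F (g wAd) b678 [] 2 2 := .of (startD 0 1) (by decide +kernel)
theorem g678 : Gd F (g wAd) (0, d678) [] :=
  good9 ok h678 r678_0 r678_1 r678_2 r678_3 r678_4 r678_5 r678_6 r678_7 r678_8

def b679 : Wd := ⟨0, d679,
  [.Z8, .Z6, .Z5, .Z4, .Z2, .Z0, .X10, .X9, .X8, .X7, .X6, .X4, .X2, .X1, .y6, .y5, .y4, .y3, .y1, .hi, .p9, .hi, .p8,
   .hi, .p, .hi, .xii, .y2, .hi, .xii, .p9, .xii, .y2, .y7, .tau, .xii, .y2, .p, .xii, .y4, .hi, .xii, .y2, .y7, .tau,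
   .p9, .xii, .y3, .p10, .xii, .y8, .tau, .xii, .p4, .xii, .p3, .y9, .hi, .p8, .taui, .xii, .y2, .p2],
  [.z, .Z10, .Z9, .Z8, .Z6, .Z5, .Z3, .Z2, .Z1, .Z0, .X9, .X8, .X7, .X6, .X5, .X4, .X3, .X1, .X0, .y9, .y8, .y3, .p5,
   .hi, .p9, .hi, .p4, .hi, .p3, .hi, .p10, .hi, .p6, .xii, .y2, .p, .xii, .y1, .y2, .tau, .xii, .y2, .p, .xii, .y1,
   .hi, .xii, .y5, .taui, .X0, .p10, .xii, .y8, .hi, .p5, .xii, .y1, .p2, .taui, .xii, .y2, .p5, .xii, .y1, .p2, .xii,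
   .taui],
  [.Z10, .Z9, .Z7, .Z6, .Z2, .Z0, .X8, .X7, .X3, .X2, .X0, .y10, .y9, .y8, .y7, .y6, .y4, .y3, .y1, .hi, .p8, .hi,
   .p3, .hi, .p7, .hi, .p10, .hi, .p9, .xii, .y2, .p, .xii, .p8, .xii, .y2, .y7, .taui, .xii, .p, .xii, .y4, .hi,
   .xii, .y4, .y6, .tau, .X0, .p10, .xii, .p5, .xii, .p2, .y7, .xii, .y10, .taui, .xii, .p6, .xii, .hi, .p4, .taui,
   .xii, .p3, .hi, .p8]⟩

theorem h679 : Hd F (g wAd) b679 := hdD (by decide +kernel)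
theorem r679_0 : R9 F (g wAd) b679 [] 0 0 := .of (startD 0 1) (by decide +kernel)
theorem r679_1 : R9 F (g wAd) b679 [] 0 1 := .of (startD 0 1) (by decide +kernel)
theorem r679_2 : R9 F (g wAd) b679 [] 0 2 := .of (startD 0 1) (by decide +kernel)
theorem r679_3 : R9 F (g wAd) b679 [] 1 0 := .of (startD 0 1) (by decide +kernel)
theorem r679_4 : R9 F (g wAd) b679 [] 1 1 := .of (startD 0 1) (by decide +kernel)
theorem r679_5 : R9 F (g wAd) b679 [] 1 2 := .of (startD 0 2) (by decide +kernel)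
theorem r679_6 : R9 F (g wAd) b679 [] 2 0 := .of (startD 0 1) (by decide +kernel)
theorem r679_7 : R9 F (g wAd) b679 [] 2 1 := .of (startD 0 1) (by decide +kernel)
theorem r679_8 : R9 F (g wAd) b679 [] 2 2 := .of (startD 0 1) (by decide +kernel)
theorem g679 : Gd F (g wAd) (0, d679) [] :=
  good9 ok h679 r679_0 r679_1 r679_2 r679_3 r679_4 r679_5 r679_6 r679_7 r679_8

theorem all : AllG F (g wAd) LD67 :=
  .cons g670 (.cons g671 (.cons g672 (.cons g673 (.cons g674 (.cons g675 (.cons g676 (.cons g677 (.cons g678 (.cons g679 (.nil))))))))))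

end Cfsg.Agent.BX.No33.Bk.D67
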