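import Cfsg.Agent.BX.No33.Cheap
set_option linter.all false

/-!
# Tests, diagonal case, part 68 (helper5; generated)
-/

set_option autoImplicit false
set_option maxRecDepth 100000
set_option Elab.async false

namespace Cfsg.Agent.BX.No33.Bk.D68

open Cfsg.Agent.H819.U33 Cfsg.Agent.BX.No33.Front

def b680 : Wd := ⟨0, d680,
  [.Z10, .Z9, .Z8, .Z7, .Z6, .Z5, .Z4, .X7, .X6, .X4, .X3, .X2, .X1, .X0, .y10, .y9, .y8, .y6, .y4, .y2, .p6, .hi, .p,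
   .hi, .p7, .hi, .p6, .hi, .p3, .hi, .p3, .hi, .xii, .p, .xii, .p, .xii, .y5, .tau, .xii, .p, .xii, .hi, .y8, .xii,
   .y3, .y10, .tau, .p5, .xii, .p7, .xii, .p5, .hi, .p8, .y3, .tau, .xii, .p9, .xii, .p5, .xii, .y6, .y10, .tau, .xii,
   .p5, .hi, .p2],
  [.z, .Z8, .Z6, .Z4, .Z3, .Z1, .Z0, .X10, .X8, .X5, .X3, .X2, .X1, .y10, .y7, .y6, .y2, .p7, .hi, .p7, .hi, .p8, .hi,
   .p4, .hi, .xii, .p10, .xii, .y10, .taui, .y1, .xii, .y1, .hi, .xii, .p10, .xii, .y1, .y6, .tau, .X0, .p8, .xii,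
   .p3, .xii, .y5, .p5, .hi, .p3, .tau, .xii, .p7, .xii, .y1, .p2, .tau, .xii, .y2, .hi],
  [.z, .Z6, .Z3, .Z1, .X10, .X8, .X7, .X6, .X4, .X3, .X0, .y10, .y6, .y5, .y4, .y3, .y1, .p9, .hi, .p5, .hi, .p9, .hi,
   .p10, .hi, .p6, .hi, .p7, .hi, .xii, .p10, .xii, .y1, .p6, .xii, .y7, .tau, .y1, .xii, .p10, .xii, .p10, .y7, .xii,
   .taui, .X0, .p10, .xii, .y4, .p9, .xii, .y9, .p10, .tau, .xii, .p5, .xii, .p7, .xii, .y2, .y9]⟩

theorem h680 : Hd F (g wAd) b680 := hdD (by decide +kernel)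
theorem r680_0 : R9 F (g wAd) b680 [] 0 0 := .of (startD 0 1) (by decide +kernel)
theorem r680_1 : R9 F (g wAd) b680 [] 0 1 := .of (startD 0 1) (by decide +kernel)
theorem r680_2 : R9 F (g wAd) b680 [] 0 2 := .of (startD 0 1) (by decide +kernel)
theorem r680_3 : R9 F (g wAd) b680 [] 1 0 := .of (startD 0 1) (by decide +kernel)
theorem r680_4 : R9 F (g wAd) b680 [] 1 1 := .of (startD 0 1) (by decide +kernel)
theorem r680_5 : R9 F (g wAd) b680 [] 1 2 := .of (startD 0 1) (by decide +kernel)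
theorem r680_6 : R9 F (g wAd) b680 [] 2 0 := .of (startD 0 1) (by decide +kernel)
theorem r680_7 : R9 F (g wAd) b680 [] 2 1 := .of (startD 0 1) (by decide +kernel)
theorem r680_8 : R9 F (g wAd) b680 [] 2 2 := .of (startD 0 1) (by decide +kernel)
theorem g680 : Gd F (g wAd) (0, d680) [] :=
  good9 ok h680 r680_0 r680_1 r680_2 r680_3 r680_4 r680_5 r680_6 r680_7 r680_8

def b681 : Wd := ⟨0, d681,
  [.z, .Z10, .Z9, .Z8, .Z7, .Z4, .Z3, .Z2, .Z0, .X7, .X5, .X0, .y10, .y8, .y6, .y5, .y4, .y3, .y2, .p9, .hi, .p5, .hi,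
   .p7, .hi, .p4, .hi, .p9, .xii, .y2, .p3, .hi, .xii, .y5, .p10, .taui, .xii, .p, .xii, .y2, .hi, .xii, .y7, .y10,
   .tau, .X0, .p7, .xii, .p4, .xii, .y4, .p2, .hi, .y7, .tau, .xii, .p4, .xii, .y3, .p6, .xii, .tau, .xii, .p4, .hi],
  [.Z6, .Z4, .Z3, .X10, .X8, .X5, .X4, .X3, .X2, .X1, .y10, .y9, .hi, .p6, .hi, .p9, .hi, .p4, .hi, .p3, .hi, .p, .hi,
   .xii, .p10, .xii, .y8, .p6, .xii, .y7, .taui, .y1, .xii, .p10, .xii, .y4, .p10, .xii, .y10, .tau, .X0, .p10, .xii,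
   .p10, .xii, .p10, .y9, .hi, .tau, .xii, .y2, .p4, .hi, .xii, .y6, .p3, .tau, .xii, .y2, .p8],
  [.Z9, .Z8, .Z7, .Z6, .Z3, .Z2, .Z1, .X10, .X8, .X7, .X6, .X1, .X0, .y9, .y8, .y5, .y4, .y2, .p8, .hi, .p6, .hi, .p9,
   .hi, .p10, .hi, .p10, .hi, .p5, .xii, .p, .xii, .p, .xii, .y7, .tau, .xii, .p, .xii, .y1, .y3, .p2, .hi, .tau, .X0,
   .p7, .xii, .p9, .xii, .y2, .p6, .y7, .taui, .xii, .p5, .xii, .y2, .p8, .y2, .tau, .xii, .p10, .hi, .p4]⟩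

theorem h681 : Hd F (g wAd) b681 := hdD (by decide +kernel)
theorem r681_0 : R9 F (g wAd) b681 [] 0 0 := .of (startD 0 1) (by decide +kernel)
theorem r681_1 : R9 F (g wAd) b681 [] 0 1 := .of (startD 0 1) (by decide +kernel)
theorem r681_2 : R9 F (g wAd) b681 [] 0 2 := .of (startD 0 1) (by decide +kernel)
theorem r681_3 : R9 F (g wAd) b681 [] 1 0 := .of (startD 0 1) (by decide +kernel)
theorem r681_4 : R9 F (g wAd) b681 [] 1 1 := .of (startD 0 1) (by decide +kernel)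
theorem r681_5 : R9 F (g wAd) b681 [] 1 2 := .of (startD 0 1) (by decide +kernel)
theorem r681_6 : R9 F (g wAd) b681 [] 2 0 := .of (startD 0 1) (by decide +kernel)
theorem r681_7 : R9 F (g wAd) b681 [] 2 1 := .of (startD 0 1) (by decide +kernel)
theorem r681_8 : R9 F (g wAd) b681 [] 2 2 := .of (startD 0 1) (by decide +kernel)
theorem g681 : Gd F (g wAd) (0, d681) [] :=
  good9 ok h681 r681_0 r681_1 r681_2 r681_3 r681_4 r681_5 r681_6 r681_7 r681_8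

def b682 : Wd := ⟨0, d682,
  [.Z10, .Z7, .Z4, .Z2, .Z1, .X10, .X9, .X4, .X3, .X2, .y10, .y9, .y8, .y6, .y4, .y3, .p10, .hi, .p9, .hi, .p9, .hi,
   .p4, .hi, .p, .hi, .p8, .xii, .y2, .tau, .y1, .xii, .y6, .p10, .xii, .y8, .p10, .xii, .y2, .taui, .xii, .hi, .xii,
   .y5, .p10, .xii, .y8, .y10, .tau, .xii, .p7, .xii, .y1, .y5, .p, .hi, .p6, .tau, .xii, .y2, .p, .hi],
  [.z, .Z5, .Z1, .X10, .X8, .X6, .X5, .X3, .X0, .y8, .y7, .y6, .y3, .p4, .hi, .p4, .hi, .p3, .hi, .p8, .hi, .xii,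
   .p10, .xii, .p2, .y1, .xii, .y5, .taui, .xii, .y6, .p, .xii, .y3, .tau, .X0, .p4, .xii, .y6, .p9, .xii, .y4, .p2,
   .tau, .xii, .p4, .xii, .p2, .hi, .y9, .p, .taui, .xii, .y2, .p],
  [.z, .Z10, .Z7, .Z5, .Z4, .X10, .X9, .X8, .X5, .X3, .X2, .X1, .X0, .y7, .y6, .y5, .y4, .y2, .y1, .p6, .hi, .p10,
   .hi, .p4, .hi, .p5, .hi, .p9, .hi, .xii, .hi, .xii, .p8, .y2, .taui, .xii, .p, .xii, .y3, .hi, .xii, .y5, .y10,
   .taui, .p4, .xii, .p7, .xii, .y1, .y8, .hi, .p2, .tau, .xii, .p9, .xii, .p2, .y7, .hi, .taui, .xii, .y2, .p4, .hi,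
   .p]⟩

theorem h682 : Hd F (g wAd) b682 := hdD (by decide +kernel)
theorem r682_0 : R9 F (g wAd) b682 [] 0 0 := .of (startD 0 1) (by decide +kernel)
theorem r682_1 : R9 F (g wAd) b682 [] 0 1 := .of (startD 0 1) (by decide +kernel)
theorem r682_2 : R9 F (g wAd) b682 [] 0 2 := .of (startD 0 1) (by decide +kernel)
theorem r682_3 : R9 F (g wAd) b682 [] 1 0 := .of (startD 0 1) (by decide +kernel)
theorem r682_4 : R9 F (g wAd) b682 [] 1 1 := .of (startD 0 1) (by decide +kernel)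
theorem r682_5 : R9 F (g wAd) b682 [] 1 2 := .of (startD 0 1) (by decide +kernel)
theorem r682_6 : R9 F (g wAd) b682 [] 2 0 := .of (startD 0 1) (by decide +kernel)
theorem r682_7 : R9 F (g wAd) b682 [] 2 1 := .of (startD 0 1) (by decide +kernel)
theorem r682_8 : R9 F (g wAd) b682 [] 2 2 := .of (startD 0 1) (by decide +kernel)
theorem g682 : Gd F (g wAd) (0, d682) [] :=
  good9 ok h682 r682_0 r682_1 r682_2 r682_3 r682_4 r682_5 r682_6 r682_7 r682_8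

def b683 : Wd := ⟨0, d683,
  [.z, .Z9, .Z7, .Z6, .Z5, .Z3, .X10, .X8, .X6, .X4, .X3, .y8, .y6, .y5, .y4, .y3, .y1, .p4, .hi, .p9, .hi, .p9, .hi,
   .p9, .hi, .p6, .hi, .p4, .xii, .p, .xii, .y1, .hi, .xii, .y5, .tau, .xii, .p, .xii, .y3, .hi, .xii, .y4, .y7,
   .taui, .X0, .p5, .xii, .p, .xii, .y10, .p2, .tau, .xii, .p8, .xii, .p6, .hi, .y7, .tau, .xii, .p2],
  [.z, .Z10, .Z9, .Z8, .Z7, .Z6, .Z0, .X10, .X5, .X0, .y7, .y6, .y4, .y2, .hi, .p, .hi, .p6, .hi, .p3, .hi, .p10, .hi,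
   .p, .hi, .xii, .y2, .p10, .hi, .p, .tau, .xii, .y6, .hi, .p8, .xii, .y2, .p10, .taui, .X0, .p7, .xii, .p9, .xii,
   .y4, .p9, .taui, .xii, .p9, .xii, .p5, .y4, .tau, .xii, .p3],
  [.z, .Z9, .Z8, .Z5, .Z3, .Z0, .X10, .X9, .X8, .X7, .X6, .X5, .X4, .y10, .y8, .y5, .y1, .hi, .p8, .hi, .p5, .hi, .p3,
   .hi, .p6, .hi, .p5, .xii, .hi, .xii, .p8, .y2, .xii, .y4, .taui, .xii, .y6, .p, .xii, .p, .xii, .y4, .y7, .taui,
   .xii, .p7, .xii, .p5, .y3, .xii, .p7, .y10, .tau, .xii, .y2, .p7, .xii, .y2, .p9, .xii, .y5, .tau, .xii, .y2, .p6]⟩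

theorem h683 : Hd F (g wAd) b683 := hdD (by decide +kernel)
theorem r683_0 : R9 F (g wAd) b683 [] 0 0 := .of (startD 0 1) (by decide +kernel)
theorem r683_1 : R9 F (g wAd) b683 [] 0 1 := .of (startD 0 1) (by decide +kernel)
theorem r683_2 : R9 F (g wAd) b683 [] 0 2 := .of (startD 0 1) (by decide +kernel)
theorem r683_3 : R9 F (g wAd) b683 [] 1 0 := .of (startD 0 1) (by decide +kernel)
theorem r683_4 : R9 F (g wAd) b683 [] 1 1 := .of (startD 0 2) (by decide +kernel)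
theorem r683_5 : R9 F (g wAd) b683 [] 1 2 := .of (startD 0 1) (by decide +kernel)
theorem r683_6 : R9 F (g wAd) b683 [] 2 0 := .of (startD 0 1) (by decide +kernel)
theorem r683_7 : R9 F (g wAd) b683 [] 2 1 := .of (startD 0 1) (by decide +kernel)
theorem r683_8 : R9 F (g wAd) b683 [] 2 2 := .of (startD 0 1) (by decide +kernel)
theorem g683 : Gd F (g wAd) (0, d683) [] :=
  good9 ok h683 r683_0 r683_1 r683_2 r683_3 r683_4 r683_5 r683_6 r683_7 r683_8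

def b684 : Wd := ⟨0, d684,
  [.Z10, .Z9, .Z8, .Z7, .Z5, .Z4, .Z1, .X9, .X7, .X6, .X5, .X3, .X2, .X0, .y10, .y2, .y1, .hi, .p5, .hi, .p6, .hi,
   .p7, .hi, .p5, .xii, .p, .xii, .y1, .y2, .taui, .xii, .p, .xii, .y4, .hi, .xii, .y4, .y6, .taui, .p8, .xii, .y2,
   .p4, .xii, .y6, .p3, .hi, .p, .taui, .xii, .y2, .p4, .xii, .y1, .p3, .hi, .p10, .taui, .xii, .p10, .hi, .p9],
  [.Z10, .Z9, .Z7, .Z5, .Z3, .Z2, .Z0, .X10, .X6, .X4, .X3, .X0, .y9, .y8, .y5, .y2, .y1, .p10, .hi, .p2, .hi, .p10,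
   .hi, .p2, .hi, .p8, .hi, .p8, .hi, .xii, .p10, .xii, .p9, .xii, .y4, .y6, .taui, .xii, .hi, .p8, .xii, .y1, .y7,
   .tau, .X0, .p10, .xii, .p5, .xii, .p8, .y3, .y10, .taui, .xii, .p4, .xii, .y3, .p5, .xii, .y4, .y5, .taui],
  [.z, .Z9, .Z7, .Z6, .Z1, .Z0, .X10, .X7, .X4, .X3, .X1, .X0, .y6, .y3, .p6, .hi, .p4, .hi, .p, .hi, .p5, .hi, .p10,
   .hi, .p7, .hi, .taui, .y1, .xii, .p10, .xii, .p10, .y7, .xii, .y10, .taui, .xii, .p, .xii, .y4, .hi, .xii, .y1,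
   .y2, .y4, .taui, .X0, .p6, .xii, .p2, .xii, .y1, .tau, .xii, .p4, .xii, .y1, .y6, .p8, .xii, .y6, .tau, .xii, .y4,
   .hi, .p5]⟩

theorem h684 : Hd F (g wAd) b684 := hdD (by decide +kernel)
theorem r684_0 : R9 F (g wAd) b684 [] 0 0 := .of (startD 0 1) (by decide +kernel)
theorem r684_1 : R9 F (g wAd) b684 [] 0 1 := .of (startD 0 1) (by decide +kernel)
theorem r684_2 : R9 F (g wAd) b684 [] 0 2 := .of (startD 0 1) (by decide +kernel)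
theorem r684_3 : R9 F (g wAd) b684 [] 1 0 := .of (startD 0 1) (by decide +kernel)
theorem r684_4 : R9 F (g wAd) b684 [] 1 1 := .of (startD 0 2) (by decide +kernel)
theorem r684_5 : R9 F (g wAd) b684 [] 1 2 := .of (startD 0 1) (by decide +kernel)
theorem r684_6 : R9 F (g wAd) b684 [] 2 0 := .of (startD 0 1) (by decide +kernel)
theorem r684_7 : R9 F (g wAd) b684 [] 2 1 := .of (startD 0 1) (by decide +kernel)
theorem r684_8 : R9 F (g wAd) b684 [] 2 2 := .of (startD 0 1) (by decide +kernel)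
theorem g684 : Gd F (g wAd) (0, d684) [] :=
  good9 ok h684 r684_0 r684_1 r684_2 r684_3 r684_4 r684_5 r684_6 r684_7 r684_8

def b685 : Wd := ⟨0, d685,
  [.Z6, .Z2, .X8, .y10, .y7, .y4, .y3, .y1, .p4, .hi, .p4, .hi, .p5, .hi, .p, .hi, .p, .hi, .p4, .hi, .xii, .y2, .p,
   .xii, .p4, .hi, .p5, .taui, .y1, .xii, .y2, .hi, .xii, .p10, .xii, .y4, .taui, .xii, .y6, .p, .xii, .p, .xii, .y3,
   .y9, .tau, .X0, .y1, .p4, .xii, .p8, .xii, .y4, .taui, .xii, .p7, .xii, .p8, .y8, .y9, .xii, .taui, .xii, .y2, .p3],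
  [.Z10, .Z7, .Z5, .Z4, .X7, .X6, .X5, .X4, .X3, .X2, .y10, .y9, .y8, .y1, .p8, .hi, .p5, .hi, .p3, .hi, .p7, .hi,
   .p10, .hi, .p10, .hi, .xii, .y2, .p, .xii, .p9, .xii, .y2, .tau, .y1, .xii, .y1, .hi, .xii, .p10, .xii, .y8, .y10,
   .taui, .p10, .xii, .y4, .p5, .xii, .p3, .taui, .xii, .y2, .hi, .xii, .p10, .xii, .y3, .y9, .tau],
  [.Z10, .Z8, .Z7, .Z6, .Z2, .Z1, .Z0, .X9, .X5, .X4, .X2, .y9, .y8, .y6, .y5, .y3, .y2, .y1, .p6, .hi, .p8, .hi, .p8,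
   .hi, .p10, .hi, .p2, .hi, .p, .xii, .y2, .hi, .xii, .p9, .xii, .y1, .y2, .tau, .xii, .p, .xii, .y1, .hi, .xii, .y1,
   .y4, .taui, .y1, .hi, .xii, .p6, .xii, .y4, .hi, .tau, .xii, .p6, .xii, .y7, .p6, .xii, .y4, .tau, .xii, .p2]⟩

theorem h685 : Hd F (g wAd) b685 := hdD (by decide +kernel)
theorem r685_0 : R9 F (g wAd) b685 [] 0 0 := .of (startD 0 1) (by decide +kernel)
theorem r685_1 : R9 F (g wAd) b685 [] 0 1 := .of (startD 0 1) (by decide +kernel)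
theorem r685_2 : R9 F (g wAd) b685 [] 0 2 := .of (startD 0 2) (by decide +kernel)
theorem r685_3 : R9 F (g wAd) b685 [] 1 0 := .of (startD 0 1) (by decide +kernel)
theorem r685_4 : R9 F (g wAd) b685 [] 1 1 := .of (startD 0 1) (by decide +kernel)
theorem r685_5 : R9 F (g wAd) b685 [] 1 2 := .of (startD 0 1) (by decide +kernel)
theorem r685_6 : R9 F (g wAd) b685 [] 2 0 := .of (startD 0 1) (by decide +kernel)
theorem r685_7 : R9 F (g wAd) b685 [] 2 1 := .of (startD 0 1) (by decide +kernel)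
theorem r685_8 : R9 F (g wAd) b685 [] 2 2 := .of (startD 0 1) (by decide +kernel)
theorem g685 : Gd F (g wAd) (0, d685) [] :=
  good9 ok h685 r685_0 r685_1 r685_2 r685_3 r685_4 r685_5 r685_6 r685_7 r685_8

def b686 : Wd := ⟨0, d686,
  [.Z9, .Z8, .Z7, .Z3, .Z2, .Z0, .X8, .X4, .X3, .X2, .X1, .y8, .y7, .y6, .y4, .p4, .hi, .p, .hi, .p5, .hi, .p10, .hi,
   .p7, .hi, .p3, .tau, .xii, .p, .xii, .hi, .y8, .xii, .y7, .taui, .xii, .p, .xii, .y4, .y10, .hi, .xii, .y5, .y10,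
   .taui, .X0, .p9, .xii, .p, .xii, .y8, .y10, .taui, .xii, .p9, .xii, .y1, .hi, .p2, .hi, .tau, .xii, .p5, .hi, .p9],
  [.Z9, .Z8, .Z7, .Z5, .Z3, .X10, .X9, .X4, .X3, .X2, .X1, .y10, .y8, .y5, .y3, .p7, .hi, .p7, .hi, .p3, .hi, .xii,
   .y2, .p3, .hi, .xii, .y2, .tau, .xii, .p, .xii, .y2, .hi, .xii, .y3, .tau, .p8, .xii, .hi, .xii, .y9, .p5, .hi,
   .p4, .tau, .xii, .y2, .p8, .xii, .p10, .y10, .tau, .xii, .p],
  [.z, .Z9, .Z8, .Z6, .Z5, .Z4, .Z3, .Z0, .X9, .X6, .y8, .y5, .y3, .y2, .p6, .hi, .p7, .hi, .p8, .hi, .p7, .hi, .p5,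
   .hi, .p, .hi, .xii, .p10, .xii, .y4, .p8, .xii, .y4, .taui, .xii, .y6, .p, .xii, .y10, .p, .xii, .y1, .y2, .taui,
   .xii, .p7, .xii, .p5, .y1, .y3, .xii, .y8, .tau, .xii, .p9, .xii, .p2, .hi, .y9, .p7, .tau, .xii, .y2, .p7]⟩

theorem h686 : Hd F (g wAd) b686 := hdD (by decide +kernel)
theorem r686_0 : R9 F (g wAd) b686 [] 0 0 := .of (startD 0 1) (by decide +kernel)
theorem r686_1 : R9 F (g wAd) b686 [] 0 1 := .of (startD 0 1) (by decide +kernel)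
theorem r686_2 : R9 F (g wAd) b686 [] 0 2 := .of (startD 0 1) (by decide +kernel)
theorem r686_3 : R9 F (g wAd) b686 [] 1 0 := .of (startD 0 1) (by decide +kernel)
theorem r686_4 : R9 F (g wAd) b686 [] 1 1 := .of (startD 0 1) (by decide +kernel)
theorem r686_5 : R9 F (g wAd) b686 [] 1 2 := .of (startD 0 1) (by decide +kernel)
theorem r686_6 : R9 F (g wAd) b686 [] 2 0 := .of (startD 0 1) (by decide +kernel)
theorem r686_7 : R9 F (g wAd) b686 [] 2 1 := .of (startD 0 1) (by decide +kernel)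
theorem r686_8 : R9 F (g wAd) b686 [] 2 2 := .of (startD 0 1) (by decide +kernel)
theorem g686 : Gd F (g wAd) (0, d686) [] :=
  good9 ok h686 r686_0 r686_1 r686_2 r686_3 r686_4 r686_5 r686_6 r686_7 r686_8

def b687 : Wd := ⟨0, d687,
  [.Z10, .Z9, .Z8, .Z0, .X10, .X8, .X3, .X2, .y5, .y4, .y2, .y1, .p6, .hi, .p8, .hi, .p10, .hi, .p3, .hi, .p7, .hi,
   .p8, .hi, .xii, .p10, .xii, .p9, .y6, .xii, .y7, .taui, .xii, .p, .xii, .y2, .y10, .hi, .xii, .y5, .tau, .p4, .xii,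
   .y1, .p4, .xii, .y8, .y10, .hi, .tau, .xii, .y2, .p5, .xii, .p2, .xii, .y8, .y9, .tau, .xii, .p4, .xii, .y8],
  [.z, .Z7, .Z5, .Z3, .X8, .X6, .X5, .X1, .X0, .y10, .y9, .y4, .p9, .hi, .p8, .hi, .p10, .hi, .p, .hi, .p2, .xii,
   .p10, .xii, .p8, .y7, .tau, .xii, .p, .xii, .y2, .y10, .hi, .xii, .y4, .y7, .taui, .X0, .y1, .p2, .xii, .p7, .xii,
   .p3, .y8, .tau, .xii, .p4, .xii, .y10, .p3, .y2, .taui, .xii, .hi, .p8],
  [.Z9, .Z5, .Z3, .Z2, .Z1, .Z0, .X8, .X7, .X6, .X5, .X2, .X0, .y10, .y8, .y7, .y4, .y2, .p6, .hi, .p10, .hi, .p5,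
   .hi, .p7, .hi, .p, .hi, .p, .xii, .p, .xii, .y3, .y10, .tau, .xii, .p6, .xii, .y6, .hi, .xii, .p, .taui, .xii, .p8,
   .xii, .y7, .p4, .xii, .p7, .y5, .tau, .xii, .p7, .xii, .y2, .y7, .p5, .xii, .taui, .xii, .hi, .p2]⟩

theorem h687 : Hd F (g wAd) b687 := hdD (by decide +kernel)
theorem r687_0 : R9 F (g wAd) b687 [] 0 0 := .of (startD 0 1) (by decide +kernel)
theorem r687_1 : R9 F (g wAd) b687 [] 0 1 := .of (startD 0 1) (by decide +kernel)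
theorem r687_2 : R9 F (g wAd) b687 [] 0 2 := .of (startD 0 1) (by decide +kernel)
theorem r687_3 : R9 F (g wAd) b687 [] 1 0 := .of (startD 0 2) (by decide +kernel)
theorem r687_4 : R9 F (g wAd) b687 [] 1 1 := .of (startD 0 2) (by decide +kernel)
theorem r687_5 : R9 F (g wAd) b687 [] 1 2 := .of (startD 0 1) (by decide +kernel)
theorem r687_6 : R9 F (g wAd) b687 [] 2 0 := .of (startD 0 1) (by decide +kernel)
theorem r687_7 : R9 F (g wAd) b687 [] 2 1 := .of (startD 0 1) (by decide +kernel)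
theorem r687_8 : R9 F (g wAd) b687 [] 2 2 := .of (startD 0 1) (by decide +kernel)
theorem g687 : Gd F (g wAd) (0, d687) [] :=
  good9 ok h687 r687_0 r687_1 r687_2 r687_3 r687_4 r687_5 r687_6 r687_7 r687_8

def b688 : Wd := ⟨0, d688,
  [.Z9, .Z8, .Z5, .Z1, .Z0, .X10, .X8, .X1, .y10, .y9, .y7, .y6, .y3, .y1, .p10, .hi, .p, .hi, .p6, .hi, .p5, .hi, .p,
   .hi, .p5, .xii, .y2, .p, .xii, .p5, .xii, .y4, .y7, .taui, .y1, .xii, .p10, .xii, .y8, .p10, .xii, .taui, .X0, .p8,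
   .xii, .p2, .y8, .hi, .xii, .y2, .p2, .tau, .xii, .p8, .xii, .y4, .p5, .hi, .p3, .tau, .xii, .y2, .hi, .p10],
  [.z, .Z10, .Z9, .Z8, .Z6, .Z5, .Z4, .Z3, .Z2, .Z1, .Z0, .X4, .X2, .y10, .y9, .y7, .y3, .y2, .p8, .hi, .p9, .hi, .p6,
   .hi, .p10, .xii, .p3, .hi, .tau, .y1, .xii, .p10, .xii, .y4, .p10, .xii, .taui, .xii, .p8, .xii, .y5, .y9, .p4,
   .xii, .y5, .y8, .y10, .taui, .xii, .p7, .xii, .y5, .p5, .xii, .y2, .taui, .xii, .hi, .xii, .y7],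
  [.Z7, .Z6, .Z2, .Z1, .Z0, .X10, .X9, .X5, .X3, .X0, .y8, .y7, .y6, .y1, .p5, .hi, .p5, .hi, .p7, .hi, .p4, .hi, .p6,
   .xii, .p, .xii, .y10, .p, .xii, .y3, .y10, .tau, .y1, .xii, .y1, .hi, .xii, .p10, .xii, .y9, .y10, .tau, .p4, .xii,
   .y2, .p4, .xii, .y1, .p2, .hi, .p3, .tau, .xii, .p2, .xii, .y5, .p2, .xii, .taui, .xii, .p10]⟩

theorem h688 : Hd F (g wAd) b688 := hdD (by decide +kernel)
theorem r688_0 : R9 F (g wAd) b688 [] 0 0 := .of (startD 0 1) (by decide +kernel)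
theorem r688_1 : R9 F (g wAd) b688 [] 0 1 := .of (startD 0 1) (by decide +kernel)
theorem r688_2 : R9 F (g wAd) b688 [] 0 2 := .of (startD 0 1) (by decide +kernel)
theorem r688_3 : R9 F (g wAd) b688 [] 1 0 := .of (startD 0 2) (by decide +kernel)
theorem r688_4 : R9 F (g wAd) b688 [] 1 1 := .of (startD 0 1) (by decide +kernel)
theorem r688_5 : R9 F (g wAd) b688 [] 1 2 := .of (startD 0 1) (by decide +kernel)
theorem r688_6 : R9 F (g wAd) b688 [] 2 0 := .of (startD 0 1) (by decide +kernel)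
theorem r688_7 : R9 F (g wAd) b688 [] 2 1 := .of (startD 0 1) (by decide +kernel)
theorem r688_8 : R9 F (g wAd) b688 [] 2 2 := .of (startD 0 1) (by decide +kernel)
theorem g688 : Gd F (g wAd) (0, d688) [] :=
  good9 ok h688 r688_0 r688_1 r688_2 r688_3 r688_4 r688_5 r688_6 r688_7 r688_8

def b689 : Wd := ⟨0, d689,
  [.Z8, .Z6, .Z5, .Z2, .Z1, .Z0, .X9, .X7, .X1, .y7, .y5, .y3, .y2, .hi, .p10, .hi, .p9, .hi, .p7, .hi, .p6, .hi, .p,
   .hi, .p4, .xii, .y2, .p, .xii, .p9, .xii, .y10, .taui, .xii, .p, .xii, .y1, .hi, .xii, .y1, .y10, .taui, .X0, .p5,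
   .xii, .y5, .p7, .xii, .p4, .taui, .xii, .p7, .xii, .y10, .p5, .y1, .xii, .y8, .tau, .xii, .p4, .xii, .y8],
  [.Z10, .Z8, .Z5, .Z4, .Z3, .Z2, .Z0, .X9, .X7, .X6, .X0, .y10, .y8, .y5, .y4, .p9, .hi, .p, .hi, .p8, .hi, .p9, .hi,
   .p3, .hi, .p7, .xii, .y2, .hi, .p8, .hi, .p2, .taui, .X0, .p9, .xii, .y6, .p2, .xii, .y6, .p6, .xii, .y6, .tau,
   .xii, .p5, .xii, .y5, .p5, .xii, .y5, .taui, .xii, .p3, .xii, .y2],
  [.z, .Z10, .Z7, .Z5, .X10, .X8, .X6, .X5, .X4, .X1, .y10, .y9, .y8, .y2, .p10, .hi, .p8, .hi, .p3, .hi, .p6, .hi,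
   .p, .hi, .p4, .hi, .p, .hi, .xii, .p10, .xii, .y9, .p6, .xii, .y4, .y7, .tau, .xii, .y6, .p, .xii, .p, .xii, .y5,
   .taui, .xii, .hi, .xii, .p9, .xii, .y10, .p8, .y4, .tau, .xii, .y2, .p5, .xii, .p2, .y10, .xii, .y5, .tau, .xii,
   .y2, .p10]⟩

theorem h689 : Hd F (g wAd) b689 := hdD (by decide +kernel)
theorem r689_0 : R9 F (g wAd) b689 [] 0 0 := .of (startD 0 1) (by decide +kernel)
theorem r689_1 : R9 F (g wAd) b689 [] 0 1 := .of (startD 0 1) (by decide +kernel)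
theorem r689_2 : R9 F (g wAd) b689 [] 0 2 := .of (startD 0 1) (by decide +kernel)
theorem r689_3 : R9 F (g wAd) b689 [] 1 0 := .of (startD 0 1) (by decide +kernel)
theorem r689_4 : R9 F (g wAd) b689 [] 1 1 := .of (startD 0 1) (by decide +kernel)
theorem r689_5 : R9 F (g wAd) b689 [] 1 2 := .of (startD 0 1) (by decide +kernel)
theorem r689_6 : R9 F (g wAd) b689 [] 2 0 := .of (startD 0 1) (by decide +kernel)
theorem r689_7 : R9 F (g wAd) b689 [] 2 1 := .of (startD 0 1) (by decide +kernel)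
theorem r689_8 : R9 F (g wAd) b689 [] 2 2 := .of (startD 0 1) (by decide +kernel)
theorem g689 : Gd F (g wAd) (0, d689) [] :=
  good9 ok h689 r689_0 r689_1 r689_2 r689_3 r689_4 r689_5 r689_6 r689_7 r689_8

theorem all : AllG F (g wAd) LD68 :=
  .cons g680 (.cons g681 (.cons g682 (.cons g683 (.cons g684 (.cons g685 (.cons g686 (.cons g687 (.cons g688 (.cons g689 (.nil))))))))))

end Cfsg.Agent.BX.No33.Bk.D68
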