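import Cfsg.Agent.BX.No33.Cheap
set_option linter.all false

/-!
# Tests, diagonal case, part 69 (helper5; generated)
-/

set_option autoImplicit false
set_option maxRecDepth 100000
set_option Elab.async false

namespace Cfsg.Agent.BX.No33.Bk.D69

open Cfsg.Agent.H819.U33 Cfsg.Agent.BX.No33.Front

def b690 : Wd := ⟨0, d690,
  [.Z10, .Z8, .Z7, .Z4, .Z3, .Z2, .X8, .X7, .X2, .X0, .y10, .y9, .y8, .y6, .y3, .p7, .hi, .p3, .hi, .p6, .hi, .p, .hi,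
   .p5, .hi, .p4, .xii, .p, .hi, .xii, .p5, .hi, .y8, .p5, .taui, .X0, .xii, .p3, .xii, .hi, .xii, .hi, .y8, .taui,
   .X0, .xii, .p3, .xii, .p2, .y5, .xii, .p8, .taui, .xii, .p9, .xii, .p3, .y4, .xii, .y6, .taui, .xii, .p3, .xii,
   .y6],
  [.z, .Z9, .Z8, .Z7, .Z6, .Z5, .Z4, .Z2, .X10, .X9, .X6, .X5, .X4, .X3, .X0, .y9, .y8, .y7, .y6, .y5, .y3, .y2, .p4,
   .hi, .p6, .hi, .p5, .hi, .p4, .hi, .p6, .xii, .p, .xii, .y10, .hi, .p10, .tau, .xii, .p3, .hi, .xii, .y8, .tau,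
   .X0, .p10, .xii, .p9, .xii, .y3, .y7, .hi, .p7, .taui, .xii, .p9, .xii, .p3, .hi, .tau, .xii, .p3, .hi, .p10],
  [.Z10, .Z9, .Z8, .Z4, .X9, .X6, .X5, .X4, .X2, .X0, .y10, .y9, .y8, .y7, .y6, .y5, .y4, .y2, .p10, .hi, .p4, .hi,
   .p10, .hi, .p7, .hi, .p6, .hi, .p2, .xii, .p, .xii, .y3, .p7, .xii, .y2, .taui, .xii, .y1, .p, .xii, .y4, .y10, .p,
   .xii, .y6, .taui, .X0, .p2, .xii, .y6, .p4, .xii, .y1, .p3, .hi, .p6, .tau, .xii, .p10, .xii, .p10, .y8, .xii, .y8,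
   .taui]⟩

theorem h690 : Hd F (g wAd) b690 := hdD (by decide +kernel)
theorem r690_0 : R9 F (g wAd) b690 [] 0 0 := .of (startD 0 1) (by decide +kernel)
theorem r690_1 : R9 F (g wAd) b690 [] 0 1 := .of (startD 0 1) (by decide +kernel)
theorem r690_2 : R9 F (g wAd) b690 [] 0 2 := .of (startD 0 1) (by decide +kernel)
theorem r690_3 : R9 F (g wAd) b690 [] 1 0 := .of (startD 0 1) (by decide +kernel)
theorem r690_4 : R9 F (g wAd) b690 [] 1 1 := .of (startD 0 1) (by decide +kernel)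
theorem r690_5 : R9 F (g wAd) b690 [] 1 2 := .of (startD 0 1) (by decide +kernel)
theorem r690_6 : R9 F (g wAd) b690 [] 2 0 := .of (startD 0 1) (by decide +kernel)
theorem r690_7 : R9 F (g wAd) b690 [] 2 1 := .of (startD 0 1) (by decide +kernel)
theorem r690_8 : R9 F (g wAd) b690 [] 2 2 := .of (startD 0 1) (by decide +kernel)
theorem g690 : Gd F (g wAd) (0, d690) [] :=
  good9 ok h690 r690_0 r690_1 r690_2 r690_3 r690_4 r690_5 r690_6 r690_7 r690_8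

def b691 : Wd := ⟨0, d691,
  [.Z7, .Z6, .Z4, .Z3, .Z2, .Z1, .Z0, .X10, .X9, .X3, .X1, .y10, .y5, .y4, .y2, .hi, .p2, .hi, .p3, .hi, .p6, .hi,
   .p7, .hi, .p4, .hi, .p, .xii, .y2, .p10, .taui, .xii, .p, .xii, .y2, .hi, .xii, .y4, .y5, .tau, .xii, .p, .xii,
   .y2, .hi, .xii, .y2, .y7, .taui, .p5, .xii, .y3, .p7, .xii, .taui, .xii, .p5, .xii, .y4, .p9, .xii, .y1, .y3,
   .taui, .xii, .p5, .hi, .p10],
  [.z, .Z7, .Z6, .Z4, .Z2, .Z1, .X10, .X5, .X4, .X3, .X2, .X1, .y8, .y6, .y5, .y3, .hi, .p3, .hi, .p8, .hi, .p7, .hi,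
   .p5, .hi, .p5, .xii, .p, .xii, .hi, .p4, .y9, .taui, .xii, .y1, .p, .xii, .p, .xii, .y1, .y4, .tau, .xii, .y1, .p4,
   .xii, .p5, .xii, .y2, .taui, .xii, .p7, .xii, .y1, .y4, .p, .tau, .xii, .p],
  [.z, .Z9, .Z8, .Z4, .Z2, .Z1, .X9, .X8, .X6, .X5, .X2, .X1, .X0, .y10, .y9, .y8, .y7, .y5, .y4, .y1, .hi, .p7, .hi,
   .p7, .hi, .p, .hi, .p3, .hi, .p2, .xii, .p, .xii, .y2, .p, .xii, .y6, .tau, .y1, .xii, .p10, .xii, .y2, .p10, .xii,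
   .y8, .taui, .X0, .xii, .p9, .xii, .y1, .y7, .hi, .xii, .taui, .xii, .p9, .xii, .hi, .xii, .y2, .y8, .taui, .xii,
   .p6, .xii]⟩

theorem h691 : Hd F (g wAd) b691 := hdD (by decide +kernel)
theorem r691_0 : R9 F (g wAd) b691 [] 0 0 := .of (startD 0 1) (by decide +kernel)
theorem r691_1 : R9 F (g wAd) b691 [] 0 1 := .of (startD 0 1) (by decide +kernel)
theorem r691_2 : R9 F (g wAd) b691 [] 0 2 := .of (startD 0 1) (by decide +kernel)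
theorem r691_3 : R9 F (g wAd) b691 [] 1 0 := .of (startD 0 1) (by decide +kernel)
theorem r691_4 : R9 F (g wAd) b691 [] 1 1 := .of (startD 0 1) (by decide +kernel)
theorem r691_5 : R9 F (g wAd) b691 [] 1 2 := .of (startD 0 1) (by decide +kernel)
theorem r691_6 : R9 F (g wAd) b691 [] 2 0 := .of (startD 0 1) (by decide +kernel)
theorem r691_7 : R9 F (g wAd) b691 [] 2 1 := .of (startD 0 1) (by decide +kernel)
theorem r691_8 : R9 F (g wAd) b691 [] 2 2 := .of (startD 0 1) (by decide +kernel)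
theorem g691 : Gd F (g wAd) (0, d691) [] :=
  good9 ok h691 r691_0 r691_1 r691_2 r691_3 r691_4 r691_5 r691_6 r691_7 r691_8

def b692 : Wd := ⟨0, d692,
  [.Z7, .Z6, .Z4, .Z3, .Z1, .Z0, .X10, .X8, .X4, .X2, .y7, .y6, .y5, .y4, .y1, .hi, .p6, .hi, .p4, .hi, .p8, .hi, .p,
   .hi, .p6, .xii, .p3, .hi, .xii, .y8, .y9, .tau, .xii, .y2, .p, .xii, .y1, .hi, .xii, .y3, .y10, .tau, .X0, .p4,
   .xii, .p8, .xii, .y8, .p5, .y5, .hi, .p6, .taui, .xii, .p4, .xii, .y3, .p, .hi, .p9, .tau, .xii, .y2, .p8],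
  [.z, .Z7, .Z6, .Z3, .Z2, .Z1, .Z0, .X10, .X8, .X6, .X3, .y9, .y8, .y7, .y6, .y1, .p3, .hi, .p7, .hi, .p7, .hi, .p8,
   .hi, .p9, .xii, .hi, .xii, .p5, .y1, .tau, .xii, .y1, .p, .xii, .p, .xii, .y5, .y10, .tau, .X0, .p5, .xii, .p7,
   .y9, .xii, .y2, .y10, .p5, .tau, .xii, .p4, .xii, .p9, .y9, .xii, .y9, .y10, .tau, .xii, .p4, .hi, .p4],
  [.z, .Z9, .Z8, .Z6, .Z5, .Z3, .Z2, .Z1, .X10, .X9, .X6, .X4, .X3, .X0, .y10, .y8, .y6, .y5, .y3, .p7, .hi, .p7, .hi,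
   .p7, .hi, .p, .hi, .p9, .xii, .p, .xii, .y4, .p4, .xii, .y2, .taui, .xii, .p, .xii, .hi, .y8, .xii, .y5, .tau,
   .xii, .y6, .p7, .xii, .p9, .xii, .p3, .y7, .taui, .xii, .hi, .p6, .xii, .y7, .p, .y2, .taui, .xii, .y2, .p]⟩

theorem h692 : Hd F (g wAd) b692 := hdD (by decide +kernel)
theorem r692_0 : R9 F (g wAd) b692 [] 0 0 := .of (startD 0 1) (by decide +kernel)
theorem r692_1 : R9 F (g wAd) b692 [] 0 1 := .of (startD 0 1) (by decide +kernel)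
theorem r692_2 : R9 F (g wAd) b692 [] 0 2 := .of (startD 0 1) (by decide +kernel)
theorem r692_3 : R9 F (g wAd) b692 [] 1 0 := .of (startD 0 1) (by decide +kernel)
theorem r692_4 : R9 F (g wAd) b692 [] 1 1 := .of (startD 0 1) (by decide +kernel)
theorem r692_5 : R9 F (g wAd) b692 [] 1 2 := .of (startD 0 1) (by decide +kernel)
theorem r692_6 : R9 F (g wAd) b692 [] 2 0 := .of (startD 0 1) (by decide +kernel)
theorem r692_7 : R9 F (g wAd) b692 [] 2 1 := .of (startD 0 1) (by decide +kernel)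
theorem r692_8 : R9 F (g wAd) b692 [] 2 2 := .of (startD 0 1) (by decide +kernel)
theorem g692 : Gd F (g wAd) (0, d692) [] :=
  good9 ok h692 r692_0 r692_1 r692_2 r692_3 r692_4 r692_5 r692_6 r692_7 r692_8

def b693 : Wd := ⟨0, d693,
  [.Z10, .Z7, .Z5, .Z4, .X9, .X8, .X7, .X5, .X2, .X1, .y6, .y4, .y3, .y1, .p10, .hi, .p4, .hi, .p4, .hi, .p3, .hi,
   .p7, .hi, .p5, .hi, .p10, .xii, .p, .xii, .y1, .tau, .xii, .y2, .p, .xii, .y1, .hi, .xii, .y1, .y2, .tau, .p10,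
   .xii, .y5, .hi, .p6, .xii, .hi, .p5, .taui, .xii, .p6, .xii, .hi, .p9, .y10, .tau, .xii, .p, .hi],
  [.Z4, .Z0, .X10, .X9, .X6, .X5, .X1, .y7, .y6, .y5, .y4, .y1, .p10, .hi, .p5, .hi, .p, .hi, .p5, .hi, .p7, .hi, .p3,
   .hi, .xii, .hi, .p10, .tau, .xii, .y1, .p, .xii, .p, .xii, .y5, .taui, .X0, .p4, .xii, .y2, .p7, .xii, .y1, .y9,
   .taui, .xii, .p7, .xii, .y10, .p5, .xii, .y6, .taui, .xii, .y4, .hi],
  [.z, .Z10, .Z8, .Z6, .Z5, .Z1, .Z0, .X10, .X9, .X8, .X5, .X3, .X0, .y9, .y8, .y5, .y2, .p9, .hi, .p3, .hi, .p8, .hi,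
   .p8, .hi, .p5, .xii, .y2, .hi, .p2, .hi, .tau, .xii, .p, .xii, .hi, .y8, .xii, .y5, .tau, .X0, .p6, .xii, .y8, .p3,
   .hi, .p5, .xii, .y3, .hi, .taui, .xii, .p9, .xii, .y6, .y10, .p3, .xii, .y10, .taui, .xii, .hi, .p10]⟩

theorem h693 : Hd F (g wAd) b693 := hdD (by decide +kernel)
theorem r693_0 : R9 F (g wAd) b693 [] 0 0 := .of (startD 0 2) (by decide +kernel)
theorem r693_1 : R9 F (g wAd) b693 [] 0 1 := .of (startD 0 1) (by decide +kernel)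
theorem r693_2 : R9 F (g wAd) b693 [] 0 2 := .of (startD 0 2) (by decide +kernel)
theorem r693_3 : R9 F (g wAd) b693 [] 1 0 := .of (startD 0 2) (by decide +kernel)
theorem r693_4 : R9 F (g wAd) b693 [] 1 1 := .of (startD 0 1) (by decide +kernel)
theorem r693_5 : R9 F (g wAd) b693 [] 1 2 := .of (startD 0 1) (by decide +kernel)
theorem r693_6 : R9 F (g wAd) b693 [] 2 0 := .of (startD 0 2) (by decide +kernel)
theorem r693_7 : R9 F (g wAd) b693 [] 2 1 := .of (startD 0 1) (by decide +kernel)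
theorem r693_8 : R9 F (g wAd) b693 [] 2 2 := .of (startD 0 1) (by decide +kernel)
theorem g693 : Gd F (g wAd) (0, d693) [] :=
  good9 ok h693 r693_0 r693_1 r693_2 r693_3 r693_4 r693_5 r693_6 r693_7 r693_8

def b694 : Wd := ⟨0, d694,
  [.z, .Z10, .Z8, .Z3, .Z1, .X10, .X4, .X3, .X2, .X1, .y10, .y8, .y7, .y4, .y3, .y2, .hi, .p2, .hi, .p8, .hi, .p, .hi,
   .p3, .hi, .p10, .hi, .p10, .xii, .y2, .p, .xii, .p8, .xii, .y5, .y9, .tau, .y1, .xii, .p10, .xii, .y8, .p10, .xii,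
   .y4, .tau, .X0, .xii, .y1, .p7, .xii, .p9, .y5, .xii, .y1, .y2, .y7, .tau, .xii, .p5, .xii, .y2, .p8, .xii, .y1,
   .taui, .xii, .hi, .p6],
  [.z, .Z6, .Z3, .Z1, .Z0, .X10, .X9, .X6, .X5, .X4, .X3, .X2, .X1, .X0, .y8, .y5, .y4, .p3, .hi, .p10, .hi, .p5, .hi,
   .p10, .hi, .p9, .hi, .p9, .xii, .p, .xii, .p8, .y1, .xii, .y7, .taui, .xii, .y6, .p, .xii, .y4, .p, .xii, .y1,
   .y10, .taui, .X0, .p5, .xii, .y3, .p5, .xii, .y3, .y5, .p, .xii, .taui, .xii, .y2, .p7, .xii, .y1, .hi, .p5],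
  [.Z10, .Z9, .Z8, .Z7, .Z6, .Z5, .Z4, .Z3, .Z2, .Z0, .X10, .X8, .X7, .X6, .X2, .y10, .y9, .y7, .y3, .y2, .hi, .p2,
   .hi, .p10, .hi, .p5, .hi, .p5, .hi, .p2, .xii, .y2, .p, .xii, .p2, .hi, .taui, .y1, .xii, .p10, .xii, .y8, .p10,
   .xii, .y2, .y10, .tau, .X0, .xii, .y1, .p5, .xii, .p7, .y8, .xii, .p10, .y1, .taui, .xii, .p9, .xii, .y6, .p3,
   .xii, .tau, .xii, .y4, .p10]⟩

theorem h694 : Hd F (g wAd) b694 := hdD (by decide +kernel)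
theorem r694_0 : R9 F (g wAd) b694 [] 0 0 := .of (startD 0 1) (by decide +kernel)
theorem r694_1 : R9 F (g wAd) b694 [] 0 1 := .of (startD 0 1) (by decide +kernel)
theorem r694_2 : R9 F (g wAd) b694 [] 0 2 := .of (startD 0 1) (by decide +kernel)
theorem r694_3 : R9 F (g wAd) b694 [] 1 0 := .of (startD 0 1) (by decide +kernel)
theorem r694_4 : R9 F (g wAd) b694 [] 1 1 := .of (startD 0 1) (by decide +kernel)
theorem r694_5 : R9 F (g wAd) b694 [] 1 2 := .of (startD 0 1) (by decide +kernel)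
theorem r694_6 : R9 F (g wAd) b694 [] 2 0 := .of (startD 0 1) (by decide +kernel)
theorem r694_7 : R9 F (g wAd) b694 [] 2 1 := .of (startD 0 1) (by decide +kernel)
theorem r694_8 : R9 F (g wAd) b694 [] 2 2 := .of (startD 0 1) (by decide +kernel)
theorem g694 : Gd F (g wAd) (0, d694) [] :=
  good9 ok h694 r694_0 r694_1 r694_2 r694_3 r694_4 r694_5 r694_6 r694_7 r694_8

def b695 : Wd := ⟨0, d695,
  [.Z9, .Z7, .Z6, .Z5, .Z4, .Z3, .X10, .X9, .X6, .X4, .X2, .X1, .X0, .y9, .y8, .y7, .y5, .y3, .y2, .y1, .hi, .p5, .hi,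
   .p, .hi, .p5, .hi, .p10, .hi, .p, .xii, .p, .xii, .p2, .hi, .tau, .xii, .y2, .p, .xii, .y3, .hi, .xii, .y5, .y10,
   .tau, .X0, .p6, .xii, .p5, .xii, .y4, .y9, .p9, .xii, .y7, .tau, .xii, .p8, .xii, .y2, .p6, .y10, .hi, .tau, .xii,
   .y2, .hi, .p7],
  [.Z10, .Z8, .Z2, .X9, .X7, .X6, .X5, .X0, .y9, .y8, .y7, .y5, .y4, .y2, .hi, .p8, .hi, .p7, .hi, .p7, .hi, .p8, .hi,
   .p, .hi, .p3, .xii, .p10, .xii, .y7, .p8, .xii, .taui, .xii, .p, .xii, .y2, .hi, .xii, .y3, .y4, .tau, .p7, .xii,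
   .y6, .p9, .xii, .y3, .p3, .tau, .xii, .p5, .xii, .y1, .y6, .hi, .xii, .y5, .tau],
  [.Z10, .Z8, .Z7, .Z5, .Z3, .Z2, .Z1, .X10, .X8, .X7, .X6, .X3, .X2, .X1, .y10, .y8, .y7, .y6, .y5, .y3, .y1, .p10,
   .hi, .p8, .hi, .p8, .hi, .p, .hi, .p6, .hi, .p9, .hi, .p6, .xii, .y2, .p10, .xii, .y1, .y7, .tau, .xii, .p, .xii,
   .y2, .y10, .hi, .xii, .y7, .y10, .tau, .X0, .p4, .xii, .p5, .hi, .xii, .y4, .hi, .tau, .xii, .p6, .xii, .p5, .y8,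
   .hi, .p6, .tau, .xii, .p, .hi]⟩

theorem h695 : Hd F (g wAd) b695 := hdD (by decide +kernel)
theorem r695_0 : R9 F (g wAd) b695 [] 0 0 := .of (startD 0 1) (by decide +kernel)
theorem r695_1 : R9 F (g wAd) b695 [] 0 1 := .of (startD 0 1) (by decide +kernel)
theorem r695_2 : R9 F (g wAd) b695 [] 0 2 := .of (startD 0 1) (by decide +kernel)
theorem r695_3 : R9 F (g wAd) b695 [] 1 0 := .of (startD 0 1) (by decide +kernel)
theorem r695_4 : R9 F (g wAd) b695 [] 1 1 := .of (startD 0 1) (by decide +kernel)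
theorem r695_5 : R9 F (g wAd) b695 [] 1 2 := .of (startD 0 1) (by decide +kernel)
theorem r695_6 : R9 F (g wAd) b695 [] 2 0 := .of (startD 0 1) (by decide +kernel)
theorem r695_7 : R9 F (g wAd) b695 [] 2 1 := .of (startD 0 1) (by decide +kernel)
theorem r695_8 : R9 F (g wAd) b695 [] 2 2 := .of (startD 0 1) (by decide +kernel)
theorem g695 : Gd F (g wAd) (0, d695) [] :=
  good9 ok h695 r695_0 r695_1 r695_2 r695_3 r695_4 r695_5 r695_6 r695_7 r695_8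

def b696 : Wd := ⟨0, d696,
  [.Z9, .Z7, .Z5, .Z2, .Z1, .Z0, .X7, .X5, .X3, .X1, .X0, .y10, .y9, .y6, .y5, .y4, .y2, .p7, .hi, .p4, .hi, .p10,
   .hi, .p5, .hi, .p4, .hi, .p, .hi, .xii, .p, .hi, .xii, .p5, .hi, .y8, .p5, .taui, .y1, .xii, .p10, .xii, .y4, .p10,
   .xii, .taui, .xii, .p5, .xii, .y3, .y4, .hi, .xii, .y5, .p4, .tau, .xii, .y2, .p5, .xii, .hi, .p9, .tau, .xii, .y2,
   .hi, .p10, .hi],
  [.Z10, .Z7, .Z1, .X10, .X5, .X3, .X2, .X1, .y8, .y7, .y6, .y2, .p5, .hi, .p8, .hi, .p6, .hi, .p, .hi, .p, .hi, .xii,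
   .p2, .hi, .xii, .y2, .taui, .xii, .y6, .p, .xii, .y10, .p, .xii, .y1, .y4, .taui, .X0, .y1, .p2, .xii, .p4, .xii,
   .y3, .p7, .taui, .xii, .p5, .xii, .y1, .p3, .y8, .taui, .xii, .y2, .p8],
  [.Z10, .Z6, .Z4, .Z3, .X10, .X9, .X6, .X5, .X4, .X3, .X2, .X0, .y9, .y7, .y3, .y1, .p5, .hi, .p3, .hi, .p10, .hi,
   .p6, .hi, .p4, .hi, .xii, .hi, .xii, .y8, .p2, .xii, .y1, .tau, .y1, .xii, .y1, .hi, .xii, .y6, .p10, .xii, .y4,
   .y8, .tau, .y1, .p4, .xii, .p9, .xii, .y1, .p8, .xii, .y4, .tau, .xii, .p5, .xii, .p2, .y10, .xii, .y9, .tau, .xii,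
   .p4, .hi]⟩

theorem h696 : Hd F (g wAd) b696 := hdD (by decide +kernel)
theorem r696_0 : R9 F (g wAd) b696 [] 0 0 := .of (startD 0 1) (by decide +kernel)
theorem r696_1 : R9 F (g wAd) b696 [] 0 1 := .of (startD 0 1) (by decide +kernel)
theorem r696_2 : R9 F (g wAd) b696 [] 0 2 := .of (startD 0 1) (by decide +kernel)
theorem r696_3 : R9 F (g wAd) b696 [] 1 0 := .of (startD 0 1) (by decide +kernel)
theorem r696_4 : R9 F (g wAd) b696 [] 1 1 := .of (startD 0 1) (by decide +kernel)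
theorem r696_5 : R9 F (g wAd) b696 [] 1 2 := .of (startD 0 1) (by decide +kernel)
theorem r696_6 : R9 F (g wAd) b696 [] 2 0 := .of (startD 0 1) (by decide +kernel)
theorem r696_7 : R9 F (g wAd) b696 [] 2 1 := .of (startD 0 1) (by decide +kernel)
theorem r696_8 : R9 F (g wAd) b696 [] 2 2 := .of (startD 0 1) (by decide +kernel)
theorem g696 : Gd F (g wAd) (0, d696) [] :=
  good9 ok h696 r696_0 r696_1 r696_2 r696_3 r696_4 r696_5 r696_6 r696_7 r696_8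

def b697 : Wd := ⟨0, d697,
  [.z, .Z10, .Z9, .Z5, .Z4, .Z3, .Z2, .Z0, .X8, .X7, .X1, .y10, .y9, .y7, .y6, .y4, .y3, .y1, .p10, .hi, .p3, .hi,
   .p7, .hi, .p6, .hi, .p8, .hi, .p, .xii, .p3, .hi, .xii, .y1, .y6, .taui, .xii, .p, .xii, .y2, .hi, .xii, .y5, .y10,
   .tau, .xii, .y2, .p, .xii, .y3, .hi, .xii, .y4, .y7, .taui, .p9, .xii, .y10, .p3, .xii, .taui, .xii, .p5, .xii,
   .hi, .p3, .y3, .tau, .xii, .hi, .p8],
  [.z, .Z10, .Z9, .Z4, .Z3, .Z2, .Z1, .Z0, .X8, .X7, .X5, .X4, .X3, .X2, .X1, .X0, .y9, .y8, .y5, .y1, .p2, .hi, .p10,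
   .hi, .p7, .hi, .p8, .hi, .p5, .hi, .xii, .hi, .p8, .xii, .y9, .y10, .tau, .xii, .p, .xii, .y2, .y10, .hi, .xii,
   .y7, .y10, .tau, .X0, .p6, .xii, .p8, .xii, .y3, .p2, .xii, .y8, .taui, .xii, .y2, .p4, .xii, .y3, .y4],
  [.z, .Z10, .Z8, .Z7, .Z6, .Z5, .Z2, .X10, .X4, .X3, .X2, .y8, .y5, .p9, .hi, .p10, .hi, .p4, .hi, .p9, .hi, .p7,
   .hi, .p5, .xii, .p10, .xii, .y1, .p10, .xii, .y8, .tau, .xii, .p, .xii, .p2, .hi, .xii, .tau, .xii, .hi, .xii, .p5,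
   .y4, .xii, .y3, .y10, .p3, .taui, .xii, .p4, .hi, .xii, .y2, .p3, .taui, .xii, .y2, .p4, .hi, .p9]⟩

theorem h697 : Hd F (g wAd) b697 := hdD (by decide +kernel)
theorem r697_0 : R9 F (g wAd) b697 [] 0 0 := .of (startD 0 1) (by decide +kernel)
theorem r697_1 : R9 F (g wAd) b697 [] 0 1 := .of (startD 0 1) (by decide +kernel)
theorem r697_2 : R9 F (g wAd) b697 [] 0 2 := .of (startD 0 1) (by decide +kernel)
theorem r697_3 : R9 F (g wAd) b697 [] 1 0 := .of (startD 0 1) (by decide +kernel)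
theorem r697_4 : R9 F (g wAd) b697 [] 1 1 := .of (startD 0 1) (by decide +kernel)
theorem r697_5 : R9 F (g wAd) b697 [] 1 2 := .of (startD 0 1) (by decide +kernel)
theorem r697_6 : R9 F (g wAd) b697 [] 2 0 := .of (startD 0 1) (by decide +kernel)
theorem r697_7 : R9 F (g wAd) b697 [] 2 1 := .of (startD 0 1) (by decide +kernel)
theorem r697_8 : R9 F (g wAd) b697 [] 2 2 := .of (startD 0 1) (by decide +kernel)
theorem g697 : Gd F (g wAd) (0, d697) [] :=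
  good9 ok h697 r697_0 r697_1 r697_2 r697_3 r697_4 r697_5 r697_6 r697_7 r697_8

def b698 : Wd := ⟨0, d698,
  [.Z9, .Z7, .Z5, .Z4, .Z2, .X10, .X5, .X2, .X0, .y10, .y9, .y8, .y5, .y4, .y2, .p8, .hi, .p9, .hi, .p6, .hi, .p5,
   .hi, .p, .hi, .p7, .xii, .p, .xii, .p8, .y1, .xii, .y7, .tau, .y1, .xii, .y1, .hi, .xii, .y6, .p10, .tau, .p8,
   .xii, .y7, .p, .xii, .y8, .tau, .xii, .p4, .xii, .y4, .y6, .p8, .xii, .y4, .taui, .xii, .hi, .p3],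
  [.Z10, .Z9, .Z7, .Z6, .Z5, .Z3, .Z2, .Z1, .X7, .y10, .y6, .y3, .p10, .hi, .p7, .hi, .p, .hi, .p6, .hi, .p10, .hi,
   .p6, .xii, .tau, .xii, .p, .xii, .y3, .y10, .hi, .xii, .y1, .taui, .y1, .hi, .xii, .p2, .xii, .y10, .p2, .hi, .p9,
   .tau, .xii, .p5, .xii, .p4, .y8, .hi, .p10],
  [.Z9, .Z8, .Z3, .Z1, .X9, .X6, .X5, .X4, .X1, .X0, .y8, .y6, .y3, .y2, .hi, .p5, .hi, .p7, .hi, .p3, .hi, .p4, .hi,
   .p10, .hi, .p5, .xii, .y2, .p, .xii, .hi, .p4, .y3, .taui, .xii, .y2, .p, .xii, .y1, .hi, .xii, .y1, .y10, .taui,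
   .xii, .y2, .p, .xii, .y2, .hi, .xii, .y6, .tau, .p9, .xii, .p, .xii, .y8, .y10, .tau, .xii, .p8, .xii, .p5, .y10,
   .hi, .p10, .taui, .xii, .p, .hi, .p4]⟩

theorem h698 : Hd F (g wAd) b698 := hdD (by decide +kernel)
theorem r698_0 : R9 F (g wAd) b698 [] 0 0 := .of (startD 0 1) (by decide +kernel)
theorem r698_1 : R9 F (g wAd) b698 [] 0 1 := .of (startD 0 1) (by decide +kernel)
theorem r698_2 : R9 F (g wAd) b698 [] 0 2 := .of (startD 0 1) (by decide +kernel)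
theorem r698_3 : R9 F (g wAd) b698 [] 1 0 := .of (startD 0 1) (by decide +kernel)
theorem r698_4 : R9 F (g wAd) b698 [] 1 1 := .of (startD 0 1) (by decide +kernel)
theorem r698_5 : R9 F (g wAd) b698 [] 1 2 := .of (startD 0 1) (by decide +kernel)
theorem r698_6 : R9 F (g wAd) b698 [] 2 0 := .of (startD 0 1) (by decide +kernel)
theorem r698_7 : R9 F (g wAd) b698 [] 2 1 := .of (startD 0 2) (by decide +kernel)
theorem r698_8 : R9 F (g wAd) b698 [] 2 2 := .of (startD 0 1) (by decide +kernel)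
theorem g698 : Gd F (g wAd) (0, d698) [] :=
  good9 ok h698 r698_0 r698_1 r698_2 r698_3 r698_4 r698_5 r698_6 r698_7 r698_8

def b699 : Wd := ⟨0, d699,
  [.z, .Z10, .Z8, .Z7, .Z4, .X9, .X6, .X5, .X4, .X3, .X2, .y9, .y4, .y3, .y1, .p9, .hi, .p9, .hi, .p3, .hi, .p9, .hi,
   .p3, .xii, .p, .hi, .xii, .p10, .tau, .xii, .p, .xii, .y1, .hi, .xii, .y6, .tau, .y1, .xii, .y6, .p10, .xii, .y8,
   .p10, .xii, .y2, .tau, .p8, .xii, .y5, .p3, .xii, .y4, .tau, .xii, .p7, .xii, .y6, .y10, .p, .hi, .p4, .tau, .xii,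
   .p5, .xii, .y4, .y7],
  [.Z9, .Z5, .Z3, .Z2, .Z1, .X8, .X4, .X3, .X2, .X1, .y10, .y9, .y8, .y3, .y2, .hi, .p8, .hi, .p8, .hi, .p7, .hi, .p,
   .hi, .p9, .xii, .y2, .p, .xii, .y3, .y10, .tau, .y1, .xii, .p10, .xii, .y1, .y7, .p10, .xii, .y9, .y10, .tau, .p10,
   .xii, .p9, .xii, .p3, .y2, .taui, .xii, .p5, .xii, .y1, .y7, .p7, .xii],
  [.z, .Z6, .Z5, .Z4, .Z3, .X9, .X8, .X7, .X6, .X5, .X3, .X2, .X1, .X0, .y9, .y5, .y4, .y3, .p8, .hi, .p7, .hi, .p,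
   .hi, .p6, .hi, .p9, .hi, .p7, .hi, .xii, .p10, .xii, .y9, .tau, .xii, .y6, .p, .xii, .p, .xii, .y3, .y9, .tau, .y1,
   .xii, .y2, .hi, .xii, .p10, .xii, .y1, .y6, .taui, .X0, .p8, .xii, .p10, .xii, .y6, .tau, .xii, .p4, .xii, .p2,
   .hi, .p2, .taui, .xii, .p4, .hi, .p2]⟩

theorem h699 : Hd F (g wAd) b699 := hdD (by decide +kernel)
theorem r699_0 : R9 F (g wAd) b699 [] 0 0 := .of (startD 0 1) (by decide +kernel)
theorem r699_1 : R9 F (g wAd) b699 [] 0 1 := .of (startD 0 1) (by decide +kernel)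
theorem r699_2 : R9 F (g wAd) b699 [] 0 2 := .of (startD 0 2) (by decide +kernel)
theorem r699_3 : R9 F (g wAd) b699 [] 1 0 := .of (startD 0 1) (by decide +kernel)
theorem r699_4 : R9 F (g wAd) b699 [] 1 1 := .of (startD 0 1) (by decide +kernel)
theorem r699_5 : R9 F (g wAd) b699 [] 1 2 := .of (startD 0 1) (by decide +kernel)
theorem r699_6 : R9 F (g wAd) b699 [] 2 0 := .of (startD 0 1) (by decide +kernel)
theorem r699_7 : R9 F (g wAd) b699 [] 2 1 := .of (startD 0 1) (by decide +kernel)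
theorem r699_8 : R9 F (g wAd) b699 [] 2 2 := .of (startD 0 1) (by decide +kernel)
theorem g699 : Gd F (g wAd) (0, d699) [] :=
  good9 ok h699 r699_0 r699_1 r699_2 r699_3 r699_4 r699_5 r699_6 r699_7 r699_8

theorem all : AllG F (g wAd) LD69 :=
  .cons g690 (.cons g691 (.cons g692 (.cons g693 (.cons g694 (.cons g695 (.cons g696 (.cons g697 (.cons g698 (.cons g699 (.nil))))))))))

end Cfsg.Agent.BX.No33.Bk.D69
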