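import Cfsg.Agent.BX.No33.Cheap
set_option linter.all false

/-!
# Tests, diagonal case, part 70 (helper5; generated)
-/

set_option autoImplicit false
set_option maxRecDepth 100000
set_option Elab.async false

namespace Cfsg.Agent.BX.No33.Bk.D70

open Cfsg.Agent.H819.U33 Cfsg.Agent.BX.No33.Front

def b700 : Wd := ⟨0, d700,
  [.z, .Z10, .Z9, .Z6, .Z4, .Z1, .X6, .X2, .y9, .y7, .y6, .y5, .y2, .hi, .p8, .hi, .p7, .hi, .p6, .hi, .p6, .hi, .p3,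
   .hi, .p9, .hi, .xii, .p10, .xii, .y1, .p10, .xii, .y3, .y7, .taui, .xii, .y2, .p, .xii, .y1, .hi, .xii, .y4, .y7,
   .taui, .X0, .y1, .p7, .xii, .p5, .xii, .y1, .y5, .p4, .tau, .xii, .p8, .xii, .y2, .y8, .p4, .xii, .y9, .taui, .xii,
   .p4, .hi],
  [.Z10, .Z9, .Z8, .Z6, .Z5, .Z4, .Z3, .Z1, .X10, .X8, .X7, .X4, .X2, .y9, .y8, .y6, .y5, .hi, .p6, .hi, .p6, .hi,
   .p9, .hi, .p6, .hi, .p3, .xii, .y2, .p, .hi, .xii, .p5, .hi, .p5, .tau, .xii, .y6, .p, .xii, .p, .xii, .y6, .y10,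
   .tau, .y1, .xii, .p2, .xii, .y3, .p2, .xii, .y2, .y3, .tau, .xii, .p2, .xii, .y7, .p10, .hi],
  [.Z8, .Z6, .Z4, .Z1, .X3, .X0, .y10, .y8, .y7, .y6, .p9, .hi, .p4, .hi, .p4, .hi, .p10, .hi, .p7, .hi, .p6, .hi,
   .xii, .p, .xii, .y2, .p9, .tau, .xii, .y6, .p, .xii, .p, .xii, .y1, .y10, .taui, .X0, .y1, .xii, .p7, .xii, .y9,
   .p3, .xii, .y4, .p, .tau, .xii, .p4, .xii, .p3, .hi, .y4, .p2, .tau, .xii, .p]⟩

theorem h700 : Hd F (g wAd) b700 := hdD (by decide +kernel)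
theorem r700_0 : R9 F (g wAd) b700 [] 0 0 := .of (startD 0 1) (by decide +kernel)
theorem r700_1 : R9 F (g wAd) b700 [] 0 1 := .of (startD 0 1) (by decide +kernel)
theorem r700_2 : R9 F (g wAd) b700 [] 0 2 := .of (startD 0 1) (by decide +kernel)
theorem r700_3 : R9 F (g wAd) b700 [] 1 0 := .of (startD 0 1) (by decide +kernel)
theorem r700_4 : R9 F (g wAd) b700 [] 1 1 := .of (startD 0 1) (by decide +kernel)
theorem r700_5 : R9 F (g wAd) b700 [] 1 2 := .of (startD 0 1) (by decide +kernel)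
theorem r700_6 : R9 F (g wAd) b700 [] 2 0 := .of (startD 0 1) (by decide +kernel)
theorem r700_7 : R9 F (g wAd) b700 [] 2 1 := .of (startD 0 1) (by decide +kernel)
theorem r700_8 : R9 F (g wAd) b700 [] 2 2 := .of (startD 0 1) (by decide +kernel)
theorem g700 : Gd F (g wAd) (0, d700) [] :=
  good9 ok h700 r700_0 r700_1 r700_2 r700_3 r700_4 r700_5 r700_6 r700_7 r700_8

def b701 : Wd := ⟨0, d701,
  [.Z6, .Z4, .Z1, .X10, .X7, .X6, .X3, .X1, .X0, .y8, .y5, .y3, .y2, .p9, .hi, .p4, .hi, .p7, .hi, .p5, .hi, .p3, .hi,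
   .p3, .xii, .y2, .p3, .hi, .xii, .p3, .hi, .tau, .xii, .y6, .p, .xii, .y10, .p, .xii, .y1, .y2, .taui, .xii, .y2,
   .p8, .xii, .y9, .p4, .xii, .y3, .y10, .taui, .xii, .p9, .xii, .y1, .p5, .xii, .y5, .tau, .xii, .y7, .p3, .xii, .y4],
  [.Z10, .Z8, .X10, .X7, .X3, .y8, .y7, .y6, .p9, .hi, .p5, .hi, .p8, .hi, .p5, .hi, .p10, .hi, .p6, .xii, .y2, .tau,
   .xii, .y6, .p, .xii, .p, .xii, .y7, .tau, .X0, .xii, .p4, .xii, .y2, .p9, .xii, .y5, .y7, .y10, .tau, .xii, .p9,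
   .xii, .y5, .y7, .hi, .xii, .y8, .tau, .xii],
  [.Z9, .Z1, .Z0, .X10, .X7, .X6, .X4, .X3, .X2, .X0, .y10, .y9, .y4, .y1, .p10, .hi, .p6, .hi, .p9, .hi, .p8, .hi,
   .p4, .hi, .p6, .hi, .p10, .xii, .p, .xii, .y3, .p3, .hi, .tau, .y1, .xii, .y2, .hi, .xii, .p10, .xii, .y4, .y10,
   .tau, .X0, .xii, .hi, .xii, .p5, .y5, .xii, .y1, .y6, .p9, .tau, .xii, .p9, .xii, .y6, .p5, .xii, .y9, .tau, .xii,
   .y6, .p2]⟩

theorem h701 : Hd F (g wAd) b701 := hdD (by decide +kernel)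
theorem r701_0 : R9 F (g wAd) b701 [] 0 0 := .of (startD 0 1) (by decide +kernel)
theorem r701_1 : R9 F (g wAd) b701 [] 0 1 := .of (startD 0 1) (by decide +kernel)
theorem r701_2 : R9 F (g wAd) b701 [] 0 2 := .of (startD 0 1) (by decide +kernel)
theorem r701_3 : R9 F (g wAd) b701 [] 1 0 := .of (startD 0 1) (by decide +kernel)
theorem r701_4 : R9 F (g wAd) b701 [] 1 1 := .of (startD 0 1) (by decide +kernel)
theorem r701_5 : R9 F (g wAd) b701 [] 1 2 := .of (startD 0 1) (by decide +kernel)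
theorem r701_6 : R9 F (g wAd) b701 [] 2 0 := .of (startD 0 1) (by decide +kernel)
theorem r701_7 : R9 F (g wAd) b701 [] 2 1 := .of (startD 0 1) (by decide +kernel)
theorem r701_8 : R9 F (g wAd) b701 [] 2 2 := .of (startD 0 1) (by decide +kernel)
theorem g701 : Gd F (g wAd) (0, d701) [] :=
  good9 ok h701 r701_0 r701_1 r701_2 r701_3 r701_4 r701_5 r701_6 r701_7 r701_8

def b702 : Wd := ⟨0, d702,
  [.z, .Z10, .Z9, .Z8, .Z7, .Z4, .Z3, .Z2, .Z0, .X7, .X0, .y10, .y9, .y5, .y4, .y2, .y1, .p7, .hi, .p3, .hi, .p7, .hi,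
   .p6, .hi, .p6, .xii, .p10, .xii, .p6, .xii, .y3, .y9, .tau, .xii, .p, .xii, .y4, .y10, .hi, .xii, .y5, .tau, .p8,
   .xii, .p4, .hi, .p10, .xii, .y8, .taui, .xii, .p9, .xii, .y8, .p2, .hi, .p2, .tau, .xii, .hi, .p6],
  [.Z10, .Z9, .Z8, .Z5, .Z3, .Z2, .Z1, .X10, .X9, .X8, .X7, .X3, .y10, .y7, .y6, .y5, .p5, .hi, .p3, .hi, .p3, .hi,
   .p, .hi, .p6, .hi, .xii, .y2, .p10, .taui, .xii, .y2, .p, .xii, .y1, .hi, .xii, .y1, .taui, .xii, .p3, .xii, .y4,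
   .p6, .xii, .y1, .y5, .p4, .taui, .xii, .p5, .xii, .y2, .y3, .p5, .xii],
  [.Z8, .Z5, .Z2, .Z1, .Z0, .X10, .X9, .X7, .X6, .X5, .X4, .X3, .X1, .X0, .y9, .y8, .y7, .y6, .y4, .y3, .p, .hi, .p4,
   .hi, .p, .hi, .p7, .hi, .p, .hi, .p2, .xii, .p, .xii, .y2, .p, .xii, .y6, .tau, .xii, .p, .xii, .y4, .hi, .xii,
   .y2, .y7, .taui, .X0, .p7, .xii, .y4, .p8, .xii, .y8, .p3, .hi, .taui, .xii, .p9, .xii, .y4, .hi, .p7, .taui, .xii,
   .p, .hi]⟩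

theorem h702 : Hd F (g wAd) b702 := hdD (by decide +kernel)
theorem r702_0 : R9 F (g wAd) b702 [] 0 0 := .of (startD 0 1) (by decide +kernel)
theorem r702_1 : R9 F (g wAd) b702 [] 0 1 := .of (startD 0 1) (by decide +kernel)
theorem r702_2 : R9 F (g wAd) b702 [] 0 2 := .of (startD 0 1) (by decide +kernel)
theorem r702_3 : R9 F (g wAd) b702 [] 1 0 := .of (startD 0 1) (by decide +kernel)
theorem r702_4 : R9 F (g wAd) b702 [] 1 1 := .of (startD 0 1) (by decide +kernel)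
theorem r702_5 : R9 F (g wAd) b702 [] 1 2 := .of (startD 0 1) (by decide +kernel)
theorem r702_6 : R9 F (g wAd) b702 [] 2 0 := .of (startD 0 1) (by decide +kernel)
theorem r702_7 : R9 F (g wAd) b702 [] 2 1 := .of (startD 0 1) (by decide +kernel)
theorem r702_8 : R9 F (g wAd) b702 [] 2 2 := .of (startD 0 1) (by decide +kernel)
theorem g702 : Gd F (g wAd) (0, d702) [] :=
  good9 ok h702 r702_0 r702_1 r702_2 r702_3 r702_4 r702_5 r702_6 r702_7 r702_8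

def b703 : Wd := ⟨0, d703,
  [.z, .Z10, .Z9, .Z8, .Z7, .Z6, .Z5, .Z0, .X9, .X7, .X6, .X5, .X4, .X2, .y9, .y8, .y6, .y5, .y4, .y1, .p3, .hi, .p7,
   .hi, .p4, .hi, .p4, .hi, .p10, .hi, .p5, .xii, .p10, .xii, .y5, .p5, .hi, .p5, .tau, .y1, .xii, .p10, .xii, .y2,
   .p10, .xii, .y2, .y4, .taui, .X0, .p2, .xii, .y6, .p, .xii, .y1, .p2, .xii, .tau, .xii, .p7, .xii, .y5, .p9, .xii,
   .y1, .taui, .xii, .hi, .xii, .y2],
  [.Z10, .Z9, .Z7, .Z6, .Z3, .Z0, .X9, .X8, .X5, .X0, .y7, .y6, .y5, .y4, .y2, .y1, .p4, .hi, .p8, .hi, .p9, .hi, .p6,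
   .hi, .p6, .hi, .xii, .p2, .hi, .xii, .y1, .y5, .tau, .y1, .xii, .y1, .hi, .xii, .p10, .xii, .y4, .y9, .tau, .X0,
   .p5, .xii, .p7, .y1, .xii, .y9, .p4, .taui, .xii, .p5, .xii, .y2, .y7, .p5, .taui, .xii, .p, .hi],
  [.Z6, .Z4, .Z1, .X8, .X7, .X3, .X2, .X1, .y10, .y9, .y7, .y6, .p3, .hi, .p7, .hi, .p4, .hi, .p6, .hi, .p9, .hi, .p8,
   .xii, .p10, .xii, .y1, .p8, .xii, .y9, .taui, .xii, .p, .xii, .y4, .y10, .hi, .xii, .y6, .tau, .p10, .xii, .p5,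
   .xii, .y9, .hi, .y10, .p4, .tau, .xii, .p6, .xii, .y5, .p2, .xii, .y7, .taui, .xii, .hi, .p8]⟩

theorem h703 : Hd F (g wAd) b703 := hdD (by decide +kernel)
theorem r703_0 : R9 F (g wAd) b703 [] 0 0 := .of (startD 0 1) (by decide +kernel)
theorem r703_1 : R9 F (g wAd) b703 [] 0 1 := .of (startD 0 1) (by decide +kernel)
theorem r703_2 : R9 F (g wAd) b703 [] 0 2 := .of (startD 0 1) (by decide +kernel)
theorem r703_3 : R9 F (g wAd) b703 [] 1 0 := .of (startD 0 1) (by decide +kernel)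
theorem r703_4 : R9 F (g wAd) b703 [] 1 1 := .of (startD 0 1) (by decide +kernel)
theorem r703_5 : R9 F (g wAd) b703 [] 1 2 := .of (startD 0 1) (by decide +kernel)
theorem r703_6 : R9 F (g wAd) b703 [] 2 0 := .of (startD 0 1) (by decide +kernel)
theorem r703_7 : R9 F (g wAd) b703 [] 2 1 := .of (startD 0 1) (by decide +kernel)
theorem r703_8 : R9 F (g wAd) b703 [] 2 2 := .of (startD 0 1) (by decide +kernel)
theorem g703 : Gd F (g wAd) (0, d703) [] :=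
  good9 ok h703 r703_0 r703_1 r703_2 r703_3 r703_4 r703_5 r703_6 r703_7 r703_8

def b704 : Wd := ⟨0, d704,
  [.Z10, .Z9, .Z8, .Z6, .Z4, .Z3, .Z2, .X10, .X9, .X5, .X4, .X3, .X1, .y8, .y6, .y4, .p10, .hi, .p4, .hi, .p3, .hi,
   .p7, .hi, .p10, .hi, .p3, .hi, .p3, .xii, .hi, .p8, .xii, .y2, .p10, .tau, .xii, .y1, .p, .xii, .p, .xii, .y3,
   .tau, .p6, .xii, .p2, .xii, .y1, .p5, .hi, .p2, .taui, .xii, .p6, .xii, .y2, .y3, .p, .taui, .xii, .hi, .p8, .hi],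
  [.z, .Z10, .Z8, .Z6, .Z4, .Z3, .Z1, .X10, .X9, .X6, .X5, .X3, .X2, .X1, .y10, .y9, .y6, .y4, .y2, .p9, .hi, .p8,
   .xii, .p, .xii, .p4, .xii, .y9, .tau, .y1, .xii, .p10, .xii, .y4, .p10, .xii, .y1, .y6, .taui, .X0, .p8, .xii, .hi,
   .p8, .xii, .y5, .p5, .y1, .taui, .xii, .p, .xii, .y2, .p9, .xii, .y10, .taui],
  [.Z8, .Z7, .Z4, .Z3, .Z1, .Z0, .X9, .X2, .X1, .y8, .y5, .p4, .hi, .p, .hi, .p7, .hi, .p7, .hi, .p9, .hi, .p10, .hi,
   .xii, .p, .xii, .y3, .p7, .xii, .y9, .taui, .xii, .y2, .p, .xii, .y2, .hi, .xii, .y6, .tau, .y1, .xii, .y6, .p9,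
   .xii, .p8, .xii, .y7, .y8, .y10, .tau, .xii, .hi, .xii, .p10, .xii, .y10, .taui]⟩

theorem h704 : Hd F (g wAd) b704 := hdD (by decide +kernel)
theorem r704_0 : R9 F (g wAd) b704 [28] 0 0 := .of (startD 0 1) (by decide +kernel)
theorem r704_1 : R9 F (g wAd) b704 [28] 0 1 := .of (startD 0 1) (by decide +kernel)
theorem r704_2 : R9 F (g wAd) b704 [28] 0 2 := .of (startD 0 1) (by decide +kernel)
theorem r704_3 : R9 F (g wAd) b704 [28] 1 0 := .of' (startD 0 1) (skip := [1]) (by decide +kernel) (by decide)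
theorem r704_4 : R9 F (g wAd) b704 [28] 1 1 := .of (startD 0 1) (by decide +kernel)
theorem r704_5 : R9 F (g wAd) b704 [28] 1 2 := .of (startD 0 1) (by decide +kernel)
theorem r704_6 : R9 F (g wAd) b704 [28] 2 0 := .of (startD 0 1) (by decide +kernel)
theorem r704_7 : R9 F (g wAd) b704 [28] 2 1 := .of (startD 0 1) (by decide +kernel)
theorem r704_8 : R9 F (g wAd) b704 [28] 2 2 := .of (startD 0 1) (by decide +kernel)
theorem g704 : Gd F (g wAd) (0, d704) [28] :=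
  good9 ok h704 r704_0 r704_1 r704_2 r704_3 r704_4 r704_5 r704_6 r704_7 r704_8

def b705 : Wd := ⟨0, d705,
  [.z, .Z10, .Z5, .Z4, .Z1, .Z0, .X10, .X9, .X6, .X4, .X2, .X1, .X0, .y10, .y8, .y7, .y6, .y5, .y4, .y2, .p10, .hi,
   .p7, .hi, .p3, .hi, .p9, .hi, .p3, .hi, .p4, .hi, .xii, .y2, .p2, .hi, .taui, .y1, .xii, .y2, .hi, .xii, .p10,
   .xii, .y4, .y10, .tau, .X0, .p8, .xii, .y5, .p2, .xii, .y3, .p2, .xii, .y8, .tau, .xii, .p10, .xii, .y5, .p5, .xii,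
   .y5],
  [.Z9, .Z8, .Z7, .Z5, .Z4, .Z3, .Z2, .X10, .X9, .X4, .X2, .y10, .y6, .y5, .hi, .p8, .hi, .p7, .hi, .p4, .hi, .p6,
   .hi, .p3, .hi, .p5, .hi, .xii, .p3, .hi, .taui, .xii, .y6, .p3, .hi, .xii, .p10, .y1, .taui, .p10, .xii, .y4, .p5,
   .xii, .y7, .p5, .tau, .xii, .p5, .xii, .y2, .y7, .hi, .p6, .taui, .xii, .p8],
  [.z, .Z10, .Z8, .Z7, .Z6, .Z1, .X9, .X8, .X6, .X3, .X1, .X0, .y10, .y9, .y8, .y7, .y6, .p5, .hi, .p7, .hi, .p8, .hi,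
   .p, .hi, .p6, .hi, .p6, .hi, .xii, .p10, .xii, .y1, .y7, .taui, .xii, .y1, .p, .xii, .y4, .p, .xii, .y1, .y4, .tau,
   .X0, .xii, .p4, .xii, .p4, .y1, .xii, .y7, .p10, .tau, .xii, .p7, .xii, .p, .y5, .hi, .p2, .taui, .xii, .p, .hi,
   .p4]⟩

theorem h705 : Hd F (g wAd) b705 := hdD (by decide +kernel)
theorem r705_0 : R9 F (g wAd) b705 [] 0 0 := .of (startD 0 1) (by decide +kernel)
theorem r705_1 : R9 F (g wAd) b705 [] 0 1 := .of (startD 0 1) (by decide +kernel)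
theorem r705_2 : R9 F (g wAd) b705 [] 0 2 := .of (startD 0 1) (by decide +kernel)
theorem r705_3 : R9 F (g wAd) b705 [] 1 0 := .of (startD 0 1) (by decide +kernel)
theorem r705_4 : R9 F (g wAd) b705 [] 1 1 := .of (startD 0 1) (by decide +kernel)
theorem r705_5 : R9 F (g wAd) b705 [] 1 2 := .of (startD 0 1) (by decide +kernel)
theorem r705_6 : R9 F (g wAd) b705 [] 2 0 := .of (startD 0 1) (by decide +kernel)
theorem r705_7 : R9 F (g wAd) b705 [] 2 1 := .of (startD 0 2) (by decide +kernel)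
theorem r705_8 : R9 F (g wAd) b705 [] 2 2 := .of (startD 0 1) (by decide +kernel)
theorem g705 : Gd F (g wAd) (0, d705) [] :=
  good9 ok h705 r705_0 r705_1 r705_2 r705_3 r705_4 r705_5 r705_6 r705_7 r705_8

def b706 : Wd := ⟨0, d706,
  [.z, .Z10, .Z9, .Z7, .Z1, .Z0, .X8, .X6, .X5, .X1, .X0, .y10, .y8, .y7, .y6, .y3, .y2, .y1, .p6, .hi, .p4, .hi, .p8,
   .hi, .p5, .hi, .p6, .hi, .p4, .hi, .xii, .hi, .xii, .y4, .p9, .xii, .y5, .tau, .xii, .p, .xii, .y4, .hi, .xii, .y3,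
   .taui, .X0, .p7, .xii, .p5, .xii, .hi, .p6, .y8, .tau, .xii, .p5, .xii, .y1, .p2, .xii, .tau, .xii, .y4, .p3],
  [.Z10, .Z8, .X10, .X9, .X7, .X5, .X2, .y10, .y8, .y7, .y5, .y4, .p2, .hi, .p6, .hi, .p7, .hi, .p5, .hi, .p, .xii,
   .y2, .hi, .p4, .hi, .p4, .taui, .xii, .y2, .p, .xii, .y4, .hi, .xii, .y4, .y6, .taui, .X0, .p4, .xii, .p5, .xii,
   .p9, .y9, .tau, .xii, .p9, .xii, .y7, .hi, .xii, .y9, .y10, .tau, .xii, .y7, .p7],
  [.z, .Z10, .Z9, .Z5, .Z4, .Z3, .Z1, .Z0, .X10, .X9, .X8, .X7, .X6, .X4, .X0, .y10, .y9, .y8, .y4, .p5, .hi, .p7,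
   .hi, .p3, .hi, .p10, .hi, .p3, .xii, .p10, .xii, .y5, .p6, .xii, .y7, .y10, .taui, .X0, .hi, .xii, .hi, .xii, .p8,
   .y4, .tau, .p2, .xii, .p8, .xii, .y4, .y7, .p3, .tau, .xii, .p7, .xii, .y4, .hi, .y4, .p3, .taui, .xii, .p8]⟩

theorem h706 : Hd F (g wAd) b706 := hdD (by decide +kernel)
theorem r706_0 : R9 F (g wAd) b706 [] 0 0 := .of (startD 0 1) (by decide +kernel)
theorem r706_1 : R9 F (g wAd) b706 [] 0 1 := .of (startD 0 1) (by decide +kernel)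
theorem r706_2 : R9 F (g wAd) b706 [] 0 2 := .of (startD 0 1) (by decide +kernel)
theorem r706_3 : R9 F (g wAd) b706 [] 1 0 := .of (startD 0 1) (by decide +kernel)
theorem r706_4 : R9 F (g wAd) b706 [] 1 1 := .of (startD 0 1) (by decide +kernel)
theorem r706_5 : R9 F (g wAd) b706 [] 1 2 := .of (startD 0 1) (by decide +kernel)
theorem r706_6 : R9 F (g wAd) b706 [] 2 0 := .of (startD 0 1) (by decide +kernel)
theorem r706_7 : R9 F (g wAd) b706 [] 2 1 := .of (startD 0 1) (by decide +kernel)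
theorem r706_8 : R9 F (g wAd) b706 [] 2 2 := .of (startD 0 1) (by decide +kernel)
theorem g706 : Gd F (g wAd) (0, d706) [] :=
  good9 ok h706 r706_0 r706_1 r706_2 r706_3 r706_4 r706_5 r706_6 r706_7 r706_8

def b707 : Wd := ⟨0, d707,
  [.z, .Z9, .Z8, .Z7, .Z4, .Z2, .Z1, .X10, .X7, .X5, .X0, .y10, .y9, .y8, .p6, .hi, .p5, .hi, .p10, .hi, .p7, .hi,
   .p6, .hi, .p9, .xii, .hi, .p8, .hi, .p8, .taui, .xii, .p, .xii, .hi, .y8, .xii, .y2, .y7, .taui, .p8, .xii, .y2,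
   .p, .xii, .y5, .p4, .xii, .y2, .taui, .xii, .p5, .xii, .y4, .y7, .y8, .hi, .xii, .tau, .xii, .p10, .xii, .y2],
  [.z, .Z10, .Z9, .Z7, .Z5, .Z2, .Z1, .Z0, .X10, .X9, .X7, .X5, .X4, .X3, .X2, .X1, .X0, .y10, .y7, .y6, .y2, .p9,
   .hi, .p3, .hi, .p10, .hi, .p6, .hi, .p3, .hi, .xii, .hi, .p8, .hi, .p2, .tau, .xii, .y6, .p3, .hi, .xii, .p10, .y3,
   .tau, .X0, .p8, .xii, .p4, .xii, .y9, .p9, .tau, .xii, .p7, .xii, .y4, .y6, .p7, .xii, .y10, .taui, .xii, .y2, .p8],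
  [.z, .Z10, .Z9, .Z8, .Z3, .X10, .X9, .X5, .X4, .X1, .X0, .y10, .y9, .y8, .y5, .y4, .y1, .p6, .hi, .p10, .hi, .p4,
   .hi, .p8, .hi, .p7, .hi, .p3, .xii, .p10, .xii, .p5, .y3, .xii, .tau, .xii, .y6, .p, .xii, .p, .xii, .y3, .y8,
   .taui, .X0, .p7, .xii, .y2, .p8, .xii, .y2, .y9, .p4, .hi, .tau, .xii, .p9, .xii, .y3, .y9, .p, .hi, .p6, .taui,
   .xii, .y2, .hi, .p7]⟩

theorem h707 : Hd F (g wAd) b707 := hdD (by decide +kernel)
theorem r707_0 : R9 F (g wAd) b707 [] 0 0 := .of (startD 0 1) (by decide +kernel)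
theorem r707_1 : R9 F (g wAd) b707 [] 0 1 := .of (startD 0 1) (by decide +kernel)
theorem r707_2 : R9 F (g wAd) b707 [] 0 2 := .of (startD 0 1) (by decide +kernel)
theorem r707_3 : R9 F (g wAd) b707 [] 1 0 := .of (startD 0 1) (by decide +kernel)
theorem r707_4 : R9 F (g wAd) b707 [] 1 1 := .of (startD 0 1) (by decide +kernel)
theorem r707_5 : R9 F (g wAd) b707 [] 1 2 := .of (startD 0 1) (by decide +kernel)
theorem r707_6 : R9 F (g wAd) b707 [] 2 0 := .of (startD 0 1) (by decide +kernel)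
theorem r707_7 : R9 F (g wAd) b707 [] 2 1 := .of (startD 0 2) (by decide +kernel)
theorem r707_8 : R9 F (g wAd) b707 [] 2 2 := .of (startD 0 1) (by decide +kernel)
theorem g707 : Gd F (g wAd) (0, d707) [] :=
  good9 ok h707 r707_0 r707_1 r707_2 r707_3 r707_4 r707_5 r707_6 r707_7 r707_8

def b708 : Wd := ⟨0, d708,
  [.z, .Z10, .Z9, .Z7, .Z6, .Z5, .Z4, .Z3, .X6, .X5, .X3, .X1, .y9, .y7, .y6, .y5, .y3, .p6, .hi, .p10, .hi, .p5, .hi,
   .p10, .hi, .p7, .hi, .p8, .xii, .hi, .p8, .hi, .p5, .hi, .taui, .y1, .xii, .p10, .xii, .y5, .p10, .xii, .y2, .y8,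
   .taui, .p8, .xii, .y8, .p4, .xii, .y10, .p3, .hi, .p9, .taui, .xii, .y2, .p7, .xii, .y6, .p, .hi, .p, .tau, .xii,
   .y2, .p7],
  [.Z10, .Z6, .Z1, .X10, .X7, .X6, .X4, .X3, .y10, .y8, .y5, .y1, .p6, .hi, .p5, .hi, .p9, .hi, .p8, .hi, .p2, .xii,
   .y2, .p, .xii, .y3, .hi, .xii, .y5, .taui, .y1, .xii, .p10, .xii, .y4, .p10, .xii, .y4, .taui, .y1, .p7, .xii, .p7,
   .xii, .y4, .y9, .p3, .hi, .tau, .xii, .p7, .xii, .y2, .hi, .p8],
  [.Z3, .Z0, .X9, .X6, .X4, .X1, .X0, .y9, .y7, .y6, .y2, .y1, .p, .hi, .p, .hi, .p, .hi, .p3, .hi, .p7, .hi, .xii,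
   .p10, .xii, .y4, .p2, .xii, .y5, .taui, .xii, .y1, .p, .xii, .y10, .p, .xii, .y6, .y10, .taui, .y1, .xii, .p5,
   .xii, .y9, .p5, .y6, .xii, .y6, .hi, .taui, .xii, .p9, .xii, .y3, .p, .xii, .y4, .taui, .xii, .y4, .p9, .xii]⟩

theorem h708 : Hd F (g wAd) b708 := hdD (by decide +kernel)
theorem r708_0 : R9 F (g wAd) b708 [] 0 0 := .of (startD 0 1) (by decide +kernel)
theorem r708_1 : R9 F (g wAd) b708 [] 0 1 := .of (startD 0 1) (by decide +kernel)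
theorem r708_2 : R9 F (g wAd) b708 [] 0 2 := .of (startD 0 1) (by decide +kernel)
theorem r708_3 : R9 F (g wAd) b708 [] 1 0 := .of (startD 0 1) (by decide +kernel)
theorem r708_4 : R9 F (g wAd) b708 [] 1 1 := .of (startD 0 1) (by decide +kernel)
theorem r708_5 : R9 F (g wAd) b708 [] 1 2 := .of (startD 0 1) (by decide +kernel)
theorem r708_6 : R9 F (g wAd) b708 [] 2 0 := .of (startD 0 1) (by decide +kernel)
theorem r708_7 : R9 F (g wAd) b708 [] 2 1 := .of (startD 0 1) (by decide +kernel)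
theorem r708_8 : R9 F (g wAd) b708 [] 2 2 := .of (startD 0 2) (by decide +kernel)
theorem g708 : Gd F (g wAd) (0, d708) [] :=
  good9 ok h708 r708_0 r708_1 r708_2 r708_3 r708_4 r708_5 r708_6 r708_7 r708_8

def b709 : Wd := ⟨0, d709,
  [.Z10, .Z9, .Z8, .Z4, .Z2, .X8, .X6, .X5, .X1, .y10, .y9, .y4, .y2, .y1, .hi, .p8, .hi, .p9, .hi, .p4, .hi, .p6,
   .hi, .p4, .hi, .p10, .hi, .xii, .y2, .p3, .hi, .xii, .y1, .p10, .tau, .y1, .xii, .p10, .xii, .p10, .y7, .xii, .y4,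
   .y8, .taui, .xii, .y2, .p10, .xii, .y10, .p6, .xii, .y7, .p8, .taui, .xii, .p3, .xii, .y7, .p5],
  [.z, .Z10, .Z9, .Z7, .Z5, .Z4, .Z3, .X10, .X9, .X8, .X7, .X6, .X5, .X4, .X3, .X2, .y10, .y7, .y1, .p5, .hi, .p7,
   .hi, .p8, .hi, .p3, .hi, .p3, .hi, .p7, .xii, .p, .xii, .y2, .y10, .hi, .xii, .y6, .taui, .xii, .y6, .p, .xii, .y2,
   .p, .xii, .y5, .tau, .p10, .xii, .y10, .p8, .xii, .y7, .taui, .xii, .p2, .xii, .y4, .p5, .hi, .p6],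
  [.z, .Z9, .Z7, .Z1, .Z0, .X6, .X5, .X4, .X0, .y9, .y5, .y4, .y2, .y1, .p2, .hi, .p10, .hi, .p9, .hi, .p, .hi, .p10,
   .xii, .p, .xii, .hi, .p10, .y8, .tau, .y1, .xii, .y1, .hi, .xii, .y6, .p10, .xii, .y8, .y10, .taui, .y1, .p2, .xii,
   .p6, .xii, .p, .y10, .xii, .y8, .taui, .xii, .p8, .xii, .y5, .p4, .xii, .taui, .xii, .y8, .p2]⟩

theorem h709 : Hd F (g wAd) b709 := hdD (by decide +kernel)
theorem r709_0 : R9 F (g wAd) b709 [] 0 0 := .of (startD 0 1) (by decide +kernel)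
theorem r709_1 : R9 F (g wAd) b709 [] 0 1 := .of (startD 0 1) (by decide +kernel)
theorem r709_2 : R9 F (g wAd) b709 [] 0 2 := .of (startD 0 1) (by decide +kernel)
theorem r709_3 : R9 F (g wAd) b709 [] 1 0 := .of (startD 0 1) (by decide +kernel)
theorem r709_4 : R9 F (g wAd) b709 [] 1 1 := .of (startD 0 1) (by decide +kernel)
theorem r709_5 : R9 F (g wAd) b709 [] 1 2 := .of (startD 0 1) (by decide +kernel)
theorem r709_6 : R9 F (g wAd) b709 [] 2 0 := .of (startD 0 1) (by decide +kernel)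
theorem r709_7 : R9 F (g wAd) b709 [] 2 1 := .of (startD 0 1) (by decide +kernel)
theorem r709_8 : R9 F (g wAd) b709 [] 2 2 := .of (startD 0 2) (by decide +kernel)
theorem g709 : Gd F (g wAd) (0, d709) [] :=
  good9 ok h709 r709_0 r709_1 r709_2 r709_3 r709_4 r709_5 r709_6 r709_7 r709_8

theorem all : AllG F (g wAd) LD70 :=
  .cons g700 (.cons g701 (.cons g702 (.cons g703 (.cons g704 (.cons g705 (.cons g706 (.cons g707 (.cons g708 (.cons g709 (.nil))))))))))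

end Cfsg.Agent.BX.No33.Bk.D70
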