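import Cfsg.Agent.BX.No33.Cheap
set_option linter.all false

/-!
# Tests, diagonal case, part 71 (helper5; generated)
-/

set_option autoImplicit false
set_option maxRecDepth 100000
set_option Elab.async false

namespace Cfsg.Agent.BX.No33.Bk.D71

open Cfsg.Agent.H819.U33 Cfsg.Agent.BX.No33.Front

def b710 : Wd := ⟨0, d710,
  [.z, .Z7, .Z6, .X10, .X6, .X0, .y10, .y9, .y2, .y1, .hi, .p8, .hi, .p3, .hi, .p, .hi, .p4, .hi, .p9, .xii, .y2, .p3,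
   .hi, .xii, .y3, .p10, .tau, .p4, .xii, .p5, .xii, .hi, .p, .hi, .y8, .tau, .xii, .p9, .xii, .p3, .y6, .xii, .y2,
   .y3, .tau],
  [.Z10, .Z8, .Z6, .Z5, .Z4, .Z0, .X10, .X6, .X5, .X3, .X1, .y7, .y5, .y2, .y1, .p2, .hi, .p8, .hi, .p8, .hi, .p7,
   .hi, .p7, .hi, .xii, .hi, .p8, .xii, .y1, .p10, .tau, .xii, .p, .xii, .hi, .y8, .xii, .y3, .y4, .taui, .X0, .p9,
   .xii, .p10, .xii, .y1, .p3, .hi, .p5, .tau, .xii, .p8, .xii, .p9, .y4, .y10, .taui, .xii, .y2, .p7],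
  [.z, .Z9, .Z6, .Z5, .Z0, .X8, .X7, .X5, .X4, .X1, .y9, .y7, .y5, .y1, .hi, .p5, .hi, .p5, .hi, .p5, .hi, .p5, .hi,
   .p, .hi, .p10, .hi, .xii, .p10, .xii, .y8, .p10, .xii, .y4, .tau, .xii, .y6, .hi, .p8, .xii, .y1, .hi, .p10, .tau,
   .X0, .p2, .xii, .p7, .xii, .y3, .y10, .hi, .p6, .taui, .xii, .y2, .p4, .xii, .y1, .p2, .hi, .p3, .taui, .xii, .hi,
   .p7]⟩

theorem h710 : Hd F (g wAd) b710 := hdD (by decide +kernel)
theorem r710_0 : R9 F (g wAd) b710 [] 0 0 := .of (startD 0 2) (by decide +kernel)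
theorem r710_1 : R9 F (g wAd) b710 [] 0 1 := .of (startD 0 1) (by decide +kernel)
theorem r710_2 : R9 F (g wAd) b710 [] 0 2 := .of (startD 0 1) (by decide +kernel)
theorem r710_3 : R9 F (g wAd) b710 [] 1 0 := .of (startD 0 2) (by decide +kernel)
theorem r710_4 : R9 F (g wAd) b710 [] 1 1 := .of (startD 0 1) (by decide +kernel)
theorem r710_5 : R9 F (g wAd) b710 [] 1 2 := .of (startD 0 1) (by decide +kernel)
theorem r710_6 : R9 F (g wAd) b710 [] 2 0 := .of (startD 0 1) (by decide +kernel)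
theorem r710_7 : R9 F (g wAd) b710 [] 2 1 := .of (startD 0 1) (by decide +kernel)
theorem r710_8 : R9 F (g wAd) b710 [] 2 2 := .of (startD 0 1) (by decide +kernel)
theorem g710 : Gd F (g wAd) (0, d710) [] :=
  good9 ok h710 r710_0 r710_1 r710_2 r710_3 r710_4 r710_5 r710_6 r710_7 r710_8

def b711 : Wd := ⟨0, d711,
  [.Z10, .Z9, .Z0, .X10, .X9, .X7, .X5, .X3, .X1, .X0, .y9, .y7, .y6, .y4, .y3, .p8, .hi, .p3, .hi, .p5, .hi, .p9,
   .hi, .p5, .hi, .p9, .hi, .xii, .y2, .p, .xii, .p, .xii, .y7, .tau, .y1, .xii, .y1, .hi, .xii, .p10, .xii, .y10,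
   .taui, .y1, .p8, .xii, .y5, .p4, .xii, .y1, .taui, .xii, .p7, .xii, .y10, .p3, .y2, .xii, .y4, .taui, .xii, .hi,
   .xii, .y8],
  [.Z10, .Z6, .Z3, .Z1, .Z0, .X6, .X4, .X3, .X2, .y10, .y7, .y4, .y3, .p10, .hi, .p10, .hi, .p, .hi, .p4, .hi, .p3,
   .xii, .hi, .xii, .p8, .xii, .y2, .tau, .y1, .xii, .p10, .xii, .y1, .p10, .xii, .y4, .y9, .tau, .X0, .y1, .hi, .xii,
   .p5, .xii, .p7, .y8, .xii, .tau, .xii, .p5, .xii, .y4, .y7, .p2, .xii, .y5, .taui],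
  [.z, .Z9, .Z8, .Z6, .Z5, .Z4, .X8, .X7, .X3, .X2, .X0, .y10, .y7, .y6, .y3, .hi, .p, .hi, .p, .hi, .p5, .hi, .p4,
   .hi, .p6, .hi, .xii, .p3, .hi, .xii, .p10, .y5, .taui, .xii, .p, .xii, .hi, .y8, .xii, .y3, .tau, .X0, .p4, .xii,
   .p9, .xii, .y3, .y5, .p9, .taui, .xii, .p4, .xii, .y8, .hi, .p5, .tau, .xii, .y2, .p2]⟩

theorem h711 : Hd F (g wAd) b711 := hdD (by decide +kernel)
theorem r711_0 : R9 F (g wAd) b711 [] 0 0 := .of (startD 0 1) (by decide +kernel)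
theorem r711_1 : R9 F (g wAd) b711 [] 0 1 := .of (startD 0 1) (by decide +kernel)
theorem r711_2 : R9 F (g wAd) b711 [] 0 2 := .of (startD 0 1) (by decide +kernel)
theorem r711_3 : R9 F (g wAd) b711 [] 1 0 := .of (startD 0 1) (by decide +kernel)
theorem r711_4 : R9 F (g wAd) b711 [] 1 1 := .of (startD 0 1) (by decide +kernel)
theorem r711_5 : R9 F (g wAd) b711 [] 1 2 := .of (startD 0 1) (by decide +kernel)
theorem r711_6 : R9 F (g wAd) b711 [] 2 0 := .of (startD 0 1) (by decide +kernel)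
theorem r711_7 : R9 F (g wAd) b711 [] 2 1 := .of (startD 0 1) (by decide +kernel)
theorem r711_8 : R9 F (g wAd) b711 [] 2 2 := .of (startD 0 1) (by decide +kernel)
theorem g711 : Gd F (g wAd) (0, d711) [] :=
  good9 ok h711 r711_0 r711_1 r711_2 r711_3 r711_4 r711_5 r711_6 r711_7 r711_8

def b712 : Wd := ⟨0, d712,
  [.z, .Z10, .Z8, .Z5, .Z4, .Z2, .Z0, .X10, .X9, .X8, .X7, .X6, .X5, .X4, .X3, .X2, .X0, .y10, .y7, .y6, .y5, .hi,
   .p6, .hi, .p9, .hi, .p3, .hi, .p8, .hi, .p4, .hi, .p3, .hi, .xii, .p, .xii, .p4, .hi, .p8, .taui, .xii, .y1, .p,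
   .xii, .p, .y7, .xii, .y7, .y10, .taui, .X0, .p8, .xii, .y8, .p4, .xii, .y7, .p3, .hi, .p7, .taui, .xii, .p6, .xii,
   .y5, .p5, .hi, .p6, .taui, .xii, .hi, .p7],
  [.Z8, .Z5, .Z1, .Z0, .X9, .X6, .X3, .X2, .y8, .y6, .y4, .y2, .y1, .hi, .p6, .hi, .p10, .hi, .p9, .hi, .p8, .hi,
   .xii, .p, .xii, .y1, .y4, .hi, .p10, .taui, .xii, .p, .xii, .hi, .y8, .xii, .y5, .y10, .tau, .X0, .p2, .xii, .p4,
   .y8, .xii, .y6, .p3, .hi, .p6, .tau, .xii, .p5, .xii, .hi, .y4, .p10, .hi],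
  [.Z8, .Z4, .Z2, .Z1, .X9, .X6, .X4, .X1, .y9, .y8, .y4, .p9, .hi, .p7, .hi, .p9, .hi, .p10, .hi, .p2, .hi, .p, .hi,
   .xii, .y2, .p, .xii, .y4, .hi, .xii, .y6, .tau, .xii, .y1, .p, .xii, .y2, .p, .xii, .y3, .y10, .tau, .X0, .xii,
   .p4, .xii, .y7, .y8, .y10, .p8, .xii, .p8, .taui, .xii, .p9, .xii, .y4, .p, .xii, .y3, .tau, .xii, .p, .xii]⟩

theorem h712 : Hd F (g wAd) b712 := hdD (by decide +kernel)
theorem r712_0 : R9 F (g wAd) b712 [] 0 0 := .of (startD 0 1) (by decide +kernel)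
theorem r712_1 : R9 F (g wAd) b712 [] 0 1 := .of (startD 0 1) (by decide +kernel)
theorem r712_2 : R9 F (g wAd) b712 [] 0 2 := .of (startD 0 1) (by decide +kernel)
theorem r712_3 : R9 F (g wAd) b712 [] 1 0 := .of (startD 0 1) (by decide +kernel)
theorem r712_4 : R9 F (g wAd) b712 [] 1 1 := .of (startD 0 1) (by decide +kernel)
theorem r712_5 : R9 F (g wAd) b712 [] 1 2 := .of (startD 0 2) (by decide +kernel)
theorem r712_6 : R9 F (g wAd) b712 [] 2 0 := .of (startD 0 1) (by decide +kernel)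
theorem r712_7 : R9 F (g wAd) b712 [] 2 1 := .of (startD 0 1) (by decide +kernel)
theorem r712_8 : R9 F (g wAd) b712 [] 2 2 := .of (startD 0 1) (by decide +kernel)
theorem g712 : Gd F (g wAd) (0, d712) [] :=
  good9 ok h712 r712_0 r712_1 r712_2 r712_3 r712_4 r712_5 r712_6 r712_7 r712_8

def b713 : Wd := ⟨0, d713,
  [.z, .Z9, .Z7, .Z6, .Z5, .Z3, .Z2, .X7, .X3, .X2, .X1, .X0, .y10, .y6, .y5, .y4, .y2, .y1, .p5, .hi, .p6, .hi, .p9,
   .hi, .p5, .hi, .p9, .hi, .p6, .xii, .y2, .hi, .xii, .p10, .xii, .y3, .y5, .tau, .xii, .p, .xii, .y1, .hi, .xii,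
   .y1, .y10, .taui, .hi, .xii, .hi, .p6, .xii, .y10, .p4, .taui, .xii, .p9, .xii, .p5, .xii, .y2, .y8, .tau, .xii,
   .y7, .p10],
  [.Z10, .Z7, .Z6, .Z5, .Z3, .Z2, .Z0, .X9, .X8, .X6, .X5, .X4, .X3, .X0, .y10, .y8, .y2, .y1, .p2, .hi, .p5, .hi,
   .p4, .hi, .p9, .xii, .y2, .p10, .xii, .y8, .tau, .xii, .y2, .p, .xii, .y1, .hi, .xii, .y4, .y6, .tau, .xii, .hi,
   .xii, .p5, .y3, .xii, .y1, .y3, .y5, .taui, .xii, .p9, .xii, .y9, .hi, .p, .taui, .xii, .p8],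
  [.z, .Z9, .Z4, .Z3, .Z0, .X10, .X7, .X3, .X1, .y10, .y9, .y4, .y2, .hi, .p6, .hi, .p6, .hi, .p4, .hi, .p10, .hi,
   .p10, .hi, .xii, .p3, .hi, .xii, .y1, .y3, .taui, .xii, .y6, .p, .xii, .p, .xii, .y6, .y10, .taui, .p6, .xii, .p2,
   .xii, .p2, .y9, .hi, .p6, .taui, .xii, .p9, .xii, .p8, .y6, .xii, .y6, .tau, .xii, .p9, .xii, .y7]⟩

theorem h713 : Hd F (g wAd) b713 := hdD (by decide +kernel)
theorem r713_0 : R9 F (g wAd) b713 [] 0 0 := .of (startD 0 1) (by decide +kernel)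
theorem r713_1 : R9 F (g wAd) b713 [] 0 1 := .of (startD 0 1) (by decide +kernel)
theorem r713_2 : R9 F (g wAd) b713 [] 0 2 := .of (startD 0 1) (by decide +kernel)
theorem r713_3 : R9 F (g wAd) b713 [] 1 0 := .of (startD 0 1) (by decide +kernel)
theorem r713_4 : R9 F (g wAd) b713 [] 1 1 := .of (startD 0 1) (by decide +kernel)
theorem r713_5 : R9 F (g wAd) b713 [] 1 2 := .of (startD 0 1) (by decide +kernel)
theorem r713_6 : R9 F (g wAd) b713 [] 2 0 := .of (startD 0 1) (by decide +kernel)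
theorem r713_7 : R9 F (g wAd) b713 [] 2 1 := .of (startD 0 1) (by decide +kernel)
theorem r713_8 : R9 F (g wAd) b713 [] 2 2 := .of (startD 0 1) (by decide +kernel)
theorem g713 : Gd F (g wAd) (0, d713) [] :=
  good9 ok h713 r713_0 r713_1 r713_2 r713_3 r713_4 r713_5 r713_6 r713_7 r713_8

def b714 : Wd := ⟨0, d714,
  [.Z9, .Z7, .Z4, .Z2, .Z1, .X10, .X8, .X5, .X2, .y9, .y7, .y4, .y2, .y1, .p5, .hi, .p3, .hi, .p5, .hi, .p5, .hi, .p8,
   .hi, .p4, .hi, .xii, .hi, .xii, .y6, .p10, .xii, .y10, .taui, .y1, .xii, .p10, .xii, .y1, .p10, .xii, .y1, .y6,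
   .tau, .p5, .xii, .p10, .xii, .p3, .y9, .xii, .y10, .taui, .xii, .p8, .xii, .y5, .p7, .y5, .tau, .xii, .p7],
  [.z, .Z10, .Z9, .Z8, .Z6, .Z4, .Z3, .Z2, .X10, .X8, .X7, .X4, .X3, .X2, .X1, .y6, .y2, .y1, .p2, .hi, .p6, .hi, .p3,
   .hi, .p10, .hi, .p8, .hi, .xii, .p10, .xii, .y8, .taui, .y1, .xii, .p10, .xii, .y4, .p10, .xii, .y1, .y3, .tau,
   .X0, .p4, .xii, .p5, .y1, .xii, .y7, .hi, .p5, .taui, .xii, .y2, .p2, .xii, .y4, .p2, .hi, .taui, .xii, .p],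
  [.Z10, .Z7, .Z6, .Z5, .Z4, .Z3, .Z0, .X6, .X0, .y4, .y1, .p4, .hi, .p3, .hi, .p10, .hi, .p8, .hi, .p9, .hi, .p9,
   .xii, .p, .xii, .p, .xii, .y2, .y3, .tau, .y1, .xii, .p10, .xii, .y2, .p10, .xii, .y8, .tau, .X0, .p10, .xii, .y8,
   .p2, .xii, .y1, .taui, .xii, .p4, .xii, .y2, .p2, .y2, .hi, .p3, .tau, .xii, .p, .hi]⟩

theorem h714 : Hd F (g wAd) b714 := hdD (by decide +kernel)
theorem r714_0 : R9 F (g wAd) b714 [] 0 0 := .of (startD 0 1) (by decide +kernel)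
theorem r714_1 : R9 F (g wAd) b714 [] 0 1 := .of (startD 0 1) (by decide +kernel)
theorem r714_2 : R9 F (g wAd) b714 [] 0 2 := .of (startD 0 1) (by decide +kernel)
theorem r714_3 : R9 F (g wAd) b714 [] 1 0 := .of (startD 0 1) (by decide +kernel)
theorem r714_4 : R9 F (g wAd) b714 [] 1 1 := .of (startD 0 1) (by decide +kernel)
theorem r714_5 : R9 F (g wAd) b714 [] 1 2 := .of (startD 0 1) (by decide +kernel)
theorem r714_6 : R9 F (g wAd) b714 [] 2 0 := .of (startD 0 1) (by decide +kernel)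
theorem r714_7 : R9 F (g wAd) b714 [] 2 1 := .of (startD 0 1) (by decide +kernel)
theorem r714_8 : R9 F (g wAd) b714 [] 2 2 := .of (startD 0 1) (by decide +kernel)
theorem g714 : Gd F (g wAd) (0, d714) [] :=
  good9 ok h714 r714_0 r714_1 r714_2 r714_3 r714_4 r714_5 r714_6 r714_7 r714_8

def b715 : Wd := ⟨0, d715,
  [.z, .Z10, .Z9, .Z6, .Z5, .Z4, .Z3, .Z2, .X8, .X7, .X6, .X3, .X2, .X1, .X0, .y9, .y8, .y7, .y3, .y1, .hi, .p9, .hi,
   .p9, .hi, .p10, .hi, .p2, .hi, .p3, .xii, .p, .xii, .p2, .hi, .p2, .tau, .xii, .y1, .p, .xii, .y10, .p, .xii, .y5,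
   .y10, .taui, .p5, .xii, .p7, .y5, .xii, .y1, .y2, .p4, .tau, .xii, .p7, .xii, .y9, .p, .y10, .hi, .p4, .tau, .xii,
   .y2, .hi, .p6],
  [.Z10, .Z9, .Z5, .Z4, .Z2, .Z0, .X6, .X4, .X3, .y10, .y9, .y8, .y7, .y6, .y4, .y1, .hi, .p10, .hi, .p2, .hi, .p7,
   .hi, .p9, .xii, .p3, .hi, .xii, .y8, .p10, .tau, .xii, .y6, .p, .xii, .y4, .p, .xii, .y1, .tau, .p7, .xii, .p7,
   .xii, .y4, .p, .hi, .y4, .p, .taui, .xii, .y2, .p4, .xii, .y8, .hi, .p4, .hi, .taui, .xii, .p],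
  [.z, .Z10, .Z8, .Z7, .Z4, .Z2, .Z1, .X10, .X8, .X6, .X5, .X3, .X1, .y10, .y9, .y8, .y7, .y5, .y4, .y3, .y2, .p7,
   .hi, .p7, .hi, .p8, .hi, .p, .hi, .p5, .hi, .p, .xii, .y2, .hi, .p8, .xii, .y4, .p10, .taui, .xii, .y2, .p, .xii,
   .y2, .hi, .xii, .y3, .tau, .p5, .xii, .y3, .p2, .hi, .xii, .p, .taui, .xii, .p7, .xii, .y4, .p5, .xii, .y7, .taui]⟩

theorem h715 : Hd F (g wAd) b715 := hdD (by decide +kernel)
theorem r715_0 : R9 F (g wAd) b715 [] 0 0 := .of (startD 0 1) (by decide +kernel)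
theorem r715_1 : R9 F (g wAd) b715 [] 0 1 := .of (startD 0 1) (by decide +kernel)
theorem r715_2 : R9 F (g wAd) b715 [] 0 2 := .of (startD 0 1) (by decide +kernel)
theorem r715_3 : R9 F (g wAd) b715 [] 1 0 := .of (startD 0 1) (by decide +kernel)
theorem r715_4 : R9 F (g wAd) b715 [] 1 1 := .of (startD 0 1) (by decide +kernel)
theorem r715_5 : R9 F (g wAd) b715 [] 1 2 := .of (startD 0 1) (by decide +kernel)
theorem r715_6 : R9 F (g wAd) b715 [] 2 0 := .of (startD 0 1) (by decide +kernel)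
theorem r715_7 : R9 F (g wAd) b715 [] 2 1 := .of (startD 0 1) (by decide +kernel)
theorem r715_8 : R9 F (g wAd) b715 [] 2 2 := .of (startD 0 1) (by decide +kernel)
theorem g715 : Gd F (g wAd) (0, d715) [] :=
  good9 ok h715 r715_0 r715_1 r715_2 r715_3 r715_4 r715_5 r715_6 r715_7 r715_8

def b716 : Wd := ⟨0, d716,
  [.z, .Z9, .Z5, .Z4, .X7, .X6, .X3, .X0, .y10, .y9, .y8, .y6, .y5, .y4, .y3, .y1, .p9, .hi, .p7, .hi, .p9, .hi, .p4,
   .hi, .p5, .hi, .p2, .taui, .xii, .p, .xii, .y4, .y10, .hi, .xii, .y7, .taui, .xii, .p, .xii, .y3, .hi, .xii, .y5,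
   .y10, .taui, .X0, .p5, .xii, .y9, .p, .xii, .taui, .xii, .y2, .hi, .p5, .xii, .hi, .p8, .taui, .xii, .y2, .p8],
  [.Z10, .Z9, .Z5, .Z3, .Z1, .X10, .X9, .X6, .X5, .X3, .y4, .p4, .hi, .p7, .hi, .p, .hi, .p8, .hi, .p6, .hi, .xii,
   .y2, .p10, .xii, .y10, .p8, .xii, .y4, .taui, .xii, .y6, .p, .xii, .y4, .p, .xii, .y3, .tau, .p9, .xii, .p2, .y2,
   .xii, .y4, .p3, .hi, .taui, .xii, .p4, .xii, .p4, .y1, .xii, .y10, .tau],
  [.Z10, .Z9, .Z8, .Z6, .Z5, .Z4, .Z3, .X10, .X8, .X7, .X6, .X5, .X3, .X2, .X0, .y9, .y7, .y6, .y4, .hi, .p4, .hi,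
   .p3, .hi, .p9, .hi, .p4, .hi, .xii, .p10, .xii, .y8, .p3, .hi, .tau, .xii, .p, .xii, .y2, .hi, .xii, .y5, .y8,
   .taui, .X0, .p7, .xii, .y6, .p, .xii, .p5, .xii, .tau, .xii, .p7, .xii, .y4, .y10, .p3, .taui, .xii, .y2, .p7]⟩

theorem h716 : Hd F (g wAd) b716 := hdD (by decide +kernel)
theorem r716_0 : R9 F (g wAd) b716 [] 0 0 := .of (startD 0 1) (by decide +kernel)
theorem r716_1 : R9 F (g wAd) b716 [] 0 1 := .of (startD 0 1) (by decide +kernel)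
theorem r716_2 : R9 F (g wAd) b716 [] 0 2 := .of (startD 0 1) (by decide +kernel)
theorem r716_3 : R9 F (g wAd) b716 [] 1 0 := .of (startD 0 1) (by decide +kernel)
theorem r716_4 : R9 F (g wAd) b716 [] 1 1 := .of (startD 0 1) (by decide +kernel)
theorem r716_5 : R9 F (g wAd) b716 [] 1 2 := .of (startD 0 1) (by decide +kernel)
theorem r716_6 : R9 F (g wAd) b716 [] 2 0 := .of (startD 0 1) (by decide +kernel)
theorem r716_7 : R9 F (g wAd) b716 [] 2 1 := .of (startD 0 1) (by decide +kernel)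
theorem r716_8 : R9 F (g wAd) b716 [] 2 2 := .of (startD 0 1) (by decide +kernel)
theorem g716 : Gd F (g wAd) (0, d716) [] :=
  good9 ok h716 r716_0 r716_1 r716_2 r716_3 r716_4 r716_5 r716_6 r716_7 r716_8

def b717 : Wd := ⟨0, d717,
  [.z, .Z8, .Z6, .Z4, .X7, .X6, .X5, .X4, .X3, .X2, .y10, .y6, .y5, .p6, .hi, .p6, .hi, .p9, .hi, .p9, .hi, .p6, .hi,
   .p, .xii, .p10, .xii, .y1, .y7, .tau, .xii, .y1, .p, .xii, .p, .xii, .y4, .y7, .taui, .p4, .xii, .p7, .xii, .hi,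
   .p8, .y5, .y8, .taui, .xii, .p5, .xii, .y1, .y8, .p5, .xii, .y1, .tau, .xii, .hi, .xii, .y1],
  [.Z9, .Z8, .Z7, .Z5, .Z3, .X10, .X9, .X6, .X2, .y10, .y8, .y5, .y4, .y3, .p9, .hi, .p10, .hi, .p, .hi, .p8, .hi,
   .p6, .hi, .p10, .xii, .taui, .xii, .y6, .p, .xii, .y10, .p, .xii, .y7, .y10, .tau, .p10, .xii, .p5, .xii, .y1, .y8,
   .taui, .xii, .p8, .xii, .y6, .p4, .xii, .y7, .taui, .xii, .p8],
  [.z, .Z9, .Z6, .Z3, .Z2, .Z1, .X10, .X8, .X4, .X1, .X0, .y10, .y9, .y4, .y2, .hi, .p7, .hi, .p7, .hi, .p5, .hi, .p7,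
   .hi, .p, .xii, .y2, .p, .xii, .y6, .hi, .p10, .tau, .y1, .xii, .p10, .xii, .y1, .p10, .xii, .y4, .y9, .taui, .xii,
   .p, .xii, .y1, .hi, .xii, .y4, .y5, .y9, .taui, .X0, .p10, .xii, .y7, .p6, .xii, .y6, .tau, .xii, .p5, .xii, .y7,
   .p2, .xii, .y6, .tau, .xii, .p2]⟩

theorem h717 : Hd F (g wAd) b717 := hdD (by decide +kernel)
theorem r717_0 : R9 F (g wAd) b717 [] 0 0 := .of (startD 0 1) (by decide +kernel)
theorem r717_1 : R9 F (g wAd) b717 [] 0 1 := .of (startD 0 1) (by decide +kernel)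
theorem r717_2 : R9 F (g wAd) b717 [] 0 2 := .of (startD 0 2) (by decide +kernel)
theorem r717_3 : R9 F (g wAd) b717 [] 1 0 := .of (startD 0 1) (by decide +kernel)
theorem r717_4 : R9 F (g wAd) b717 [] 1 1 := .of (startD 0 1) (by decide +kernel)
theorem r717_5 : R9 F (g wAd) b717 [] 1 2 := .of (startD 0 1) (by decide +kernel)
theorem r717_6 : R9 F (g wAd) b717 [] 2 0 := .of (startD 0 1) (by decide +kernel)
theorem r717_7 : R9 F (g wAd) b717 [] 2 1 := .of (startD 0 1) (by decide +kernel)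
theorem r717_8 : R9 F (g wAd) b717 [] 2 2 := .of (startD 0 1) (by decide +kernel)
theorem g717 : Gd F (g wAd) (0, d717) [] :=
  good9 ok h717 r717_0 r717_1 r717_2 r717_3 r717_4 r717_5 r717_6 r717_7 r717_8

def b718 : Wd := ⟨0, d718,
  [.z, .Z10, .Z8, .Z7, .X9, .X7, .X1, .y10, .y9, .y8, .y7, .y4, .y2, .p4, .hi, .p4, .hi, .p8, .hi, .p, .hi, .p3, .hi,
   .xii, .y2, .p, .xii, .hi, .xii, .y10, .taui, .xii, .p3, .xii, .p10, .y10, .xii, .y2, .tau],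
  [.z, .Z10, .Z7, .Z6, .Z4, .Z3, .Z2, .X7, .X3, .X2, .y10, .y7, .y6, .y4, .y3, .hi, .p6, .hi, .p4, .hi, .p10, .hi, .p,
   .hi, .xii, .p, .xii, .p4, .xii, .y2, .tau, .y1, .xii, .p10, .xii, .y4, .p10, .xii, .y4, .y9, .tau, .X0, .p8, .xii,
   .y5, .p10, .xii, .tau, .xii, .p8, .xii, .p4, .y1, .y2, .hi, .tau, .xii, .p, .hi, .p4],
  [.Z10, .Z9, .Z8, .Z0, .X10, .X8, .X1, .X0, .y10, .y9, .y7, .y4, .hi, .p5, .hi, .p, .hi, .p8, .hi, .p7, .xii, .p10,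
   .xii, .p4, .hi, .tau, .xii, .y2, .hi, .p8, .xii, .y9, .tau, .X0, .hi, .xii, .y7, .p8, .xii, .y10, .p4, .taui, .xii,
   .p9, .xii, .y9, .p2, .hi, .p4, .taui, .xii, .p2]⟩

theorem h718 : Hd F (g wAd) b718 := hdD (by decide +kernel)
theorem r718_0 : R9 F (g wAd) b718 [] 0 0 := .of (startD 0 1) (by decide +kernel)
theorem r718_1 : R9 F (g wAd) b718 [] 0 1 := .of (startD 0 1) (by decide +kernel)
theorem r718_2 : R9 F (g wAd) b718 [] 0 2 := .of (startD 0 1) (by decide +kernel)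
theorem r718_3 : R9 F (g wAd) b718 [] 1 0 := .of (startD 0 1) (by decide +kernel)
theorem r718_4 : R9 F (g wAd) b718 [] 1 1 := .of (startD 0 1) (by decide +kernel)
theorem r718_5 : R9 F (g wAd) b718 [] 1 2 := .of (startD 0 1) (by decide +kernel)
theorem r718_6 : R9 F (g wAd) b718 [] 2 0 := .of (startD 0 1) (by decide +kernel)
theorem r718_7 : R9 F (g wAd) b718 [] 2 1 := .of (startD 0 1) (by decide +kernel)
theorem r718_8 : R9 F (g wAd) b718 [] 2 2 := .of (startD 0 1) (by decide +kernel)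
theorem g718 : Gd F (g wAd) (0, d718) [] :=
  good9 ok h718 r718_0 r718_1 r718_2 r718_3 r718_4 r718_5 r718_6 r718_7 r718_8

def b719 : Wd := ⟨0, d719,
  [.Z10, .Z9, .Z6, .Z5, .Z2, .Z0, .X10, .X9, .X8, .X7, .X5, .X3, .X2, .X1, .y10, .y8, .y7, .y5, .y4, .p3, .hi, .p3,
   .hi, .p9, .hi, .p7, .hi, .p3, .hi, .p7, .xii, .hi, .p8, .xii, .y4, .taui, .y1, .xii, .p10, .xii, .y1, .y7, .p10,
   .xii, .y10, .tau, .p2, .xii, .p3, .hi, .xii, .y8, .p3, .y5, .taui, .xii, .p5, .hi, .xii, .y4, .hi, .p8, .tau, .xii,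
   .y2, .p7],
  [.Z7, .Z6, .Z4, .Z3, .Z2, .X9, .X7, .X4, .X3, .X1, .X0, .y7, .y4, .p9, .hi, .p7, .hi, .p4, .hi, .p7, .hi, .p8, .xii,
   .p, .xii, .hi, .p8, .y3, .tau, .xii, .y2, .p, .xii, .y2, .hi, .xii, .y3, .tau, .p4, .xii, .y2, .p7, .xii, .y9, .hi,
   .p8, .hi, .taui, .xii, .p5, .xii, .p9, .xii, .y3, .y10, .tau, .xii, .p4],
  [.z, .Z10, .Z9, .Z8, .Z5, .Z4, .Z3, .Z2, .X10, .X9, .X8, .X7, .y10, .y7, .y6, .y5, .y4, .y1, .p4, .hi, .p, .hi, .p3,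
   .hi, .p3, .hi, .p, .hi, .xii, .p, .xii, .y4, .y10, .hi, .xii, .y4, .y5, .tau, .xii, .y2, .p, .xii, .y4, .hi, .xii,
   .y7, .y10, .tau, .xii, .p5, .xii, .p, .y8, .xii, .y5, .tau, .xii, .p7, .xii, .p10, .hi, .p4, .y8, .tau, .xii, .p10,
   .hi, .p4]⟩

theorem h719 : Hd F (g wAd) b719 := hdD (by decide +kernel)
theorem r719_0 : R9 F (g wAd) b719 [] 0 0 := .of (startD 0 1) (by decide +kernel)
theorem r719_1 : R9 F (g wAd) b719 [] 0 1 := .of (startD 0 1) (by decide +kernel)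
theorem r719_2 : R9 F (g wAd) b719 [] 0 2 := .of (startD 0 1) (by decide +kernel)
theorem r719_3 : R9 F (g wAd) b719 [] 1 0 := .of (startD 0 1) (by decide +kernel)
theorem r719_4 : R9 F (g wAd) b719 [] 1 1 := .of (startD 0 1) (by decide +kernel)
theorem r719_5 : R9 F (g wAd) b719 [] 1 2 := .of (startD 0 1) (by decide +kernel)
theorem r719_6 : R9 F (g wAd) b719 [] 2 0 := .of (startD 0 1) (by decide +kernel)
theorem r719_7 : R9 F (g wAd) b719 [] 2 1 := .of (startD 0 1) (by decide +kernel)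
theorem r719_8 : R9 F (g wAd) b719 [] 2 2 := .of (startD 0 1) (by decide +kernel)
theorem g719 : Gd F (g wAd) (0, d719) [] :=
  good9 ok h719 r719_0 r719_1 r719_2 r719_3 r719_4 r719_5 r719_6 r719_7 r719_8

theorem all : AllG F (g wAd) LD71 :=
  .cons g710 (.cons g711 (.cons g712 (.cons g713 (.cons g714 (.cons g715 (.cons g716 (.cons g717 (.cons g718 (.cons g719 (.nil))))))))))

end Cfsg.Agent.BX.No33.Bk.D71
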