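import Cfsg.Agent.BX.No33.Cheap
set_option linter.all false

/-!
# Tests, diagonal case, part 72 (helper5; generated)
-/

set_option autoImplicit false
set_option maxRecDepth 100000
set_option Elab.async false

namespace Cfsg.Agent.BX.No33.Bk.D72

open Cfsg.Agent.H819.U33 Cfsg.Agent.BX.No33.Front

def b720 : Wd := ⟨0, d720,
  [.z, .Z9, .Z8, .Z7, .Z6, .Z4, .Z0, .X10, .X4, .y6, .y1, .p, .hi, .p4, .hi, .p8, .hi, .p3, .hi, .p4, .hi, .xii, .p10,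
   .xii, .y6, .p8, .xii, .tau, .xii, .y1, .p, .xii, .p, .y7, .xii, .y6, .tau, .p7, .xii, .p, .xii, .y1, .y3, .hi, .p5,
   .tau, .xii, .p9, .xii, .p6, .xii, .p4, .tau, .xii, .y2, .p3],
  [.z, .Z9, .Z7, .Z5, .Z4, .Z1, .X8, .X0, .y10, .y8, .y4, .p6, .hi, .p3, .hi, .p9, .hi, .p7, .hi, .p4, .xii, .p10,
   .xii, .y8, .p8, .xii, .y4, .taui, .xii, .y1, .p, .xii, .p, .xii, .y3, .y8, .tau, .p2, .xii, .y6, .p4, .xii, .y4,
   .y9, .p, .hi, .taui, .xii, .p2, .xii, .p4, .y10, .xii, .tau],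
  [.z, .Z8, .Z6, .Z4, .Z2, .Z1, .Z0, .X9, .X8, .X7, .X5, .X4, .X3, .X2, .X1, .y10, .y9, .y8, .y6, .y5, .y2, .y1, .p6,
   .hi, .p4, .hi, .p4, .hi, .p7, .hi, .p4, .hi, .xii, .p, .xii, .p7, .taui, .y1, .xii, .p10, .xii, .y2, .p10, .xii,
   .taui, .p6, .xii, .p9, .xii, .y9, .tau, .xii, .y2, .p3, .xii, .p7, .xii, .y7, .taui, .xii, .p6, .xii, .y8]⟩

theorem h720 : Hd F (g wAd) b720 := hdD (by decide +kernel)
theorem r720_0 : R9 F (g wAd) b720 [] 0 0 := .of (startD 0 1) (by decide +kernel)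
theorem r720_1 : R9 F (g wAd) b720 [] 0 1 := .of (startD 0 1) (by decide +kernel)
theorem r720_2 : R9 F (g wAd) b720 [] 0 2 := .of (startD 0 1) (by decide +kernel)
theorem r720_3 : R9 F (g wAd) b720 [] 1 0 := .of (startD 0 1) (by decide +kernel)
theorem r720_4 : R9 F (g wAd) b720 [] 1 1 := .of (startD 0 1) (by decide +kernel)
theorem r720_5 : R9 F (g wAd) b720 [] 1 2 := .of (startD 0 1) (by decide +kernel)
theorem r720_6 : R9 F (g wAd) b720 [] 2 0 := .of (startD 0 1) (by decide +kernel)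
theorem r720_7 : R9 F (g wAd) b720 [] 2 1 := .of (startD 0 1) (by decide +kernel)
theorem r720_8 : R9 F (g wAd) b720 [] 2 2 := .of (startD 0 1) (by decide +kernel)
theorem g720 : Gd F (g wAd) (0, d720) [] :=
  good9 ok h720 r720_0 r720_1 r720_2 r720_3 r720_4 r720_5 r720_6 r720_7 r720_8

def b721 : Wd := ⟨0, d721,
  [.z, .Z7, .Z6, .Z4, .Z3, .Z1, .X8, .X7, .X6, .X5, .X4, .X3, .X1, .y8, .y7, .y6, .y5, .y4, .y3, .y2, .hi, .p2, .hi,
   .p6, .hi, .p10, .hi, .p7, .hi, .p9, .xii, .hi, .xii, .p8, .y2, .xii, .y4, .taui, .y1, .xii, .y2, .hi, .xii, .y10,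
   .p10, .xii, .y10, .taui, .y1, .p2, .xii, .p, .xii, .y1, .y2, .hi, .p8, .taui, .xii, .p5, .xii, .y2, .p8, .y10,
   .xii, .y7, .tau, .xii, .hi, .p3],
  [.z, .Z9, .Z7, .Z4, .Z0, .X10, .X7, .X5, .X4, .X3, .X2, .X1, .y10, .y9, .y7, .y3, .y1, .p2, .hi, .p7, .hi, .p3, .hi,
   .p5, .hi, .p, .xii, .p3, .hi, .xii, .p6, .y3, .taui, .xii, .p, .xii, .y3, .hi, .xii, .y7, .taui, .hi, .xii, .hi,
   .p6, .xii, .y4, .p2, .y4, .taui, .xii, .hi, .p6, .xii, .y3, .y9, .p3, .taui, .xii, .p7],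
  [.Z8, .Z7, .Z6, .Z4, .Z2, .Z1, .Z0, .X10, .X9, .X8, .X7, .X6, .X5, .X2, .y5, .y4, .y1, .hi, .p4, .hi, .p10, .hi,
   .p4, .hi, .p, .hi, .p8, .hi, .p4, .xii, .p10, .xii, .p6, .xii, .y7, .y8, .taui, .xii, .y6, .p, .xii, .y2, .p, .xii,
   .y6, .taui, .p7, .xii, .p7, .xii, .y4, .hi, .y4, .p7, .taui, .xii, .p9, .xii, .y7, .y8, .hi, .p8, .tau, .xii, .p8]⟩

theorem h721 : Hd F (g wAd) b721 := hdD (by decide +kernel)
theorem r721_0 : R9 F (g wAd) b721 [] 0 0 := .of (startD 0 1) (by decide +kernel)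
theorem r721_1 : R9 F (g wAd) b721 [] 0 1 := .of (startD 0 1) (by decide +kernel)
theorem r721_2 : R9 F (g wAd) b721 [] 0 2 := .of (startD 0 1) (by decide +kernel)
theorem r721_3 : R9 F (g wAd) b721 [] 1 0 := .of (startD 0 1) (by decide +kernel)
theorem r721_4 : R9 F (g wAd) b721 [] 1 1 := .of (startD 0 1) (by decide +kernel)
theorem r721_5 : R9 F (g wAd) b721 [] 1 2 := .of (startD 0 1) (by decide +kernel)
theorem r721_6 : R9 F (g wAd) b721 [] 2 0 := .of (startD 0 1) (by decide +kernel)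
theorem r721_7 : R9 F (g wAd) b721 [] 2 1 := .of (startD 0 1) (by decide +kernel)
theorem r721_8 : R9 F (g wAd) b721 [] 2 2 := .of (startD 0 1) (by decide +kernel)
theorem g721 : Gd F (g wAd) (0, d721) [] :=
  good9 ok h721 r721_0 r721_1 r721_2 r721_3 r721_4 r721_5 r721_6 r721_7 r721_8

def b722 : Wd := ⟨0, d722,
  [.Z9, .Z8, .Z7, .Z6, .Z5, .Z3, .Z1, .X10, .X9, .X8, .X7, .X5, .y10, .y8, .y6, .y4, .p8, .hi, .p5, .hi, .p10, .hi,
   .p7, .hi, .p9, .hi, .p, .hi, .xii, .p, .xii, .p8, .y1, .xii, .y5, .tau, .xii, .y2, .p, .xii, .y4, .hi, .xii, .y4,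
   .y5, .tau, .X0, .p4, .xii, .p5, .xii, .p8, .y4, .hi, .tau, .xii, .p5, .xii, .p2, .xii, .y1, .y9, .tau, .xii, .y7,
   .p8],
  [.Z10, .Z7, .Z5, .Z4, .Z3, .Z2, .Z0, .X5, .X3, .X2, .X1, .y10, .y7, .y6, .y5, .y4, .y1, .p2, .hi, .p5, .hi, .p6,
   .hi, .p3, .hi, .p10, .hi, .p5, .xii, .hi, .p8, .xii, .y1, .y7, .tau, .xii, .y6, .p, .xii, .y10, .p, .xii, .y6,
   .tau, .X0, .p5, .xii, .y8, .p, .xii, .y4, .hi, .p, .taui, .xii, .y2, .p2, .xii, .y4, .p7, .xii, .y7],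
  [.Z10, .Z9, .Z5, .Z2, .Z0, .X9, .X6, .X5, .X4, .X3, .X2, .X1, .y9, .y7, .y3, .y2, .y1, .p4, .hi, .p8, .hi, .p9, .hi,
   .p6, .xii, .y2, .p2, .hi, .xii, .y6, .p3, .tau, .xii, .p, .xii, .y1, .hi, .xii, .y5, .y9, .y10, .tau, .X0, .p10,
   .xii, .y2, .p9, .xii, .y3, .hi, .tau, .xii, .p7, .xii, .y1, .p5, .y2, .xii, .y8, .taui, .xii, .p8]⟩

theorem h722 : Hd F (g wAd) b722 := hdD (by decide +kernel)
theorem r722_0 : R9 F (g wAd) b722 [] 0 0 := .of (startD 0 1) (by decide +kernel)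
theorem r722_1 : R9 F (g wAd) b722 [] 0 1 := .of (startD 0 1) (by decide +kernel)
theorem r722_2 : R9 F (g wAd) b722 [] 0 2 := .of (startD 0 1) (by decide +kernel)
theorem r722_3 : R9 F (g wAd) b722 [] 1 0 := .of (startD 0 1) (by decide +kernel)
theorem r722_4 : R9 F (g wAd) b722 [] 1 1 := .of (startD 0 1) (by decide +kernel)
theorem r722_5 : R9 F (g wAd) b722 [] 1 2 := .of (startD 0 1) (by decide +kernel)
theorem r722_6 : R9 F (g wAd) b722 [] 2 0 := .of (startD 0 1) (by decide +kernel)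
theorem r722_7 : R9 F (g wAd) b722 [] 2 1 := .of (startD 0 1) (by decide +kernel)
theorem r722_8 : R9 F (g wAd) b722 [] 2 2 := .of (startD 0 1) (by decide +kernel)
theorem g722 : Gd F (g wAd) (0, d722) [] :=
  good9 ok h722 r722_0 r722_1 r722_2 r722_3 r722_4 r722_5 r722_6 r722_7 r722_8

def b723 : Wd := ⟨0, d723,
  [.Z10, .Z9, .Z7, .Z5, .Z2, .Z1, .X10, .X7, .X4, .X3, .X2, .y9, .y5, .y2, .y1, .p5, .hi, .p7, .hi, .p3, .hi, .p10,
   .hi, .p3, .hi, .p7, .hi, .xii, .p10, .hi, .p, .tau, .y1, .xii, .p10, .xii, .y1, .y7, .p10, .xii, .y9, .taui, .X0,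
   .p8, .xii, .y2, .p, .xii, .y2, .hi, .p5, .tau, .xii, .p3, .xii, .y4, .p6, .xii, .y4, .tau, .xii, .p, .xii, .y6],
  [.z, .Z9, .Z8, .Z6, .Z4, .Z1, .Z0, .X10, .X9, .X8, .X5, .X4, .X3, .X2, .X1, .X0, .y10, .y9, .y2, .hi, .p, .hi, .p3,
   .hi, .p5, .hi, .p9, .hi, .p7, .xii, .hi, .p8, .hi, .p2, .taui, .xii, .y6, .p, .xii, .y4, .p, .xii, .y1, .y4, .taui,
   .xii, .y1, .p2, .xii, .p, .xii, .y8, .hi, .tau, .xii, .hi, .p6, .xii, .y4, .hi, .p8, .taui, .xii, .y2, .p7],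
  [.z, .Z7, .Z5, .Z2, .Z1, .Z0, .X10, .X9, .X4, .X3, .X1, .X0, .y10, .y9, .y8, .y7, .y3, .y1, .p9, .hi, .p5, .hi, .p5,
   .hi, .p, .hi, .p10, .hi, .xii, .p, .xii, .y3, .taui, .xii, .y1, .p, .xii, .y4, .y10, .p, .xii, .y7, .tau, .xii,
   .p7, .xii, .y7, .p9, .xii, .y1, .y5, .p3, .tau, .xii, .y2, .p4, .xii, .p, .y8, .taui, .xii, .p7]⟩

theorem h723 : Hd F (g wAd) b723 := hdD (by decide +kernel)
theorem r723_0 : R9 F (g wAd) b723 [] 0 0 := .of (startD 0 1) (by decide +kernel)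
theorem r723_1 : R9 F (g wAd) b723 [] 0 1 := .of (startD 0 1) (by decide +kernel)
theorem r723_2 : R9 F (g wAd) b723 [] 0 2 := .of (startD 0 1) (by decide +kernel)
theorem r723_3 : R9 F (g wAd) b723 [] 1 0 := .of (startD 0 1) (by decide +kernel)
theorem r723_4 : R9 F (g wAd) b723 [] 1 1 := .of (startD 0 1) (by decide +kernel)
theorem r723_5 : R9 F (g wAd) b723 [] 1 2 := .of (startD 0 1) (by decide +kernel)
theorem r723_6 : R9 F (g wAd) b723 [] 2 0 := .of (startD 0 1) (by decide +kernel)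
theorem r723_7 : R9 F (g wAd) b723 [] 2 1 := .of (startD 0 1) (by decide +kernel)
theorem r723_8 : R9 F (g wAd) b723 [] 2 2 := .of (startD 0 1) (by decide +kernel)
theorem g723 : Gd F (g wAd) (0, d723) [] :=
  good9 ok h723 r723_0 r723_1 r723_2 r723_3 r723_4 r723_5 r723_6 r723_7 r723_8

def b724 : Wd := ⟨0, d724,
  [.z, .Z10, .Z9, .Z4, .Z1, .Z0, .X7, .X5, .X4, .X2, .X1, .X0, .y10, .y8, .y5, .y1, .p4, .hi, .p8, .hi, .p8, .hi, .p3,
   .hi, .p4, .hi, .p6, .xii, .y2, .hi, .p8, .taui, .y1, .xii, .p10, .xii, .y1, .y7, .p10, .xii, .y4, .tau, .y1, .xii,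
   .y6, .p10, .xii, .y8, .p10, .xii, .tau, .p5, .xii, .p10, .y7, .xii, .tau, .xii, .p7, .xii, .y4, .y7, .p10, .hi,
   .p3, .hi, .tau, .xii, .p5, .xii, .y5],
  [.Z10, .Z9, .Z7, .Z6, .Z2, .Z1, .X10, .X7, .X5, .X0, .y9, .y7, .y5, .y3, .y1, .p4, .hi, .p, .hi, .p5, .hi, .p9, .hi,
   .p8, .xii, .y2, .p3, .hi, .tau, .xii, .y2, .p, .xii, .y2, .hi, .xii, .y7, .y10, .taui, .y1, .p7, .xii, .p9, .xii,
   .y7, .p5, .xii, .y8, .tau, .xii, .p7, .xii, .y9, .p7, .xii, .y3, .tau],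
  [.Z9, .Z7, .Z6, .Z4, .Z2, .Z0, .X10, .X9, .X5, .X4, .X3, .y8, .y7, .y3, .y1, .p3, .hi, .p9, .hi, .p3, .hi, .p8, .hi,
   .p9, .hi, .p7, .hi, .xii, .y2, .hi, .p10, .hi, .p8, .taui, .y1, .xii, .p10, .xii, .y5, .p10, .xii, .y2, .y8, .tau,
   .p9, .xii, .p10, .xii, .p3, .hi, .p5, .y6, .tau, .xii, .p8, .xii, .y1, .y3, .p4, .xii, .y9, .y10, .tau, .xii, .p5,
   .hi, .p8]⟩

theorem h724 : Hd F (g wAd) b724 := hdD (by decide +kernel)
theorem r724_0 : R9 F (g wAd) b724 [] 0 0 := .of (startD 0 1) (by decide +kernel)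
theorem r724_1 : R9 F (g wAd) b724 [] 0 1 := .of (startD 0 1) (by decide +kernel)
theorem r724_2 : R9 F (g wAd) b724 [] 0 2 := .of (startD 0 1) (by decide +kernel)
theorem r724_3 : R9 F (g wAd) b724 [] 1 0 := .of (startD 0 1) (by decide +kernel)
theorem r724_4 : R9 F (g wAd) b724 [] 1 1 := .of (startD 0 1) (by decide +kernel)
theorem r724_5 : R9 F (g wAd) b724 [] 1 2 := .of (startD 0 1) (by decide +kernel)
theorem r724_6 : R9 F (g wAd) b724 [] 2 0 := .of (startD 0 1) (by decide +kernel)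
theorem r724_7 : R9 F (g wAd) b724 [] 2 1 := .of (startD 0 1) (by decide +kernel)
theorem r724_8 : R9 F (g wAd) b724 [] 2 2 := .of (startD 0 1) (by decide +kernel)
theorem g724 : Gd F (g wAd) (0, d724) [] :=
  good9 ok h724 r724_0 r724_1 r724_2 r724_3 r724_4 r724_5 r724_6 r724_7 r724_8

def b725 : Wd := ⟨0, d725,
  [.z, .Z10, .Z8, .Z3, .Z2, .Z0, .X9, .X7, .X6, .X5, .y7, .y5, .y3, .y2, .y1, .p2, .hi, .p7, .hi, .p8, .hi, .p8, .hi,
   .p10, .hi, .xii, .y2, .p, .xii, .p8, .xii, .y1, .y9, .taui, .xii, .y6, .p, .xii, .p, .xii, .y4, .y6, .taui, .X0,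
   .p2, .xii, .p7, .xii, .p5, .y10, .hi, .p4, .taui, .xii, .p7, .xii, .y7, .p5, .hi, .p5, .tau, .xii, .y2, .p7],
  [.Z7, .X9, .X8, .X7, .X6, .X5, .X2, .X1, .X0, .y10, .y9, .y8, .y7, .y3, .y2, .y1, .hi, .p, .hi, .p, .hi, .p7, .hi,
   .p7, .hi, .p4, .hi, .p3, .xii, .y2, .p, .xii, .p4, .hi, .p5, .taui, .X0, .p9, .xii, .p3, .xii, .y1, .y3, .p4, .tau,
   .xii, .p9, .xii, .y9, .p9, .xii, .y9, .tau, .xii, .y2, .hi, .xii],
  [.Z10, .Z9, .Z5, .Z3, .Z1, .X9, .y10, .y7, .y5, .y1, .p7, .hi, .p6, .hi, .p10, .hi, .p3, .hi, .p6, .hi, .xii, .y2,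
   .hi, .p8, .hi, .p5, .hi, .tau, .xii, .p, .xii, .y4, .hi, .xii, .y6, .y10, .taui, .xii, .p, .xii, .y2, .hi, .xii,
   .y5, .y10, .tau, .p10, .xii, .y5, .p10, .xii, .taui, .xii, .p7, .xii, .y2, .p3, .xii, .y2, .y7, .tau, .xii, .y7,
   .p]⟩

theorem h725 : Hd F (g wAd) b725 := hdD (by decide +kernel)
theorem r725_0 : R9 F (g wAd) b725 [] 0 0 := .of (startD 0 1) (by decide +kernel)
theorem r725_1 : R9 F (g wAd) b725 [] 0 1 := .of (startD 0 1) (by decide +kernel)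
theorem r725_2 : R9 F (g wAd) b725 [] 0 2 := .of (startD 0 1) (by decide +kernel)
theorem r725_3 : R9 F (g wAd) b725 [] 1 0 := .of (startD 0 1) (by decide +kernel)
theorem r725_4 : R9 F (g wAd) b725 [] 1 1 := .of (startD 0 1) (by decide +kernel)
theorem r725_5 : R9 F (g wAd) b725 [] 1 2 := .of (startD 0 1) (by decide +kernel)
theorem r725_6 : R9 F (g wAd) b725 [] 2 0 := .of (startD 0 1) (by decide +kernel)
theorem r725_7 : R9 F (g wAd) b725 [] 2 1 := .of (startD 0 1) (by decide +kernel)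
theorem r725_8 : R9 F (g wAd) b725 [] 2 2 := .of (startD 0 1) (by decide +kernel)
theorem g725 : Gd F (g wAd) (0, d725) [] :=
  good9 ok h725 r725_0 r725_1 r725_2 r725_3 r725_4 r725_5 r725_6 r725_7 r725_8

def b726 : Wd := ⟨0, d726,
  [.z, .Z10, .Z8, .Z7, .Z3, .Z2, .Z0, .X9, .X7, .X5, .X1, .X0, .y5, .y2, .y1, .p8, .hi, .p8, .hi, .p4, .hi, .p6, .hi,
   .p10, .hi, .p9, .xii, .p, .xii, .y3, .hi, .xii, .y7, .tau, .xii, .y1, .p, .xii, .y2, .p, .xii, .y3, .tau, .y1,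
   .xii, .p8, .xii, .y7, .p2, .xii, .y7, .p2, .taui, .xii, .p5, .xii, .y1, .y6, .p9, .tau, .xii, .y2, .p7],
  [.z, .Z9, .Z7, .Z5, .Z4, .Z3, .Z1, .X10, .X5, .X4, .X1, .y10, .y7, .y2, .p10, .hi, .p5, .hi, .p8, .hi, .p5, .hi,
   .p9, .hi, .p4, .hi, .xii, .hi, .p8, .xii, .y2, .y9, .p10, .tau, .X0, .y1, .p8, .xii, .hi, .p8, .xii, .p5, .y9,
   .taui, .xii, .p5, .xii, .y3, .y4, .p10, .hi, .tau, .xii, .p10, .hi, .p4],
  [.Z10, .Z9, .Z7, .Z6, .Z4, .Z3, .Z1, .X9, .X8, .X5, .X2, .X1, .X0, .y10, .y8, .y6, .y5, .y4, .y3, .y2, .y1, .p4,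
   .hi, .p4, .hi, .p7, .hi, .p7, .hi, .p9, .xii, .p, .xii, .y6, .p9, .xii, .y4, .taui, .xii, .p, .xii, .y3, .y10, .hi,
   .xii, .y3, .tau, .X0, .p8, .xii, .y5, .p4, .xii, .p2, .y7, .taui, .xii, .y2, .p7, .xii, .y6, .p5, .xii, .tau, .xii,
   .p2]⟩

theorem h726 : Hd F (g wAd) b726 := hdD (by decide +kernel)
theorem r726_0 : R9 F (g wAd) b726 [] 0 0 := .of (startD 0 2) (by decide +kernel)
theorem r726_1 : R9 F (g wAd) b726 [] 0 1 := .of (startD 0 1) (by decide +kernel)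
theorem r726_2 : R9 F (g wAd) b726 [] 0 2 := .of (startD 0 1) (by decide +kernel)
theorem r726_3 : R9 F (g wAd) b726 [] 1 0 := .of (startD 0 1) (by decide +kernel)
theorem r726_4 : R9 F (g wAd) b726 [] 1 1 := .of (startD 0 1) (by decide +kernel)
theorem r726_5 : R9 F (g wAd) b726 [] 1 2 := .of (startD 0 1) (by decide +kernel)
theorem r726_6 : R9 F (g wAd) b726 [] 2 0 := .of (startD 0 1) (by decide +kernel)
theorem r726_7 : R9 F (g wAd) b726 [] 2 1 := .of (startD 0 1) (by decide +kernel)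
theorem r726_8 : R9 F (g wAd) b726 [] 2 2 := .of (startD 0 1) (by decide +kernel)
theorem g726 : Gd F (g wAd) (0, d726) [] :=
  good9 ok h726 r726_0 r726_1 r726_2 r726_3 r726_4 r726_5 r726_6 r726_7 r726_8

def b727 : Wd := ⟨0, d727,
  [.Z10, .Z9, .Z8, .Z7, .Z4, .Z3, .Z2, .X10, .X9, .X7, .X5, .X4, .X2, .X0, .y9, .y8, .y7, .y6, .y3, .y2, .p2, .hi,
   .p6, .hi, .p8, .hi, .p4, .hi, .p3, .hi, .p3, .xii, .y2, .hi, .p8, .xii, .y4, .p10, .tau, .xii, .p, .xii, .hi, .y8,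
   .xii, .y7, .y8, .y10, .taui, .X0, .xii, .p4, .xii, .y3, .p9, .y9, .xii, .y10, .taui, .xii, .p4, .xii, .y4, .p5,
   .xii, .y1, .y5, .taui, .xii, .hi, .p5],
  [.Z9, .Z8, .Z7, .Z6, .Z5, .Z4, .Z3, .Z1, .X8, .X7, .X6, .X5, .X2, .X0, .y9, .y8, .y7, .y6, .y4, .y3, .hi, .p5, .hi,
   .p7, .hi, .p4, .hi, .p7, .hi, .p6, .xii, .p10, .xii, .y4, .p10, .taui, .xii, .p, .xii, .hi, .y8, .xii, .y5, .y9,
   .taui, .X0, .xii, .hi, .xii, .y4, .p2, .xii, .y5, .p6, .taui, .xii, .p6, .xii, .p10, .xii, .y1, .y8],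
  [.z, .Z9, .Z8, .Z7, .Z6, .Z4, .Z2, .Z0, .X10, .X9, .X8, .X6, .X4, .X0, .y8, .y6, .y3, .p, .hi, .p10, .hi, .p2, .hi,
   .p3, .hi, .p3, .hi, .xii, .p10, .xii, .p5, .y5, .hi, .p8, .taui, .xii, .p, .xii, .y2, .hi, .xii, .y6, .taui, .p6,
   .xii, .p8, .xii, .p5, .y7, .y10, .tau, .xii, .p4, .xii, .y8, .p4, .xii, .tau, .xii, .hi, .xii, .y8]⟩

theorem h727 : Hd F (g wAd) b727 := hdD (by decide +kernel)
theorem r727_0 : R9 F (g wAd) b727 [] 0 0 := .of (startD 0 1) (by decide +kernel)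
theorem r727_1 : R9 F (g wAd) b727 [] 0 1 := .of (startD 0 1) (by decide +kernel)
theorem r727_2 : R9 F (g wAd) b727 [] 0 2 := .of (startD 0 1) (by decide +kernel)
theorem r727_3 : R9 F (g wAd) b727 [] 1 0 := .of (startD 0 1) (by decide +kernel)
theorem r727_4 : R9 F (g wAd) b727 [] 1 1 := .of (startD 0 1) (by decide +kernel)
theorem r727_5 : R9 F (g wAd) b727 [] 1 2 := .of (startD 0 1) (by decide +kernel)
theorem r727_6 : R9 F (g wAd) b727 [] 2 0 := .of (startD 0 1) (by decide +kernel)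
theorem r727_7 : R9 F (g wAd) b727 [] 2 1 := .of (startD 0 1) (by decide +kernel)
theorem r727_8 : R9 F (g wAd) b727 [] 2 2 := .of (startD 0 1) (by decide +kernel)
theorem g727 : Gd F (g wAd) (0, d727) [] :=
  good9 ok h727 r727_0 r727_1 r727_2 r727_3 r727_4 r727_5 r727_6 r727_7 r727_8

def b728 : Wd := ⟨0, d728,
  [.Z5, .Z4, .Z3, .Z1, .X10, .X6, .X2, .X0, .y10, .y9, .y8, .y7, .y4, .y2, .y1, .hi, .p5, .hi, .p10, .hi, .p5, .hi,
   .p9, .hi, .p5, .hi, .xii, .hi, .p8, .xii, .p2, .y2, .tau, .xii, .y2, .p, .xii, .y4, .hi, .xii, .y2, .y7, .taui,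
   .y1, .xii, .p9, .xii, .p9, .xii, .y9, .p3, .y1, .taui, .xii, .p2, .xii, .y6, .p6, .xii, .y9, .taui, .xii, .p3,
   .xii, .y2],
  [.z, .Z10, .Z9, .Z8, .Z7, .Z6, .Z3, .Z2, .X10, .X6, .X4, .X3, .X2, .X1, .X0, .y10, .y9, .y8, .y6, .y5, .y3, .y2,
   .p6, .hi, .p8, .hi, .p8, .hi, .p, .hi, .p8, .hi, .p8, .hi, .xii, .p10, .xii, .y4, .p10, .xii, .y4, .tau, .p8, .xii,
   .y4, .p4, .xii, .p3, .y2, .hi, .p2, .tau, .xii, .p4, .hi, .xii, .y4, .p7, .hi, .taui, .xii, .y2, .hi, .p8],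
  [.Z8, .Z7, .Z6, .Z4, .Z2, .Z1, .X8, .X4, .X2, .X1, .y9, .y8, .y7, .y6, .y5, .y1, .p9, .hi, .p3, .hi, .p6, .hi, .p9,
   .hi, .p3, .hi, .p8, .hi, .xii, .p10, .xii, .y8, .taui, .xii, .y2, .p, .xii, .y4, .hi, .xii, .y6, .taui, .xii, .p10,
   .xii, .y9, .p8, .xii, .y9, .p10, .taui, .xii, .p2, .xii, .y1, .y10, .p10, .tau, .xii, .p, .hi, .p]⟩

theorem h728 : Hd F (g wAd) b728 := hdD (by decide +kernel)
theorem r728_0 : R9 F (g wAd) b728 [] 0 0 := .of (startD 0 1) (by decide +kernel)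
theorem r728_1 : R9 F (g wAd) b728 [] 0 1 := .of (startD 0 1) (by decide +kernel)
theorem r728_2 : R9 F (g wAd) b728 [] 0 2 := .of (startD 0 1) (by decide +kernel)
theorem r728_3 : R9 F (g wAd) b728 [] 1 0 := .of (startD 0 1) (by decide +kernel)
theorem r728_4 : R9 F (g wAd) b728 [] 1 1 := .of (startD 0 1) (by decide +kernel)
theorem r728_5 : R9 F (g wAd) b728 [] 1 2 := .of (startD 0 1) (by decide +kernel)
theorem r728_6 : R9 F (g wAd) b728 [] 2 0 := .of (startD 0 1) (by decide +kernel)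
theorem r728_7 : R9 F (g wAd) b728 [] 2 1 := .of (startD 0 1) (by decide +kernel)
theorem r728_8 : R9 F (g wAd) b728 [] 2 2 := .of (startD 0 1) (by decide +kernel)
theorem g728 : Gd F (g wAd) (0, d728) [] :=
  good9 ok h728 r728_0 r728_1 r728_2 r728_3 r728_4 r728_5 r728_6 r728_7 r728_8

def b729 : Wd := ⟨0, d729,
  [.Z10, .Z9, .Z7, .Z4, .Z2, .X10, .X9, .X8, .X2, .X1, .X0, .y10, .y9, .y8, .y7, .y6, .y5, .y1, .p6, .hi, .p3, .hi,
   .p6, .hi, .p7, .hi, .p5, .hi, .p10, .hi, .xii, .y2, .hi, .p8, .xii, .y4, .taui, .y1, .xii, .p10, .xii, .y1, .p10,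
   .y9, .xii, .y4, .tau, .X0, .p7, .xii, .p7, .xii, .y2, .y4, .p10, .hi, .p2, .taui, .xii, .p6, .xii, .y7, .p7, .xii,
   .y7, .y10, .taui, .xii, .p5, .xii, .y8],
  [.Z7, .Z4, .Z3, .Z2, .Z0, .X10, .X9, .X8, .X6, .X5, .X4, .X2, .X1, .y10, .y5, .y4, .p3, .hi, .p4, .hi, .p, .hi, .p4,
   .hi, .p3, .hi, .p4, .xii, .p, .xii, .y3, .taui, .xii, .y6, .p, .xii, .y3, .tau, .X0, .y1, .p2, .xii, .p4, .xii,
   .y2, .y3, .y10, .taui, .xii, .p4, .xii, .p3, .hi, .y10, .p, .taui, .xii, .y2, .p5, .hi, .p2],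
  [.z, .Z8, .Z7, .Z5, .Z1, .X9, .X7, .X4, .X0, .y10, .y9, .y6, .y3, .y2, .y1, .p7, .hi, .p4, .hi, .p5, .hi, .p9, .hi,
   .p6, .hi, .xii, .hi, .p8, .xii, .y4, .y7, .p10, .tau, .xii, .y2, .p, .xii, .y2, .hi, .xii, .y7, .y8, .tau, .y1,
   .p6, .xii, .p8, .xii, .y7, .p3, .hi, .p3, .tau, .xii, .hi, .p6, .xii, .y9, .p4, .hi, .p2, .taui, .xii, .y2, .p7]⟩

theorem h729 : Hd F (g wAd) b729 := hdD (by decide +kernel)
theorem r729_0 : R9 F (g wAd) b729 [] 0 0 := .of (startD 0 1) (by decide +kernel)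
theorem r729_1 : R9 F (g wAd) b729 [] 0 1 := .of (startD 0 1) (by decide +kernel)
theorem r729_2 : R9 F (g wAd) b729 [] 0 2 := .of (startD 0 1) (by decide +kernel)
theorem r729_3 : R9 F (g wAd) b729 [] 1 0 := .of (startD 0 1) (by decide +kernel)
theorem r729_4 : R9 F (g wAd) b729 [] 1 1 := .of (startD 0 1) (by decide +kernel)
theorem r729_5 : R9 F (g wAd) b729 [] 1 2 := .of (startD 0 1) (by decide +kernel)
theorem r729_6 : R9 F (g wAd) b729 [] 2 0 := .of (startD 0 1) (by decide +kernel)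
theorem r729_7 : R9 F (g wAd) b729 [] 2 1 := .of (startD 0 1) (by decide +kernel)
theorem r729_8 : R9 F (g wAd) b729 [] 2 2 := .of (startD 0 1) (by decide +kernel)
theorem g729 : Gd F (g wAd) (0, d729) [] :=
  good9 ok h729 r729_0 r729_1 r729_2 r729_3 r729_4 r729_5 r729_6 r729_7 r729_8

theorem all : AllG F (g wAd) LD72 :=
  .cons g720 (.cons g721 (.cons g722 (.cons g723 (.cons g724 (.cons g725 (.cons g726 (.cons g727 (.cons g728 (.cons g729 (.nil))))))))))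

end Cfsg.Agent.BX.No33.Bk.D72
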