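import Cfsg.Agent.BX.No33.Cheap
set_option linter.all false

/-!
# Tests, diagonal case, part 73 (helper5; generated)
-/

set_option autoImplicit false
set_option maxRecDepth 100000
set_option Elab.async false

namespace Cfsg.Agent.BX.No33.Bk.D73

open Cfsg.Agent.H819.U33 Cfsg.Agent.BX.No33.Front

def b730 : Wd := ⟨0, d730,
  [.z, .Z9, .Z8, .Z7, .Z6, .Z1, .Z0, .X10, .X9, .X7, .X6, .X3, .X1, .X0, .y10, .y9, .y8, .y7, .y6, .y5, .y4, .y3,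
   .p10, .hi, .p4, .hi, .p10, .hi, .p5, .hi, .p9, .hi, .p10, .xii, .p10, .xii, .y1, .y7, .p3, .hi, .tau, .y1, .xii,
   .y2, .hi, .xii, .y9, .p10, .xii, .y10, .taui, .p10, .xii, .p9, .xii, .y5, .y7, .hi, .p9, .taui, .xii, .p5, .xii,
   .y1, .p2, .xii, .y8, .tau, .xii, .y4, .p6],
  [.Z9, .Z6, .X8, .X7, .X6, .X5, .X3, .X1, .y10, .y9, .y8, .y5, .y4, .y1, .hi, .p10, .hi, .p, .hi, .p3, .hi, .p, .hi,
   .p4, .hi, .p, .hi, .xii, .p3, .hi, .xii, .y3, .y5, .tau, .y1, .xii, .y2, .p10, .xii, .y10, .taui, .p6, .xii, .p8,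
   .xii, .y9, .taui, .xii, .p7, .xii, .hi, .y8, .p7, .tau, .xii, .hi, .p6],
  [.Z10, .Z9, .Z8, .Z3, .Z2, .Z1, .X8, .X6, .X5, .X3, .X1, .y10, .y8, .y7, .y6, .y5, .y1, .p6, .hi, .p9, .hi, .p3,
   .hi, .p9, .hi, .p3, .hi, .p6, .xii, .p, .xii, .y10, .p2, .hi, .taui, .xii, .y6, .p, .xii, .p, .xii, .y7, .y8,
   .taui, .p4, .xii, .p5, .xii, .p2, .y9, .xii, .y7, .taui, .xii, .p4, .xii, .y5, .p4, .hi, .tau, .xii, .y2, .hi, .p6]⟩

theorem h730 : Hd F (g wAd) b730 := hdD (by decide +kernel)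
theorem r730_0 : R9 F (g wAd) b730 [] 0 0 := .of (startD 0 1) (by decide +kernel)
theorem r730_1 : R9 F (g wAd) b730 [] 0 1 := .of (startD 0 1) (by decide +kernel)
theorem r730_2 : R9 F (g wAd) b730 [] 0 2 := .of (startD 0 1) (by decide +kernel)
theorem r730_3 : R9 F (g wAd) b730 [] 1 0 := .of (startD 0 1) (by decide +kernel)
theorem r730_4 : R9 F (g wAd) b730 [] 1 1 := .of (startD 0 1) (by decide +kernel)
theorem r730_5 : R9 F (g wAd) b730 [] 1 2 := .of (startD 0 1) (by decide +kernel)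
theorem r730_6 : R9 F (g wAd) b730 [] 2 0 := .of (startD 0 1) (by decide +kernel)
theorem r730_7 : R9 F (g wAd) b730 [] 2 1 := .of (startD 0 1) (by decide +kernel)
theorem r730_8 : R9 F (g wAd) b730 [] 2 2 := .of (startD 0 1) (by decide +kernel)
theorem g730 : Gd F (g wAd) (0, d730) [] :=
  good9 ok h730 r730_0 r730_1 r730_2 r730_3 r730_4 r730_5 r730_6 r730_7 r730_8

def b731 : Wd := ⟨0, d731,
  [.z, .Z9, .Z7, .Z6, .Z3, .Z1, .Z0, .X8, .X6, .X5, .X4, .X3, .X2, .y10, .y6, .y4, .y1, .p9, .hi, .p6, .hi, .p8, .hi,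
   .p3, .hi, .p6, .hi, .p, .hi, .xii, .p10, .hi, .p6, .hi, .p2, .tau, .xii, .p, .xii, .y2, .hi, .xii, .y5, .y8, .taui,
   .p2, .xii, .y6, .p7, .xii, .y4, .tau, .xii, .p5, .xii, .y8, .p8, .xii, .y2, .y10, .taui, .xii, .hi, .p9],
  [.z, .Z10, .Z9, .Z8, .Z5, .Z4, .Z2, .X10, .X9, .X7, .X6, .X5, .X2, .X1, .X0, .y9, .y7, .y4, .y2, .y1, .hi, .p7, .hi,
   .p4, .hi, .p6, .hi, .p5, .hi, .p8, .xii, .y2, .hi, .p4, .hi, .p4, .taui, .xii, .y1, .hi, .p8, .xii, .y3, .p10,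
   .taui, .X0, .p6, .xii, .p2, .xii, .y4, .p2, .taui, .xii, .hi, .p6, .xii, .y7, .p4, .y2, .hi, .taui, .xii, .y2, .p],
  [.Z10, .Z9, .Z8, .Z6, .Z4, .Z3, .Z0, .X8, .X6, .X5, .X4, .X3, .X1, .X0, .y10, .y9, .y8, .hi, .p9, .hi, .p3, .hi,
   .p8, .hi, .p7, .hi, .xii, .hi, .xii, .p10, .taui, .y1, .xii, .p10, .xii, .y8, .p10, .xii, .y4, .taui, .y1, .xii,
   .p10, .xii, .y1, .y9, .p10, .xii, .tau, .X0, .p9, .xii, .y4, .p10, .xii, .y2, .tau, .xii, .p7, .xii, .y1, .y4,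
   .p10, .hi, .p4]⟩

theorem h731 : Hd F (g wAd) b731 := hdD (by decide +kernel)
theorem r731_0 : R9 F (g wAd) b731 [] 0 0 := .of (startD 0 1) (by decide +kernel)
theorem r731_1 : R9 F (g wAd) b731 [] 0 1 := .of (startD 0 1) (by decide +kernel)
theorem r731_2 : R9 F (g wAd) b731 [] 0 2 := .of (startD 0 1) (by decide +kernel)
theorem r731_3 : R9 F (g wAd) b731 [] 1 0 := .of (startD 0 1) (by decide +kernel)
theorem r731_4 : R9 F (g wAd) b731 [] 1 1 := .of (startD 0 1) (by decide +kernel)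
theorem r731_5 : R9 F (g wAd) b731 [] 1 2 := .of (startD 0 1) (by decide +kernel)
theorem r731_6 : R9 F (g wAd) b731 [] 2 0 := .of (startD 0 2) (by decide +kernel)
theorem r731_7 : R9 F (g wAd) b731 [] 2 1 := .of (startD 0 1) (by decide +kernel)
theorem r731_8 : R9 F (g wAd) b731 [] 2 2 := .of (startD 0 2) (by decide +kernel)
theorem g731 : Gd F (g wAd) (0, d731) [] :=
  good9 ok h731 r731_0 r731_1 r731_2 r731_3 r731_4 r731_5 r731_6 r731_7 r731_8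

def b732 : Wd := ⟨0, d732,
  [.Z9, .Z8, .Z6, .Z5, .Z4, .Z2, .Z0, .X8, .X7, .X5, .X4, .X1, .y8, .y6, .y5, .y3, .y2, .y1, .p6, .hi, .p, .hi, .p7,
   .hi, .p8, .hi, .p3, .hi, .p9, .xii, .hi, .xii, .p5, .hi, .p5, .tau, .y1, .xii, .y2, .hi, .xii, .p10, .xii, .y1,
   .y7, .taui, .xii, .hi, .xii, .y1, .p10, .xii, .p9, .y9, .tau, .xii, .p5, .xii, .y6, .p8, .xii, .y4, .taui, .xii,
   .p8, .xii, .y6],
  [.z, .Z10, .Z9, .Z8, .Z7, .Z5, .Z4, .Z3, .Z1, .Z0, .X10, .X6, .X2, .y6, .y4, .y2, .p8, .hi, .p6, .hi, .p4, .hi, .p5,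
   .hi, .p6, .hi, .p10, .hi, .xii, .p, .xii, .y3, .p3, .hi, .taui, .xii, .y1, .p, .xii, .y4, .y10, .p, .xii, .y7,
   .taui, .xii, .p7, .xii, .y10, .p7, .xii, .y7, .p2, .y2, .tau, .xii, .y2, .p5, .xii, .y7, .hi, .p],
  [.Z10, .Z4, .Z1, .Z0, .X7, .X6, .X5, .X4, .X2, .y10, .y8, .y7, .y6, .y4, .y2, .p3, .hi, .p4, .hi, .p3, .hi, .p4,
   .hi, .p9, .xii, .y2, .p10, .hi, .p2, .hi, .p10, .taui, .xii, .y6, .p, .xii, .p, .xii, .y7, .taui, .p7, .xii, .y6,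
   .p7, .xii, .p5, .hi, .y4, .p6, .tau, .xii, .p7, .xii, .p8, .y3, .xii, .y1, .tau, .xii, .y8, .p7]⟩

theorem h732 : Hd F (g wAd) b732 := hdD (by decide +kernel)
theorem r732_0 : R9 F (g wAd) b732 [] 0 0 := .of (startD 0 1) (by decide +kernel)
theorem r732_1 : R9 F (g wAd) b732 [] 0 1 := .of (startD 0 1) (by decide +kernel)
theorem r732_2 : R9 F (g wAd) b732 [] 0 2 := .of (startD 0 1) (by decide +kernel)
theorem r732_3 : R9 F (g wAd) b732 [] 1 0 := .of (startD 0 1) (by decide +kernel)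
theorem r732_4 : R9 F (g wAd) b732 [] 1 1 := .of (startD 0 1) (by decide +kernel)
theorem r732_5 : R9 F (g wAd) b732 [] 1 2 := .of (startD 0 1) (by decide +kernel)
theorem r732_6 : R9 F (g wAd) b732 [] 2 0 := .of (startD 0 1) (by decide +kernel)
theorem r732_7 : R9 F (g wAd) b732 [] 2 1 := .of (startD 0 1) (by decide +kernel)
theorem r732_8 : R9 F (g wAd) b732 [] 2 2 := .of (startD 0 1) (by decide +kernel)
theorem g732 : Gd F (g wAd) (0, d732) [] :=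
  good9 ok h732 r732_0 r732_1 r732_2 r732_3 r732_4 r732_5 r732_6 r732_7 r732_8

def b733 : Wd := ⟨0, d733,
  [.z, .Z8, .Z4, .Z3, .Z2, .Z1, .X10, .X9, .X8, .X7, .X3, .X1, .y8, .y6, .y2, .y1, .p9, .hi, .p8, .hi, .p8, .hi, .p,
   .hi, .p7, .hi, .p3, .xii, .p3, .hi, .tau, .y1, .xii, .p10, .xii, .y4, .p10, .xii, .y1, .y5, .tau, .X0, .xii, .p3,
   .xii, .y1, .y7, .p10, .xii, .y7, .p2, .taui, .xii, .p6, .xii, .p, .xii, .y1, .y4, .tau, .xii, .y2, .hi, .p6],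
  [.Z10, .Z6, .Z2, .X9, .X7, .X5, .X4, .X3, .y10, .y8, .y7, .y5, .y1, .hi, .p10, .hi, .p9, .hi, .p5, .hi, .p7, .xii,
   .y2, .p10, .hi, .p8, .tau, .xii, .y2, .p, .xii, .y2, .hi, .xii, .y3, .y10, .tau, .X0, .xii, .p10, .xii, .p9, .xii,
   .p2, .y3, .y4, .tau, .xii, .p8, .xii, .y1, .y5, .p2, .xii, .taui, .xii, .p],
  [.Z9, .Z7, .Z3, .Z2, .Z0, .X9, .X6, .X4, .X3, .y7, .y2, .y1, .p10, .hi, .p5, .hi, .p6, .hi, .p9, .hi, .p8, .hi,
   .p10, .hi, .xii, .p3, .hi, .xii, .y8, .tau, .xii, .p, .xii, .y4, .y10, .hi, .xii, .y7, .y10, .taui, .p9, .xii, .hi,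
   .xii, .y8, .p7, .taui, .xii, .p9, .xii, .y9, .hi, .y7, .p7, .tau, .xii, .hi, .p6]⟩

theorem h733 : Hd F (g wAd) b733 := hdD (by decide +kernel)
theorem r733_0 : R9 F (g wAd) b733 [] 0 0 := .of (startD 0 1) (by decide +kernel)
theorem r733_1 : R9 F (g wAd) b733 [] 0 1 := .of (startD 0 1) (by decide +kernel)
theorem r733_2 : R9 F (g wAd) b733 [] 0 2 := .of (startD 0 1) (by decide +kernel)
theorem r733_3 : R9 F (g wAd) b733 [] 1 0 := .of (startD 0 1) (by decide +kernel)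
theorem r733_4 : R9 F (g wAd) b733 [] 1 1 := .of (startD 0 1) (by decide +kernel)
theorem r733_5 : R9 F (g wAd) b733 [] 1 2 := .of (startD 0 1) (by decide +kernel)
theorem r733_6 : R9 F (g wAd) b733 [] 2 0 := .of (startD 0 1) (by decide +kernel)
theorem r733_7 : R9 F (g wAd) b733 [] 2 1 := .of (startD 0 1) (by decide +kernel)
theorem r733_8 : R9 F (g wAd) b733 [] 2 2 := .of (startD 0 1) (by decide +kernel)
theorem g733 : Gd F (g wAd) (0, d733) [] :=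
  good9 ok h733 r733_0 r733_1 r733_2 r733_3 r733_4 r733_5 r733_6 r733_7 r733_8

def b734 : Wd := ⟨0, d734,
  [.Z10, .Z9, .Z8, .Z4, .Z3, .Z2, .Z1, .Z0, .X10, .X9, .X8, .X6, .X5, .X4, .X1, .y10, .y5, .y4, .y2, .y1, .p4, .hi,
   .p6, .hi, .p4, .hi, .p10, .hi, .p7, .xii, .p10, .xii, .y8, .p6, .xii, .y6, .taui, .hi, .xii, .p4, .hi, .xii, .y10,
   .tau, .xii, .y2, .hi, .p6, .xii, .y7, .tau, .xii, .p7],
  [.Z10, .Z8, .Z5, .Z2, .Z1, .X10, .X8, .X7, .X5, .X0, .y1, .p10, .hi, .p9, .hi, .p4, .hi, .p5, .hi, .p, .hi, .p4,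
   .xii, .y2, .p2, .hi, .xii, .y8, .tau, .xii, .p, .xii, .y4, .hi, .xii, .y6, .taui, .X0, .hi, .xii, .hi, .p8, .xii,
   .y2, .y9, .p, .tau, .xii, .y2, .p9, .xii, .y2, .p, .xii, .y3, .tau, .xii, .y2, .p7],
  [.z, .Z7, .Z6, .Z5, .Z2, .Z1, .X10, .X9, .X8, .X5, .X2, .y9, .y7, .y5, .y4, .y3, .hi, .p9, .hi, .p7, .hi, .p4, .hi,
   .p7, .hi, .p3, .hi, .p7, .xii, .y2, .p, .xii, .p9, .tau, .xii, .y2, .p, .xii, .y1, .hi, .xii, .y4, .y6, .taui, .X0,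
   .p5, .xii, .y5, .p7, .xii, .p, .hi, .p10, .tau, .xii, .hi, .p7, .xii, .y1, .y4, .p, .tau, .xii, .p]⟩

theorem h734 : Hd F (g wAd) b734 := hdD (by decide +kernel)
theorem r734_0 : R9 F (g wAd) b734 [] 0 0 := .of (startD 0 1) (by decide +kernel)
theorem r734_1 : R9 F (g wAd) b734 [] 0 1 := .of (startD 0 1) (by decide +kernel)
theorem r734_2 : R9 F (g wAd) b734 [] 0 2 := .of (startD 0 1) (by decide +kernel)
theorem r734_3 : R9 F (g wAd) b734 [] 1 0 := .of (startD 0 1) (by decide +kernel)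
theorem r734_4 : R9 F (g wAd) b734 [] 1 1 := .of (startD 0 1) (by decide +kernel)
theorem r734_5 : R9 F (g wAd) b734 [] 1 2 := .of (startD 0 1) (by decide +kernel)
theorem r734_6 : R9 F (g wAd) b734 [] 2 0 := .of (startD 0 1) (by decide +kernel)
theorem r734_7 : R9 F (g wAd) b734 [] 2 1 := .of (startD 0 1) (by decide +kernel)
theorem r734_8 : R9 F (g wAd) b734 [] 2 2 := .of (startD 0 1) (by decide +kernel)
theorem g734 : Gd F (g wAd) (0, d734) [] :=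
  good9 ok h734 r734_0 r734_1 r734_2 r734_3 r734_4 r734_5 r734_6 r734_7 r734_8

def b735 : Wd := ⟨0, d735,
  [.Z10, .Z9, .Z8, .Z7, .Z6, .Z4, .Z2, .X10, .X7, .X5, .X4, .y10, .y8, .y6, .y2, .y1, .p9, .hi, .p4, .hi, .p7, .hi,
   .p6, .hi, .p9, .xii, .p, .xii, .y1, .y6, .hi, .xii, .y5, .taui, .y1, .xii, .y6, .p10, .xii, .y8, .p10, .xii, .y2,
   .y4, .tau, .X0, .p9, .xii, .p, .xii, .y1, .y10, .hi, .p, .taui, .xii, .p5, .xii, .p8, .y4, .xii, .y2, .tau, .xii,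
   .hi, .xii],
  [.z, .Z10, .Z8, .Z7, .Z5, .Z0, .X7, .X5, .X1, .X0, .y6, .y4, .y2, .y1, .p6, .hi, .p7, .hi, .p3, .hi, .p9, .hi, .p7,
   .hi, .p9, .xii, .y2, .taui, .xii, .y2, .p, .xii, .y3, .y10, .hi, .xii, .y7, .taui, .X0, .p4, .xii, .p5, .xii, .y1,
   .y3, .p, .xii, .taui, .xii, .p4, .xii, .y10, .p4, .xii, .y2, .y9, .tau, .xii, .y2, .p5],
  [.z, .Z10, .Z8, .Z5, .Z1, .X8, .X7, .X5, .X4, .X3, .X2, .X1, .y9, .y5, .y4, .y2, .y1, .p8, .hi, .p9, .hi, .p9, .hi,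
   .p8, .hi, .p9, .hi, .p4, .xii, .p10, .xii, .y1, .p8, .xii, .y8, .taui, .xii, .p, .xii, .y4, .hi, .xii, .y1, .y2,
   .y10, .tau, .xii, .p6, .xii, .y1, .p2, .xii, .y2, .p4, .taui, .xii, .p9, .xii, .y7, .y8, .p9, .xii, .y7, .y10,
   .tau, .xii, .p3]⟩

theorem h735 : Hd F (g wAd) b735 := hdD (by decide +kernel)
theorem r735_0 : R9 F (g wAd) b735 [] 0 0 := .of (startD 0 2) (by decide +kernel)
theorem r735_1 : R9 F (g wAd) b735 [] 0 1 := .of (startD 0 1) (by decide +kernel)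
theorem r735_2 : R9 F (g wAd) b735 [] 0 2 := .of (startD 0 1) (by decide +kernel)
theorem r735_3 : R9 F (g wAd) b735 [] 1 0 := .of (startD 0 1) (by decide +kernel)
theorem r735_4 : R9 F (g wAd) b735 [] 1 1 := .of (startD 0 1) (by decide +kernel)
theorem r735_5 : R9 F (g wAd) b735 [] 1 2 := .of (startD 0 1) (by decide +kernel)
theorem r735_6 : R9 F (g wAd) b735 [] 2 0 := .of (startD 0 1) (by decide +kernel)
theorem r735_7 : R9 F (g wAd) b735 [] 2 1 := .of (startD 0 1) (by decide +kernel)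
theorem r735_8 : R9 F (g wAd) b735 [] 2 2 := .of (startD 0 1) (by decide +kernel)
theorem g735 : Gd F (g wAd) (0, d735) [] :=
  good9 ok h735 r735_0 r735_1 r735_2 r735_3 r735_4 r735_5 r735_6 r735_7 r735_8

def b736 : Wd := ⟨0, d736,
  [.Z10, .Z9, .Z6, .Z2, .Z0, .X9, .X5, .X4, .X1, .y9, .y6, .y2, .hi, .p9, .hi, .p6, .hi, .p7, .hi, .p, .hi, .p9, .xii,
   .y2, .p, .xii, .y3, .p9, .tau, .y1, .xii, .p10, .xii, .y4, .p10, .xii, .y4, .taui, .xii, .p, .xii, .hi, .y8, .xii,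
   .y2, .y4, .y7, .tau, .p8, .xii, .y4, .p4, .xii, .y6, .taui, .xii, .p7, .xii, .y4, .p7, .xii, .y1, .tau, .xii, .y2,
   .p],
  [.Z10, .Z6, .X8, .X7, .X5, .X4, .X3, .X2, .X0, .y9, .y6, .y5, .hi, .p4, .hi, .p10, .hi, .p2, .hi, .p4, .hi, .p2,
   .hi, .xii, .tau, .xii, .p, .xii, .hi, .y8, .xii, .y6, .y10, .tau, .p6, .xii, .p4, .hi, .xii, .p4, .y8, .taui, .xii,
   .p4, .xii, .p6, .y8, .xii, .y7, .y10, .tau, .xii, .p5],
  [.Z10, .Z8, .Z7, .Z4, .Z3, .Z2, .X10, .X8, .X6, .X5, .X4, .X3, .y10, .y8, .y6, .y4, .y3, .y2, .p10, .hi, .p6, .hi,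
   .p6, .hi, .p8, .hi, .p10, .hi, .p7, .hi, .xii, .p10, .xii, .y5, .p9, .xii, .y7, .taui, .xii, .y2, .p, .xii, .y3,
   .y10, .hi, .xii, .y7, .tau, .X0, .p10, .xii, .p2, .xii, .y3, .p3, .hi, .p2, .taui, .xii, .p4, .xii, .p5, .y4, .y7,
   .xii, .y1, .taui, .xii, .p10]⟩

theorem h736 : Hd F (g wAd) b736 := hdD (by decide +kernel)
theorem r736_0 : R9 F (g wAd) b736 [] 0 0 := .of (startD 0 1) (by decide +kernel)
theorem r736_1 : R9 F (g wAd) b736 [] 0 1 := .of (startD 0 1) (by decide +kernel)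
theorem r736_2 : R9 F (g wAd) b736 [] 0 2 := .of (startD 0 1) (by decide +kernel)
theorem r736_3 : R9 F (g wAd) b736 [] 1 0 := .of (startD 0 1) (by decide +kernel)
theorem r736_4 : R9 F (g wAd) b736 [] 1 1 := .of (startD 0 1) (by decide +kernel)
theorem r736_5 : R9 F (g wAd) b736 [] 1 2 := .of (startD 0 1) (by decide +kernel)
theorem r736_6 : R9 F (g wAd) b736 [] 2 0 := .of (startD 0 1) (by decide +kernel)
theorem r736_7 : R9 F (g wAd) b736 [] 2 1 := .of (startD 0 1) (by decide +kernel)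
theorem r736_8 : R9 F (g wAd) b736 [] 2 2 := .of (startD 0 1) (by decide +kernel)
theorem g736 : Gd F (g wAd) (0, d736) [] :=
  good9 ok h736 r736_0 r736_1 r736_2 r736_3 r736_4 r736_5 r736_6 r736_7 r736_8

def b737 : Wd := ⟨0, d737,
  [.Z7, .Z6, .Z4, .X9, .X5, .X3, .X2, .y10, .y8, .y7, .y3, .y2, .p2, .hi, .p, .hi, .p3, .hi, .p6, .hi, .p3, .hi, .p3,
   .xii, .p10, .hi, .p2, .hi, .p10, .tau, .xii, .y1, .p, .xii, .y4, .p, .xii, .y3, .y4, .taui, .X0, .p8, .xii, .p4,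
   .xii, .p, .y1, .hi, .tau, .xii, .p7, .xii, .y4, .y6, .hi, .p2, .taui, .xii, .hi, .p4, .hi, .p2],
  [.z, .Z9, .Z6, .Z4, .Z3, .Z2, .Z1, .Z0, .X10, .X6, .X5, .X4, .X2, .y10, .y9, .y7, .y5, .y1, .hi, .p6, .hi, .p7, .hi,
   .p9, .hi, .p, .hi, .p4, .hi, .p2, .xii, .y2, .p10, .xii, .y9, .taui, .y1, .xii, .y1, .hi, .xii, .p10, .xii, .y9,
   .tau, .X0, .p4, .xii, .y4, .p9, .xii, .hi, .p5, .taui, .xii, .p5, .xii, .y5, .hi, .p4],
  [.z, .Z10, .Z9, .Z8, .Z7, .Z5, .Z0, .X9, .X8, .X6, .y10, .y8, .y7, .y6, .y3, .y2, .p8, .hi, .p3, .hi, .p5, .hi, .p3,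
   .hi, .p10, .xii, .p10, .xii, .y5, .p2, .xii, .y3, .tau, .y1, .xii, .p10, .xii, .y1, .p10, .xii, .y4, .y9, .tau,
   .y1, .xii, .y6, .p, .xii, .p4, .xii, .y6, .p7, .taui, .xii, .y2, .p9, .xii, .y7, .p2, .hi, .p6, .taui, .xii]⟩

theorem h737 : Hd F (g wAd) b737 := hdD (by decide +kernel)
theorem r737_0 : R9 F (g wAd) b737 [] 0 0 := .of (startD 0 1) (by decide +kernel)
theorem r737_1 : R9 F (g wAd) b737 [] 0 1 := .of (startD 0 1) (by decide +kernel)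
theorem r737_2 : R9 F (g wAd) b737 [] 0 2 := .of (startD 0 1) (by decide +kernel)
theorem r737_3 : R9 F (g wAd) b737 [] 1 0 := .of (startD 0 1) (by decide +kernel)
theorem r737_4 : R9 F (g wAd) b737 [] 1 1 := .of (startD 0 1) (by decide +kernel)
theorem r737_5 : R9 F (g wAd) b737 [] 1 2 := .of (startD 0 1) (by decide +kernel)
theorem r737_6 : R9 F (g wAd) b737 [] 2 0 := .of (startD 0 1) (by decide +kernel)
theorem r737_7 : R9 F (g wAd) b737 [] 2 1 := .of (startD 0 1) (by decide +kernel)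
theorem r737_8 : R9 F (g wAd) b737 [] 2 2 := .of (startD 0 1) (by decide +kernel)
theorem g737 : Gd F (g wAd) (0, d737) [] :=
  good9 ok h737 r737_0 r737_1 r737_2 r737_3 r737_4 r737_5 r737_6 r737_7 r737_8

def b738 : Wd := ⟨0, d738,
  [.z, .Z10, .Z8, .Z4, .Z3, .Z2, .Z0, .X10, .X9, .X8, .X7, .X6, .X5, .X4, .X2, .X1, .y10, .y2, .y1, .p6, .hi, .p4,
   .hi, .p10, .hi, .p5, .hi, .xii, .p10, .xii, .y1, .p5, .hi, .p5, .tau, .xii, .p, .xii, .y1, .y10, .hi, .xii, .y7,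
   .tau, .p10, .xii, .p9, .xii, .y7, .hi, .p10, .y9, .taui, .xii, .p8, .xii, .y4, .p2, .xii, .y5, .y9, .tau, .xii,
   .hi],
  [.z, .Z5, .Z2, .Z1, .X10, .X9, .X8, .X7, .X6, .X5, .X4, .X3, .X2, .X1, .y8, .y7, .y6, .y4, .p10, .hi, .p8, .hi,
   .p10, .hi, .p5, .hi, .p3, .hi, .p, .hi, .p7, .hi, .xii, .y2, .p3, .hi, .taui, .xii, .p3, .hi, .xii, .y9, .p3, .hi,
   .tau, .X0, .p10, .xii, .p6, .xii, .y1, .hi, .tau, .xii, .p4, .xii, .y4, .y8, .p2, .tau, .xii, .y2, .p],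
  [.Z9, .Z8, .Z5, .Z3, .Z1, .Z0, .X9, .X8, .X6, .X2, .X1, .X0, .y10, .y7, .y6, .y5, .y3, .y2, .y1, .p8, .hi, .p3, .hi,
   .p10, .hi, .p10, .hi, .p6, .hi, .p10, .xii, .p10, .xii, .y7, .p4, .hi, .taui, .xii, .p, .xii, .y4, .y10, .hi, .xii,
   .y4, .y5, .tau, .X0, .p2, .xii, .y6, .p7, .xii, .y10, .p, .tau, .xii, .p2, .xii, .p10, .y3, .xii, .y4, .taui, .xii,
   .p6, .xii, .y4]⟩

theorem h738 : Hd F (g wAd) b738 := hdD (by decide +kernel)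
theorem r738_0 : R9 F (g wAd) b738 [6, 46, 68] 0 0 := .of' (startD 0 1) (skip := [6]) (by decide +kernel) (by decide)
theorem r738_1 : R9 F (g wAd) b738 [6, 46, 68] 0 1 := .of (startD 0 1) (by decide +kernel)
theorem r738_2 : R9 F (g wAd) b738 [6, 46, 68] 0 2 := .of (startD 0 1) (by decide +kernel)
theorem r738_3 : R9 F (g wAd) b738 [6, 46, 68] 1 0 := .of (startD 0 1) (by decide +kernel)
theorem r738_4 : R9 F (g wAd) b738 [6, 46, 68] 1 1 := .of (startD 0 1) (by decide +kernel)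
theorem r738_5 : R9 F (g wAd) b738 [6, 46, 68] 1 2 := .of' (startD 0 1) (skip := [1]) (by decide +kernel) (by decide)
theorem r738_6 : R9 F (g wAd) b738 [6, 46, 68] 2 0 := .of (startD 0 1) (by decide +kernel)
theorem r738_7 : R9 F (g wAd) b738 [6, 46, 68] 2 1 := .of' (startD 0 1) (skip := [5]) (by decide +kernel) (by decide)
theorem r738_8 : R9 F (g wAd) b738 [6, 46, 68] 2 2 := .of (startD 0 1) (by decide +kernel)
theorem g738 : Gd F (g wAd) (0, d738) [6, 46, 68] :=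
  good9 ok h738 r738_0 r738_1 r738_2 r738_3 r738_4 r738_5 r738_6 r738_7 r738_8

def b739 : Wd := ⟨0, d739,
  [.z, .Z9, .Z6, .Z3, .Z0, .X9, .X8, .X7, .X5, .X4, .X1, .y9, .y8, .y7, .y6, .y4, .hi, .p3, .hi, .p, .hi, .p7, .hi,
   .p3, .hi, .p3, .hi, .xii, .p, .xii, .y2, .hi, .xii, .y1, .y2, .tau, .xii, .y6, .p, .xii, .p, .y7, .xii, .y1, .tau,
   .X0, .xii, .y2, .p3, .xii, .p2, .xii, .p5, .y4, .taui, .xii, .p2, .xii, .y1, .y10, .p2, .taui, .xii, .y2, .hi, .p6],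
  [.z, .Z10, .Z9, .Z7, .Z6, .Z5, .Z1, .Z0, .X10, .X9, .X8, .X4, .X2, .y9, .y8, .y6, .y4, .y2, .y1, .p9, .hi, .p8, .hi,
   .p5, .xii, .p10, .hi, .p2, .hi, .p10, .taui, .y1, .xii, .y1, .p2, .hi, .xii, .y2, .tau, .p6, .xii, .p6, .xii, .y9,
   .p8, .tau, .xii, .p9, .xii, .y1, .p5, .y10, .xii, .y5, .tau, .xii, .p4, .hi, .p7],
  [.z, .Z8, .Z5, .Z0, .X10, .X8, .X5, .X4, .X3, .X2, .X1, .y10, .y9, .y7, .y5, .y3, .hi, .p5, .hi, .p10, .hi, .p3,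
   .hi, .p7, .hi, .p8, .xii, .p, .xii, .y10, .p7, .xii, .y8, .tau, .y1, .xii, .p10, .xii, .y5, .p10, .xii, .y2, .y8,
   .tau, .X0, .p5, .xii, .y2, .hi, .p7, .xii, .y4, .p, .tau, .xii, .p9, .xii, .p2, .hi, .y10, .p4, .tau, .xii, .p2]⟩

theorem h739 : Hd F (g wAd) b739 := hdD (by decide +kernel)
theorem r739_0 : R9 F (g wAd) b739 [] 0 0 := .of (startD 0 1) (by decide +kernel)
theorem r739_1 : R9 F (g wAd) b739 [] 0 1 := .of (startD 0 1) (by decide +kernel)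
theorem r739_2 : R9 F (g wAd) b739 [] 0 2 := .of (startD 0 1) (by decide +kernel)
theorem r739_3 : R9 F (g wAd) b739 [] 1 0 := .of (startD 0 1) (by decide +kernel)
theorem r739_4 : R9 F (g wAd) b739 [] 1 1 := .of (startD 0 1) (by decide +kernel)
theorem r739_5 : R9 F (g wAd) b739 [] 1 2 := .of (startD 0 1) (by decide +kernel)
theorem r739_6 : R9 F (g wAd) b739 [] 2 0 := .of (startD 0 1) (by decide +kernel)
theorem r739_7 : R9 F (g wAd) b739 [] 2 1 := .of (startD 0 1) (by decide +kernel)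
theorem r739_8 : R9 F (g wAd) b739 [] 2 2 := .of (startD 0 1) (by decide +kernel)
theorem g739 : Gd F (g wAd) (0, d739) [] :=
  good9 ok h739 r739_0 r739_1 r739_2 r739_3 r739_4 r739_5 r739_6 r739_7 r739_8

theorem all : AllG F (g wAd) LD73 :=
  .cons g730 (.cons g731 (.cons g732 (.cons g733 (.cons g734 (.cons g735 (.cons g736 (.cons g737 (.cons g738 (.cons g739 (.nil))))))))))

end Cfsg.Agent.BX.No33.Bk.D73
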