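import Cfsg.Agent.BX.No33.Cheap
set_option linter.all false

/-!
# Tests, diagonal case, part 74 (helper5; generated)
-/

set_option autoImplicit false
set_option maxRecDepth 100000
set_option Elab.async false

namespace Cfsg.Agent.BX.No33.Bk.D74

open Cfsg.Agent.H819.U33 Cfsg.Agent.BX.No33.Front

def b740 : Wd := ⟨0, d740,
  [.Z9, .Z8, .Z7, .Z6, .Z5, .Z4, .Z3, .Z1, .X6, .X5, .X2, .X1, .y9, .y7, .y6, .y5, .y4, .y3, .y2, .y1, .p4, .hi, .p3,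
   .hi, .p, .hi, .p8, .hi, .p8, .hi, .xii, .p10, .xii, .y4, .p2, .xii, .y6, .y10, .taui, .xii, .p, .xii, .y1, .hi,
   .xii, .y3, .y4, .tau, .xii, .y1, .p, .xii, .y4, .p, .xii, .y7, .y10, .tau, .X0, .p2, .xii, .hi, .xii, .taui, .xii,
   .p2, .xii, .y7, .p6, .xii, .y5, .y10, .tau, .xii, .p4, .hi],
  [.Z6, .Z5, .Z4, .Z3, .Z1, .Z0, .X10, .X9, .X7, .X3, .y5, .y4, .y1, .p8, .hi, .p10, .hi, .p, .hi, .p6, .hi, .p3, .hi,
   .p, .xii, .hi, .p10, .taui, .y1, .xii, .p10, .xii, .y8, .p10, .xii, .y8, .y10, .tau, .y1, .xii, .p5, .xii, .y3,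
   .p5, .y3, .xii, .y7, .taui, .xii, .p9, .xii, .p8, .y5, .tau, .xii, .p10, .hi, .p8],
  [.z, .Z10, .Z9, .Z7, .Z4, .Z2, .Z1, .X8, .X7, .X2, .X1, .X0, .y7, .y6, .y3, .y1, .p10, .hi, .p9, .hi, .p4, .hi, .p5,
   .hi, .p6, .hi, .p10, .hi, .xii, .y2, .p, .xii, .p8, .xii, .y6, .tau, .y1, .xii, .p10, .xii, .y1, .y7, .p10, .xii,
   .y8, .y10, .tau, .p10, .xii, .y7, .p9, .xii, .y9, .hi, .p5, .tau, .xii, .y2, .p8, .xii, .p5, .y10, .hi, .p9, .taui,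
   .xii, .y2, .p]⟩

theorem h740 : Hd F (g wAd) b740 := hdD (by decide +kernel)
theorem r740_0 : R9 F (g wAd) b740 [] 0 0 := .of (startD 0 1) (by decide +kernel)
theorem r740_1 : R9 F (g wAd) b740 [] 0 1 := .of (startD 0 1) (by decide +kernel)
theorem r740_2 : R9 F (g wAd) b740 [] 0 2 := .of (startD 0 1) (by decide +kernel)
theorem r740_3 : R9 F (g wAd) b740 [] 1 0 := .of (startD 0 1) (by decide +kernel)
theorem r740_4 : R9 F (g wAd) b740 [] 1 1 := .of (startD 0 1) (by decide +kernel)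
theorem r740_5 : R9 F (g wAd) b740 [] 1 2 := .of (startD 0 1) (by decide +kernel)
theorem r740_6 : R9 F (g wAd) b740 [] 2 0 := .of (startD 0 1) (by decide +kernel)
theorem r740_7 : R9 F (g wAd) b740 [] 2 1 := .of (startD 0 1) (by decide +kernel)
theorem r740_8 : R9 F (g wAd) b740 [] 2 2 := .of (startD 0 1) (by decide +kernel)
theorem g740 : Gd F (g wAd) (0, d740) [] :=
  good9 ok h740 r740_0 r740_1 r740_2 r740_3 r740_4 r740_5 r740_6 r740_7 r740_8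

def b741 : Wd := ⟨0, d741,
  [.Z10, .Z5, .Z4, .Z2, .X10, .X9, .X8, .X7, .X0, .y10, .y8, .y6, .y4, .y3, .y2, .y1, .hi, .p7, .hi, .p7, .hi, .p6,
   .hi, .p2, .xii, .p, .xii, .p8, .y5, .xii, .y5, .tau, .y1, .xii, .p10, .xii, .y5, .p10, .xii, .y9, .taui, .y1, .p9,
   .xii, .p2, .xii, .y2, .p8, .tau, .xii, .p9, .xii, .y10, .hi, .y5, .xii, .y9, .taui, .xii, .p10, .xii, .y4],
  [.z, .Z10, .Z6, .Z3, .Z1, .Z0, .X9, .X7, .X6, .X4, .X3, .X1, .X0, .y10, .y8, .y6, .y5, .y3, .y1, .p5, .hi, .p6, .hi,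
   .p4, .hi, .p10, .hi, .p2, .xii, .hi, .xii, .p8, .y10, .tau, .X0, .y1, .p6, .xii, .p, .xii, .y10, .p4, .tau, .X0,
   .y1, .p8, .xii, .y2, .p3, .xii, .y5, .tau, .xii, .p5, .xii, .y3, .p8, .xii, .y1, .y2, .tau, .xii, .p7],
  [.z, .Z8, .Z7, .Z5, .Z4, .Z3, .Z1, .Z0, .X10, .X3, .y9, .y8, .y7, .y4, .y3, .y2, .y1, .p10, .hi, .p4, .hi, .p5, .hi,
   .p3, .hi, .p7, .xii, .y2, .p2, .hi, .tau, .xii, .y1, .p, .xii, .p, .xii, .y3, .y9, .tau, .p7, .xii, .p7, .xii, .p,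
   .y4, .hi, .y4, .p9, .tau, .xii, .p7, .xii, .y7, .p5, .hi, .p6, .tau, .xii, .y2, .p2, .hi]⟩

theorem h741 : Hd F (g wAd) b741 := hdD (by decide +kernel)
theorem r741_0 : R9 F (g wAd) b741 [] 0 0 := .of (startD 0 1) (by decide +kernel)
theorem r741_1 : R9 F (g wAd) b741 [] 0 1 := .of (startD 0 1) (by decide +kernel)
theorem r741_2 : R9 F (g wAd) b741 [] 0 2 := .of (startD 0 1) (by decide +kernel)
theorem r741_3 : R9 F (g wAd) b741 [] 1 0 := .of (startD 0 1) (by decide +kernel)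
theorem r741_4 : R9 F (g wAd) b741 [] 1 1 := .of (startD 0 1) (by decide +kernel)
theorem r741_5 : R9 F (g wAd) b741 [] 1 2 := .of (startD 0 1) (by decide +kernel)
theorem r741_6 : R9 F (g wAd) b741 [] 2 0 := .of (startD 0 1) (by decide +kernel)
theorem r741_7 : R9 F (g wAd) b741 [] 2 1 := .of (startD 0 1) (by decide +kernel)
theorem r741_8 : R9 F (g wAd) b741 [] 2 2 := .of (startD 0 1) (by decide +kernel)
theorem g741 : Gd F (g wAd) (0, d741) [] :=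
  good9 ok h741 r741_0 r741_1 r741_2 r741_3 r741_4 r741_5 r741_6 r741_7 r741_8

def b742 : Wd := ⟨0, d742,
  [.z, .Z7, .Z6, .Z5, .Z0, .X10, .X3, .X0, .y6, .y5, .y4, .y3, .hi, .p7, .hi, .p3, .hi, .p5, .hi, .p9, .hi, .p9, .hi,
   .xii, .p3, .hi, .xii, .p6, .y3, .tau, .xii, .y6, .p, .hi, .xii, .y1, .p3, .hi, .taui, .X0, .p4, .xii, .p9, .xii,
   .y6, .p, .y7, .taui, .xii, .p4, .xii, .y5, .p6, .xii, .y1, .y7, .tau],
  [.Z8, .Z7, .Z6, .Z5, .Z4, .Z2, .Z1, .Z0, .X7, .X5, .X4, .X3, .X1, .y10, .y9, .y3, .y1, .p5, .hi, .p6, .hi, .p3, .hi,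
   .p, .hi, .p5, .hi, .p9, .xii, .p10, .xii, .p3, .hi, .y10, .taui, .xii, .y2, .p, .xii, .y3, .hi, .xii, .y4, .y7,
   .tau, .xii, .p5, .xii, .y3, .y7, .p7, .xii, .y9, .y10, .taui, .xii, .y2],
  [.z, .Z9, .Z8, .Z6, .Z1, .Z0, .X9, .X8, .X3, .X0, .y8, .y6, .y3, .p, .hi, .p10, .hi, .p9, .hi, .p3, .hi, .p6, .hi,
   .p4, .hi, .xii, .p10, .xii, .p9, .xii, .y5, .y9, .taui, .xii, .y2, .p, .xii, .y4, .hi, .xii, .y5, .taui, .X0, .xii,
   .p9, .xii, .p, .y3, .xii, .y1, .tau, .xii, .p5, .xii, .hi, .y10, .xii, .y8, .taui, .xii, .p10, .xii, .y6]⟩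

theorem h742 : Hd F (g wAd) b742 := hdD (by decide +kernel)
theorem r742_0 : R9 F (g wAd) b742 [] 0 0 := .of (startD 0 1) (by decide +kernel)
theorem r742_1 : R9 F (g wAd) b742 [] 0 1 := .of (startD 0 1) (by decide +kernel)
theorem r742_2 : R9 F (g wAd) b742 [] 0 2 := .of (startD 0 1) (by decide +kernel)
theorem r742_3 : R9 F (g wAd) b742 [] 1 0 := .of (startD 0 1) (by decide +kernel)
theorem r742_4 : R9 F (g wAd) b742 [] 1 1 := .of (startD 0 1) (by decide +kernel)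
theorem r742_5 : R9 F (g wAd) b742 [] 1 2 := .of (startD 0 1) (by decide +kernel)
theorem r742_6 : R9 F (g wAd) b742 [] 2 0 := .of (startD 0 1) (by decide +kernel)
theorem r742_7 : R9 F (g wAd) b742 [] 2 1 := .of (startD 0 1) (by decide +kernel)
theorem r742_8 : R9 F (g wAd) b742 [] 2 2 := .of (startD 0 1) (by decide +kernel)
theorem g742 : Gd F (g wAd) (0, d742) [] :=
  good9 ok h742 r742_0 r742_1 r742_2 r742_3 r742_4 r742_5 r742_6 r742_7 r742_8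

def b743 : Wd := ⟨0, d743,
  [.Z10, .Z9, .Z5, .Z3, .Z2, .Z1, .Z0, .X7, .X5, .X3, .X2, .X0, .y9, .y6, .y4, .y2, .p9, .hi, .p5, .hi, .p8, .hi, .p7,
   .hi, .p3, .hi, .p4, .hi, .xii, .p10, .xii, .y5, .p2, .xii, .y7, .tau, .xii, .y6, .p, .xii, .p, .xii, .y3, .y4,
   .taui, .p7, .xii, .y4, .p8, .xii, .y4, .p6, .taui, .xii, .p9, .xii, .p6, .xii, .y5, .y10, .tau, .xii, .y7, .p8],
  [.z, .Z10, .Z9, .Z8, .Z7, .Z1, .Z0, .X10, .X9, .X7, .X6, .X5, .X1, .X0, .y10, .y9, .y7, .y3, .y2, .p, .hi, .p6, .hi,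
   .p, .hi, .p3, .hi, .p4, .xii, .p, .hi, .xii, .y2, .p3, .tau, .xii, .y1, .p, .xii, .y2, .p, .xii, .y3, .tau, .y1,
   .p4, .xii, .p5, .xii, .p10, .y3, .tau, .xii, .p5, .hi, .xii, .y1, .p2],
  [.z, .Z10, .Z9, .Z8, .Z7, .Z6, .Z5, .Z4, .Z2, .Z1, .X10, .X1, .y10, .y7, .y6, .y3, .p9, .hi, .p5, .hi, .p7, .hi,
   .p5, .hi, .p2, .hi, .xii, .p10, .xii, .y5, .p10, .tau, .xii, .p, .xii, .y3, .hi, .xii, .y5, .y8, .taui, .xii, .y1,
   .p, .xii, .p, .xii, .y3, .y9, .taui, .X0, .y1, .p5, .xii, .p10, .xii, .y4, .taui, .xii, .y2, .hi, .p6, .xii, .y1,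
   .p5, .taui, .xii, .p4, .hi, .p9]⟩

theorem h743 : Hd F (g wAd) b743 := hdD (by decide +kernel)
theorem r743_0 : R9 F (g wAd) b743 [] 0 0 := .of (startD 0 1) (by decide +kernel)
theorem r743_1 : R9 F (g wAd) b743 [] 0 1 := .of (startD 0 1) (by decide +kernel)
theorem r743_2 : R9 F (g wAd) b743 [] 0 2 := .of (startD 0 1) (by decide +kernel)
theorem r743_3 : R9 F (g wAd) b743 [] 1 0 := .of (startD 0 1) (by decide +kernel)
theorem r743_4 : R9 F (g wAd) b743 [] 1 1 := .of (startD 0 1) (by decide +kernel)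
theorem r743_5 : R9 F (g wAd) b743 [] 1 2 := .of (startD 0 1) (by decide +kernel)
theorem r743_6 : R9 F (g wAd) b743 [] 2 0 := .of (startD 0 1) (by decide +kernel)
theorem r743_7 : R9 F (g wAd) b743 [] 2 1 := .of (startD 0 1) (by decide +kernel)
theorem r743_8 : R9 F (g wAd) b743 [] 2 2 := .of (startD 0 1) (by decide +kernel)
theorem g743 : Gd F (g wAd) (0, d743) [] :=
  good9 ok h743 r743_0 r743_1 r743_2 r743_3 r743_4 r743_5 r743_6 r743_7 r743_8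

def b744 : Wd := ⟨0, d744,
  [.Z10, .Z9, .Z8, .Z7, .Z3, .Z2, .Z1, .Z0, .X8, .X7, .X5, .X4, .X2, .X1, .X0, .y10, .y7, .y6, .y4, .y2, .y1, .p4,
   .hi, .p9, .hi, .p9, .hi, .p5, .hi, .p6, .hi, .xii, .y2, .hi, .p8, .hi, .p5, .hi, .taui, .xii, .p, .xii, .hi, .y8,
   .xii, .y2, .y4, .y7, .tau, .p9, .xii, .p5, .hi, .xii, .hi, .p8, .taui, .xii, .p5, .xii, .y7, .p5, .xii, .y7, .y10,
   .tau, .xii, .y6, .hi, .p6],
  [.z, .Z9, .Z7, .Z5, .Z3, .Z1, .X8, .X6, .X3, .y8, .y6, .y4, .p3, .hi, .p9, .hi, .p5, .hi, .p, .hi, .p8, .hi, .p4,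
   .xii, .p10, .xii, .y6, .p2, .xii, .y6, .taui, .y1, .xii, .p10, .xii, .y2, .p10, .xii, .y10, .tau, .X0, .p5, .xii,
   .y2, .y3, .p6, .xii, .y4, .p3, .taui, .xii, .p4, .xii, .p9, .y1, .y9, .taui, .xii, .p8],
  [.Z10, .Z8, .Z5, .Z4, .Z3, .Z1, .X10, .X8, .X7, .X6, .X3, .X2, .y10, .y7, .y4, .y1, .hi, .p5, .hi, .p, .hi, .p3,
   .hi, .p7, .hi, .p4, .hi, .xii, .p10, .xii, .y10, .tau, .xii, .y2, .p, .xii, .y2, .y10, .hi, .xii, .y5, .tau, .X0,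
   .xii, .p8, .xii, .y1, .hi, .p7, .xii, .y1, .y2, .tau, .xii, .p7, .xii, .p4, .y8, .tau, .xii, .p, .hi]⟩

theorem h744 : Hd F (g wAd) b744 := hdD (by decide +kernel)
theorem r744_0 : R9 F (g wAd) b744 [] 0 0 := .of (startD 0 1) (by decide +kernel)
theorem r744_1 : R9 F (g wAd) b744 [] 0 1 := .of (startD 0 1) (by decide +kernel)
theorem r744_2 : R9 F (g wAd) b744 [] 0 2 := .of (startD 0 1) (by decide +kernel)
theorem r744_3 : R9 F (g wAd) b744 [] 1 0 := .of (startD 0 1) (by decide +kernel)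
theorem r744_4 : R9 F (g wAd) b744 [] 1 1 := .of (startD 0 1) (by decide +kernel)
theorem r744_5 : R9 F (g wAd) b744 [] 1 2 := .of (startD 0 1) (by decide +kernel)
theorem r744_6 : R9 F (g wAd) b744 [] 2 0 := .of (startD 0 1) (by decide +kernel)
theorem r744_7 : R9 F (g wAd) b744 [] 2 1 := .of (startD 0 1) (by decide +kernel)
theorem r744_8 : R9 F (g wAd) b744 [] 2 2 := .of (startD 0 1) (by decide +kernel)
theorem g744 : Gd F (g wAd) (0, d744) [] :=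
  good9 ok h744 r744_0 r744_1 r744_2 r744_3 r744_4 r744_5 r744_6 r744_7 r744_8

def b745 : Wd := ⟨0, d745,
  [.z, .Z10, .Z4, .Z3, .Z2, .Z0, .X6, .X5, .X3, .X1, .X0, .y10, .y8, .y7, .y5, .y4, .y3, .y2, .y1, .hi, .p10, .hi,
   .p2, .hi, .p8, .hi, .p8, .hi, .p5, .hi, .p7, .xii, .p10, .xii, .p6, .xii, .y4, .y7, .y8, .tau, .y1, .xii, .p10,
   .xii, .y4, .p10, .xii, .y4, .y8, .taui, .X0, .xii, .p7, .xii, .y5, .y9, .p7, .xii, .y8, .tau, .xii, .p4, .xii, .y1,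
   .p4, .y7, .xii, .y4, .taui, .xii, .y2, .p6],
  [.Z8, .Z7, .Z6, .Z4, .Z2, .X10, .X6, .X3, .X2, .X0, .y10, .y9, .y7, .y5, .p6, .hi, .p8, .hi, .p10, .hi, .p5, .xii,
   .p10, .xii, .p8, .y7, .xii, .y8, .tau, .xii, .p, .hi, .xii, .p5, .y10, .hi, .p5, .tau, .p7, .xii, .p4, .xii, .y10,
   .p, .y8, .taui, .xii, .p10, .xii, .y1, .p8, .xii, .y1, .tau],
  [.z, .Z9, .Z8, .Z7, .Z6, .Z5, .Z4, .Z3, .Z2, .Z1, .Z0, .X9, .X8, .X1, .y9, .y8, .y7, .p9, .hi, .p10, .hi, .p10, .hi,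
   .p2, .hi, .p, .hi, .p, .xii, .p10, .xii, .y1, .p10, .xii, .y10, .taui, .xii, .p, .xii, .y3, .hi, .xii, .y5, .taui,
   .y1, .p10, .xii, .p5, .hi, .p3, .xii, .y4, .hi, .tau, .xii, .p4, .xii, .y2, .p5, .xii, .y4, .y9, .taui, .xii, .p10,
   .xii]⟩

theorem h745 : Hd F (g wAd) b745 := hdD (by decide +kernel)
theorem r745_0 : R9 F (g wAd) b745 [] 0 0 := .of (startD 0 1) (by decide +kernel)
theorem r745_1 : R9 F (g wAd) b745 [] 0 1 := .of (startD 0 1) (by decide +kernel)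
theorem r745_2 : R9 F (g wAd) b745 [] 0 2 := .of (startD 0 1) (by decide +kernel)
theorem r745_3 : R9 F (g wAd) b745 [] 1 0 := .of (startD 0 1) (by decide +kernel)
theorem r745_4 : R9 F (g wAd) b745 [] 1 1 := .of (startD 0 1) (by decide +kernel)
theorem r745_5 : R9 F (g wAd) b745 [] 1 2 := .of (startD 0 1) (by decide +kernel)
theorem r745_6 : R9 F (g wAd) b745 [] 2 0 := .of (startD 0 1) (by decide +kernel)
theorem r745_7 : R9 F (g wAd) b745 [] 2 1 := .of (startD 0 1) (by decide +kernel)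
theorem r745_8 : R9 F (g wAd) b745 [] 2 2 := .of (startD 0 1) (by decide +kernel)
theorem g745 : Gd F (g wAd) (0, d745) [] :=
  good9 ok h745 r745_0 r745_1 r745_2 r745_3 r745_4 r745_5 r745_6 r745_7 r745_8

def b746 : Wd := ⟨0, d746,
  [.Z10, .Z9, .Z8, .Z7, .Z6, .Z5, .Z3, .Z2, .X10, .X8, .X7, .X3, .X0, .y8, .y6, .y5, .y4, .y3, .y1, .p10, .hi, .p6,
   .hi, .p3, .hi, .p9, .hi, .p10, .hi, .p4, .hi, .p5, .xii, .hi, .xii, .y4, .p9, .xii, .y7, .taui, .xii, .p, .xii,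
   .y4, .hi, .xii, .y3, .y10, .tau, .p2, .xii, .p7, .xii, .p5, .y8, .hi, .tau, .xii, .p5, .hi, .xii, .p4, .tau, .xii,
   .y2, .p7],
  [.z, .Z10, .Z9, .Z6, .Z4, .Z3, .Z0, .X10, .X9, .X8, .X3, .X0, .y10, .y8, .y7, .y2, .p10, .hi, .p4, .hi, .p3, .hi,
   .p3, .hi, .p7, .hi, .p7, .xii, .p, .xii, .p7, .xii, .y4, .tau, .xii, .p, .xii, .y1, .y10, .hi, .xii, .y5, .tau,
   .X0, .y1, .p10, .xii, .p5, .xii, .p, .y5, .taui, .xii, .p3, .xii, .y4, .hi, .p9, .taui, .xii, .y2, .p2],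
  [.z, .Z8, .Z7, .Z6, .Z5, .Z3, .Z1, .X9, .X6, .X3, .X0, .y8, .y7, .y4, .y3, .y2, .p9, .hi, .p7, .hi, .p4, .hi, .p4,
   .hi, .p5, .hi, .p4, .hi, .xii, .y2, .p3, .hi, .xii, .y1, .y3, .taui, .y1, .xii, .y2, .hi, .xii, .p10, .xii, .y10,
   .taui, .X0, .xii, .p2, .xii, .y4, .p7, .y9, .xii, .tau, .xii, .y2, .p9, .xii, .p6, .y9, .xii, .y7, .taui]⟩

theorem h746 : Hd F (g wAd) b746 := hdD (by decide +kernel)
theorem r746_0 : R9 F (g wAd) b746 [] 0 0 := .of (startD 0 1) (by decide +kernel)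
theorem r746_1 : R9 F (g wAd) b746 [] 0 1 := .of (startD 0 1) (by decide +kernel)
theorem r746_2 : R9 F (g wAd) b746 [] 0 2 := .of (startD 0 1) (by decide +kernel)
theorem r746_3 : R9 F (g wAd) b746 [] 1 0 := .of (startD 0 1) (by decide +kernel)
theorem r746_4 : R9 F (g wAd) b746 [] 1 1 := .of (startD 0 1) (by decide +kernel)
theorem r746_5 : R9 F (g wAd) b746 [] 1 2 := .of (startD 0 1) (by decide +kernel)
theorem r746_6 : R9 F (g wAd) b746 [] 2 0 := .of (startD 0 1) (by decide +kernel)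
theorem r746_7 : R9 F (g wAd) b746 [] 2 1 := .of (startD 0 1) (by decide +kernel)
theorem r746_8 : R9 F (g wAd) b746 [] 2 2 := .of (startD 0 1) (by decide +kernel)
theorem g746 : Gd F (g wAd) (0, d746) [] :=
  good9 ok h746 r746_0 r746_1 r746_2 r746_3 r746_4 r746_5 r746_6 r746_7 r746_8

def b747 : Wd := ⟨0, d747,
  [.z, .Z7, .Z3, .X9, .X7, .X6, .X4, .X3, .y3, .p3, .hi, .p10, .hi, .p2, .hi, .p8, .hi, .p8, .hi, .p5, .xii, .hi,
   .xii, .y6, .p3, .hi, .taui, .y1, .xii, .y2, .hi, .xii, .p10, .xii, .y3, .y7, .taui, .xii, .y6, .p, .xii, .y10, .p,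
   .xii, .y3, .tau, .X0, .p4, .xii, .p8, .xii, .y1, .tau, .xii, .y2, .p6, .xii, .p5, .hi, .p7, .taui, .xii, .y2, .p10,
   .hi, .p7],
  [.Z8, .Z7, .Z6, .Z5, .Z4, .Z0, .X10, .X5, .X4, .X2, .X1, .X0, .y6, .y5, .y4, .y2, .y1, .p6, .hi, .p7, .hi, .p7, .hi,
   .p9, .hi, .p5, .hi, .p, .hi, .xii, .y2, .p10, .xii, .y9, .tau, .y1, .xii, .p10, .xii, .y1, .p10, .xii, .y1, .y7,
   .taui, .p8, .xii, .y1, .hi, .p6, .xii, .p10, .taui, .xii, .p4, .xii, .y1, .y8, .p8, .xii, .y7, .tau],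
  [.z, .Z7, .Z6, .Z5, .Z4, .Z3, .Z2, .Z0, .X9, .X7, .X6, .X5, .X4, .X3, .X2, .X1, .X0, .y10, .y8, .y3, .p10, .hi, .p4,
   .hi, .p6, .hi, .p, .hi, .p4, .hi, .p3, .xii, .p2, .hi, .xii, .y1, .p3, .tau, .xii, .p, .xii, .y2, .hi, .xii, .y3,
   .y9, .taui, .y1, .xii, .p3, .xii, .y6, .p4, .xii, .y5, .tau, .xii, .p7, .xii, .p7, .y2, .xii, .y1, .tau, .xii, .y6,
   .p7]⟩

theorem h747 : Hd F (g wAd) b747 := hdD (by decide +kernel)
theorem r747_0 : R9 F (g wAd) b747 [] 0 0 := .of (startD 0 1) (by decide +kernel)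
theorem r747_1 : R9 F (g wAd) b747 [] 0 1 := .of (startD 0 1) (by decide +kernel)
theorem r747_2 : R9 F (g wAd) b747 [] 0 2 := .of (startD 0 1) (by decide +kernel)
theorem r747_3 : R9 F (g wAd) b747 [] 1 0 := .of (startD 0 1) (by decide +kernel)
theorem r747_4 : R9 F (g wAd) b747 [] 1 1 := .of (startD 0 1) (by decide +kernel)
theorem r747_5 : R9 F (g wAd) b747 [] 1 2 := .of (startD 0 1) (by decide +kernel)
theorem r747_6 : R9 F (g wAd) b747 [] 2 0 := .of (startD 0 1) (by decide +kernel)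
theorem r747_7 : R9 F (g wAd) b747 [] 2 1 := .of (startD 0 1) (by decide +kernel)
theorem r747_8 : R9 F (g wAd) b747 [] 2 2 := .of (startD 0 1) (by decide +kernel)
theorem g747 : Gd F (g wAd) (0, d747) [] :=
  good9 ok h747 r747_0 r747_1 r747_2 r747_3 r747_4 r747_5 r747_6 r747_7 r747_8

def b748 : Wd := ⟨0, d748,
  [.Z8, .Z3, .Z2, .X10, .X4, .X1, .X0, .y9, .y7, .y5, .y4, .p10, .hi, .p5, .hi, .p10, .hi, .p3, .hi, .p6, .hi, .p7,
   .hi, .xii, .p2, .hi, .xii, .y2, .y9, .tau, .xii, .y1, .p, .xii, .p, .xii, .y5, .y8, .tau, .X0, .p7, .xii, .p4,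
   .xii, .p10, .y10, .xii, .taui, .xii, .p2, .xii, .y1, .p2, .xii, .y4, .y8, .taui, .xii, .hi, .p2],
  [.z, .Z10, .Z8, .Z7, .Z5, .Z4, .Z2, .Z1, .X10, .X8, .X6, .X1, .X0, .y7, .y5, .y3, .y2, .y1, .hi, .p9, .hi, .p5, .hi,
   .p8, .hi, .p, .hi, .p5, .hi, .p8, .hi, .xii, .hi, .p3, .hi, .p5, .taui, .xii, .p8, .xii, .y2, .p4, .y3, .xii, .p6,
   .tau, .xii, .p4, .xii, .y3, .p10, .xii, .y1, .tau, .xii, .p5, .xii, .y1],
  [.Z9, .Z7, .Z4, .Z3, .Z2, .Z1, .X10, .X6, .X5, .X2, .X1, .X0, .y8, .y7, .p9, .hi, .p, .hi, .p5, .hi, .p9, .hi, .p10,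
   .xii, .y2, .hi, .p8, .xii, .y3, .p10, .tau, .xii, .y2, .p, .xii, .y3, .hi, .xii, .y5, .y8, .taui, .X0, .y1, .p9,
   .xii, .p6, .xii, .y5, .p6, .xii, .y4, .taui, .xii, .p9, .xii, .y1, .y2, .p3, .xii, .y4, .y8, .tau, .xii, .p10, .hi]⟩

theorem h748 : Hd F (g wAd) b748 := hdD (by decide +kernel)
theorem r748_0 : R9 F (g wAd) b748 [] 0 0 := .of (startD 0 1) (by decide +kernel)
theorem r748_1 : R9 F (g wAd) b748 [] 0 1 := .of (startD 0 1) (by decide +kernel)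
theorem r748_2 : R9 F (g wAd) b748 [] 0 2 := .of (startD 0 1) (by decide +kernel)
theorem r748_3 : R9 F (g wAd) b748 [] 1 0 := .of (startD 0 1) (by decide +kernel)
theorem r748_4 : R9 F (g wAd) b748 [] 1 1 := .of (startD 0 1) (by decide +kernel)
theorem r748_5 : R9 F (g wAd) b748 [] 1 2 := .of (startD 0 1) (by decide +kernel)
theorem r748_6 : R9 F (g wAd) b748 [] 2 0 := .of (startD 0 1) (by decide +kernel)
theorem r748_7 : R9 F (g wAd) b748 [] 2 1 := .of (startD 0 1) (by decide +kernel)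
theorem r748_8 : R9 F (g wAd) b748 [] 2 2 := .of (startD 0 1) (by decide +kernel)
theorem g748 : Gd F (g wAd) (0, d748) [] :=
  good9 ok h748 r748_0 r748_1 r748_2 r748_3 r748_4 r748_5 r748_6 r748_7 r748_8

def b749 : Wd := ⟨0, d749,
  [.Z10, .Z6, .Z5, .Z2, .Z1, .X10, .X8, .X7, .X6, .X2, .X1, .y9, .y8, .y7, .y5, .y3, .y1, .p8, .hi, .p4, .hi, .p7,
   .hi, .p6, .hi, .p, .hi, .p2, .hi, .taui, .y1, .xii, .p10, .xii, .y1, .y7, .p10, .xii, .y9, .y10, .taui, .xii, .p6,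
   .xii, .p2, .y7, .xii, .p5, .y2, .tau, .xii, .p6, .xii, .p6, .y6, .xii, .y3, .y10, .taui, .xii, .p3, .xii, .y2],
  [.Z10, .Z7, .Z5, .Z3, .Z2, .Z0, .X10, .X9, .X3, .X2, .X0, .y10, .y8, .y7, .y1, .p10, .hi, .p2, .hi, .p3, .hi, .p5,
   .hi, .p5, .hi, .p9, .hi, .xii, .hi, .p8, .xii, .y9, .tau, .y1, .xii, .p10, .xii, .y4, .p10, .xii, .y2, .tau, .p8,
   .xii, .y9, .p4, .xii, .p2, .y5, .tau, .xii, .p6, .xii, .y4, .p4, .taui, .xii, .p3],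
  [.Z9, .Z8, .Z4, .Z3, .Z2, .X10, .X8, .X5, .X4, .X3, .X2, .y10, .y9, .y8, .y5, .y4, .y3, .y2, .p5, .hi, .p7, .hi,
   .p9, .hi, .p9, .hi, .p3, .hi, .p2, .hi, .xii, .y2, .hi, .xii, .p9, .xii, .y1, .tau, .y1, .xii, .p10, .xii, .p10,
   .y7, .xii, .y1, .y6, .taui, .X0, .p5, .xii, .p3, .xii, .y3, .p7, .xii, .y1, .tau, .xii, .p7, .xii, .y6, .p7, .xii,
   .y1, .y3, .taui, .xii, .hi, .p]⟩

theorem h749 : Hd F (g wAd) b749 := hdD (by decide +kernel)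
theorem r749_0 : R9 F (g wAd) b749 [] 0 0 := .of (startD 0 1) (by decide +kernel)
theorem r749_1 : R9 F (g wAd) b749 [] 0 1 := .of (startD 0 1) (by decide +kernel)
theorem r749_2 : R9 F (g wAd) b749 [] 0 2 := .of (startD 0 1) (by decide +kernel)
theorem r749_3 : R9 F (g wAd) b749 [] 1 0 := .of (startD 0 2) (by decide +kernel)
theorem r749_4 : R9 F (g wAd) b749 [] 1 1 := .of (startD 0 1) (by decide +kernel)
theorem r749_5 : R9 F (g wAd) b749 [] 1 2 := .of (startD 0 1) (by decide +kernel)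
theorem r749_6 : R9 F (g wAd) b749 [] 2 0 := .of (startD 0 1) (by decide +kernel)
theorem r749_7 : R9 F (g wAd) b749 [] 2 1 := .of (startD 0 1) (by decide +kernel)
theorem r749_8 : R9 F (g wAd) b749 [] 2 2 := .of (startD 0 1) (by decide +kernel)
theorem g749 : Gd F (g wAd) (0, d749) [] :=
  good9 ok h749 r749_0 r749_1 r749_2 r749_3 r749_4 r749_5 r749_6 r749_7 r749_8

theorem all : AllG F (g wAd) LD74 :=
  .cons g740 (.cons g741 (.cons g742 (.cons g743 (.cons g744 (.cons g745 (.cons g746 (.cons g747 (.cons g748 (.cons g749 (.nil))))))))))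

end Cfsg.Agent.BX.No33.Bk.D74
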