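import Cfsg.Agent.BX.No33.Cheap
set_option linter.all false

/-!
# Tests, diagonal case, part 75 (helper5; generated)
-/

set_option autoImplicit false
set_option maxRecDepth 100000
set_option Elab.async false

namespace Cfsg.Agent.BX.No33.Bk.D75

open Cfsg.Agent.H819.U33 Cfsg.Agent.BX.No33.Front

def b750 : Wd := ⟨0, d750,
  [.Z10, .Z8, .Z3, .Z2, .Z1, .X4, .X2, .X1, .y10, .y8, .y7, .y4, .y1, .p10, .hi, .p10, .hi, .p3, .hi, .p9, .hi, .p4,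
   .hi, .p6, .xii, .y2, .p, .xii, .hi, .p4, .y3, .tau, .xii, .p, .xii, .y4, .hi, .xii, .y3, .y9, .taui, .xii, .p7,
   .xii, .p5, .y4, .xii, .y10, .p10, .tau, .xii, .p5, .xii, .p, .y4, .xii, .y4, .taui, .xii, .p9],
  [.Z8, .Z5, .Z3, .Z1, .Z0, .X7, .X3, .y9, .y8, .y7, .y5, .p8, .hi, .p10, .hi, .p9, .hi, .p3, .hi, .p5, .hi, .p5, .hi,
   .xii, .p3, .hi, .xii, .y3, .y7, .tau, .y1, .xii, .p10, .xii, .p10, .y7, .xii, .y4, .y8, .tau, .p9, .xii, .p5, .hi,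
   .y9, .xii, .y7, .tau, .xii, .p5, .xii, .y3, .p, .xii, .y6, .tau],
  [.z, .Z4, .Z3, .Z2, .Z1, .X5, .X3, .X2, .y10, .y9, .y4, .p7, .hi, .p10, .hi, .p9, .hi, .p3, .hi, .p6, .hi, .p7,
   .xii, .p3, .hi, .xii, .y2, .y8, .tau, .xii, .p, .xii, .y1, .hi, .xii, .y5, .y10, .taui, .y1, .p7, .xii, .p2, .xii,
   .y7, .p2, .xii, .y9, .taui, .xii, .p5, .hi, .xii, .y4, .tau, .xii, .p7]⟩

theorem h750 : Hd F (g wAd) b750 := hdD (by decide +kernel)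
theorem r750_0 : R9 F (g wAd) b750 [] 0 0 := .of (startD 0 1) (by decide +kernel)
theorem r750_1 : R9 F (g wAd) b750 [] 0 1 := .of (startD 0 1) (by decide +kernel)
theorem r750_2 : R9 F (g wAd) b750 [] 0 2 := .of (startD 0 1) (by decide +kernel)
theorem r750_3 : R9 F (g wAd) b750 [] 1 0 := .of (startD 0 1) (by decide +kernel)
theorem r750_4 : R9 F (g wAd) b750 [] 1 1 := .of (startD 0 1) (by decide +kernel)
theorem r750_5 : R9 F (g wAd) b750 [] 1 2 := .of (startD 0 1) (by decide +kernel)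
theorem r750_6 : R9 F (g wAd) b750 [] 2 0 := .of (startD 0 1) (by decide +kernel)
theorem r750_7 : R9 F (g wAd) b750 [] 2 1 := .of (startD 0 1) (by decide +kernel)
theorem r750_8 : R9 F (g wAd) b750 [] 2 2 := .of (startD 0 1) (by decide +kernel)
theorem g750 : Gd F (g wAd) (0, d750) [] :=
  good9 ok h750 r750_0 r750_1 r750_2 r750_3 r750_4 r750_5 r750_6 r750_7 r750_8

def b751 : Wd := ⟨0, d751,
  [.z, .Z9, .Z7, .Z5, .Z2, .Z1, .Z0, .X10, .X9, .X7, .X5, .X4, .X3, .X2, .X1, .X0, .y8, .y7, .y6, .y2, .p10, .hi, .p4,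
   .hi, .p8, .hi, .p10, .hi, .p10, .hi, .p, .hi, .p4, .xii, .y2, .hi, .p3, .hi, .p5, .taui, .xii, .p, .xii, .y1, .hi,
   .xii, .y5, .y8, .tau, .X0, .p4, .xii, .p9, .xii, .y2, .y8, .taui, .xii, .hi, .p6, .xii, .y7, .p10, .tau, .xii, .y2,
   .p7],
  [.z, .Z8, .Z7, .Z6, .Z0, .X10, .X9, .X7, .X6, .X4, .X2, .X1, .X0, .y5, .y3, .y2, .y1, .p3, .hi, .p10, .hi, .p4, .hi,
   .p10, .hi, .p10, .hi, .p, .xii, .y2, .p, .xii, .p9, .xii, .y10, .tau, .xii, .y1, .p, .xii, .y1, .y4, .tau, .X0,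
   .p4, .xii, .y2, .p8, .xii, .y6, .p5, .taui, .xii, .p5, .xii, .y9, .p2, .xii, .y10, .taui],
  [.Z8, .Z7, .Z5, .Z4, .Z0, .X9, .X3, .X1, .y10, .y8, .y7, .y6, .y1, .p7, .hi, .p7, .hi, .p7, .hi, .p3, .hi, .p4, .hi,
   .p10, .hi, .xii, .y2, .p, .xii, .p9, .xii, .taui, .xii, .y1, .p, .xii, .y4, .p, .xii, .y1, .y10, .tau, .X0, .xii,
   .p3, .xii, .y4, .y9, .p2, .xii, .p7, .tau, .xii, .y2, .p5, .xii, .p9, .xii, .y1, .tau, .xii, .p5, .hi, .p]⟩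

theorem h751 : Hd F (g wAd) b751 := hdD (by decide +kernel)
theorem r751_0 : R9 F (g wAd) b751 [] 0 0 := .of (startD 0 1) (by decide +kernel)
theorem r751_1 : R9 F (g wAd) b751 [] 0 1 := .of (startD 0 1) (by decide +kernel)
theorem r751_2 : R9 F (g wAd) b751 [] 0 2 := .of (startD 0 1) (by decide +kernel)
theorem r751_3 : R9 F (g wAd) b751 [] 1 0 := .of (startD 0 1) (by decide +kernel)
theorem r751_4 : R9 F (g wAd) b751 [] 1 1 := .of (startD 0 1) (by decide +kernel)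
theorem r751_5 : R9 F (g wAd) b751 [] 1 2 := .of (startD 0 1) (by decide +kernel)
theorem r751_6 : R9 F (g wAd) b751 [] 2 0 := .of (startD 0 1) (by decide +kernel)
theorem r751_7 : R9 F (g wAd) b751 [] 2 1 := .of (startD 0 1) (by decide +kernel)
theorem r751_8 : R9 F (g wAd) b751 [] 2 2 := .of (startD 0 1) (by decide +kernel)
theorem g751 : Gd F (g wAd) (0, d751) [] :=
  good9 ok h751 r751_0 r751_1 r751_2 r751_3 r751_4 r751_5 r751_6 r751_7 r751_8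

def b752 : Wd := ⟨0, d752,
  [.Z8, .Z7, .Z6, .Z5, .Z2, .Z0, .X7, .X6, .X5, .X2, .X1, .X0, .y10, .y8, .y7, .y6, .y5, .y4, .y3, .y2, .y1, .hi, .p4,
   .hi, .p10, .hi, .p2, .hi, .p3, .hi, .p8, .xii, .y2, .p10, .xii, .y10, .p3, .hi, .taui, .xii, .p, .hi, .xii, .y9,
   .p5, .hi, .p5, .taui, .X0, .p7, .xii, .y6, .p9, .xii, .p6, .taui, .xii, .y2, .p4, .xii, .p5, .xii, .tau, .xii, .hi,
   .xii, .y6],
  [.Z10, .Z9, .Z8, .Z7, .Z6, .Z5, .Z4, .Z3, .Z2, .X9, .X6, .X5, .X2, .X1, .X0, .y7, .y6, .y3, .y2, .y1, .p5, .hi, .p8,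
   .hi, .p8, .hi, .p4, .hi, .p4, .xii, .p10, .taui, .xii, .p3, .hi, .xii, .y9, .taui, .X0, .p8, .xii, .p4, .xii, .p7,
   .y8, .tau, .xii, .p4, .xii, .p3, .y3, .hi, .p3, .tau, .xii, .p, .hi],
  [.Z7, .Z6, .Z5, .Z4, .Z1, .Z0, .X10, .X8, .X7, .X5, .y9, .y6, .y3, .y1, .p5, .hi, .p3, .hi, .p5, .hi, .p4, .hi,
   .p10, .hi, .p, .hi, .xii, .hi, .xii, .p6, .xii, .y3, .tau, .y1, .xii, .p10, .xii, .y4, .p10, .xii, .y2, .y4, .tau,
   .y1, .xii, .p10, .xii, .y1, .p10, .xii, .y9, .y10, .taui, .y1, .p5, .xii, .p10, .xii, .y1, .taui, .xii, .p4, .xii,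
   .y6, .hi, .p7, .taui, .xii, .p2, .hi, .p]⟩

theorem h752 : Hd F (g wAd) b752 := hdD (by decide +kernel)
theorem r752_0 : R9 F (g wAd) b752 [] 0 0 := .of (startD 0 1) (by decide +kernel)
theorem r752_1 : R9 F (g wAd) b752 [] 0 1 := .of (startD 0 2) (by decide +kernel)
theorem r752_2 : R9 F (g wAd) b752 [] 0 2 := .of (startD 0 1) (by decide +kernel)
theorem r752_3 : R9 F (g wAd) b752 [] 1 0 := .of (startD 0 1) (by decide +kernel)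
theorem r752_4 : R9 F (g wAd) b752 [] 1 1 := .of (startD 0 1) (by decide +kernel)
theorem r752_5 : R9 F (g wAd) b752 [] 1 2 := .of (startD 0 2) (by decide +kernel)
theorem r752_6 : R9 F (g wAd) b752 [] 2 0 := .of (startD 0 1) (by decide +kernel)
theorem r752_7 : R9 F (g wAd) b752 [] 2 1 := .of (startD 0 1) (by decide +kernel)
theorem r752_8 : R9 F (g wAd) b752 [] 2 2 := .of (startD 0 1) (by decide +kernel)
theorem g752 : Gd F (g wAd) (0, d752) [] :=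
  good9 ok h752 r752_0 r752_1 r752_2 r752_3 r752_4 r752_5 r752_6 r752_7 r752_8

def b753 : Wd := ⟨0, d753,
  [.z, .Z10, .Z9, .Z8, .Z4, .Z2, .Z1, .Z0, .X9, .X6, .X5, .X2, .X0, .y10, .y6, .y5, .y4, .y3, .p6, .hi, .p3, .hi, .p4,
   .hi, .p10, .hi, .p, .hi, .p6, .xii, .p, .xii, .p, .xii, .y3, .y8, .tau, .y1, .xii, .y1, .hi, .xii, .p10, .xii, .y4,
   .y9, .taui, .y1, .xii, .p10, .xii, .y1, .p10, .xii, .y1, .y3, .taui, .y1, .p4, .xii, .p4, .xii, .y2, .tau, .xii,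
   .p6, .xii, .y3, .p2, .xii, .y4, .tau, .xii, .p4],
  [.Z10, .Z8, .Z4, .Z3, .Z1, .X10, .X9, .X7, .X4, .X3, .X1, .X0, .y10, .y7, .y6, .y5, .y4, .y3, .p6, .hi, .p8, .hi,
   .p8, .hi, .p10, .hi, .p8, .xii, .y2, .p10, .xii, .y10, .p8, .taui, .xii, .p, .hi, .xii, .p10, .y4, .taui, .hi,
   .xii, .p9, .xii, .y2, .y7, .p8, .tau, .xii, .p8, .xii, .p2, .y3, .y4, .xii, .y5, .tau, .xii, .p8],
  [.Z7, .Z6, .Z4, .Z3, .Z2, .Z1, .Z0, .X7, .y8, .y7, .y6, .y4, .y1, .p8, .hi, .p, .hi, .p5, .hi, .p10, .hi, .p8, .hi,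
   .p7, .hi, .xii, .p10, .xii, .y4, .p10, .xii, .y3, .y7, .taui, .xii, .y2, .p, .xii, .y1, .hi, .xii, .y6, .y10,
   .taui, .xii, .p2, .xii, .y10, .p, .xii, .y4, .y10, .tau, .xii, .p4, .xii, .y2, .y10, .p5, .xii, .y6, .tau, .xii,
   .p10]⟩

theorem h753 : Hd F (g wAd) b753 := hdD (by decide +kernel)
theorem r753_0 : R9 F (g wAd) b753 [] 0 0 := .of (startD 0 1) (by decide +kernel)
theorem r753_1 : R9 F (g wAd) b753 [] 0 1 := .of (startD 0 2) (by decide +kernel)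
theorem r753_2 : R9 F (g wAd) b753 [] 0 2 := .of (startD 0 1) (by decide +kernel)
theorem r753_3 : R9 F (g wAd) b753 [] 1 0 := .of (startD 0 1) (by decide +kernel)
theorem r753_4 : R9 F (g wAd) b753 [] 1 1 := .of (startD 0 1) (by decide +kernel)
theorem r753_5 : R9 F (g wAd) b753 [] 1 2 := .of (startD 0 1) (by decide +kernel)
theorem r753_6 : R9 F (g wAd) b753 [] 2 0 := .of (startD 0 1) (by decide +kernel)
theorem r753_7 : R9 F (g wAd) b753 [] 2 1 := .of (startD 0 1) (by decide +kernel)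
theorem r753_8 : R9 F (g wAd) b753 [] 2 2 := .of (startD 0 2) (by decide +kernel)
theorem g753 : Gd F (g wAd) (0, d753) [] :=
  good9 ok h753 r753_0 r753_1 r753_2 r753_3 r753_4 r753_5 r753_6 r753_7 r753_8

def b754 : Wd := ⟨0, d754,
  [.Z10, .Z7, .Z6, .Z3, .X10, .X8, .X4, .X3, .X2, .X1, .y9, .y5, .y2, .y1, .hi, .p8, .hi, .p4, .hi, .p7, .hi, .p9,
   .hi, .p3, .hi, .xii, .p10, .xii, .y9, .taui, .xii, .p, .xii, .y1, .hi, .xii, .y6, .y10, .tau, .xii, .y6, .p, .xii,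
   .p, .y7, .xii, .y6, .tau, .p7, .xii, .y4, .p5, .xii, .y7, .taui, .xii, .y2, .p5, .xii, .p9, .y5, .xii, .y4, .tau,
   .xii, .y7, .p5, .hi],
  [.Z10, .Z6, .Z5, .Z2, .Z0, .X10, .X7, .X6, .X5, .X3, .X2, .X1, .X0, .y6, .y3, .hi, .p5, .hi, .p, .hi, .p8, .hi, .p5,
   .xii, .y2, .p, .xii, .y3, .hi, .xii, .y6, .tau, .xii, .p, .xii, .y1, .hi, .xii, .y4, .y5, .taui, .y1, .p7, .xii,
   .p3, .hi, .xii, .y5, .tau, .xii, .y2, .p7, .xii, .y4, .p7, .xii, .y10, .taui, .xii, .hi],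
  [.Z10, .Z6, .Z4, .Z2, .Z1, .Z0, .X9, .X8, .X5, .X3, .X2, .y8, .y7, .y3, .hi, .p, .hi, .p3, .hi, .p9, .hi, .p3, .hi,
   .p7, .xii, .p10, .hi, .p8, .tau, .xii, .y2, .p, .xii, .y1, .hi, .xii, .y4, .y7, .tau, .p5, .xii, .y2, .p, .hi,
   .xii, .y7, .p, .tau, .xii, .p10, .hi, .p6, .xii, .y6, .p5, .taui, .xii, .y2, .p2]⟩

theorem h754 : Hd F (g wAd) b754 := hdD (by decide +kernel)
theorem r754_0 : R9 F (g wAd) b754 [] 0 0 := .of (startD 0 1) (by decide +kernel)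
theorem r754_1 : R9 F (g wAd) b754 [] 0 1 := .of (startD 0 1) (by decide +kernel)
theorem r754_2 : R9 F (g wAd) b754 [] 0 2 := .of (startD 0 1) (by decide +kernel)
theorem r754_3 : R9 F (g wAd) b754 [] 1 0 := .of (startD 0 1) (by decide +kernel)
theorem r754_4 : R9 F (g wAd) b754 [] 1 1 := .of (startD 0 1) (by decide +kernel)
theorem r754_5 : R9 F (g wAd) b754 [] 1 2 := .of (startD 0 1) (by decide +kernel)
theorem r754_6 : R9 F (g wAd) b754 [] 2 0 := .of (startD 0 1) (by decide +kernel)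
theorem r754_7 : R9 F (g wAd) b754 [] 2 1 := .of (startD 0 1) (by decide +kernel)
theorem r754_8 : R9 F (g wAd) b754 [] 2 2 := .of (startD 0 1) (by decide +kernel)
theorem g754 : Gd F (g wAd) (0, d754) [] :=
  good9 ok h754 r754_0 r754_1 r754_2 r754_3 r754_4 r754_5 r754_6 r754_7 r754_8

def b755 : Wd := ⟨0, d755,
  [.Z9, .Z7, .Z1, .Z0, .X10, .X8, .X3, .X2, .X1, .y7, .y6, .y5, .y4, .y3, .y1, .p7, .hi, .p5, .hi, .p9, .hi, .p4, .hi,
   .p10, .hi, .p4, .xii, .p, .xii, .y3, .p7, .xii, .y4, .y9, .tau, .y1, .xii, .p10, .xii, .y2, .p10, .xii, .y2, .y4,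
   .tau, .p5, .xii, .p2, .y3, .hi, .xii, .y5, .p9, .taui, .xii, .hi, .p6, .xii, .p8, .y8, .y10, .taui, .xii, .p2],
  [.z, .Z8, .Z7, .Z4, .Z2, .Z0, .X9, .X6, .X5, .X4, .X3, .X2, .X1, .X0, .y10, .y9, .y8, .y6, .y4, .y3, .y2, .hi, .p7,
   .hi, .p5, .xii, .p10, .xii, .y4, .p8, .tau, .xii, .p, .xii, .y1, .y6, .hi, .xii, .y4, .y5, .tau, .y1, .xii, .p8,
   .xii, .y5, .y9, .p2, .xii, .y2, .y10, .tau, .xii, .p8, .xii, .y9, .p, .hi, .p6, .taui, .xii, .p5, .hi, .p9],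
  [.z, .Z9, .Z8, .Z7, .Z6, .Z4, .Z2, .X10, .X9, .X7, .X6, .X4, .X2, .X0, .y9, .y8, .y7, .p9, .hi, .p6, .hi, .p3, .hi,
   .p6, .hi, .p10, .hi, .p, .xii, .y2, .p, .xii, .y1, .y2, .taui, .y1, .xii, .y1, .hi, .xii, .p10, .xii, .y2, .taui,
   .xii, .p3, .xii, .y1, .y5, .p2, .xii, .y1, .p5, .taui, .xii, .p9, .xii, .p, .xii, .y1, .y6, .tau]⟩

theorem h755 : Hd F (g wAd) b755 := hdD (by decide +kernel)
theorem r755_0 : R9 F (g wAd) b755 [] 0 0 := .of (startD 0 1) (by decide +kernel)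
theorem r755_1 : R9 F (g wAd) b755 [] 0 1 := .of (startD 0 1) (by decide +kernel)
theorem r755_2 : R9 F (g wAd) b755 [] 0 2 := .of (startD 0 1) (by decide +kernel)
theorem r755_3 : R9 F (g wAd) b755 [] 1 0 := .of (startD 0 1) (by decide +kernel)
theorem r755_4 : R9 F (g wAd) b755 [] 1 1 := .of (startD 0 1) (by decide +kernel)
theorem r755_5 : R9 F (g wAd) b755 [] 1 2 := .of (startD 0 1) (by decide +kernel)
theorem r755_6 : R9 F (g wAd) b755 [] 2 0 := .of (startD 0 1) (by decide +kernel)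
theorem r755_7 : R9 F (g wAd) b755 [] 2 1 := .of (startD 0 2) (by decide +kernel)
theorem r755_8 : R9 F (g wAd) b755 [] 2 2 := .of (startD 0 1) (by decide +kernel)
theorem g755 : Gd F (g wAd) (0, d755) [] :=
  good9 ok h755 r755_0 r755_1 r755_2 r755_3 r755_4 r755_5 r755_6 r755_7 r755_8

def b756 : Wd := ⟨0, d756,
  [.z, .Z10, .Z6, .Z3, .Z1, .Z0, .X9, .X8, .X7, .X6, .X5, .X2, .X1, .y7, .y6, .y2, .y1, .p9, .hi, .p10, .hi, .p9, .hi,
   .p6, .hi, .p5, .hi, .p8, .xii, .p, .xii, .p7, .xii, .y1, .y3, .tau, .y1, .xii, .y1, .hi, .xii, .p10, .xii, .y3,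
   .y5, .tau, .p5, .xii, .y2, .p6, .xii, .p4, .y9, .tau, .xii, .p9, .xii, .p3, .y9, .xii, .y1, .taui, .xii, .y6, .p2],
  [.z, .Z10, .Z9, .Z7, .Z5, .Z4, .X8, .X7, .X6, .X2, .X0, .y8, .y6, .y1, .hi, .p10, .hi, .p6, .hi, .p6, .hi, .p8, .hi,
   .p4, .hi, .p5, .hi, .xii, .p10, .xii, .y1, .p6, .xii, .y6, .taui, .xii, .p, .xii, .hi, .p10, .taui, .p4, .xii, .p9,
   .xii, .p6, .y10, .tau, .xii, .p9, .xii, .y2, .y9, .p5, .xii, .y4],
  [.z, .Z9, .Z8, .Z7, .Z4, .Z1, .X9, .X8, .X7, .X6, .X5, .X3, .X0, .y9, .y8, .y5, .y3, .y2, .y1, .p9, .hi, .p8, .hi,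
   .p4, .hi, .p, .hi, .p3, .hi, .p5, .hi, .xii, .p, .xii, .p7, .xii, .y1, .y3, .tau, .xii, .p, .xii, .hi, .y8, .xii,
   .y1, .y4, .taui, .p10, .xii, .y4, .p8, .xii, .p4, .hi, .p9, .tau, .xii, .p7, .xii, .y4, .p7, .xii, .y4, .y10,
   .taui]⟩

theorem h756 : Hd F (g wAd) b756 := hdD (by decide +kernel)
theorem r756_0 : R9 F (g wAd) b756 [] 0 0 := .of (startD 0 1) (by decide +kernel)
theorem r756_1 : R9 F (g wAd) b756 [] 0 1 := .of (startD 0 1) (by decide +kernel)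
theorem r756_2 : R9 F (g wAd) b756 [] 0 2 := .of (startD 0 1) (by decide +kernel)
theorem r756_3 : R9 F (g wAd) b756 [] 1 0 := .of (startD 0 1) (by decide +kernel)
theorem r756_4 : R9 F (g wAd) b756 [] 1 1 := .of (startD 0 1) (by decide +kernel)
theorem r756_5 : R9 F (g wAd) b756 [] 1 2 := .of (startD 0 1) (by decide +kernel)
theorem r756_6 : R9 F (g wAd) b756 [] 2 0 := .of (startD 0 1) (by decide +kernel)
theorem r756_7 : R9 F (g wAd) b756 [] 2 1 := .of (startD 0 1) (by decide +kernel)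
theorem r756_8 : R9 F (g wAd) b756 [] 2 2 := .of (startD 0 1) (by decide +kernel)
theorem g756 : Gd F (g wAd) (0, d756) [] :=
  good9 ok h756 r756_0 r756_1 r756_2 r756_3 r756_4 r756_5 r756_6 r756_7 r756_8

def b757 : Wd := ⟨0, d757,
  [.Z10, .Z7, .Z5, .Z4, .Z3, .X10, .X9, .X3, .X2, .X0, .y10, .y9, .y8, .y6, .y5, .y4, .hi, .p9, .hi, .p5, .hi, .p8,
   .hi, .p9, .hi, .p3, .xii, .p10, .hi, .p8, .tau, .xii, .y6, .p, .xii, .p, .xii, .y4, .y7, .tau, .y1, .p2, .xii, .p7,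
   .xii, .y1, .y2, .p6, .taui, .xii, .p4, .xii, .p10, .hi, .y4, .p7, .tau, .xii, .y2, .p],
  [.Z10, .Z8, .Z7, .Z6, .Z4, .Z1, .Z0, .X6, .X3, .X1, .X0, .y10, .y9, .y8, .y6, .y5, .y4, .p3, .hi, .p4, .hi, .p10,
   .hi, .p9, .hi, .p6, .xii, .p3, .hi, .xii, .y2, .y8, .tau, .xii, .y1, .p, .xii, .y4, .p, .xii, .y1, .y10, .tau, .p4,
   .xii, .p7, .xii, .p10, .y3, .hi, .p6, .taui, .xii, .p6, .xii, .y5, .hi, .p2, .taui, .xii, .y2, .p8],
  [.z, .Z8, .Z6, .Z5, .Z4, .Z3, .Z2, .Z1, .X10, .X9, .X7, .X6, .X4, .y10, .y9, .y6, .y4, .y3, .p10, .hi, .p2, .hi,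
   .p3, .hi, .p3, .hi, .p6, .hi, .p2, .xii, .y2, .p, .xii, .y1, .hi, .p4, .taui, .xii, .p, .xii, .y4, .y10, .hi, .xii,
   .y7, .taui, .p9, .xii, .p2, .hi, .xii, .y2, .p5, .y8, .tau, .xii, .p7, .xii, .p5, .hi, .p7, .taui, .xii, .p4, .hi,
   .p2]⟩

theorem h757 : Hd F (g wAd) b757 := hdD (by decide +kernel)
theorem r757_0 : R9 F (g wAd) b757 [] 0 0 := .of (startD 0 1) (by decide +kernel)
theorem r757_1 : R9 F (g wAd) b757 [] 0 1 := .of (startD 0 1) (by decide +kernel)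
theorem r757_2 : R9 F (g wAd) b757 [] 0 2 := .of (startD 0 1) (by decide +kernel)
theorem r757_3 : R9 F (g wAd) b757 [] 1 0 := .of (startD 0 1) (by decide +kernel)
theorem r757_4 : R9 F (g wAd) b757 [] 1 1 := .of (startD 0 1) (by decide +kernel)
theorem r757_5 : R9 F (g wAd) b757 [] 1 2 := .of (startD 0 1) (by decide +kernel)
theorem r757_6 : R9 F (g wAd) b757 [] 2 0 := .of (startD 0 1) (by decide +kernel)
theorem r757_7 : R9 F (g wAd) b757 [] 2 1 := .of (startD 0 1) (by decide +kernel)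
theorem r757_8 : R9 F (g wAd) b757 [] 2 2 := .of (startD 0 1) (by decide +kernel)
theorem g757 : Gd F (g wAd) (0, d757) [] :=
  good9 ok h757 r757_0 r757_1 r757_2 r757_3 r757_4 r757_5 r757_6 r757_7 r757_8

def b758 : Wd := ⟨0, d758,
  [.Z10, .Z9, .Z8, .Z4, .Z2, .X7, .X5, .X4, .X2, .X1, .y10, .y9, .y6, .y5, .y4, .p10, .hi, .p4, .hi, .p4, .hi, .p5,
   .hi, .p5, .hi, .p10, .xii, .p10, .xii, .y10, .p9, .xii, .y1, .y9, .taui, .y1, .xii, .y6, .p10, .xii, .y8, .p10,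
   .xii, .y4, .tau, .X0, .p6, .xii, .hi, .p5, .xii, .y5, .p5, .hi, .taui, .xii, .p4, .xii, .y4, .p2, .y5, .hi, .tau,
   .xii, .p3, .hi, .p8],
  [.z, .Z9, .Z7, .Z6, .Z5, .Z4, .Z3, .Z2, .X10, .X8, .X6, .X4, .X3, .X1, .y10, .y9, .y8, .y3, .y2, .y1, .p, .hi, .p7,
   .hi, .p3, .hi, .p6, .hi, .p2, .xii, .y2, .hi, .p8, .xii, .y9, .y10, .tau, .X0, .p7, .xii, .p10, .xii, .p5, .y6,
   .taui, .hi, .xii, .p6, .xii, .p10, .taui, .xii, .p5, .xii, .y7, .p, .hi, .tau, .xii, .hi, .p4, .hi, .p2],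
  [.z, .Z9, .Z7, .Z5, .Z4, .Z3, .Z1, .X8, .X4, .X2, .X1, .X0, .y8, .y3, .hi, .p4, .hi, .p8, .hi, .p, .hi, .p, .hi,
   .p5, .hi, .p5, .xii, .hi, .xii, .p2, .xii, .y1, .y4, .taui, .xii, .y6, .p, .xii, .y4, .p, .xii, .y1, .y10, .tau,
   .y1, .xii, .p5, .xii, .y2, .p9, .y9, .xii, .y9, .taui, .xii, .y2, .p5, .xii, .y8, .p5, .hi, .taui, .xii, .p]⟩

theorem h758 : Hd F (g wAd) b758 := hdD (by decide +kernel)
theorem r758_0 : R9 F (g wAd) b758 [] 0 0 := .of (startD 0 1) (by decide +kernel)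
theorem r758_1 : R9 F (g wAd) b758 [] 0 1 := .of (startD 0 1) (by decide +kernel)
theorem r758_2 : R9 F (g wAd) b758 [] 0 2 := .of (startD 0 1) (by decide +kernel)
theorem r758_3 : R9 F (g wAd) b758 [] 1 0 := .of (startD 0 1) (by decide +kernel)
theorem r758_4 : R9 F (g wAd) b758 [] 1 1 := .of (startD 0 1) (by decide +kernel)
theorem r758_5 : R9 F (g wAd) b758 [] 1 2 := .of (startD 0 1) (by decide +kernel)
theorem r758_6 : R9 F (g wAd) b758 [] 2 0 := .of (startD 0 2) (by decide +kernel)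
theorem r758_7 : R9 F (g wAd) b758 [] 2 1 := .of (startD 0 1) (by decide +kernel)
theorem r758_8 : R9 F (g wAd) b758 [] 2 2 := .of (startD 0 1) (by decide +kernel)
theorem g758 : Gd F (g wAd) (0, d758) [] :=
  good9 ok h758 r758_0 r758_1 r758_2 r758_3 r758_4 r758_5 r758_6 r758_7 r758_8

def b759 : Wd := ⟨0, d759,
  [.Z6, .Z5, .Z4, .Z2, .Z0, .X9, .X8, .X6, .X4, .X3, .X1, .X0, .y9, .y5, .y4, .y2, .hi, .p4, .hi, .p5, .hi, .p5, .hi,
   .p5, .hi, .p4, .hi, .p7, .xii, .p, .xii, .y10, .p7, .xii, .y8, .tau, .y1, .xii, .y1, .hi, .xii, .p10, .xii, .y2,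
   .y10, .tau, .X0, .p7, .xii, .p9, .xii, .y3, .p6, .xii, .y5, .taui, .xii, .p3, .xii, .y5, .p2, .xii, .y7, .taui,
   .xii, .hi, .xii, .y6],
  [.Z10, .Z8, .Z6, .Z3, .Z1, .Z0, .X10, .X5, .X4, .X2, .X1, .y8, .y6, .y4, .y3, .y1, .p10, .hi, .p3, .hi, .p7, .hi,
   .p3, .hi, .p4, .hi, .p7, .hi, .xii, .p, .xii, .p7, .xii, .y4, .y9, .taui, .xii, .p, .xii, .y1, .hi, .xii, .y5, .y9,
   .y10, .tau, .p10, .xii, .y2, .p8, .xii, .y2, .p8, .taui, .xii, .p4, .xii, .p8, .xii, .y5, .y10],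
  [.z, .Z10, .Z9, .Z7, .Z6, .Z5, .Z4, .Z3, .Z2, .Z0, .X5, .X4, .X3, .X2, .X1, .y9, .y8, .y6, .y2, .y1, .hi, .p4, .hi,
   .p7, .hi, .p, .hi, .p6, .hi, .p3, .xii, .y2, .hi, .xii, .p9, .xii, .y2, .y7, .tau, .xii, .y2, .p, .xii, .y1, .hi,
   .xii, .y6, .y10, .tau, .X0, .p6, .xii, .p9, .xii, .y9, .p3, .hi, .p7, .tau, .xii, .p3, .xii, .p4, .xii, .y9, .taui]⟩

theorem h759 : Hd F (g wAd) b759 := hdD (by decide +kernel)
theorem r759_0 : R9 F (g wAd) b759 [] 0 0 := .of (startD 0 1) (by decide +kernel)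
theorem r759_1 : R9 F (g wAd) b759 [] 0 1 := .of (startD 0 1) (by decide +kernel)
theorem r759_2 : R9 F (g wAd) b759 [] 0 2 := .of (startD 0 1) (by decide +kernel)
theorem r759_3 : R9 F (g wAd) b759 [] 1 0 := .of (startD 0 1) (by decide +kernel)
theorem r759_4 : R9 F (g wAd) b759 [] 1 1 := .of (startD 0 1) (by decide +kernel)
theorem r759_5 : R9 F (g wAd) b759 [] 1 2 := .of (startD 0 1) (by decide +kernel)
theorem r759_6 : R9 F (g wAd) b759 [] 2 0 := .of (startD 0 1) (by decide +kernel)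
theorem r759_7 : R9 F (g wAd) b759 [] 2 1 := .of (startD 0 1) (by decide +kernel)
theorem r759_8 : R9 F (g wAd) b759 [] 2 2 := .of (startD 0 1) (by decide +kernel)
theorem g759 : Gd F (g wAd) (0, d759) [] :=
  good9 ok h759 r759_0 r759_1 r759_2 r759_3 r759_4 r759_5 r759_6 r759_7 r759_8

theorem all : AllG F (g wAd) LD75 :=
  .cons g750 (.cons g751 (.cons g752 (.cons g753 (.cons g754 (.cons g755 (.cons g756 (.cons g757 (.cons g758 (.cons g759 (.nil))))))))))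

end Cfsg.Agent.BX.No33.Bk.D75
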