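import Cfsg.Agent.BX.No33.Cheap
set_option linter.all false

/-!
# Tests, diagonal case, part 76 (helper5; generated)
-/

set_option autoImplicit false
set_option maxRecDepth 100000
set_option Elab.async false

namespace Cfsg.Agent.BX.No33.Bk.D76

open Cfsg.Agent.H819.U33 Cfsg.Agent.BX.No33.Front

def b760 : Wd := ⟨0, d760,
  [.Z10, .Z9, .Z8, .Z7, .Z5, .Z4, .Z0, .X8, .X7, .X6, .X5, .X4, .X2, .X1, .y7, .y6, .y4, .y1, .p8, .hi, .p5, .hi, .p3,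
   .hi, .p5, .hi, .p9, .xii, .y2, .p10, .hi, .p8, .taui, .xii, .p, .xii, .y2, .hi, .xii, .y2, .y3, .taui, .p5, .xii,
   .p7, .xii, .y10, .hi, .p8, .y2, .taui, .xii, .p5, .xii, .y7, .p5, .xii, .y2, .y7, .tau, .xii, .y4, .hi, .p6],
  [.z, .Z10, .Z7, .Z6, .Z4, .Z2, .Z0, .X10, .X9, .X7, .X5, .X4, .y9, .y5, .y3, .y1, .p4, .hi, .p4, .hi, .p6, .hi, .p5,
   .hi, .p8, .hi, .p10, .xii, .y2, .p10, .tau, .y1, .xii, .y2, .p10, .xii, .y10, .taui, .X0, .p9, .xii, .y10, .p5,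
   .hi, .xii, .y2, .tau, .xii, .p2, .xii, .y6, .p, .xii, .y10, .taui, .xii, .hi, .p10],
  [.z, .Z10, .Z9, .Z6, .Z5, .Z4, .Z3, .X8, .X7, .X5, .X1, .X0, .y9, .y8, .y3, .y2, .p5, .hi, .p, .hi, .p8, .hi, .p10,
   .hi, .p3, .hi, .p10, .xii, .p10, .xii, .y1, .p10, .xii, .y8, .taui, .y1, .xii, .p10, .xii, .p10, .y7, .xii, .y4,
   .y8, .tau, .p8, .xii, .y7, .hi, .p6, .xii, .y3, .y4, .p8, .tau, .xii, .p7, .xii, .y2, .p9, .xii, .y4, .y10, .taui,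
   .xii, .y2, .p9]⟩

theorem h760 : Hd F (g wAd) b760 := hdD (by decide +kernel)
theorem r760_0 : R9 F (g wAd) b760 [] 0 0 := .of (startD 0 1) (by decide +kernel)
theorem r760_1 : R9 F (g wAd) b760 [] 0 1 := .of (startD 0 1) (by decide +kernel)
theorem r760_2 : R9 F (g wAd) b760 [] 0 2 := .of (startD 0 1) (by decide +kernel)
theorem r760_3 : R9 F (g wAd) b760 [] 1 0 := .of (startD 0 1) (by decide +kernel)
theorem r760_4 : R9 F (g wAd) b760 [] 1 1 := .of (startD 0 1) (by decide +kernel)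
theorem r760_5 : R9 F (g wAd) b760 [] 1 2 := .of (startD 0 1) (by decide +kernel)
theorem r760_6 : R9 F (g wAd) b760 [] 2 0 := .of (startD 0 1) (by decide +kernel)
theorem r760_7 : R9 F (g wAd) b760 [] 2 1 := .of (startD 0 1) (by decide +kernel)
theorem r760_8 : R9 F (g wAd) b760 [] 2 2 := .of (startD 0 1) (by decide +kernel)
theorem g760 : Gd F (g wAd) (0, d760) [] :=
  good9 ok h760 r760_0 r760_1 r760_2 r760_3 r760_4 r760_5 r760_6 r760_7 r760_8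

def b761 : Wd := ⟨0, d761,
  [.z, .Z9, .Z7, .Z6, .Z4, .Z2, .Z1, .X8, .X6, .X4, .X2, .X1, .y8, .y7, .y5, .y4, .y3, .hi, .p9, .hi, .p6, .hi, .p8,
   .hi, .p5, .xii, .p3, .hi, .xii, .y2, .p6, .tau, .xii, .p, .xii, .y1, .hi, .xii, .y1, .y10, .tau, .p4, .xii, .p5,
   .xii, .y8, .p10, .hi, .p10, .tau, .xii, .p4, .xii, .y4, .p4, .y5, .xii, .y8, .taui, .xii, .y7, .hi, .p],
  [.z, .Z9, .Z8, .Z7, .Z6, .Z5, .Z2, .X10, .X9, .X6, .X3, .X2, .X1, .y10, .y9, .y6, .y4, .y2, .p10, .hi, .p6, .hi,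
   .p9, .hi, .p10, .hi, .p, .hi, .p7, .xii, .y2, .p, .xii, .y3, .tau, .y1, .xii, .p10, .xii, .y1, .p10, .xii, .y8,
   .y10, .tau, .xii, .p8, .xii, .y1, .y3, .p4, .xii, .y8, .y9, .tau, .xii, .y2, .hi, .xii, .p9, .xii, .y1, .y2],
  [.z, .Z10, .Z9, .Z8, .Z6, .Z5, .Z4, .Z0, .X10, .X9, .X7, .X5, .X3, .X1, .X0, .y10, .y9, .y7, .y6, .y3, .y2, .hi,
   .p10, .hi, .p9, .hi, .p10, .hi, .p6, .hi, .p, .hi, .xii, .y2, .hi, .xii, .p10, .xii, .y2, .taui, .xii, .p, .xii,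
   .y4, .hi, .xii, .y2, .y7, .taui, .X0, .hi, .xii, .p6, .xii, .y9, .hi, .p4, .hi, .tau, .xii, .p9, .xii, .y4, .p2,
   .hi, .p3, .taui, .xii, .p3, .hi, .p2]⟩

theorem h761 : Hd F (g wAd) b761 := hdD (by decide +kernel)
theorem r761_0 : R9 F (g wAd) b761 [] 0 0 := .of (startD 0 1) (by decide +kernel)
theorem r761_1 : R9 F (g wAd) b761 [] 0 1 := .of (startD 0 1) (by decide +kernel)
theorem r761_2 : R9 F (g wAd) b761 [] 0 2 := .of (startD 0 1) (by decide +kernel)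
theorem r761_3 : R9 F (g wAd) b761 [] 1 0 := .of (startD 0 1) (by decide +kernel)
theorem r761_4 : R9 F (g wAd) b761 [] 1 1 := .of (startD 0 1) (by decide +kernel)
theorem r761_5 : R9 F (g wAd) b761 [] 1 2 := .of (startD 0 1) (by decide +kernel)
theorem r761_6 : R9 F (g wAd) b761 [] 2 0 := .of (startD 0 1) (by decide +kernel)
theorem r761_7 : R9 F (g wAd) b761 [] 2 1 := .of (startD 0 1) (by decide +kernel)
theorem r761_8 : R9 F (g wAd) b761 [] 2 2 := .of (startD 0 1) (by decide +kernel)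
theorem g761 : Gd F (g wAd) (0, d761) [] :=
  good9 ok h761 r761_0 r761_1 r761_2 r761_3 r761_4 r761_5 r761_6 r761_7 r761_8

def b762 : Wd := ⟨0, d762,
  [.z, .Z9, .Z8, .Z5, .Z4, .Z3, .Z0, .X10, .X9, .X7, .X6, .X4, .X2, .X0, .y10, .y8, .y7, .y4, .y3, .y2, .hi, .p7, .hi,
   .p5, .hi, .p5, .hi, .p8, .hi, .p7, .hi, .p4, .xii, .y2, .p10, .xii, .y5, .p5, .xii, .y9, .tau, .y1, .xii, .y1, .hi,
   .xii, .p10, .xii, .y8, .tau, .X0, .p4, .xii, .y6, .p7, .xii, .y5, .y10, .p5, .tau, .xii, .y2, .p9, .xii, .y1, .hi,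
   .p10, .hi, .taui, .xii, .y2, .hi, .p8],
  [.z, .Z9, .Z8, .Z7, .Z5, .Z4, .Z3, .Z2, .Z1, .X9, .X8, .X7, .X5, .X0, .y10, .y9, .y6, .y5, .y2, .p10, .hi, .p2, .hi,
   .p6, .hi, .p10, .hi, .p6, .hi, .xii, .p10, .taui, .xii, .y6, .p, .xii, .y10, .p, .xii, .y1, .y2, .tau, .p9, .xii,
   .p3, .y2, .xii, .y8, .p9, .tau, .xii, .p2, .xii, .p2, .hi, .p6, .y6, .taui, .xii, .p3, .hi, .p10],
  [.z, .Z10, .Z4, .Z1, .Z0, .X9, .X8, .X7, .X5, .X1, .y9, .y7, .y5, .y4, .hi, .p5, .hi, .p, .hi, .p5, .hi, .p9, .hi,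
   .p8, .hi, .p9, .xii, .p10, .xii, .p9, .y6, .xii, .y5, .taui, .xii, .y1, .p, .xii, .y2, .p, .xii, .y3, .y4, .taui,
   .xii, .p4, .xii, .p4, .xii, .y4, .y8, .p9, .tau, .xii, .p4, .xii, .y6, .y10, .p8, .xii, .y4, .tau, .xii, .p5]⟩

theorem h762 : Hd F (g wAd) b762 := hdD (by decide +kernel)
theorem r762_0 : R9 F (g wAd) b762 [] 0 0 := .of (startD 0 1) (by decide +kernel)
theorem r762_1 : R9 F (g wAd) b762 [] 0 1 := .of (startD 0 1) (by decide +kernel)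
theorem r762_2 : R9 F (g wAd) b762 [] 0 2 := .of (startD 0 1) (by decide +kernel)
theorem r762_3 : R9 F (g wAd) b762 [] 1 0 := .of (startD 0 1) (by decide +kernel)
theorem r762_4 : R9 F (g wAd) b762 [] 1 1 := .of (startD 0 1) (by decide +kernel)
theorem r762_5 : R9 F (g wAd) b762 [] 1 2 := .of (startD 0 1) (by decide +kernel)
theorem r762_6 : R9 F (g wAd) b762 [] 2 0 := .of (startD 0 1) (by decide +kernel)
theorem r762_7 : R9 F (g wAd) b762 [] 2 1 := .of (startD 0 1) (by decide +kernel)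
theorem r762_8 : R9 F (g wAd) b762 [] 2 2 := .of (startD 0 1) (by decide +kernel)
theorem g762 : Gd F (g wAd) (0, d762) [] :=
  good9 ok h762 r762_0 r762_1 r762_2 r762_3 r762_4 r762_5 r762_6 r762_7 r762_8

def b763 : Wd := ⟨0, d763,
  [.Z10, .Z9, .Z6, .X9, .X7, .X4, .X2, .y9, .y8, .y7, .y6, .y5, .y3, .y2, .hi, .p10, .hi, .p3, .hi, .p5, .hi, .p8,
   .hi, .p10, .hi, .p2, .xii, .y2, .p, .xii, .hi, .p10, .taui, .xii, .p, .xii, .y1, .y2, .hi, .p10, .tau, .X0, .p4,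
   .xii, .p8, .xii, .y6, .tau, .xii, .p5, .xii, .y4, .p8, .xii, .y1, .y6, .taui, .xii, .hi, .p8],
  [.z, .Z9, .Z8, .Z6, .Z4, .Z3, .Z2, .Z1, .Z0, .X9, .X8, .X6, .X5, .X4, .X2, .y10, .y9, .y8, .y6, .y5, .y3, .p6, .hi,
   .p, .hi, .p5, .hi, .p7, .hi, .p3, .hi, .p9, .xii, .y2, .p, .xii, .p, .xii, .y2, .y3, .taui, .xii, .y6, .p, .xii,
   .hi, .p8, .y3, .tau, .p5, .xii, .y9, .p7, .xii, .y7, .p, .taui, .xii, .p5, .xii, .y2, .p5, .xii, .taui, .xii, .y6,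
   .p6],
  [.Z10, .Z9, .Z6, .Z5, .Z3, .Z1, .X9, .X5, .X4, .X3, .X0, .y5, .p, .hi, .p6, .hi, .p10, .hi, .p4, .hi, .p9, .hi, .p9,
   .xii, .p, .xii, .y2, .hi, .p4, .taui, .xii, .y6, .p, .xii, .p, .xii, .y7, .y8, .tau, .p10, .xii, .y10, .p5, .xii,
   .hi, .p2, .taui, .xii, .p2, .xii, .y1, .y10, .p6, .xii, .y10, .tau, .xii, .p4, .hi, .p3]⟩

theorem h763 : Hd F (g wAd) b763 := hdD (by decide +kernel)
theorem r763_0 : R9 F (g wAd) b763 [] 0 0 := .of (startD 0 1) (by decide +kernel)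
theorem r763_1 : R9 F (g wAd) b763 [] 0 1 := .of (startD 0 1) (by decide +kernel)
theorem r763_2 : R9 F (g wAd) b763 [] 0 2 := .of (startD 0 1) (by decide +kernel)
theorem r763_3 : R9 F (g wAd) b763 [] 1 0 := .of (startD 0 1) (by decide +kernel)
theorem r763_4 : R9 F (g wAd) b763 [] 1 1 := .of (startD 0 1) (by decide +kernel)
theorem r763_5 : R9 F (g wAd) b763 [] 1 2 := .of (startD 0 1) (by decide +kernel)
theorem r763_6 : R9 F (g wAd) b763 [] 2 0 := .of (startD 0 1) (by decide +kernel)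
theorem r763_7 : R9 F (g wAd) b763 [] 2 1 := .of (startD 0 1) (by decide +kernel)
theorem r763_8 : R9 F (g wAd) b763 [] 2 2 := .of (startD 0 1) (by decide +kernel)
theorem g763 : Gd F (g wAd) (0, d763) [] :=
  good9 ok h763 r763_0 r763_1 r763_2 r763_3 r763_4 r763_5 r763_6 r763_7 r763_8

def b764 : Wd := ⟨0, d764,
  [.Z10, .Z9, .Z7, .Z1, .X7, .X6, .X5, .X4, .X3, .X2, .X0, .y9, .y8, .y4, .y3, .y2, .p5, .hi, .p10, .hi, .p4, .hi,
   .p3, .hi, .p6, .hi, .p, .hi, .xii, .hi, .xii, .y6, .p5, .taui, .xii, .p, .xii, .y1, .hi, .xii, .y3, .y9, .taui,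
   .X0, .p4, .xii, .p7, .xii, .y9, .p10, .y7, .hi, .p3, .taui, .xii, .y2, .p5, .xii, .hi, .p5, .y7, .hi, .tau, .xii,
   .p3, .hi, .p9],
  [.z, .Z9, .Z8, .Z7, .Z5, .Z4, .Z3, .Z1, .X8, .X6, .X5, .X3, .X0, .y6, .y5, .y3, .y1, .p5, .hi, .p10, .hi, .p5, .hi,
   .p7, .hi, .p9, .hi, .p6, .hi, .xii, .p, .hi, .xii, .y2, .p3, .tau, .xii, .y6, .hi, .p8, .xii, .y3, .p2, .hi, .taui,
   .p10, .xii, .y2, .p2, .xii, .p2, .tau, .xii, .y2, .p4, .xii, .p10, .y10, .hi, .p6, .tau, .xii, .y2, .p8],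
  [.z, .Z9, .Z8, .Z7, .Z3, .Z2, .Z1, .Z0, .X10, .X9, .X8, .X7, .X6, .X5, .X4, .X3, .X2, .X1, .y10, .y7, .y3, .y2, .p4,
   .hi, .p, .hi, .p6, .hi, .p3, .hi, .p6, .hi, .p9, .hi, .xii, .p3, .hi, .xii, .y2, .y8, .tau, .y1, .xii, .y1, .hi,
   .xii, .p10, .xii, .y2, .y8, .tau, .X0, .xii, .hi, .xii, .y2, .p5, .xii, .y3, .y9, .p10, .taui, .xii, .p8, .xii,
   .y6, .p3, .hi, .taui, .xii, .y2, .p, .hi]⟩

theorem h764 : Hd F (g wAd) b764 := hdD (by decide +kernel)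
theorem r764_0 : R9 F (g wAd) b764 [] 0 0 := .of (startD 0 1) (by decide +kernel)
theorem r764_1 : R9 F (g wAd) b764 [] 0 1 := .of (startD 0 2) (by decide +kernel)
theorem r764_2 : R9 F (g wAd) b764 [] 0 2 := .of (startD 0 2) (by decide +kernel)
theorem r764_3 : R9 F (g wAd) b764 [] 1 0 := .of (startD 0 1) (by decide +kernel)
theorem r764_4 : R9 F (g wAd) b764 [] 1 1 := .of (startD 0 1) (by decide +kernel)
theorem r764_5 : R9 F (g wAd) b764 [] 1 2 := .of (startD 0 1) (by decide +kernel)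
theorem r764_6 : R9 F (g wAd) b764 [] 2 0 := .of (startD 0 1) (by decide +kernel)
theorem r764_7 : R9 F (g wAd) b764 [] 2 1 := .of (startD 0 1) (by decide +kernel)
theorem r764_8 : R9 F (g wAd) b764 [] 2 2 := .of (startD 0 1) (by decide +kernel)
theorem g764 : Gd F (g wAd) (0, d764) [] :=
  good9 ok h764 r764_0 r764_1 r764_2 r764_3 r764_4 r764_5 r764_6 r764_7 r764_8

def b765 : Wd := ⟨0, d765,
  [.z, .Z7, .Z5, .X10, .X9, .X7, .X5, .X4, .y10, .y7, .y5, .y2, .hi, .p4, .hi, .p4, .hi, .p6, .hi, .p10, .hi, .p3,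
   .xii, .p, .xii, .y2, .hi, .xii, .y3, .y4, .taui, .y1, .xii, .y2, .hi, .xii, .p10, .xii, .tau, .X0, .p5, .xii, .p5,
   .xii, .y6, .p8, .xii, .y7, .tau, .xii, .p7, .xii, .y5, .y9, .hi, .p8, .tau, .xii, .y2, .p, .hi],
  [.z, .Z9, .Z7, .Z4, .Z2, .Z1, .X10, .X8, .X6, .X5, .y6, .y4, .y3, .y2, .hi, .p3, .hi, .p, .hi, .p4, .hi, .p4, .hi,
   .p5, .xii, .p10, .hi, .p8, .tau, .y1, .xii, .y2, .hi, .xii, .y10, .p10, .xii, .y9, .taui, .X0, .p4, .xii, .p4,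
   .xii, .y6, .p, .hi, .p8, .tau, .xii, .p6, .xii, .p, .y5, .xii, .y1, .y5, .tau, .xii, .hi],
  [.Z9, .Z6, .Z5, .Z3, .Z1, .X5, .X4, .X2, .X1, .y8, .y6, .y5, .y4, .y3, .y2, .p8, .hi, .p6, .hi, .p10, .hi, .p, .hi,
   .p6, .hi, .p7, .xii, .y2, .hi, .p8, .xii, .y3, .p2, .taui, .xii, .p, .xii, .y2, .hi, .xii, .y3, .tau, .X0, .xii,
   .p7, .xii, .p, .y2, .xii, .y8, .y10, .taui, .xii, .p3, .xii, .y4, .p2, .xii, .y1, .y8, .tau, .xii, .p, .hi]⟩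

theorem h765 : Hd F (g wAd) b765 := hdD (by decide +kernel)
theorem r765_0 : R9 F (g wAd) b765 [] 0 0 := .of (startD 0 1) (by decide +kernel)
theorem r765_1 : R9 F (g wAd) b765 [] 0 1 := .of (startD 0 1) (by decide +kernel)
theorem r765_2 : R9 F (g wAd) b765 [] 0 2 := .of (startD 0 1) (by decide +kernel)
theorem r765_3 : R9 F (g wAd) b765 [] 1 0 := .of (startD 0 1) (by decide +kernel)
theorem r765_4 : R9 F (g wAd) b765 [] 1 1 := .of (startD 0 1) (by decide +kernel)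
theorem r765_5 : R9 F (g wAd) b765 [] 1 2 := .of (startD 0 1) (by decide +kernel)
theorem r765_6 : R9 F (g wAd) b765 [] 2 0 := .of (startD 0 1) (by decide +kernel)
theorem r765_7 : R9 F (g wAd) b765 [] 2 1 := .of (startD 0 1) (by decide +kernel)
theorem r765_8 : R9 F (g wAd) b765 [] 2 2 := .of (startD 0 1) (by decide +kernel)
theorem g765 : Gd F (g wAd) (0, d765) [] :=
  good9 ok h765 r765_0 r765_1 r765_2 r765_3 r765_4 r765_5 r765_6 r765_7 r765_8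

def b766 : Wd := ⟨0, d766,
  [.z, .Z6, .X10, .X7, .X6, .X3, .X2, .X1, .X0, .y6, .y4, .p10, .hi, .p9, .hi, .p7, .hi, .p5, .hi, .p9, .hi, .p9, .hi,
   .p7, .hi, .xii, .p10, .xii, .y6, .p2, .xii, .y5, .taui, .xii, .y2, .p, .xii, .y1, .hi, .xii, .y1, .y2, .taui, .xii,
   .p2, .xii, .y1, .y5, .p7, .xii, .y10, .p7, .taui, .xii, .p7, .xii, .y2, .p3, .y3, .xii, .y6, .tau, .xii, .y7, .p4,
   .hi],
  [.z, .Z10, .Z9, .Z8, .Z6, .Z5, .Z3, .X10, .X9, .X8, .X7, .X5, .X1, .X0, .y9, .y8, .y6, .y5, .y2, .y1, .p10, .hi,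
   .p5, .hi, .p3, .hi, .p4, .hi, .p8, .hi, .p4, .hi, .xii, .p10, .xii, .y5, .p10, .tau, .xii, .p, .xii, .y1, .hi,
   .xii, .y7, .tau, .p9, .xii, .p3, .y10, .xii, .hi, .p3, .y5, .tau, .xii, .p10, .xii, .y6, .p10, .hi],
  [.Z5, .Z0, .X10, .X9, .X5, .X4, .X3, .X0, .y10, .y7, .y6, .y3, .y1, .hi, .p9, .hi, .p8, .hi, .p, .hi, .p, .hi, .p,
   .hi, .xii, .hi, .p8, .xii, .p2, .tau, .xii, .y1, .p, .xii, .p, .xii, .y5, .y8, .tau, .X0, .p9, .xii, .y2, .p, .xii,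
   .p2, .hi, .p5, .taui, .xii, .p7, .xii, .y2, .p9, .y4, .xii, .y5, .taui, .xii, .p6, .xii, .y2]⟩

theorem h766 : Hd F (g wAd) b766 := hdD (by decide +kernel)
theorem r766_0 : R9 F (g wAd) b766 [] 0 0 := .of (startD 0 1) (by decide +kernel)
theorem r766_1 : R9 F (g wAd) b766 [] 0 1 := .of (startD 0 1) (by decide +kernel)
theorem r766_2 : R9 F (g wAd) b766 [] 0 2 := .of (startD 0 1) (by decide +kernel)
theorem r766_3 : R9 F (g wAd) b766 [] 1 0 := .of (startD 0 2) (by decide +kernel)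
theorem r766_4 : R9 F (g wAd) b766 [] 1 1 := .of (startD 0 1) (by decide +kernel)
theorem r766_5 : R9 F (g wAd) b766 [] 1 2 := .of (startD 0 1) (by decide +kernel)
theorem r766_6 : R9 F (g wAd) b766 [] 2 0 := .of (startD 0 1) (by decide +kernel)
theorem r766_7 : R9 F (g wAd) b766 [] 2 1 := .of (startD 0 1) (by decide +kernel)
theorem r766_8 : R9 F (g wAd) b766 [] 2 2 := .of (startD 0 1) (by decide +kernel)
theorem g766 : Gd F (g wAd) (0, d766) [] :=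
  good9 ok h766 r766_0 r766_1 r766_2 r766_3 r766_4 r766_5 r766_6 r766_7 r766_8

def b767 : Wd := ⟨0, d767,
  [.z, .Z9, .Z6, .Z5, .Z3, .Z2, .X9, .X8, .X7, .X2, .X0, .y10, .y9, .y8, .y7, .y3, .y1, .hi, .p8, .hi, .p4, .hi, .p7,
   .hi, .p, .xii, .p, .xii, .y10, .p, .xii, .y6, .tau, .xii, .p, .xii, .y4, .hi, .xii, .y6, .taui, .p2, .xii, .p5,
   .xii, .y1, .y8, .y9, .p, .taui, .xii, .p8, .xii, .y3, .y5, .p5, .hi, .p3, .tau, .xii, .y2, .hi, .p6],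
  [.Z10, .Z9, .Z8, .Z5, .Z4, .Z3, .Z2, .Z1, .X9, .X7, .X5, .X4, .X3, .y10, .y9, .y8, .y6, .y4, .y3, .y1, .p8, .hi,
   .p3, .hi, .p9, .xii, .y2, .p3, .hi, .xii, .y1, .p10, .taui, .y1, .xii, .p10, .xii, .y1, .y7, .p10, .xii, .y9, .y10,
   .tau, .X0, .p10, .xii, .hi, .p6, .xii, .y1, .hi, .p8, .taui, .xii, .p9, .xii, .y4, .p4, .hi, .p2, .taui, .xii, .y2,
   .p7],
  [.Z7, .Z6, .Z5, .Z4, .X4, .X3, .X2, .y10, .y9, .y8, .y7, .y3, .y2, .p10, .hi, .p9, .hi, .p7, .hi, .p8, .hi, .p, .hi,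
   .p8, .hi, .xii, .taui, .xii, .y1, .p, .xii, .y4, .p, .xii, .y4, .y6, .taui, .X0, .p8, .xii, .p4, .xii, .y4, .p2,
   .y4, .hi, .p, .tau, .xii, .p4, .xii, .y1, .y10, .p10, .xii, .y10, .tau, .xii, .y7, .p8, .xii, .y7]⟩

theorem h767 : Hd F (g wAd) b767 := hdD (by decide +kernel)
theorem r767_0 : R9 F (g wAd) b767 [] 0 0 := .of (startD 0 1) (by decide +kernel)
theorem r767_1 : R9 F (g wAd) b767 [] 0 1 := .of (startD 0 1) (by decide +kernel)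
theorem r767_2 : R9 F (g wAd) b767 [] 0 2 := .of (startD 0 1) (by decide +kernel)
theorem r767_3 : R9 F (g wAd) b767 [] 1 0 := .of (startD 0 1) (by decide +kernel)
theorem r767_4 : R9 F (g wAd) b767 [] 1 1 := .of (startD 0 1) (by decide +kernel)
theorem r767_5 : R9 F (g wAd) b767 [] 1 2 := .of (startD 0 1) (by decide +kernel)
theorem r767_6 : R9 F (g wAd) b767 [] 2 0 := .of (startD 0 1) (by decide +kernel)
theorem r767_7 : R9 F (g wAd) b767 [] 2 1 := .of (startD 0 1) (by decide +kernel)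
theorem r767_8 : R9 F (g wAd) b767 [] 2 2 := .of (startD 0 1) (by decide +kernel)
theorem g767 : Gd F (g wAd) (0, d767) [] :=
  good9 ok h767 r767_0 r767_1 r767_2 r767_3 r767_4 r767_5 r767_6 r767_7 r767_8

def b768 : Wd := ⟨0, d768,
  [.Z8, .Z7, .Z6, .Z4, .Z3, .Z2, .Z1, .X10, .X7, .X0, .y10, .y9, .y8, .y4, .y1, .p3, .hi, .p3, .hi, .p7, .hi, .p, .hi,
   .p3, .hi, .p3, .hi, .xii, .hi, .xii, .p5, .y1, .xii, .y8, .tau, .xii, .y2, .p, .xii, .y2, .hi, .xii, .y5, .taui,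
   .X0, .p10, .xii, .y10, .p5, .xii, .y4, .p6, .tau, .xii, .p9, .xii, .p2, .y5, .hi, .p, .tau, .xii, .hi, .p8],
  [.Z10, .Z8, .Z4, .Z3, .Z0, .X7, .X6, .X4, .X2, .X0, .y10, .y9, .y8, .y5, .y3, .y2, .y1, .p9, .hi, .p8, .hi, .p9,
   .hi, .p, .hi, .p5, .hi, .p10, .xii, .p, .xii, .y3, .taui, .y1, .xii, .p10, .xii, .y4, .p10, .xii, .y9, .y10, .tau,
   .xii, .y2, .p9, .xii, .p3, .xii, .y1, .hi, .tau, .xii, .p3, .xii, .y7, .p10, .xii, .y7, .tau, .xii, .y6, .p6],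
  [.Z10, .Z8, .Z2, .Z1, .X9, .X3, .X2, .y10, .y9, .y5, .y4, .y3, .p5, .hi, .p7, .hi, .p5, .hi, .p7, .hi, .p6, .xii,
   .hi, .p8, .xii, .p2, .y10, .tau, .X0, .hi, .xii, .hi, .xii, .p8, .taui, .X0, .p2, .xii, .p5, .hi, .xii, .y1, .tau,
   .xii, .p7, .xii, .y1, .y5, .p3, .xii, .taui, .xii, .p10]⟩

theorem h768 : Hd F (g wAd) b768 := hdD (by decide +kernel)
theorem r768_0 : R9 F (g wAd) b768 [] 0 0 := .of (startD 0 1) (by decide +kernel)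
theorem r768_1 : R9 F (g wAd) b768 [] 0 1 := .of (startD 0 1) (by decide +kernel)
theorem r768_2 : R9 F (g wAd) b768 [] 0 2 := .of (startD 0 1) (by decide +kernel)
theorem r768_3 : R9 F (g wAd) b768 [] 1 0 := .of (startD 0 1) (by decide +kernel)
theorem r768_4 : R9 F (g wAd) b768 [] 1 1 := .of (startD 0 1) (by decide +kernel)
theorem r768_5 : R9 F (g wAd) b768 [] 1 2 := .of (startD 0 1) (by decide +kernel)
theorem r768_6 : R9 F (g wAd) b768 [] 2 0 := .of (startD 0 1) (by decide +kernel)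
theorem r768_7 : R9 F (g wAd) b768 [] 2 1 := .of (startD 0 1) (by decide +kernel)
theorem r768_8 : R9 F (g wAd) b768 [] 2 2 := .of (startD 0 1) (by decide +kernel)
theorem g768 : Gd F (g wAd) (0, d768) [] :=
  good9 ok h768 r768_0 r768_1 r768_2 r768_3 r768_4 r768_5 r768_6 r768_7 r768_8

def b769 : Wd := ⟨0, d769,
  [.z, .Z10, .Z5, .Z4, .Z3, .Z2, .X10, .X4, .X3, .X1, .y9, .y7, .y4, .y3, .y2, .y1, .hi, .p3, .hi, .p4, .hi, .p8, .hi,
   .p3, .hi, .p10, .hi, .p8, .hi, .xii, .p, .xii, .y10, .p4, .xii, .y8, .tau, .xii, .y2, .p, .xii, .y4, .hi, .xii,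
   .y5, .taui, .hi, .xii, .p9, .xii, .hi, .p5, .y9, .taui, .xii, .p3, .xii, .p2, .hi, .p8, .y8, .tau, .xii, .y2, .hi,
   .p10],
  [.Z10, .Z7, .Z6, .Z5, .Z4, .Z3, .X10, .X7, .X6, .X5, .X3, .X2, .X0, .y5, .y2, .p7, .hi, .p7, .hi, .p3, .hi, .p, .hi,
   .p5, .hi, .p5, .xii, .y2, .p2, .hi, .xii, .y8, .tau, .xii, .y6, .p, .xii, .p, .xii, .y5, .y8, .y10, .tau, .p8,
   .xii, .y4, .hi, .p6, .xii, .y10, .hi, .p9, .tau, .xii, .p9, .xii, .hi, .p7, .y5],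
  [.Z10, .Z2, .Z1, .Z0, .X8, .X6, .X4, .X2, .y10, .y7, .y5, .y4, .y3, .y1, .p6, .hi, .p, .hi, .p3, .hi, .p4, .hi, .p,
   .hi, .p6, .xii, .p10, .xii, .y10, .p6, .xii, .y7, .tau, .xii, .y1, .p3, .hi, .xii, .p10, .y5, .tau, .X0, .p6, .xii,
   .p9, .xii, .y1, .p4, .tau, .xii, .p5, .xii, .p10, .hi, .p6, .taui, .xii, .y2, .p4, .hi, .p9]⟩

theorem h769 : Hd F (g wAd) b769 := hdD (by decide +kernel)
theorem r769_0 : R9 F (g wAd) b769 [] 0 0 := .of (startD 0 1) (by decide +kernel)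
theorem r769_1 : R9 F (g wAd) b769 [] 0 1 := .of (startD 0 1) (by decide +kernel)
theorem r769_2 : R9 F (g wAd) b769 [] 0 2 := .of (startD 0 1) (by decide +kernel)
theorem r769_3 : R9 F (g wAd) b769 [] 1 0 := .of (startD 0 1) (by decide +kernel)
theorem r769_4 : R9 F (g wAd) b769 [] 1 1 := .of (startD 0 1) (by decide +kernel)
theorem r769_5 : R9 F (g wAd) b769 [] 1 2 := .of (startD 0 1) (by decide +kernel)
theorem r769_6 : R9 F (g wAd) b769 [] 2 0 := .of (startD 0 1) (by decide +kernel)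
theorem r769_7 : R9 F (g wAd) b769 [] 2 1 := .of (startD 0 1) (by decide +kernel)
theorem r769_8 : R9 F (g wAd) b769 [] 2 2 := .of (startD 0 1) (by decide +kernel)
theorem g769 : Gd F (g wAd) (0, d769) [] :=
  good9 ok h769 r769_0 r769_1 r769_2 r769_3 r769_4 r769_5 r769_6 r769_7 r769_8

theorem all : AllG F (g wAd) LD76 :=
  .cons g760 (.cons g761 (.cons g762 (.cons g763 (.cons g764 (.cons g765 (.cons g766 (.cons g767 (.cons g768 (.cons g769 (.nil))))))))))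

end Cfsg.Agent.BX.No33.Bk.D76
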