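import Cfsg.Agent.BX.No33.Cheap
set_option linter.all false

/-!
# Tests, diagonal case, part 77 (helper5; generated)
-/

set_option autoImplicit false
set_option maxRecDepth 100000
set_option Elab.async false

namespace Cfsg.Agent.BX.No33.Bk.D77

open Cfsg.Agent.H819.U33 Cfsg.Agent.BX.No33.Front

def b770 : Wd := ⟨0, d770,
  [.Z10, .Z9, .Z7, .Z3, .Z2, .X10, .X9, .X4, .X0, .y10, .y8, .y6, .y4, .p10, .hi, .p5, .hi, .p8, .hi, .p4, .hi, .p3,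
   .hi, .p2, .hi, .xii, .p10, .xii, .y5, .p10, .xii, .y4, .taui, .xii, .y1, .p, .xii, .p, .xii, .y6, .tau, .xii, .p5,
   .xii, .p, .y1, .y7, .xii, .y4, .y8, .tau, .xii, .p6, .xii, .p2, .y7, .xii, .y4, .tau, .xii, .y6, .p4],
  [.Z10, .Z8, .Z7, .Z6, .Z5, .Z4, .Z3, .Z2, .Z1, .X8, .X7, .X5, .X3, .y7, .y6, .y2, .hi, .p6, .hi, .p6, .hi, .p4, .hi,
   .p10, .xii, .hi, .p8, .xii, .y4, .p2, .taui, .y1, .xii, .y2, .hi, .xii, .p10, .xii, .y1, .y6, .tau, .xii, .p3,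
   .xii, .p5, .y10, .xii, .y1, .y6, .tau, .xii, .p4, .xii, .p8, .y8, .xii, .y2],
  [.z, .Z7, .Z6, .Z3, .X6, .X5, .X2, .y9, .y7, .y4, .hi, .p9, .hi, .p8, .hi, .p9, .hi, .p, .hi, .p, .hi, .p8, .hi,
   .xii, .p, .xii, .y3, .y10, .hi, .p4, .tau, .xii, .p, .xii, .hi, .y8, .xii, .y4, .y6, .taui, .y1, .xii, .y2, .hi,
   .xii, .p10, .xii, .y1, .y7, .taui, .p9, .xii, .y9, .p10, .xii, .taui, .xii, .p6, .xii, .p2, .xii, .y2, .taui, .xii,
   .y4, .hi]⟩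

theorem h770 : Hd F (g wAd) b770 := hdD (by decide +kernel)
theorem r770_0 : R9 F (g wAd) b770 [] 0 0 := .of (startD 0 1) (by decide +kernel)
theorem r770_1 : R9 F (g wAd) b770 [] 0 1 := .of (startD 0 1) (by decide +kernel)
theorem r770_2 : R9 F (g wAd) b770 [] 0 2 := .of (startD 0 1) (by decide +kernel)
theorem r770_3 : R9 F (g wAd) b770 [] 1 0 := .of (startD 0 1) (by decide +kernel)
theorem r770_4 : R9 F (g wAd) b770 [] 1 1 := .of (startD 0 1) (by decide +kernel)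
theorem r770_5 : R9 F (g wAd) b770 [] 1 2 := .of (startD 0 1) (by decide +kernel)
theorem r770_6 : R9 F (g wAd) b770 [] 2 0 := .of (startD 0 1) (by decide +kernel)
theorem r770_7 : R9 F (g wAd) b770 [] 2 1 := .of (startD 0 1) (by decide +kernel)
theorem r770_8 : R9 F (g wAd) b770 [] 2 2 := .of (startD 0 1) (by decide +kernel)
theorem g770 : Gd F (g wAd) (0, d770) [] :=
  good9 ok h770 r770_0 r770_1 r770_2 r770_3 r770_4 r770_5 r770_6 r770_7 r770_8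

def b771 : Wd := ⟨0, d771,
  [.Z10, .Z7, .Z6, .Z5, .Z4, .Z3, .Z2, .Z1, .X9, .X6, .X5, .X2, .X1, .X0, .y7, .y6, .hi, .p9, .hi, .p5, .hi, .p6, .hi,
   .p10, .hi, .p4, .xii, .y2, .p10, .xii, .y9, .p5, .tau, .y1, .xii, .y1, .hi, .xii, .p10, .xii, .y4, .y10, .taui,
   .X0, .p7, .xii, .p4, .xii, .p10, .hi, .y5, .p4, .tau, .xii, .y2, .p9, .xii, .y9, .p3, .xii, .y9, .tau, .xii, .y2,
   .p, .xii],
  [.z, .Z9, .Z8, .Z6, .Z5, .Z0, .X9, .X8, .X7, .X5, .X3, .X2, .X1, .X0, .y6, .y2, .y1, .p10, .hi, .p4, .hi, .p4, .hi,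
   .p6, .hi, .p7, .hi, .p8, .xii, .y2, .hi, .xii, .p5, .taui, .xii, .p, .xii, .y2, .y10, .hi, .xii, .y5, .tau, .X0,
   .p10, .xii, .y7, .p10, .xii, .y4, .tau, .xii, .y2, .p3, .xii, .y6, .p2, .xii, .y2, .tau, .xii, .p3, .xii, .y8],
  [.z, .Z10, .Z2, .Z0, .X10, .X1, .y9, .y7, .y2, .p10, .hi, .p5, .hi, .p, .hi, .p8, .hi, .p5, .hi, .p10, .hi, .xii,
   .p, .xii, .y2, .p, .xii, .y3, .tau, .xii, .y1, .p, .xii, .y4, .p, .xii, .y5, .taui, .X0, .p4, .xii, .p5, .xii, .hi,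
   .p, .hi, .p6, .y9, .tau, .xii, .p9, .xii, .y6, .p2, .y7]⟩

theorem h771 : Hd F (g wAd) b771 := hdD (by decide +kernel)
theorem r771_0 : R9 F (g wAd) b771 [] 0 0 := .of (startD 0 1) (by decide +kernel)
theorem r771_1 : R9 F (g wAd) b771 [] 0 1 := .of (startD 0 1) (by decide +kernel)
theorem r771_2 : R9 F (g wAd) b771 [] 0 2 := .of (startD 0 1) (by decide +kernel)
theorem r771_3 : R9 F (g wAd) b771 [] 1 0 := .of (startD 0 1) (by decide +kernel)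
theorem r771_4 : R9 F (g wAd) b771 [] 1 1 := .of (startD 0 1) (by decide +kernel)
theorem r771_5 : R9 F (g wAd) b771 [] 1 2 := .of (startD 0 2) (by decide +kernel)
theorem r771_6 : R9 F (g wAd) b771 [] 2 0 := .of (startD 0 1) (by decide +kernel)
theorem r771_7 : R9 F (g wAd) b771 [] 2 1 := .of (startD 0 1) (by decide +kernel)
theorem r771_8 : R9 F (g wAd) b771 [] 2 2 := .of (startD 0 1) (by decide +kernel)
theorem g771 : Gd F (g wAd) (0, d771) [] :=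
  good9 ok h771 r771_0 r771_1 r771_2 r771_3 r771_4 r771_5 r771_6 r771_7 r771_8

def b772 : Wd := ⟨0, d772,
  [.z, .Z8, .Z7, .Z6, .Z4, .Z3, .Z2, .Z0, .X10, .X8, .X4, .X2, .y10, .y9, .y6, .y3, .y2, .p9, .hi, .p5, .hi, .p5, .hi,
   .p7, .hi, .p7, .hi, .p6, .xii, .y2, .p3, .hi, .xii, .y1, .y6, .tau, .xii, .p, .xii, .y1, .y6, .hi, .xii, .y7, .tau,
   .y1, .xii, .p3, .xii, .y5, .p9, .xii, .y4, .y7, .tau, .xii, .hi, .p6, .xii, .y1, .y7, .tau, .xii, .hi, .p6],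
  [.Z8, .Z7, .Z6, .Z4, .Z3, .Z2, .Z1, .Z0, .X8, .X6, .X3, .X2, .X1, .X0, .y8, .y7, .y5, .y3, .p6, .hi, .p3, .hi, .p9,
   .hi, .p4, .hi, .p3, .hi, .xii, .p, .xii, .y3, .p4, .tau, .xii, .p, .xii, .y1, .y10, .hi, .xii, .y1, .tau, .xii,
   .p4, .xii, .p4, .y1, .y9, .xii, .y2, .y4, .taui, .xii, .p2, .xii, .p, .y10, .xii, .y5, .taui],
  [.z, .Z9, .Z5, .Z4, .Z1, .Z0, .X10, .X9, .X8, .X7, .X6, .X4, .X3, .X2, .X1, .X0, .y10, .y8, .y6, .y3, .y2, .hi, .p5,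
   .hi, .p4, .hi, .p3, .hi, .p9, .hi, .p9, .xii, .p, .xii, .y2, .y10, .hi, .xii, .y4, .y5, .taui, .y1, .xii, .p10,
   .xii, .y5, .p10, .xii, .y4, .y8, .taui, .y1, .hi, .xii, .p8, .xii, .y7, .p5, .tau, .xii, .hi, .p6, .xii, .p4, .y1,
   .hi, .p6, .taui, .xii, .p]⟩

theorem h772 : Hd F (g wAd) b772 := hdD (by decide +kernel)
theorem r772_0 : R9 F (g wAd) b772 [] 0 0 := .of (startD 0 2) (by decide +kernel)
theorem r772_1 : R9 F (g wAd) b772 [] 0 1 := .of (startD 0 1) (by decide +kernel)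
theorem r772_2 : R9 F (g wAd) b772 [] 0 2 := .of (startD 0 1) (by decide +kernel)
theorem r772_3 : R9 F (g wAd) b772 [] 1 0 := .of (startD 0 1) (by decide +kernel)
theorem r772_4 : R9 F (g wAd) b772 [] 1 1 := .of (startD 0 1) (by decide +kernel)
theorem r772_5 : R9 F (g wAd) b772 [] 1 2 := .of (startD 0 1) (by decide +kernel)
theorem r772_6 : R9 F (g wAd) b772 [] 2 0 := .of (startD 0 1) (by decide +kernel)
theorem r772_7 : R9 F (g wAd) b772 [] 2 1 := .of (startD 0 1) (by decide +kernel)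
theorem r772_8 : R9 F (g wAd) b772 [] 2 2 := .of (startD 0 1) (by decide +kernel)
theorem g772 : Gd F (g wAd) (0, d772) [] :=
  good9 ok h772 r772_0 r772_1 r772_2 r772_3 r772_4 r772_5 r772_6 r772_7 r772_8

def b773 : Wd := ⟨0, d773,
  [.z, .Z7, .Z3, .Z2, .X10, .X8, .X7, .X5, .X4, .X2, .X0, .y10, .y9, .y8, .y6, .y4, .p10, .hi, .p10, .hi, .p5, .hi,
   .p10, .hi, .p7, .hi, .p6, .hi, .p2, .hi, .xii, .y2, .hi, .xii, .p10, .xii, .y9, .y10, .taui, .y1, .xii, .p10, .xii,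
   .y1, .y7, .p10, .xii, .taui, .X0, .p2, .xii, .p9, .xii, .hi, .y5, .p7, .taui, .xii, .p4, .xii, .y1, .p5, .xii, .y5,
   .tau, .xii, .p2, .xii, .y6],
  [.Z9, .Z6, .Z4, .Z2, .X9, .X7, .X5, .X3, .X2, .X1, .y10, .y5, .y2, .y1, .p4, .hi, .p8, .hi, .p7, .hi, .p8, .hi, .p2,
   .xii, .p, .xii, .y1, .y3, .hi, .p10, .tau, .y1, .xii, .p10, .xii, .y4, .p10, .xii, .y8, .y9, .tau, .p10, .xii, .p8,
   .xii, .y5, .p3, .y7, .hi, .tau, .xii, .hi, .p5, .xii, .p2, .y10, .tau, .xii, .p2],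
  [.z, .Z8, .Z2, .Z1, .Z0, .X10, .X6, .X5, .X4, .X2, .X1, .y7, .y6, .y3, .y2, .y1, .p10, .hi, .p6, .hi, .p6, .hi, .p4,
   .hi, .p9, .xii, .p, .xii, .y1, .y4, .hi, .p10, .tau, .xii, .p, .xii, .y2, .y10, .hi, .xii, .y7, .y10, .taui, .X0,
   .p6, .xii, .y2, .p2, .xii, .p9, .y7, .tau, .xii, .p3, .xii, .p6, .y3, .tau, .xii, .p, .hi, .p4]⟩

theorem h773 : Hd F (g wAd) b773 := hdD (by decide +kernel)
theorem r773_0 : R9 F (g wAd) b773 [] 0 0 := .of (startD 0 1) (by decide +kernel)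
theorem r773_1 : R9 F (g wAd) b773 [] 0 1 := .of (startD 0 1) (by decide +kernel)
theorem r773_2 : R9 F (g wAd) b773 [] 0 2 := .of (startD 0 1) (by decide +kernel)
theorem r773_3 : R9 F (g wAd) b773 [] 1 0 := .of (startD 0 1) (by decide +kernel)
theorem r773_4 : R9 F (g wAd) b773 [] 1 1 := .of (startD 0 1) (by decide +kernel)
theorem r773_5 : R9 F (g wAd) b773 [] 1 2 := .of (startD 0 1) (by decide +kernel)
theorem r773_6 : R9 F (g wAd) b773 [] 2 0 := .of (startD 0 1) (by decide +kernel)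
theorem r773_7 : R9 F (g wAd) b773 [] 2 1 := .of (startD 0 1) (by decide +kernel)
theorem r773_8 : R9 F (g wAd) b773 [] 2 2 := .of (startD 0 1) (by decide +kernel)
theorem g773 : Gd F (g wAd) (0, d773) [] :=
  good9 ok h773 r773_0 r773_1 r773_2 r773_3 r773_4 r773_5 r773_6 r773_7 r773_8

def b774 : Wd := ⟨0, d774,
  [.Z10, .Z8, .Z7, .Z3, .X9, .X8, .X5, .X4, .y10, .y8, .y4, .y3, .y2, .p10, .hi, .p10, .hi, .p5, .hi, .p7, .hi, .p3,
   .hi, .xii, .y2, .p, .xii, .y3, .p9, .xii, .y8, .taui, .xii, .y1, .p, .xii, .p, .y7, .xii, .y7, .y10, .tau, .X0,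
   .y1, .p5, .xii, .p, .xii, .y2, .y4, .tau, .xii, .hi, .p6, .xii, .y3, .y9, .p3, .taui, .xii, .p2, .hi],
  [.z, .Z9, .Z6, .Z5, .Z4, .Z3, .Z2, .Z1, .X8, .X5, .X4, .X3, .X1, .y10, .y8, .y3, .y2, .p8, .hi, .p9, .hi, .p8, .hi,
   .p6, .hi, .p5, .xii, .y2, .p5, .hi, .p5, .tau, .y1, .xii, .p10, .xii, .y2, .p10, .xii, .y2, .y4, .taui, .X0, .p9,
   .xii, .y4, .p, .xii, .y2, .y4, .hi, .p10, .taui, .xii, .p5, .xii, .y4, .y6, .p10, .hi, .tau, .xii, .p7],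
  [.Z9, .Z8, .Z5, .Z2, .Z0, .X9, .X8, .X7, .X6, .X2, .y9, .y6, .y4, .y2, .y1, .p9, .hi, .p10, .hi, .p6, .hi, .p6, .hi,
   .p5, .xii, .y2, .tau, .xii, .y2, .p, .xii, .y1, .hi, .xii, .y7, .y10, .taui, .xii, .y2, .p, .xii, .y1, .hi, .xii,
   .y6, .y10, .tau, .p9, .xii, .y7, .hi, .xii, .taui, .xii, .p7, .xii, .y9, .p5, .xii, .y5, .taui, .xii, .p, .xii,
   .y1]⟩

theorem h774 : Hd F (g wAd) b774 := hdD (by decide +kernel)
theorem r774_0 : R9 F (g wAd) b774 [] 0 0 := .of (startD 0 1) (by decide +kernel)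
theorem r774_1 : R9 F (g wAd) b774 [] 0 1 := .of (startD 0 1) (by decide +kernel)
theorem r774_2 : R9 F (g wAd) b774 [] 0 2 := .of (startD 0 2) (by decide +kernel)
theorem r774_3 : R9 F (g wAd) b774 [] 1 0 := .of (startD 0 1) (by decide +kernel)
theorem r774_4 : R9 F (g wAd) b774 [] 1 1 := .of (startD 0 1) (by decide +kernel)
theorem r774_5 : R9 F (g wAd) b774 [] 1 2 := .of (startD 0 1) (by decide +kernel)
theorem r774_6 : R9 F (g wAd) b774 [] 2 0 := .of (startD 0 1) (by decide +kernel)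
theorem r774_7 : R9 F (g wAd) b774 [] 2 1 := .of (startD 0 1) (by decide +kernel)
theorem r774_8 : R9 F (g wAd) b774 [] 2 2 := .of (startD 0 1) (by decide +kernel)
theorem g774 : Gd F (g wAd) (0, d774) [] :=
  good9 ok h774 r774_0 r774_1 r774_2 r774_3 r774_4 r774_5 r774_6 r774_7 r774_8

def b775 : Wd := ⟨0, d775,
  [.Z9, .Z4, .Z2, .X10, .X8, .X7, .X6, .X5, .X0, .y7, .y6, .y5, .y4, .y2, .y1, .hi, .p10, .hi, .p3, .hi, .p9, .hi,
   .p10, .hi, .p7, .hi, .xii, .p10, .xii, .p8, .y7, .tau, .y1, .xii, .p10, .xii, .y5, .p10, .xii, .y2, .y4, .taui,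
   .xii, .p4, .xii, .y5, .p4, .y4, .xii, .y9, .y10, .tau, .xii, .p6, .xii, .y6, .hi, .p10, .tau, .xii, .hi, .p6],
  [.Z8, .Z7, .Z5, .Z4, .Z2, .Z0, .X2, .X0, .y10, .y9, .y6, .y3, .p10, .hi, .p5, .hi, .p9, .hi, .p6, .hi, .p, .hi, .p3,
   .hi, .xii, .p2, .hi, .taui, .xii, .p, .xii, .y4, .hi, .xii, .y4, .y5, .tau, .X0, .p9, .xii, .y7, .p4, .xii, .p4,
   .y8, .xii, .taui, .xii, .p7, .xii, .y1, .p8, .y1, .xii, .y4, .taui, .xii, .y6, .p8],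
  [.Z9, .Z8, .Z4, .Z2, .Z1, .Z0, .X9, .X5, .X2, .y9, .y8, .y3, .y2, .y1, .p8, .hi, .p9, .hi, .p6, .hi, .p8, .hi, .p9,
   .hi, .p4, .xii, .y2, .p3, .hi, .xii, .y1, .y6, .tau, .xii, .y1, .p, .xii, .y4, .p, .xii, .y3, .y10, .tau, .p4,
   .xii, .p7, .xii, .y2, .y4, .y7, .p10, .hi, .tau, .xii, .p6, .xii, .p5, .y2, .hi, .tau, .xii, .y2, .p]⟩

theorem h775 : Hd F (g wAd) b775 := hdD (by decide +kernel)
theorem r775_0 : R9 F (g wAd) b775 [] 0 0 := .of (startD 0 1) (by decide +kernel)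
theorem r775_1 : R9 F (g wAd) b775 [] 0 1 := .of (startD 0 1) (by decide +kernel)
theorem r775_2 : R9 F (g wAd) b775 [] 0 2 := .of (startD 0 1) (by decide +kernel)
theorem r775_3 : R9 F (g wAd) b775 [] 1 0 := .of (startD 0 1) (by decide +kernel)
theorem r775_4 : R9 F (g wAd) b775 [] 1 1 := .of (startD 0 1) (by decide +kernel)
theorem r775_5 : R9 F (g wAd) b775 [] 1 2 := .of (startD 0 1) (by decide +kernel)
theorem r775_6 : R9 F (g wAd) b775 [] 2 0 := .of (startD 0 1) (by decide +kernel)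
theorem r775_7 : R9 F (g wAd) b775 [] 2 1 := .of (startD 0 1) (by decide +kernel)
theorem r775_8 : R9 F (g wAd) b775 [] 2 2 := .of (startD 0 1) (by decide +kernel)
theorem g775 : Gd F (g wAd) (0, d775) [] :=
  good9 ok h775 r775_0 r775_1 r775_2 r775_3 r775_4 r775_5 r775_6 r775_7 r775_8

def b776 : Wd := ⟨0, d776,
  [.z, .Z8, .Z4, .Z2, .Z1, .X8, .X7, .X6, .X5, .X0, .y10, .y9, .y8, .y7, .y6, .y3, .p9, .hi, .p6, .hi, .p8, .hi, .p6,
   .hi, .p7, .hi, .p3, .xii, .p10, .xii, .y5, .p2, .xii, .y1, .tau, .y1, .xii, .y2, .hi, .xii, .p10, .xii, .y4, .y10,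
   .taui, .X0, .p5, .xii, .p3, .hi, .y7, .xii, .y7, .p3, .taui, .xii, .p9, .xii, .y4, .y6, .p6, .xii, .y3, .taui,
   .xii, .y7, .p2],
  [.z, .Z10, .Z8, .Z1, .X6, .X4, .X2, .X1, .X0, .y10, .y8, .y5, .y2, .p7, .hi, .p10, .hi, .p7, .hi, .p4, .hi, .p6,
   .hi, .p6, .xii, .y2, .p5, .hi, .p8, .hi, .taui, .xii, .y2, .p, .xii, .y1, .hi, .xii, .y4, .y5, .taui, .hi, .xii,
   .p6, .xii, .y4, .hi, .y10, .p, .taui, .xii, .y2, .p5, .xii, .y4, .y7, .p, .tau, .xii, .hi, .p8],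
  [.Z10, .Z9, .Z7, .Z6, .Z4, .Z3, .Z2, .Z1, .Z0, .X6, .X5, .X3, .X1, .X0, .y9, .y7, .y6, .y4, .y2, .p8, .hi, .p7, .hi,
   .p6, .hi, .p10, .hi, .p4, .hi, .xii, .p10, .xii, .y7, .p8, .xii, .tau, .xii, .y6, .p, .xii, .p, .xii, .y2, .y3,
   .taui, .X0, .p4, .xii, .y1, .p3, .hi, .xii, .y6, .p6, .tau, .xii, .p7, .xii, .y1, .p10, .y7, .xii]⟩

theorem h776 : Hd F (g wAd) b776 := hdD (by decide +kernel)
theorem r776_0 : R9 F (g wAd) b776 [] 0 0 := .of (startD 0 1) (by decide +kernel)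
theorem r776_1 : R9 F (g wAd) b776 [] 0 1 := .of (startD 0 1) (by decide +kernel)
theorem r776_2 : R9 F (g wAd) b776 [] 0 2 := .of (startD 0 1) (by decide +kernel)
theorem r776_3 : R9 F (g wAd) b776 [] 1 0 := .of (startD 0 1) (by decide +kernel)
theorem r776_4 : R9 F (g wAd) b776 [] 1 1 := .of (startD 0 1) (by decide +kernel)
theorem r776_5 : R9 F (g wAd) b776 [] 1 2 := .of (startD 0 1) (by decide +kernel)
theorem r776_6 : R9 F (g wAd) b776 [] 2 0 := .of (startD 0 1) (by decide +kernel)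
theorem r776_7 : R9 F (g wAd) b776 [] 2 1 := .of (startD 0 1) (by decide +kernel)
theorem r776_8 : R9 F (g wAd) b776 [] 2 2 := .of (startD 0 1) (by decide +kernel)
theorem g776 : Gd F (g wAd) (0, d776) [] :=
  good9 ok h776 r776_0 r776_1 r776_2 r776_3 r776_4 r776_5 r776_6 r776_7 r776_8

def b777 : Wd := ⟨0, d777,
  [.z, .Z9, .Z8, .Z7, .Z6, .Z5, .Z2, .Z1, .X10, .X9, .X5, .X2, .X1, .y10, .y9, .y5, .p3, .hi, .p7, .hi, .p10, .hi,
   .p2, .hi, .p3, .xii, .y2, .p2, .hi, .tau, .xii, .p, .xii, .y4, .y10, .hi, .xii, .y4, .y5, .taui, .y1, .xii, .y1,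
   .hi, .xii, .y6, .p10, .xii, .y10, .tau, .X0, .p10, .xii, .y2, .p10, .xii, .taui, .xii, .p3, .xii, .y3, .p, .xii,
   .y1, .y4, .taui, .xii, .hi],
  [.z, .Z10, .Z9, .Z6, .Z4, .Z3, .Z2, .Z0, .X9, .X8, .X7, .X5, .X4, .y8, .y7, .y6, .y4, .y1, .p3, .hi, .p9, .hi, .p6,
   .hi, .p9, .hi, .p9, .xii, .y2, .p5, .hi, .p8, .hi, .taui, .xii, .p, .xii, .y1, .y10, .hi, .xii, .y1, .taui, .X0,
   .xii, .p7, .xii, .p9, .xii, .y6, .p4, .y1, .taui, .xii, .p4, .xii, .y3, .p5, .y9, .hi, .tau, .xii, .p10, .hi, .p4],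
  [.Z10, .Z8, .Z7, .Z3, .Z1, .Z0, .X7, .X5, .y10, .y8, .y6, .y5, .y1, .p6, .hi, .p5, .hi, .p6, .hi, .p5, .xii, .p,
   .xii, .p2, .hi, .p5, .tau, .xii, .y2, .p, .xii, .y1, .hi, .xii, .y4, .y7, .taui, .y1, .xii, .p9, .xii, .y7, .p5,
   .xii, .p9, .taui, .xii, .p9, .xii, .p5, .y8, .xii, .y10]⟩

theorem h777 : Hd F (g wAd) b777 := hdD (by decide +kernel)
theorem r777_0 : R9 F (g wAd) b777 [] 0 0 := .of (startD 0 1) (by decide +kernel)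
theorem r777_1 : R9 F (g wAd) b777 [] 0 1 := .of (startD 0 1) (by decide +kernel)
theorem r777_2 : R9 F (g wAd) b777 [] 0 2 := .of (startD 0 1) (by decide +kernel)
theorem r777_3 : R9 F (g wAd) b777 [] 1 0 := .of (startD 0 1) (by decide +kernel)
theorem r777_4 : R9 F (g wAd) b777 [] 1 1 := .of (startD 0 1) (by decide +kernel)
theorem r777_5 : R9 F (g wAd) b777 [] 1 2 := .of (startD 0 1) (by decide +kernel)
theorem r777_6 : R9 F (g wAd) b777 [] 2 0 := .of (startD 0 1) (by decide +kernel)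
theorem r777_7 : R9 F (g wAd) b777 [] 2 1 := .of (startD 0 1) (by decide +kernel)
theorem r777_8 : R9 F (g wAd) b777 [] 2 2 := .of (startD 0 1) (by decide +kernel)
theorem g777 : Gd F (g wAd) (0, d777) [] :=
  good9 ok h777 r777_0 r777_1 r777_2 r777_3 r777_4 r777_5 r777_6 r777_7 r777_8

def b778 : Wd := ⟨0, d778,
  [.z, .Z8, .Z7, .Z6, .X10, .X8, .X3, .X2, .X1, .y6, .y5, .y3, .y2, .y1, .p6, .hi, .p10, .hi, .p9, .hi, .p5, .hi, .p9,
   .hi, .p9, .xii, .hi, .p8, .xii, .y1, .p2, .taui, .y1, .xii, .y2, .hi, .xii, .y10, .p10, .xii, .y4, .tau, .xii, .y2,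
   .p, .xii, .y1, .hi, .xii, .y4, .y6, .tau, .p8, .xii, .y8, .p3, .xii, .tau, .xii, .y2, .p9, .xii, .y5, .p3, .xii,
   .y6, .taui, .xii, .y4, .hi, .p9],
  [.Z9, .Z8, .Z6, .Z5, .Z2, .Z0, .X10, .X8, .X7, .X6, .X5, .X4, .y8, .y6, .y5, .y4, .p5, .hi, .p7, .hi, .p7, .hi, .p,
   .hi, .p8, .hi, .p7, .hi, .xii, .p10, .xii, .y8, .p6, .xii, .y3, .y4, .taui, .X0, .p7, .xii, .p10, .xii, .p5, .y5,
   .hi, .p8, .taui, .p7, .xii, .y6, .p7, .xii, .y5, .p3, .y2, .tau, .xii, .p9, .xii, .y2, .p3, .y4, .hi],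
  [.z, .Z9, .Z8, .Z6, .Z5, .Z2, .Z1, .Z0, .X10, .X8, .X4, .X3, .X2, .y10, .y9, .y6, .y5, .y4, .y2, .y1, .p10, .hi,
   .p4, .hi, .p, .hi, .p5, .hi, .p6, .hi, .p10, .xii, .y2, .p3, .hi, .p8, .hi, .p6, .tau, .xii, .p, .xii, .y2, .hi,
   .xii, .y2, .y7, .taui, .X0, .p6, .xii, .p9, .xii, .y7, .p2, .y9, .hi, .p, .tau, .xii, .p8, .xii, .y3, .y9, .p2,
   .xii, .y3, .y7]⟩

theorem h778 : Hd F (g wAd) b778 := hdD (by decide +kernel)
theorem r778_0 : R9 F (g wAd) b778 [] 0 0 := .of (startD 0 1) (by decide +kernel)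
theorem r778_1 : R9 F (g wAd) b778 [] 0 1 := .of (startD 0 1) (by decide +kernel)
theorem r778_2 : R9 F (g wAd) b778 [] 0 2 := .of (startD 0 1) (by decide +kernel)
theorem r778_3 : R9 F (g wAd) b778 [] 1 0 := .of (startD 0 1) (by decide +kernel)
theorem r778_4 : R9 F (g wAd) b778 [] 1 1 := .of (startD 0 1) (by decide +kernel)
theorem r778_5 : R9 F (g wAd) b778 [] 1 2 := .of (startD 0 1) (by decide +kernel)
theorem r778_6 : R9 F (g wAd) b778 [] 2 0 := .of (startD 0 1) (by decide +kernel)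
theorem r778_7 : R9 F (g wAd) b778 [] 2 1 := .of (startD 0 1) (by decide +kernel)
theorem r778_8 : R9 F (g wAd) b778 [] 2 2 := .of (startD 0 1) (by decide +kernel)
theorem g778 : Gd F (g wAd) (0, d778) [] :=
  good9 ok h778 r778_0 r778_1 r778_2 r778_3 r778_4 r778_5 r778_6 r778_7 r778_8

def b779 : Wd := ⟨0, d779,
  [.z, .Z7, .Z1, .Z0, .X10, .X6, .X5, .X4, .X2, .y9, .y8, .y6, .y2, .y1, .p4, .hi, .p10, .hi, .p4, .hi, .p6, .hi, .p8,
   .xii, .p2, .hi, .xii, .y2, .taui, .y1, .xii, .y2, .hi, .xii, .y7, .p10, .xii, .y10, .taui, .hi, .xii, .p4, .xii,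
   .p5, .y4, .y7, .xii, .tau, .xii, .p7, .xii, .y1, .y10, .hi, .p, .taui, .xii, .p2],
  [.Z7, .Z4, .Z3, .Z2, .Z1, .X10, .X9, .X5, .X4, .X3, .X2, .y9, .y8, .y7, .y5, .y2, .y1, .hi, .p10, .hi, .p10, .hi,
   .p, .hi, .p8, .hi, .p7, .hi, .p10, .xii, .p, .xii, .y3, .hi, .p4, .y9, .taui, .y1, .xii, .p10, .xii, .y4, .p10,
   .xii, .y8, .taui, .p10, .xii, .y4, .p6, .xii, .y3, .taui, .xii, .p8, .xii, .y1, .y7, .p8, .hi, .tau, .xii, .y2,
   .p3],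
  [.Z6, .Z4, .Z2, .Z1, .X9, .X8, .X7, .X5, .X4, .X1, .y10, .y8, .y1, .p3, .hi, .p10, .hi, .p4, .hi, .p8, .hi, .p9,
   .hi, .xii, .y2, .p2, .hi, .xii, .y5, .p3, .taui, .xii, .y1, .p, .xii, .p, .y7, .xii, .y4, .y5, .taui, .X0, .hi,
   .xii, .y7, .p6, .xii, .p5, .y9, .hi, .taui, .xii, .p4, .xii, .y6, .p9, .y1, .xii, .y4, .tau, .xii, .y6, .p9]⟩

theorem h779 : Hd F (g wAd) b779 := hdD (by decide +kernel)
theorem r779_0 : R9 F (g wAd) b779 [] 0 0 := .of (startD 0 1) (by decide +kernel)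
theorem r779_1 : R9 F (g wAd) b779 [] 0 1 := .of (startD 0 1) (by decide +kernel)
theorem r779_2 : R9 F (g wAd) b779 [] 0 2 := .of (startD 0 1) (by decide +kernel)
theorem r779_3 : R9 F (g wAd) b779 [] 1 0 := .of (startD 0 1) (by decide +kernel)
theorem r779_4 : R9 F (g wAd) b779 [] 1 1 := .of (startD 0 1) (by decide +kernel)
theorem r779_5 : R9 F (g wAd) b779 [] 1 2 := .of (startD 0 1) (by decide +kernel)
theorem r779_6 : R9 F (g wAd) b779 [] 2 0 := .of (startD 0 1) (by decide +kernel)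
theorem r779_7 : R9 F (g wAd) b779 [] 2 1 := .of (startD 0 1) (by decide +kernel)
theorem r779_8 : R9 F (g wAd) b779 [] 2 2 := .of (startD 0 1) (by decide +kernel)
theorem g779 : Gd F (g wAd) (0, d779) [] :=
  good9 ok h779 r779_0 r779_1 r779_2 r779_3 r779_4 r779_5 r779_6 r779_7 r779_8

theorem all : AllG F (g wAd) LD77 :=
  .cons g770 (.cons g771 (.cons g772 (.cons g773 (.cons g774 (.cons g775 (.cons g776 (.cons g777 (.cons g778 (.cons g779 (.nil))))))))))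

end Cfsg.Agent.BX.No33.Bk.D77
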