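import Cfsg.Agent.BX.No33.Cheap
set_option linter.all false

/-!
# Tests, diagonal case, part 78 (helper5; generated)
-/

set_option autoImplicit false
set_option maxRecDepth 100000
set_option Elab.async false

namespace Cfsg.Agent.BX.No33.Bk.D78

open Cfsg.Agent.H819.U33 Cfsg.Agent.BX.No33.Front

def b780 : Wd := ⟨0, d780,
  [.z, .Z10, .Z7, .Z6, .Z5, .Z3, .Z1, .Z0, .X10, .X9, .X6, .X5, .X4, .X3, .X2, .X0, .y10, .y4, .p10, .hi, .p, .hi,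
   .p7, .hi, .p10, .hi, .p2, .hi, .p4, .xii, .p10, .xii, .y4, .p6, .xii, .y7, .tau, .xii, .y2, .p, .xii, .y1, .hi,
   .xii, .y5, .y10, .taui, .X0, .xii, .y1, .p9, .xii, .y7, .p, .xii, .p, .taui, .xii, .y2, .p7, .xii, .p3, .xii, .y3,
   .tau, .xii, .p7],
  [.Z9, .Z8, .Z5, .Z4, .Z3, .X10, .X9, .X7, .X6, .X3, .X2, .y9, .y8, .y7, .y6, .y3, .y1, .hi, .p10, .hi, .p4, .hi,
   .p7, .hi, .p6, .hi, .p6, .hi, .p, .xii, .p2, .hi, .tau, .xii, .p, .hi, .xii, .p5, .hi, .y7, .p5, .taui, .X0, .p4,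
   .xii, .p9, .xii, .p6, .y5, .taui, .xii, .p9, .xii, .p5, .y4, .xii, .tau, .xii, .y4, .p10, .xii],
  [.Z7, .Z4, .X9, .X8, .X7, .X5, .X2, .y9, .y4, .p2, .hi, .p4, .hi, .p6, .hi, .p9, .hi, .p10, .hi, .p2, .hi, .xii,
   .p10, .hi, .p6, .hi, .p2, .tau, .xii, .p, .xii, .hi, .y8, .xii, .y4, .y7, .tau, .p8, .xii, .y9, .p4, .xii, .y6,
   .p4, .y2, .hi, .tau, .xii, .p7, .xii, .y10, .p9, .xii, .y1, .y4, .taui, .xii, .p]⟩

theorem h780 : Hd F (g wAd) b780 := hdD (by decide +kernel)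
theorem r780_0 : R9 F (g wAd) b780 [] 0 0 := .of (startD 0 1) (by decide +kernel)
theorem r780_1 : R9 F (g wAd) b780 [] 0 1 := .of (startD 0 1) (by decide +kernel)
theorem r780_2 : R9 F (g wAd) b780 [] 0 2 := .of (startD 0 1) (by decide +kernel)
theorem r780_3 : R9 F (g wAd) b780 [] 1 0 := .of (startD 0 1) (by decide +kernel)
theorem r780_4 : R9 F (g wAd) b780 [] 1 1 := .of (startD 0 1) (by decide +kernel)
theorem r780_5 : R9 F (g wAd) b780 [] 1 2 := .of (startD 0 1) (by decide +kernel)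
theorem r780_6 : R9 F (g wAd) b780 [] 2 0 := .of (startD 0 1) (by decide +kernel)
theorem r780_7 : R9 F (g wAd) b780 [] 2 1 := .of (startD 0 1) (by decide +kernel)
theorem r780_8 : R9 F (g wAd) b780 [] 2 2 := .of (startD 0 1) (by decide +kernel)
theorem g780 : Gd F (g wAd) (0, d780) [] :=
  good9 ok h780 r780_0 r780_1 r780_2 r780_3 r780_4 r780_5 r780_6 r780_7 r780_8

def b781 : Wd := ⟨0, d781,
  [.Z8, .Z7, .Z5, .X10, .X9, .X8, .X2, .X1, .X0, .y9, .y5, .y4, .y3, .y1, .p7, .hi, .p4, .hi, .p7, .hi, .p7, .hi, .p,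
   .hi, .p4, .xii, .y2, .p10, .hi, .p8, .taui, .xii, .p, .xii, .y4, .hi, .xii, .y3, .y10, .taui, .p6, .xii, .y8, .p8,
   .xii, .p5, .hi, .taui, .xii, .p7, .xii, .y1, .y2, .p10, .hi, .p9, .tau, .xii, .y2, .p7],
  [.z, .Z7, .Z6, .Z0, .X8, .X6, .X5, .X4, .X2, .X1, .X0, .y9, .y7, .y2, .y1, .p8, .hi, .p10, .hi, .p5, .hi, .p8, .hi,
   .p10, .hi, .p10, .xii, .p10, .xii, .y5, .p6, .xii, .y6, .tau, .X0, .xii, .p7, .xii, .p9, .y1, .xii, .y5, .y9, .hi,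
   .taui, .xii, .p4, .xii, .p8, .y10, .xii, .y8, .taui, .xii, .y2, .p5, .xii, .y7],
  [.z, .Z10, .Z8, .Z6, .Z5, .Z4, .Z3, .Z2, .Z1, .Z0, .X10, .X9, .X8, .X6, .X5, .X3, .y10, .y9, .y8, .y7, .y6, .y4,
   .y1, .hi, .p10, .hi, .p5, .hi, .p4, .hi, .p6, .hi, .p9, .hi, .p6, .xii, .p, .xii, .y1, .y10, .tau, .xii, .y1, .p,
   .xii, .y4, .p, .xii, .y3, .y10, .taui, .xii, .y1, .p5, .xii, .y1, .p, .xii, .y4, .taui, .xii, .p9, .xii, .y4, .y9,
   .p4, .hi, .taui, .xii, .p2]⟩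

theorem h781 : Hd F (g wAd) b781 := hdD (by decide +kernel)
theorem r781_0 : R9 F (g wAd) b781 [] 0 0 := .of (startD 0 1) (by decide +kernel)
theorem r781_1 : R9 F (g wAd) b781 [] 0 1 := .of (startD 0 1) (by decide +kernel)
theorem r781_2 : R9 F (g wAd) b781 [] 0 2 := .of (startD 0 1) (by decide +kernel)
theorem r781_3 : R9 F (g wAd) b781 [] 1 0 := .of (startD 0 1) (by decide +kernel)
theorem r781_4 : R9 F (g wAd) b781 [] 1 1 := .of (startD 0 1) (by decide +kernel)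
theorem r781_5 : R9 F (g wAd) b781 [] 1 2 := .of (startD 0 1) (by decide +kernel)
theorem r781_6 : R9 F (g wAd) b781 [] 2 0 := .of (startD 0 1) (by decide +kernel)
theorem r781_7 : R9 F (g wAd) b781 [] 2 1 := .of (startD 0 1) (by decide +kernel)
theorem r781_8 : R9 F (g wAd) b781 [] 2 2 := .of (startD 0 1) (by decide +kernel)
theorem g781 : Gd F (g wAd) (0, d781) [] :=
  good9 ok h781 r781_0 r781_1 r781_2 r781_3 r781_4 r781_5 r781_6 r781_7 r781_8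

def b782 : Wd := ⟨0, d782,
  [.Z9, .Z7, .Z6, .Z5, .Z4, .Z3, .Z2, .X8, .X3, .y9, .y6, .y5, .y4, .p7, .hi, .p5, .hi, .p5, .hi, .p, .hi, .p5, .hi,
   .xii, .hi, .p8, .hi, .p2, .tau, .xii, .p, .xii, .y1, .hi, .xii, .y1, .taui, .y1, .p10, .xii, .p10, .xii, .y5, .y10,
   .tau, .xii, .p9, .xii, .hi, .y7, .p10, .tau, .xii, .p7],
  [.z, .Z6, .Z5, .Z4, .Z1, .Z0, .X9, .X7, .X6, .X4, .X0, .y9, .y8, .y5, .y4, .y1, .p5, .hi, .p9, .hi, .p3, .hi, .p,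
   .hi, .xii, .p10, .xii, .y1, .p8, .xii, .y9, .tau, .xii, .p, .xii, .y2, .hi, .xii, .y6, .tau, .X0, .y1, .p10, .xii,
   .p9, .xii, .p2, .taui, .xii, .p5, .xii, .p8, .y7, .xii, .y1, .y7, .tau],
  [.z, .Z10, .Z9, .Z5, .Z0, .X9, .X8, .X7, .X6, .X5, .X2, .y4, .y3, .y2, .p7, .hi, .p6, .hi, .p10, .hi, .p4, .hi, .p,
   .xii, .hi, .xii, .p2, .xii, .y3, .taui, .y1, .xii, .p10, .xii, .y1, .y9, .p10, .xii, .y10, .taui, .hi, .xii, .y7,
   .hi, .p6, .xii, .y3, .y10, .p2, .taui, .xii, .p6, .xii, .p, .y10, .hi, .p6, .taui, .xii, .p2]⟩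

theorem h782 : Hd F (g wAd) b782 := hdD (by decide +kernel)
theorem r782_0 : R9 F (g wAd) b782 [] 0 0 := .of (startD 0 1) (by decide +kernel)
theorem r782_1 : R9 F (g wAd) b782 [] 0 1 := .of (startD 0 1) (by decide +kernel)
theorem r782_2 : R9 F (g wAd) b782 [] 0 2 := .of (startD 0 1) (by decide +kernel)
theorem r782_3 : R9 F (g wAd) b782 [] 1 0 := .of (startD 0 1) (by decide +kernel)
theorem r782_4 : R9 F (g wAd) b782 [] 1 1 := .of (startD 0 1) (by decide +kernel)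
theorem r782_5 : R9 F (g wAd) b782 [] 1 2 := .of (startD 0 1) (by decide +kernel)
theorem r782_6 : R9 F (g wAd) b782 [] 2 0 := .of (startD 0 1) (by decide +kernel)
theorem r782_7 : R9 F (g wAd) b782 [] 2 1 := .of (startD 0 1) (by decide +kernel)
theorem r782_8 : R9 F (g wAd) b782 [] 2 2 := .of (startD 0 1) (by decide +kernel)
theorem g782 : Gd F (g wAd) (0, d782) [] :=
  good9 ok h782 r782_0 r782_1 r782_2 r782_3 r782_4 r782_5 r782_6 r782_7 r782_8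

def b783 : Wd := ⟨0, d783,
  [.Z10, .Z9, .Z3, .Z0, .X10, .X8, .X7, .X3, .X2, .X1, .y9, .y7, .y6, .y5, .y4, .y2, .p6, .hi, .p6, .hi, .p4, .hi,
   .p4, .hi, .p7, .hi, .p2, .hi, .xii, .hi, .xii, .p5, .y1, .taui, .xii, .y6, .p, .xii, .y10, .p, .xii, .y6, .y10,
   .taui, .xii, .p4, .xii, .y8, .p8, .y1, .xii, .y7, .y8, .tau, .xii, .p5, .xii, .y7, .y8, .hi, .p, .hi, .p5, .tau,
   .xii, .p2, .hi],
  [.z, .Z7, .Z6, .Z5, .Z4, .Z1, .Z0, .X9, .X5, .X4, .X0, .y9, .y8, .y6, .y1, .p6, .hi, .p9, .hi, .p6, .hi, .p7, .hi,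
   .p8, .hi, .xii, .y2, .hi, .xii, .p5, .xii, .y9, .tau, .xii, .p4, .xii, .y9, .p5, .y7, .xii, .y4, .y8, .tau, .xii,
   .p3, .xii, .y1, .p2, .xii, .y9, .taui, .xii, .hi, .p, .hi],
  [.Z10, .Z9, .Z8, .Z7, .Z6, .Z5, .Z4, .Z0, .X10, .X9, .X8, .X4, .X2, .X1, .X0, .y8, .y4, .y2, .p, .hi, .p3, .hi, .p,
   .hi, .p6, .hi, .p10, .hi, .p8, .hi, .xii, .p, .xii, .p9, .y7, .taui, .xii, .y2, .p, .xii, .y2, .hi, .xii, .y4, .y7,
   .tau, .p7, .xii, .p9, .xii, .p4, .y3, .hi, .p4, .tau, .xii, .y2, .p8, .xii, .p8, .hi, .tau, .xii, .y2, .hi, .p6]⟩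

theorem h783 : Hd F (g wAd) b783 := hdD (by decide +kernel)
theorem r783_0 : R9 F (g wAd) b783 [] 0 0 := .of (startD 0 1) (by decide +kernel)
theorem r783_1 : R9 F (g wAd) b783 [] 0 1 := .of (startD 0 1) (by decide +kernel)
theorem r783_2 : R9 F (g wAd) b783 [] 0 2 := .of (startD 0 1) (by decide +kernel)
theorem r783_3 : R9 F (g wAd) b783 [] 1 0 := .of (startD 0 1) (by decide +kernel)
theorem r783_4 : R9 F (g wAd) b783 [] 1 1 := .of (startD 0 1) (by decide +kernel)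
theorem r783_5 : R9 F (g wAd) b783 [] 1 2 := .of (startD 0 1) (by decide +kernel)
theorem r783_6 : R9 F (g wAd) b783 [] 2 0 := .of (startD 0 1) (by decide +kernel)
theorem r783_7 : R9 F (g wAd) b783 [] 2 1 := .of (startD 0 1) (by decide +kernel)
theorem r783_8 : R9 F (g wAd) b783 [] 2 2 := .of (startD 0 1) (by decide +kernel)
theorem g783 : Gd F (g wAd) (0, d783) [] :=
  good9 ok h783 r783_0 r783_1 r783_2 r783_3 r783_4 r783_5 r783_6 r783_7 r783_8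

def b784 : Wd := ⟨1, d784,
  [.Z8, .Z6, .Z2, .Z0, .X6, .X5, .X4, .X2, .X1, .y10, .y7, .y5, .y2, .y1, .p4, .hi, .p7, .hi, .p5, .hi, .p7, .hi, .p6,
   .hi, .p3, .xii, .y2, .p, .xii, .p, .xii, .y1, .y4, .tau, .y1, .xii, .y2, .hi, .xii, .y9, .p10, .xii, .y10, .tau,
   .X0, .xii, .p7, .xii, .p9, .xii, .y5, .p2, .y10, .tau, .xii, .y2, .p5, .xii, .y7, .p2, .tau, .xii, .y2, .p4, .hi,
   .p],
  [.z, .Z10, .Z9, .Z8, .Z6, .Z4, .Z3, .Z1, .X10, .X9, .X7, .X6, .X2, .X1, .X0, .y7, .y6, .y4, .p7, .hi, .p8, .hi, .p4,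
   .hi, .p8, .hi, .p8, .hi, .p5, .xii, .p10, .xii, .y9, .p8, .xii, .y8, .tau, .xii, .y2, .p, .xii, .y1, .hi, .xii,
   .y3, .tau, .p10, .xii, .p8, .xii, .y1, .p6, .y6, .hi, .p3, .tau, .xii, .p7, .xii, .y5, .p7, .y5],
  [.z, .Z9, .Z7, .Z6, .Z5, .Z4, .Z2, .Z0, .X10, .X8, .X3, .X2, .X1, .X0, .y3, .y2, .p10, .hi, .p10, .hi, .p5, .hi,
   .p3, .hi, .p6, .hi, .xii, .y2, .p2, .hi, .xii, .y5, .p3, .tau, .xii, .y1, .p, .xii, .y2, .p, .xii, .y6, .taui, .hi,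
   .xii, .p9, .xii, .y8, .p9, .y5, .taui, .xii, .p7, .xii, .y5, .p9, .y5, .xii, .y7, .tau, .xii, .y2, .p5]⟩

theorem h784 : Hd F (g wAd) b784 := hdD (by decide +kernel)
theorem r784_0 : R9 F (g wAd) b784 [] 0 0 := .of (startD 0 1) (by decide +kernel)
theorem r784_1 : R9 F (g wAd) b784 [] 0 1 := .of (startD 0 1) (by decide +kernel)
theorem r784_2 : R9 F (g wAd) b784 [] 0 2 := .of (startD 0 1) (by decide +kernel)
theorem r784_3 : R9 F (g wAd) b784 [] 1 0 := .of (startD 0 2) (by decide +kernel)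
theorem r784_4 : R9 F (g wAd) b784 [] 1 1 := .of (startD 0 1) (by decide +kernel)
theorem r784_5 : R9 F (g wAd) b784 [] 1 2 := .of (startD 0 1) (by decide +kernel)
theorem r784_6 : R9 F (g wAd) b784 [] 2 0 := .of (startD 0 1) (by decide +kernel)
theorem r784_7 : R9 F (g wAd) b784 [] 2 1 := .of (startD 0 1) (by decide +kernel)
theorem r784_8 : R9 F (g wAd) b784 [] 2 2 := .of (startD 0 1) (by decide +kernel)
theorem g784 : Gd F (g wAd) (1, d784) [] :=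
  good9 ok h784 r784_0 r784_1 r784_2 r784_3 r784_4 r784_5 r784_6 r784_7 r784_8

def b785 : Wd := ⟨1, d785,
  [.Z10, .Z9, .Z5, .Z4, .Z1, .X10, .X9, .X8, .X7, .X5, .X4, .X3, .X2, .y8, .y7, .y6, .y3, .y2, .p8, .hi, .p3, .hi,
   .p9, .hi, .p5, .hi, .xii, .hi, .xii, .p5, .y1, .taui, .xii, .p, .xii, .y4, .y10, .hi, .xii, .y6, .tau, .xii, .p,
   .xii, .y3, .hi, .xii, .y7, .y8, .taui, .X0, .hi, .xii, .p8, .xii, .y7, .taui, .xii, .p9, .xii, .y9, .hi, .y7, .xii,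
   .y7, .tau, .xii, .p2, .xii, .y1],
  [.z, .Z9, .Z7, .Z3, .Z2, .Z0, .X9, .X8, .X6, .X5, .X3, .X2, .X0, .y9, .y4, .hi, .p4, .hi, .p10, .hi, .p2, .hi, .p4,
   .hi, .xii, .hi, .p8, .hi, .p2, .taui, .y1, .xii, .p10, .xii, .y1, .p10, .y9, .xii, .taui, .X0, .xii, .hi, .xii,
   .y2, .p5, .xii, .y2, .tau, .xii, .p9, .xii, .y4, .p9, .xii, .y1, .taui, .xii, .p5, .xii, .y2],
  [.z, .Z9, .Z8, .Z7, .Z5, .Z3, .Z2, .X8, .X7, .X5, .X2, .X1, .y7, .y5, .y2, .hi, .p4, .hi, .p6, .hi, .p9, .hi, .p5,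
   .hi, .p7, .xii, .hi, .p8, .xii, .tau, .y1, .xii, .y6, .p10, .xii, .y8, .p10, .xii, .y4, .y8, .tau, .xii, .y1, .p3,
   .xii, .y2, .p2, .xii, .y5, .p6, .tau, .xii, .p9, .xii, .y1, .y8, .p6, .xii, .y3, .tau, .xii, .y6]⟩

theorem h785 : Hd F (g wAd) b785 := hdD (by decide +kernel)
theorem r785_0 : R9 F (g wAd) b785 [] 0 0 := .of (startD 0 1) (by decide +kernel)
theorem r785_1 : R9 F (g wAd) b785 [] 0 1 := .of (startD 0 1) (by decide +kernel)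
theorem r785_2 : R9 F (g wAd) b785 [] 0 2 := .of (startD 0 1) (by decide +kernel)
theorem r785_3 : R9 F (g wAd) b785 [] 1 0 := .of (startD 0 1) (by decide +kernel)
theorem r785_4 : R9 F (g wAd) b785 [] 1 1 := .of (startD 0 1) (by decide +kernel)
theorem r785_5 : R9 F (g wAd) b785 [] 1 2 := .of (startD 0 1) (by decide +kernel)
theorem r785_6 : R9 F (g wAd) b785 [] 2 0 := .of (startD 0 1) (by decide +kernel)
theorem r785_7 : R9 F (g wAd) b785 [] 2 1 := .of (startD 0 1) (by decide +kernel)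
theorem r785_8 : R9 F (g wAd) b785 [] 2 2 := .of (startD 0 2) (by decide +kernel)
theorem g785 : Gd F (g wAd) (1, d785) [] :=
  good9 ok h785 r785_0 r785_1 r785_2 r785_3 r785_4 r785_5 r785_6 r785_7 r785_8

def b786 : Wd := ⟨1, d786,
  [.z, .Z10, .Z9, .Z8, .Z5, .Z2, .Z0, .X10, .X2, .X0, .y8, .y5, .y4, .y1, .hi, .p5, .hi, .p4, .hi, .p5, .hi, .p3, .hi,
   .p, .hi, .p2, .xii, .hi, .p8, .hi, .p5, .hi, .taui, .xii, .p, .xii, .y2, .hi, .xii, .y3, .y9, .tau, .X0, .y1, .p2,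
   .xii, .p4, .xii, .p3, .y2, .hi, .p5, .tau, .xii, .p9, .xii, .hi, .p10, .y10, .tau, .xii, .hi, .p6],
  [.z, .Z10, .Z9, .Z2, .Z0, .X9, .X8, .X4, .X3, .X2, .y9, .y6, .y4, .p6, .hi, .p6, .hi, .p5, .hi, .p6, .hi, .p10,
   .xii, .y2, .p2, .hi, .xii, .y2, .taui, .xii, .p, .xii, .y1, .y10, .hi, .xii, .y1, .y10, .taui, .y1, .xii, .p9,
   .xii, .y5, .y10, .p5, .xii, .y2, .taui, .xii, .y2, .p4, .xii, .p9, .y5, .tau, .xii, .p2, .hi, .p],
  [.z, .Z10, .Z3, .Z2, .X8, .X5, .X3, .X2, .X0, .y9, .y8, .y7, .y6, .y3, .y1, .hi, .p8, .hi, .p10, .hi, .p10, .hi,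
   .p3, .hi, .p4, .hi, .p6, .xii, .p10, .xii, .p6, .y7, .xii, .y7, .tau, .xii, .y6, .p, .xii, .y4, .p, .xii, .y1, .y4,
   .tau, .p8, .xii, .p4, .xii, .hi, .y8, .y9, .p3, .taui, .xii, .p8, .xii, .y2, .p8, .y3]⟩

theorem h786 : Hd F (g wAd) b786 := hdD (by decide +kernel)
theorem r786_0 : R9 F (g wAd) b786 [] 0 0 := .of (startD 0 1) (by decide +kernel)
theorem r786_1 : R9 F (g wAd) b786 [] 0 1 := .of (startD 0 1) (by decide +kernel)
theorem r786_2 : R9 F (g wAd) b786 [] 0 2 := .of (startD 0 1) (by decide +kernel)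
theorem r786_3 : R9 F (g wAd) b786 [] 1 0 := .of (startD 0 1) (by decide +kernel)
theorem r786_4 : R9 F (g wAd) b786 [] 1 1 := .of (startD 0 1) (by decide +kernel)
theorem r786_5 : R9 F (g wAd) b786 [] 1 2 := .of (startD 0 1) (by decide +kernel)
theorem r786_6 : R9 F (g wAd) b786 [] 2 0 := .of (startD 0 1) (by decide +kernel)
theorem r786_7 : R9 F (g wAd) b786 [] 2 1 := .of (startD 0 1) (by decide +kernel)
theorem r786_8 : R9 F (g wAd) b786 [] 2 2 := .of (startD 0 1) (by decide +kernel)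
theorem g786 : Gd F (g wAd) (1, d786) [] :=
  good9 ok h786 r786_0 r786_1 r786_2 r786_3 r786_4 r786_5 r786_6 r786_7 r786_8

def b787 : Wd := ⟨1, d787,
  [.z, .Z10, .Z8, .Z7, .Z2, .Z1, .Z0, .X9, .X8, .X5, .X4, .X3, .y9, .y7, .y6, .y5, .p7, .hi, .p3, .hi, .p9, .hi, .p6,
   .hi, .p8, .hi, .p4, .xii, .p, .xii, .y1, .y10, .hi, .p8, .taui, .y1, .hi, .xii, .p6, .xii, .hi, .y5, .p7, .tau,
   .xii, .p3, .xii, .y1, .p, .xii, .y8, .taui],
  [.Z10, .Z8, .Z3, .Z1, .Z0, .X9, .X2, .y10, .y9, .y8, .p7, .hi, .p8, .hi, .p9, .hi, .p, .hi, .p4, .xii, .p10, .xii,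
   .y4, .p8, .taui, .xii, .p, .xii, .y2, .y10, .hi, .xii, .y4, .y5, .taui, .y1, .xii, .p3, .xii, .y3, .p2, .xii, .y4,
   .hi, .tau, .xii, .p, .xii, .y2],
  [.z, .Z10, .Z9, .Z7, .Z5, .Z3, .Z2, .X7, .X4, .X2, .y8, .y5, .y4, .y3, .y2, .p, .hi, .p3, .hi, .p6, .hi, .p, .hi,
   .p4, .hi, .p5, .hi, .xii, .y2, .p, .hi, .xii, .p10, .tau, .xii, .p, .xii, .y1, .y10, .hi, .xii, .y1, .y4, .tau,
   .xii, .p4, .xii, .p4, .y8, .xii, .y8, .y9, .taui, .xii, .p6, .xii, .y4, .y7, .hi, .xii, .y4, .taui, .xii, .y6, .p9,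
   .xii]⟩

theorem h787 : Hd F (g wAd) b787 := hdD (by decide +kernel)
theorem r787_0 : R9 F (g wAd) b787 [] 0 0 := .of (startD 0 1) (by decide +kernel)
theorem r787_1 : R9 F (g wAd) b787 [] 0 1 := .of (startD 0 1) (by decide +kernel)
theorem r787_2 : R9 F (g wAd) b787 [] 0 2 := .of (startD 0 2) (by decide +kernel)
theorem r787_3 : R9 F (g wAd) b787 [] 1 0 := .of (startD 0 1) (by decide +kernel)
theorem r787_4 : R9 F (g wAd) b787 [] 1 1 := .of (startD 0 1) (by decide +kernel)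
theorem r787_5 : R9 F (g wAd) b787 [] 1 2 := .of (startD 0 1) (by decide +kernel)
theorem r787_6 : R9 F (g wAd) b787 [] 2 0 := .of (startD 0 1) (by decide +kernel)
theorem r787_7 : R9 F (g wAd) b787 [] 2 1 := .of (startD 0 1) (by decide +kernel)
theorem r787_8 : R9 F (g wAd) b787 [] 2 2 := .of (startD 0 1) (by decide +kernel)
theorem g787 : Gd F (g wAd) (1, d787) [] :=
  good9 ok h787 r787_0 r787_1 r787_2 r787_3 r787_4 r787_5 r787_6 r787_7 r787_8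

def b788 : Wd := ⟨1, d788,
  [.Z8, .Z7, .Z5, .Z4, .Z3, .Z2, .Z0, .X9, .X8, .X6, .X4, .X3, .X2, .X0, .y10, .y8, .y4, .y3, .y1, .p6, .hi, .p9, .hi,
   .p4, .hi, .p, .hi, .p6, .hi, .p7, .xii, .p2, .hi, .xii, .y8, .taui, .xii, .p, .xii, .hi, .y8, .xii, .y1, .y10,
   .taui, .y1, .xii, .y1, .hi, .xii, .p10, .xii, .y2, .tau, .p9, .xii, .p3, .xii, .y4, .tau, .xii, .y2, .p9, .xii,
   .y2, .p3, .xii, .y8, .tau, .xii, .y7, .p10, .hi],
  [.z, .Z10, .Z8, .Z5, .Z1, .X10, .X8, .X6, .X5, .X4, .X2, .X1, .y8, .y7, .y6, .y3, .y1, .p7, .hi, .p3, .hi, .p4, .hi,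
   .p6, .hi, .p6, .hi, .xii, .p10, .hi, .p8, .taui, .y1, .xii, .y1, .hi, .xii, .y6, .p10, .xii, .y10, .tau, .X0, .y1,
   .xii, .p9, .xii, .y1, .p5, .y1, .xii, .p5, .taui, .xii, .p7, .xii, .y1, .y5, .p, .taui, .xii, .p4],
  [.z, .Z10, .Z9, .Z8, .Z6, .Z5, .Z4, .Z3, .Z2, .Z1, .X10, .X4, .X3, .y10, .y7, .y5, .y4, .y2, .p3, .hi, .p3, .hi,
   .p9, .hi, .p6, .hi, .p8, .hi, .p6, .hi, .xii, .hi, .xii, .y8, .p9, .xii, .y6, .taui, .xii, .y6, .p, .xii, .p, .xii,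
   .y1, .y2, .y9, .tau, .xii, .p7, .xii, .p8, .y2, .xii, .y10, .hi, .taui, .xii, .p5, .xii, .p, .y8, .xii, .y8, .tau,
   .xii, .p8]⟩

theorem h788 : Hd F (g wAd) b788 := hdD (by decide +kernel)
theorem r788_0 : R9 F (g wAd) b788 [] 0 0 := .of (startD 0 1) (by decide +kernel)
theorem r788_1 : R9 F (g wAd) b788 [] 0 1 := .of (startD 0 1) (by decide +kernel)
theorem r788_2 : R9 F (g wAd) b788 [] 0 2 := .of (startD 0 1) (by decide +kernel)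
theorem r788_3 : R9 F (g wAd) b788 [] 1 0 := .of (startD 0 1) (by decide +kernel)
theorem r788_4 : R9 F (g wAd) b788 [] 1 1 := .of (startD 0 1) (by decide +kernel)
theorem r788_5 : R9 F (g wAd) b788 [] 1 2 := .of (startD 0 1) (by decide +kernel)
theorem r788_6 : R9 F (g wAd) b788 [] 2 0 := .of (startD 0 1) (by decide +kernel)
theorem r788_7 : R9 F (g wAd) b788 [] 2 1 := .of (startD 0 1) (by decide +kernel)
theorem r788_8 : R9 F (g wAd) b788 [] 2 2 := .of (startD 0 1) (by decide +kernel)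
theorem g788 : Gd F (g wAd) (1, d788) [] :=
  good9 ok h788 r788_0 r788_1 r788_2 r788_3 r788_4 r788_5 r788_6 r788_7 r788_8

def b789 : Wd := ⟨1, d789,
  [.z, .Z9, .Z4, .X10, .X6, .X4, .X3, .y9, .y6, .y5, .y4, .y1, .p10, .hi, .p10, .hi, .p8, .hi, .p4, .hi, .p4, .hi, .p,
   .xii, .hi, .p8, .xii, .y2, .y7, .p10, .taui, .xii, .y6, .p, .xii, .y3, .hi, .p8, .tau, .p7, .xii, .p4, .xii, .y6,
   .p2, .y3, .tau, .xii, .p2, .xii, .y3, .p2, .xii, .y10, .taui, .xii, .p, .xii, .y3],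
  [.z, .Z8, .Z5, .X10, .X8, .X7, .X6, .X4, .X3, .X2, .X0, .y7, .y6, .y3, .y2, .y1, .p8, .hi, .p7, .hi, .p5, .hi, .p5,
   .hi, .p4, .hi, .p3, .xii, .hi, .xii, .p10, .y9, .taui, .y1, .xii, .p10, .xii, .y1, .y7, .p10, .xii, .y4, .taui,
   .xii, .p4, .xii, .y1, .p4, .y7, .xii, .y1, .y10, .taui, .xii, .p7, .xii, .p10, .y10, .hi, .p4, .taui, .xii, .p,
   .hi],
  [.Z8, .Z7, .Z4, .Z3, .Z2, .X10, .X9, .X6, .X1, .y7, .y2, .y1, .hi, .p8, .hi, .p10, .hi, .p4, .hi, .p8, .hi, .p,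
   .xii, .hi, .p8, .xii, .p2, .y4, .taui, .xii, .p, .xii, .y1, .y6, .hi, .xii, .y4, .y5, .taui, .p10, .xii, .p, .hi,
   .xii, .y9, .p9, .tau, .xii, .hi, .p7, .xii, .p3, .y8, .taui, .xii, .y2, .hi, .p7]⟩

theorem h789 : Hd F (g wAd) b789 := hdD (by decide +kernel)
theorem r789_0 : R9 F (g wAd) b789 [] 0 0 := .of (startD 0 1) (by decide +kernel)
theorem r789_1 : R9 F (g wAd) b789 [] 0 1 := .of (startD 0 1) (by decide +kernel)
theorem r789_2 : R9 F (g wAd) b789 [] 0 2 := .of (startD 0 1) (by decide +kernel)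
theorem r789_3 : R9 F (g wAd) b789 [] 1 0 := .of (startD 0 1) (by decide +kernel)
theorem r789_4 : R9 F (g wAd) b789 [] 1 1 := .of (startD 0 1) (by decide +kernel)
theorem r789_5 : R9 F (g wAd) b789 [] 1 2 := .of (startD 0 1) (by decide +kernel)
theorem r789_6 : R9 F (g wAd) b789 [] 2 0 := .of (startD 0 1) (by decide +kernel)
theorem r789_7 : R9 F (g wAd) b789 [] 2 1 := .of (startD 0 1) (by decide +kernel)
theorem r789_8 : R9 F (g wAd) b789 [] 2 2 := .of (startD 0 1) (by decide +kernel)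
theorem g789 : Gd F (g wAd) (1, d789) [] :=
  good9 ok h789 r789_0 r789_1 r789_2 r789_3 r789_4 r789_5 r789_6 r789_7 r789_8

theorem all : AllG F (g wAd) LD78 :=
  .cons g780 (.cons g781 (.cons g782 (.cons g783 (.cons g784 (.cons g785 (.cons g786 (.cons g787 (.cons g788 (.cons g789 (.nil))))))))))

end Cfsg.Agent.BX.No33.Bk.D78
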