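import Cfsg.Agent.BX.No33.Cheap
set_option linter.all false

/-!
# Tests, diagonal case, part 80 (helper5; generated)
-/

set_option autoImplicit false
set_option maxRecDepth 100000
set_option Elab.async false

namespace Cfsg.Agent.BX.No33.Bk.D80

open Cfsg.Agent.H819.U33 Cfsg.Agent.BX.No33.Front

def b800 : Wd := ⟨1, d800,
  [.Z5, .Z4, .Z3, .Z2, .Z0, .X7, .X3, .X0, .y10, .y9, .y7, .y6, .y3, .y1, .hi, .p, .hi, .p3, .hi, .p6, .hi, .p7, .hi,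
   .p4, .hi, .p8, .xii, .p10, .xii, .y4, .p8, .taui, .xii, .p, .xii, .y1, .hi, .xii, .y6, .y10, .tau, .xii, .p4, .xii,
   .y4, .y10, .p7, .xii, .y4, .y5, .y7, .taui, .xii, .p4, .xii, .y10, .p4, .xii, .y4, .taui, .xii, .p8],
  [.z, .Z10, .Z8, .Z5, .Z3, .Z1, .X10, .X9, .X7, .X6, .X5, .X3, .X2, .X1, .y10, .y8, .y7, .y4, .y2, .p7, .hi, .p9,
   .hi, .p6, .hi, .p4, .hi, .p9, .hi, .xii, .p, .xii, .p7, .xii, .y4, .y9, .taui, .xii, .y6, .p, .xii, .p, .xii, .y3,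
   .tau, .X0, .p10, .xii, .y6, .hi, .p6, .xii, .y6, .p8, .taui, .xii, .y2, .p2, .hi, .xii, .y1],
  [.z, .Z9, .Z7, .Z5, .Z4, .Z2, .Z0, .X9, .X8, .X6, .X3, .X0, .y10, .y8, .y6, .y3, .p2, .hi, .p8, .hi, .p4, .hi, .p6,
   .hi, .p2, .hi, .xii, .hi, .xii, .p10, .y8, .xii, .y8, .tau, .xii, .y6, .p, .xii, .p, .xii, .y7, .y8, .tau, .p8,
   .xii, .hi, .y10, .p8, .xii, .p3, .y4, .taui, .xii, .p7, .xii, .p5, .y1, .xii, .y4, .taui, .xii, .hi, .p4]⟩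

theorem h800 : Hd F (g wAd) b800 := hdD (by decide +kernel)
theorem r800_0 : R9 F (g wAd) b800 [] 0 0 := .of (startD 0 1) (by decide +kernel)
theorem r800_1 : R9 F (g wAd) b800 [] 0 1 := .of (startD 0 1) (by decide +kernel)
theorem r800_2 : R9 F (g wAd) b800 [] 0 2 := .of (startD 0 1) (by decide +kernel)
theorem r800_3 : R9 F (g wAd) b800 [] 1 0 := .of (startD 0 1) (by decide +kernel)
theorem r800_4 : R9 F (g wAd) b800 [] 1 1 := .of (startD 0 1) (by decide +kernel)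
theorem r800_5 : R9 F (g wAd) b800 [] 1 2 := .of (startD 0 1) (by decide +kernel)
theorem r800_6 : R9 F (g wAd) b800 [] 2 0 := .of (startD 0 1) (by decide +kernel)
theorem r800_7 : R9 F (g wAd) b800 [] 2 1 := .of (startD 0 1) (by decide +kernel)
theorem r800_8 : R9 F (g wAd) b800 [] 2 2 := .of (startD 0 1) (by decide +kernel)
theorem g800 : Gd F (g wAd) (1, d800) [] :=
  good9 ok h800 r800_0 r800_1 r800_2 r800_3 r800_4 r800_5 r800_6 r800_7 r800_8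

def b801 : Wd := ⟨1, d801,
  [.Z9, .Z5, .Z3, .Z1, .Z0, .X9, .X5, .X1, .y9, .y7, .y4, .p2, .hi, .p6, .hi, .p9, .hi, .p5, .hi, .p7, .hi, .p5, .xii,
   .hi, .xii, .y4, .p4, .hi, .taui, .xii, .p, .xii, .y4, .hi, .xii, .y4, .y5, .tau, .y1, .xii, .p4, .xii, .y1, .y4,
   .p6, .xii, .y2, .y10, .taui, .xii, .y2, .p2, .xii, .y10, .p10, .xii, .y4, .taui, .xii, .p2, .xii, .y7],
  [.z, .Z10, .Z5, .Z2, .Z0, .X10, .X9, .X3, .y8, .y7, .y6, .y5, .y3, .y2, .p7, .hi, .p8, .hi, .p8, .hi, .p9, .hi,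
   .xii, .p, .xii, .hi, .y8, .xii, .y6, .taui, .xii, .y1, .p, .xii, .y2, .p, .xii, .y3, .y10, .tau, .p9, .xii, .p3,
   .xii, .y1, .y7, .hi, .p5, .tau, .xii, .p9, .xii, .y5, .y7, .p3, .xii, .y7, .taui, .xii, .y2, .p],
  [.Z10, .Z9, .Z6, .Z3, .Z2, .X8, .X7, .y10, .y4, .y3, .hi, .p9, .hi, .p8, .hi, .p10, .hi, .p4, .xii, .p, .xii, .y6,
   .p3, .hi, .tau, .y1, .xii, .y1, .hi, .xii, .p10, .xii, .tau, .X0, .y1, .xii, .p9, .xii, .y1, .y6, .p5, .xii, .y8,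
   .y10, .tau, .xii, .p4, .xii, .y5, .p10, .xii, .y1, .y3, .taui, .xii, .y8]⟩

theorem h801 : Hd F (g wAd) b801 := hdD (by decide +kernel)
theorem r801_0 : R9 F (g wAd) b801 [] 0 0 := .of (startD 0 1) (by decide +kernel)
theorem r801_1 : R9 F (g wAd) b801 [] 0 1 := .of (startD 0 1) (by decide +kernel)
theorem r801_2 : R9 F (g wAd) b801 [] 0 2 := .of (startD 0 2) (by decide +kernel)
theorem r801_3 : R9 F (g wAd) b801 [] 1 0 := .of (startD 0 1) (by decide +kernel)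
theorem r801_4 : R9 F (g wAd) b801 [] 1 1 := .of (startD 0 1) (by decide +kernel)
theorem r801_5 : R9 F (g wAd) b801 [] 1 2 := .of (startD 0 1) (by decide +kernel)
theorem r801_6 : R9 F (g wAd) b801 [] 2 0 := .of (startD 0 1) (by decide +kernel)
theorem r801_7 : R9 F (g wAd) b801 [] 2 1 := .of (startD 0 1) (by decide +kernel)
theorem r801_8 : R9 F (g wAd) b801 [] 2 2 := .of (startD 0 1) (by decide +kernel)
theorem g801 : Gd F (g wAd) (1, d801) [] :=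
  good9 ok h801 r801_0 r801_1 r801_2 r801_3 r801_4 r801_5 r801_6 r801_7 r801_8

def b802 : Wd := ⟨1, d802,
  [.z, .Z9, .Z7, .Z5, .Z4, .Z2, .X10, .X9, .X6, .X2, .X0, .y9, .y7, .y4, .y2, .p10, .hi, .p6, .hi, .p6, .hi, .p3, .hi,
   .p5, .hi, .p7, .xii, .hi, .xii, .y8, .p6, .xii, .y3, .taui, .xii, .p, .xii, .y3, .hi, .xii, .y6, .y10, .taui, .y1,
   .xii, .p4, .xii, .hi, .p7, .xii, .y6, .tau, .xii, .p8, .xii, .p10, .y10, .hi, .taui, .xii, .y2, .p],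
  [.Z10, .Z9, .Z7, .Z6, .Z5, .Z2, .Z1, .Z0, .X10, .X9, .X5, .X1, .X0, .y9, .y3, .y2, .hi, .p2, .hi, .p8, .hi, .p4,
   .hi, .p3, .hi, .p10, .xii, .p3, .hi, .xii, .y2, .p10, .taui, .y1, .xii, .p10, .xii, .p10, .y7, .xii, .y4, .tau,
   .X0, .p5, .xii, .p, .hi, .xii, .y4, .y5, .p4, .taui, .xii, .p8, .xii, .p4, .xii, .y1, .y10, .tau],
  [.Z10, .Z7, .Z5, .Z4, .Z1, .X9, .X7, .X3, .X2, .X0, .y10, .y5, .p10, .hi, .p9, .hi, .p9, .hi, .p, .hi, .p7, .hi, .p,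
   .xii, .p3, .hi, .xii, .y5, .p10, .tau, .xii, .y6, .p, .xii, .p, .xii, .y3, .y10, .taui, .xii, .p10, .xii, .y9, .p8,
   .xii, .y4, .p, .tau, .xii, .p9, .xii, .y2, .p, .y1, .xii, .tau, .xii, .p6]⟩

theorem h802 : Hd F (g wAd) b802 := hdD (by decide +kernel)
theorem r802_0 : R9 F (g wAd) b802 [] 0 0 := .of (startD 0 1) (by decide +kernel)
theorem r802_1 : R9 F (g wAd) b802 [] 0 1 := .of (startD 0 1) (by decide +kernel)
theorem r802_2 : R9 F (g wAd) b802 [] 0 2 := .of (startD 0 1) (by decide +kernel)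
theorem r802_3 : R9 F (g wAd) b802 [] 1 0 := .of (startD 0 2) (by decide +kernel)
theorem r802_4 : R9 F (g wAd) b802 [] 1 1 := .of (startD 0 1) (by decide +kernel)
theorem r802_5 : R9 F (g wAd) b802 [] 1 2 := .of (startD 0 1) (by decide +kernel)
theorem r802_6 : R9 F (g wAd) b802 [] 2 0 := .of (startD 0 1) (by decide +kernel)
theorem r802_7 : R9 F (g wAd) b802 [] 2 1 := .of (startD 0 1) (by decide +kernel)
theorem r802_8 : R9 F (g wAd) b802 [] 2 2 := .of (startD 0 1) (by decide +kernel)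
theorem g802 : Gd F (g wAd) (1, d802) [] :=
  good9 ok h802 r802_0 r802_1 r802_2 r802_3 r802_4 r802_5 r802_6 r802_7 r802_8

def b803 : Wd := ⟨1, d803,
  [.Z8, .Z7, .Z6, .Z3, .Z2, .Z1, .Z0, .X10, .X6, .X5, .X4, .X3, .X2, .y9, .y8, .y7, .y6, .y3, .y2, .p2, .hi, .p10,
   .hi, .p, .hi, .p8, .hi, .p3, .hi, .xii, .y2, .p2, .hi, .xii, .y4, .taui, .y1, .xii, .p10, .xii, .y8, .p10, .xii,
   .taui, .X0, .xii, .hi, .xii, .y9, .p10, .xii, .y10, .p5, .taui, .xii, .p5, .xii, .y5, .p9, .xii, .y1, .y4, .taui,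
   .xii, .hi, .xii, .y10],
  [.Z10, .Z7, .Z0, .X10, .X9, .X8, .X5, .X4, .X2, .X0, .y9, .y7, .y4, .y3, .y1, .p5, .hi, .p8, .hi, .p7, .hi, .p10,
   .hi, .p5, .hi, .p7, .hi, .xii, .y2, .p5, .hi, .p5, .tau, .y1, .xii, .y6, .p10, .xii, .y8, .p10, .xii, .y2, .y4,
   .taui, .X0, .xii, .y1, .p7, .xii, .p7, .y5, .xii, .y3, .y10, .tau, .xii, .p5, .hi, .xii, .y5, .p4],
  [.Z7, .Z6, .Z4, .Z0, .X9, .X3, .X2, .y9, .y8, .y6, .y5, .y4, .y2, .y1, .p7, .hi, .p5, .hi, .p3, .hi, .p4, .hi, .p5,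
   .hi, .p, .hi, .xii, .y2, .hi, .p8, .xii, .y6, .p2, .taui, .y1, .xii, .y2, .hi, .xii, .p10, .xii, .y1, .y6, .tau,
   .X0, .p4, .xii, .p5, .hi, .xii, .tau, .xii, .p6, .xii, .y6, .p2, .hi, .p, .tau, .xii, .y2, .p]⟩

theorem h803 : Hd F (g wAd) b803 := hdD (by decide +kernel)
theorem r803_0 : R9 F (g wAd) b803 [] 0 0 := .of (startD 0 1) (by decide +kernel)
theorem r803_1 : R9 F (g wAd) b803 [] 0 1 := .of (startD 0 1) (by decide +kernel)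
theorem r803_2 : R9 F (g wAd) b803 [] 0 2 := .of (startD 0 1) (by decide +kernel)
theorem r803_3 : R9 F (g wAd) b803 [] 1 0 := .of (startD 0 1) (by decide +kernel)
theorem r803_4 : R9 F (g wAd) b803 [] 1 1 := .of (startD 0 1) (by decide +kernel)
theorem r803_5 : R9 F (g wAd) b803 [] 1 2 := .of (startD 0 1) (by decide +kernel)
theorem r803_6 : R9 F (g wAd) b803 [] 2 0 := .of (startD 0 1) (by decide +kernel)
theorem r803_7 : R9 F (g wAd) b803 [] 2 1 := .of (startD 0 1) (by decide +kernel)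
theorem r803_8 : R9 F (g wAd) b803 [] 2 2 := .of (startD 0 1) (by decide +kernel)
theorem g803 : Gd F (g wAd) (1, d803) [] :=
  good9 ok h803 r803_0 r803_1 r803_2 r803_3 r803_4 r803_5 r803_6 r803_7 r803_8

def b804 : Wd := ⟨1, d804,
  [.z, .Z10, .Z9, .Z8, .Z4, .Z1, .Z0, .X9, .X7, .X5, .X4, .X2, .y10, .y9, .y8, .p5, .hi, .p10, .hi, .p8, .hi, .p3,
   .hi, .p10, .xii, .p10, .xii, .y7, .p8, .xii, .y8, .taui, .xii, .y6, .p, .hi, .xii, .y7, .p3, .hi, .taui, .X0, .p8,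
   .xii, .y2, .p3, .xii, .y8, .tau, .xii, .p3, .xii, .y5, .p10, .taui, .xii, .y2, .p3, .hi, .p8],
  [.z, .Z10, .Z9, .Z7, .Z6, .Z5, .Z3, .Z1, .Z0, .X9, .X8, .X5, .X1, .y10, .y9, .y8, .y5, .y3, .y1, .hi, .p6, .hi, .p4,
   .hi, .p6, .hi, .p5, .hi, .p9, .xii, .p3, .hi, .xii, .y3, .y7, .p6, .taui, .y1, .xii, .p10, .xii, .y8, .p10, .xii,
   .y1, .y5, .tau, .p5, .xii, .p, .hi, .xii, .y4, .y5, .p8, .taui, .xii, .p8, .xii, .p5, .y2],
  [.Z7, .Z6, .Z0, .X9, .X7, .X2, .X0, .y8, .y6, .y3, .y2, .y1, .p7, .hi, .p4, .hi, .p5, .hi, .p, .hi, .p5, .hi, .p,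
   .hi, .xii, .p3, .hi, .xii, .y8, .p10, .taui, .xii, .y1, .p, .xii, .p, .xii, .y2, .y3, .tau, .X0, .hi, .xii, .p3,
   .xii, .y6, .p, .xii, .y6, .taui, .xii, .y2, .hi, .p7, .xii, .y1, .p2, .taui, .xii, .p2, .hi]⟩

theorem h804 : Hd F (g wAd) b804 := hdD (by decide +kernel)
theorem r804_0 : R9 F (g wAd) b804 [] 0 0 := .of (startD 0 1) (by decide +kernel)
theorem r804_1 : R9 F (g wAd) b804 [] 0 1 := .of (startD 0 1) (by decide +kernel)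
theorem r804_2 : R9 F (g wAd) b804 [] 0 2 := .of (startD 0 1) (by decide +kernel)
theorem r804_3 : R9 F (g wAd) b804 [] 1 0 := .of (startD 0 1) (by decide +kernel)
theorem r804_4 : R9 F (g wAd) b804 [] 1 1 := .of (startD 0 1) (by decide +kernel)
theorem r804_5 : R9 F (g wAd) b804 [] 1 2 := .of (startD 0 1) (by decide +kernel)
theorem r804_6 : R9 F (g wAd) b804 [] 2 0 := .of (startD 0 1) (by decide +kernel)
theorem r804_7 : R9 F (g wAd) b804 [] 2 1 := .of (startD 0 1) (by decide +kernel)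
theorem r804_8 : R9 F (g wAd) b804 [] 2 2 := .of (startD 0 1) (by decide +kernel)
theorem g804 : Gd F (g wAd) (1, d804) [] :=
  good9 ok h804 r804_0 r804_1 r804_2 r804_3 r804_4 r804_5 r804_6 r804_7 r804_8

def b805 : Wd := ⟨1, d805,
  [.Z8, .Z7, .Z4, .Z3, .Z2, .X9, .X3, .y10, .y6, .y5, .y3, .y1, .p9, .hi, .p6, .hi, .p3, .hi, .p3, .hi, .p5, .hi, .p2,
   .xii, .hi, .xii, .y6, .p10, .xii, .taui, .xii, .y2, .p, .xii, .y3, .hi, .xii, .y7, .y10, .taui, .y1, .p8, .xii, .p,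
   .xii, .y1, .hi, .p, .tau, .xii, .p7, .xii, .y5, .y9, .p10, .hi, .p3, .taui, .xii, .p],
  [.Z10, .Z9, .Z6, .Z0, .X8, .X6, .X3, .X2, .X1, .y8, .y7, .y1, .p6, .hi, .p7, .hi, .p10, .hi, .p2, .hi, .p7, .hi,
   .p3, .hi, .taui, .xii, .y1, .p, .hi, .xii, .y1, .tau, .p4, .xii, .p5, .xii, .p7, .y1, .taui, .xii, .p9, .xii, .y5,
   .y9, .p6, .xii, .y6, .taui, .xii, .p4, .hi, .p6],
  [.Z10, .Z5, .Z0, .X8, .X7, .X4, .X2, .y9, .y8, .y7, .y5, .y3, .y2, .p3, .hi, .p4, .hi, .p10, .hi, .p5, .hi, .p8,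
   .hi, .p8, .xii, .y2, .p, .xii, .p9, .xii, .y2, .taui, .xii, .y1, .p, .xii, .y4, .p, .xii, .y4, .y7, .taui, .X0,
   .p9, .xii, .y10, .p3, .xii, .y3, .p10, .xii, .tau, .xii, .y2, .p3, .xii, .y2, .p2, .xii, .y10, .taui, .xii, .hi,
   .xii]⟩

theorem h805 : Hd F (g wAd) b805 := hdD (by decide +kernel)
theorem r805_0 : R9 F (g wAd) b805 [] 0 0 := .of (startD 0 1) (by decide +kernel)
theorem r805_1 : R9 F (g wAd) b805 [] 0 1 := .of (startD 0 1) (by decide +kernel)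
theorem r805_2 : R9 F (g wAd) b805 [] 0 2 := .of (startD 0 1) (by decide +kernel)
theorem r805_3 : R9 F (g wAd) b805 [] 1 0 := .of (startD 0 1) (by decide +kernel)
theorem r805_4 : R9 F (g wAd) b805 [] 1 1 := .of (startD 0 1) (by decide +kernel)
theorem r805_5 : R9 F (g wAd) b805 [] 1 2 := .of (startD 0 1) (by decide +kernel)
theorem r805_6 : R9 F (g wAd) b805 [] 2 0 := .of (startD 0 1) (by decide +kernel)
theorem r805_7 : R9 F (g wAd) b805 [] 2 1 := .of (startD 0 1) (by decide +kernel)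
theorem r805_8 : R9 F (g wAd) b805 [] 2 2 := .of (startD 0 1) (by decide +kernel)
theorem g805 : Gd F (g wAd) (1, d805) [] :=
  good9 ok h805 r805_0 r805_1 r805_2 r805_3 r805_4 r805_5 r805_6 r805_7 r805_8

def b806 : Wd := ⟨1, d806,
  [.Z9, .Z8, .Z6, .Z1, .X8, .X7, .X6, .X3, .X1, .X0, .y10, .y9, .y8, .y5, .y4, .y3, .y2, .p6, .hi, .p6, .hi, .p9, .hi,
   .p4, .hi, .p7, .hi, .p7, .hi, .xii, .y2, .hi, .p8, .xii, .taui, .xii, .y1, .hi, .p8, .xii, .y2, .y9, .p10, .taui,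
   .hi, .xii, .p10, .xii, .y1, .y5, .tau, .xii, .p6, .xii, .p, .y2, .xii, .y7, .y10, .tau, .xii, .y4, .p4, .hi],
  [.Z10, .Z7, .Z6, .Z5, .Z4, .Z2, .Z0, .X9, .X5, .X3, .X2, .X1, .y7, .p9, .hi, .p5, .hi, .p3, .hi, .p7, .hi, .p10,
   .hi, .p6, .xii, .p, .xii, .y1, .y10, .hi, .p8, .tau, .xii, .p, .xii, .y4, .y10, .hi, .xii, .y4, .y5, .tau, .X0,
   .p7, .xii, .p5, .xii, .y1, .y6, .p5, .hi, .tau, .xii, .p7, .xii, .y1, .p9, .xii, .y1, .taui, .xii, .y2, .p2],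
  [.z, .Z10, .Z9, .Z8, .Z5, .Z4, .Z2, .Z1, .X9, .X7, .X6, .X1, .y8, .y5, .y4, .y3, .y2, .p6, .hi, .p10, .hi, .p3, .hi,
   .p5, .hi, .p9, .xii, .p10, .xii, .y5, .p6, .xii, .y6, .taui, .y1, .xii, .p10, .xii, .y4, .p10, .xii, .y2, .tau,
   .X0, .xii, .y2, .p3, .xii, .y3, .p2, .xii, .y1, .y8, .tau, .xii, .p5, .xii, .y1, .y6, .p6, .taui, .xii, .p, .hi,
   .p4]⟩

theorem h806 : Hd F (g wAd) b806 := hdD (by decide +kernel)
theorem r806_0 : R9 F (g wAd) b806 [] 0 0 := .of (startD 0 1) (by decide +kernel)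
theorem r806_1 : R9 F (g wAd) b806 [] 0 1 := .of (startD 0 1) (by decide +kernel)
theorem r806_2 : R9 F (g wAd) b806 [] 0 2 := .of (startD 0 1) (by decide +kernel)
theorem r806_3 : R9 F (g wAd) b806 [] 1 0 := .of (startD 0 2) (by decide +kernel)
theorem r806_4 : R9 F (g wAd) b806 [] 1 1 := .of (startD 0 1) (by decide +kernel)
theorem r806_5 : R9 F (g wAd) b806 [] 1 2 := .of (startD 0 1) (by decide +kernel)
theorem r806_6 : R9 F (g wAd) b806 [] 2 0 := .of (startD 0 1) (by decide +kernel)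
theorem r806_7 : R9 F (g wAd) b806 [] 2 1 := .of (startD 0 1) (by decide +kernel)
theorem r806_8 : R9 F (g wAd) b806 [] 2 2 := .of (startD 0 1) (by decide +kernel)
theorem g806 : Gd F (g wAd) (1, d806) [] :=
  good9 ok h806 r806_0 r806_1 r806_2 r806_3 r806_4 r806_5 r806_6 r806_7 r806_8

def b807 : Wd := ⟨1, d807,
  [.Z10, .Z8, .Z6, .Z3, .Z0, .X8, .X7, .X6, .X3, .X1, .X0, .y10, .y7, .y4, .y3, .y2, .y1, .p7, .hi, .p7, .hi, .p8,
   .hi, .p10, .hi, .p10, .hi, .p6, .xii, .p, .xii, .p, .xii, .y7, .taui, .xii, .y1, .p, .xii, .y10, .p, .xii, .y5,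
   .y10, .tau, .xii, .p3, .xii, .y3, .p2, .xii, .hi, .y9, .taui, .xii, .p4, .xii, .y1, .y2, .p4, .xii, .y2, .taui,
   .xii, .p, .xii, .y7],
  [.Z9, .Z7, .Z6, .Z2, .Z0, .X9, .X6, .X4, .X3, .X2, .X0, .y7, .y6, .y4, .y1, .p8, .hi, .p3, .hi, .p, .hi, .p7, .hi,
   .p5, .hi, .p8, .xii, .p, .xii, .y2, .p, .xii, .y3, .tau, .xii, .y2, .p, .xii, .y3, .hi, .xii, .y6, .tau, .xii, .p4,
   .xii, .p5, .xii, .y3, .y5, .y9, .y10, .tau, .xii, .p9, .xii, .y2, .p8, .y4],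
  [.Z9, .Z6, .Z5, .Z4, .Z3, .Z2, .Z1, .X7, .X6, .X5, .X4, .X3, .X2, .X1, .y10, .y4, .y3, .y2, .y1, .p8, .hi, .p9, .hi,
   .p4, .hi, .p7, .hi, .p6, .hi, .p10, .xii, .y2, .p, .xii, .hi, .p10, .taui, .y1, .xii, .y2, .hi, .xii, .y9, .p10,
   .xii, .y4, .taui, .p8, .xii, .y2, .p3, .hi, .xii, .y10, .p10, .y8, .tau, .xii, .p5, .xii, .y1, .y9, .hi, .tau,
   .xii, .y2, .p7]⟩

theorem h807 : Hd F (g wAd) b807 := hdD (by decide +kernel)
theorem r807_0 : R9 F (g wAd) b807 [] 0 0 := .of (startD 0 1) (by decide +kernel)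
theorem r807_1 : R9 F (g wAd) b807 [] 0 1 := .of (startD 0 1) (by decide +kernel)
theorem r807_2 : R9 F (g wAd) b807 [] 0 2 := .of (startD 0 1) (by decide +kernel)
theorem r807_3 : R9 F (g wAd) b807 [] 1 0 := .of (startD 0 1) (by decide +kernel)
theorem r807_4 : R9 F (g wAd) b807 [] 1 1 := .of (startD 0 1) (by decide +kernel)
theorem r807_5 : R9 F (g wAd) b807 [] 1 2 := .of (startD 0 1) (by decide +kernel)
theorem r807_6 : R9 F (g wAd) b807 [] 2 0 := .of (startD 0 1) (by decide +kernel)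
theorem r807_7 : R9 F (g wAd) b807 [] 2 1 := .of (startD 0 1) (by decide +kernel)
theorem r807_8 : R9 F (g wAd) b807 [] 2 2 := .of (startD 0 1) (by decide +kernel)
theorem g807 : Gd F (g wAd) (1, d807) [] :=
  good9 ok h807 r807_0 r807_1 r807_2 r807_3 r807_4 r807_5 r807_6 r807_7 r807_8

def b808 : Wd := ⟨1, d808,
  [.z, .Z10, .Z8, .Z6, .Z5, .Z3, .Z1, .Z0, .X5, .X3, .X2, .X1, .y10, .y9, .y8, .y5, .y3, .y1, .p10, .hi, .p8, .hi,
   .p8, .hi, .p3, .hi, .p6, .hi, .p8, .xii, .p, .xii, .hi, .p8, .y3, .tau, .xii, .y6, .p, .xii, .y2, .p, .xii, .y4,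
   .y5, .taui, .X0, .p10, .xii, .y8, .hi, .p8, .xii, .y2, .p2, .tau, .xii, .p5, .xii, .p2, .y9, .xii, .y5, .tau, .xii,
   .p],
  [.Z8, .Z4, .Z3, .Z1, .Z0, .X10, .X7, .X2, .X0, .y10, .y9, .y6, .y3, .y1, .p, .hi, .p6, .hi, .p5, .hi, .p9, .hi, .p,
   .xii, .y2, .hi, .p8, .hi, .p2, .tau, .y1, .xii, .p10, .xii, .y8, .p10, .xii, .y2, .y8, .tau, .p9, .xii, .y9, .p,
   .xii, .y10, .tau, .xii, .p8, .xii, .y8, .p4, .xii, .y1, .y2, .tau, .xii, .p4, .hi, .p],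
  [.Z10, .Z9, .Z8, .Z6, .Z4, .Z3, .X10, .X9, .X8, .X7, .X6, .X5, .X4, .X3, .X1, .y7, .y5, .hi, .p5, .hi, .p10, .hi,
   .p6, .hi, .p9, .hi, .p7, .xii, .y2, .hi, .xii, .p3, .hi, .p2, .taui, .xii, .y6, .p, .xii, .y2, .p, .xii, .y1, .tau,
   .X0, .y1, .p9, .xii, .y7, .p, .hi, .xii, .y5, .p6, .tau, .xii, .p10, .hi, .p6, .xii, .y9, .p, .taui, .xii, .y2, .p,
   .hi]⟩

theorem h808 : Hd F (g wAd) b808 := hdD (by decide +kernel)
theorem r808_0 : R9 F (g wAd) b808 [] 0 0 := .of (startD 0 1) (by decide +kernel)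
theorem r808_1 : R9 F (g wAd) b808 [] 0 1 := .of (startD 0 1) (by decide +kernel)
theorem r808_2 : R9 F (g wAd) b808 [] 0 2 := .of (startD 0 1) (by decide +kernel)
theorem r808_3 : R9 F (g wAd) b808 [] 1 0 := .of (startD 0 1) (by decide +kernel)
theorem r808_4 : R9 F (g wAd) b808 [] 1 1 := .of (startD 0 1) (by decide +kernel)
theorem r808_5 : R9 F (g wAd) b808 [] 1 2 := .of (startD 0 1) (by decide +kernel)
theorem r808_6 : R9 F (g wAd) b808 [] 2 0 := .of (startD 0 1) (by decide +kernel)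
theorem r808_7 : R9 F (g wAd) b808 [] 2 1 := .of (startD 0 1) (by decide +kernel)
theorem r808_8 : R9 F (g wAd) b808 [] 2 2 := .of (startD 0 1) (by decide +kernel)
theorem g808 : Gd F (g wAd) (1, d808) [] :=
  good9 ok h808 r808_0 r808_1 r808_2 r808_3 r808_4 r808_5 r808_6 r808_7 r808_8

def b809 : Wd := ⟨1, d809,
  [.Z9, .Z8, .Z1, .X10, .X7, .X4, .X3, .X0, .y10, .y8, .y6, .y4, .y2, .p7, .hi, .p9, .hi, .p10, .hi, .p2, .hi, .p6,
   .hi, .p9, .hi, .xii, .p, .xii, .y10, .p, .xii, .y3, .tau, .xii, .p, .xii, .y4, .hi, .xii, .y7, .y8, .tau, .X0,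
   .xii, .p7, .xii, .y8, .p7, .y5, .xii, .y5, .p3, .tau, .xii, .p5, .xii, .y8, .p2, .xii, .y4, .y9, .tau, .xii, .p5,
   .hi, .p10],
  [.z, .Z10, .Z9, .Z7, .Z3, .Z2, .X8, .X6, .X4, .X2, .y10, .y9, .hi, .p10, .hi, .p10, .hi, .p7, .hi, .p6, .hi, .p8,
   .xii, .p10, .xii, .p9, .xii, .y1, .y2, .y9, .taui, .y1, .xii, .p10, .xii, .y1, .p10, .xii, .y3, .y5, .taui, .p8,
   .xii, .y9, .p, .hi, .xii, .y1, .p8, .taui, .xii, .p9, .xii, .y9, .p, .hi, .p7],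
  [.z, .Z10, .Z9, .Z8, .Z5, .Z3, .X10, .X9, .X7, .X5, .y9, .y8, .y7, .y6, .y5, .y4, .y3, .p8, .hi, .p5, .hi, .p5, .hi,
   .p3, .hi, .p10, .xii, .p10, .xii, .p9, .y6, .xii, .y7, .taui, .y1, .xii, .p10, .xii, .y5, .p10, .xii, .y2, .y8,
   .taui, .xii, .p6, .xii, .y1, .p2, .xii, .y6, .p9, .taui, .xii, .p7, .xii, .y10, .p7, .xii, .y2, .taui, .xii, .p2]⟩

theorem h809 : Hd F (g wAd) b809 := hdD (by decide +kernel)
theorem r809_0 : R9 F (g wAd) b809 [] 0 0 := .of (startD 0 1) (by decide +kernel)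
theorem r809_1 : R9 F (g wAd) b809 [] 0 1 := .of (startD 0 1) (by decide +kernel)
theorem r809_2 : R9 F (g wAd) b809 [] 0 2 := .of (startD 0 1) (by decide +kernel)
theorem r809_3 : R9 F (g wAd) b809 [] 1 0 := .of (startD 0 1) (by decide +kernel)
theorem r809_4 : R9 F (g wAd) b809 [] 1 1 := .of (startD 0 1) (by decide +kernel)
theorem r809_5 : R9 F (g wAd) b809 [] 1 2 := .of (startD 0 1) (by decide +kernel)
theorem r809_6 : R9 F (g wAd) b809 [] 2 0 := .of (startD 0 1) (by decide +kernel)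
theorem r809_7 : R9 F (g wAd) b809 [] 2 1 := .of (startD 0 1) (by decide +kernel)
theorem r809_8 : R9 F (g wAd) b809 [] 2 2 := .of (startD 0 1) (by decide +kernel)
theorem g809 : Gd F (g wAd) (1, d809) [] :=
  good9 ok h809 r809_0 r809_1 r809_2 r809_3 r809_4 r809_5 r809_6 r809_7 r809_8

theorem all : AllG F (g wAd) LD80 :=
  .cons g800 (.cons g801 (.cons g802 (.cons g803 (.cons g804 (.cons g805 (.cons g806 (.cons g807 (.cons g808 (.cons g809 (.nil))))))))))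

end Cfsg.Agent.BX.No33.Bk.D80
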