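import Cfsg.Agent.BX.No33.Cheap
set_option linter.all false

/-!
# Tests, diagonal case, part 81 (helper5; generated)
-/

set_option autoImplicit false
set_option maxRecDepth 100000
set_option Elab.async false

namespace Cfsg.Agent.BX.No33.Bk.D81

open Cfsg.Agent.H819.U33 Cfsg.Agent.BX.No33.Front

def b810 : Wd := ⟨1, d810,
  [.z, .Z7, .Z5, .Z4, .Z3, .Z0, .X10, .X9, .X5, .X2, .X1, .y10, .y9, .y8, .y6, .y5, .y3, .y2, .y1, .p2, .hi, .p3, .hi,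
   .p4, .hi, .p3, .hi, .p3, .xii, .hi, .p4, .hi, .p4, .tau, .xii, .y2, .p, .xii, .y2, .hi, .xii, .y7, .tau, .xii, .p,
   .xii, .y1, .hi, .xii, .y3, .taui, .X0, .p10, .xii, .y7, .p6, .xii, .y9, .taui, .xii, .p5, .xii, .y1, .y7, .p2,
   .xii, .y9, .taui, .xii, .y2],
  [.Z9, .Z8, .Z6, .Z4, .Z2, .Z1, .X9, .X7, .X4, .X1, .X0, .y10, .y9, .y2, .y1, .hi, .p7, .hi, .p, .hi, .p3, .hi, .p3,
   .hi, .p5, .hi, .xii, .hi, .xii, .y6, .p3, .hi, .taui, .xii, .p, .xii, .p2, .y6, .y7, .hi, .tau, .X0, .p7, .xii,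
   .p8, .xii, .p4, .y7, .y9, .tau, .xii, .hi, .p6, .xii, .hi, .p8, .y1],
  [.Z10, .Z9, .Z6, .Z5, .Z3, .Z2, .Z1, .X10, .X9, .X8, .X7, .X6, .X5, .X3, .X2, .X1, .y10, .y9, .y7, .y5, .y2, .p9,
   .hi, .p10, .hi, .p7, .hi, .p3, .hi, .p4, .hi, .p5, .hi, .xii, .p10, .xii, .p6, .xii, .y2, .y7, .taui, .xii, .y2,
   .p, .xii, .y4, .hi, .xii, .y4, .y7, .tau, .X0, .xii, .p4, .xii, .y10, .p7, .xii, .y6, .hi, .taui, .xii, .p9, .xii,
   .y6, .y10, .p5, .xii, .y5, .tau, .xii, .p, .xii, .y4]⟩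

theorem h810 : Hd F (g wAd) b810 := hdD (by decide +kernel)
theorem r810_0 : R9 F (g wAd) b810 [] 0 0 := .of (startD 0 1) (by decide +kernel)
theorem r810_1 : R9 F (g wAd) b810 [] 0 1 := .of (startD 0 1) (by decide +kernel)
theorem r810_2 : R9 F (g wAd) b810 [] 0 2 := .of (startD 0 1) (by decide +kernel)
theorem r810_3 : R9 F (g wAd) b810 [] 1 0 := .of (startD 0 1) (by decide +kernel)
theorem r810_4 : R9 F (g wAd) b810 [] 1 1 := .of (startD 0 1) (by decide +kernel)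
theorem r810_5 : R9 F (g wAd) b810 [] 1 2 := .of (startD 0 1) (by decide +kernel)
theorem r810_6 : R9 F (g wAd) b810 [] 2 0 := .of (startD 0 1) (by decide +kernel)
theorem r810_7 : R9 F (g wAd) b810 [] 2 1 := .of (startD 0 1) (by decide +kernel)
theorem r810_8 : R9 F (g wAd) b810 [] 2 2 := .of (startD 0 1) (by decide +kernel)
theorem g810 : Gd F (g wAd) (1, d810) [] :=
  good9 ok h810 r810_0 r810_1 r810_2 r810_3 r810_4 r810_5 r810_6 r810_7 r810_8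

def b811 : Wd := ⟨1, d811,
  [.Z7, .Z5, .Z4, .Z3, .Z2, .X7, .X5, .X4, .X2, .X0, .y10, .y9, .y5, .y4, .y1, .hi, .p6, .hi, .p6, .hi, .p9, .hi, .p6,
   .hi, .p3, .xii, .y2, .p10, .hi, .p, .taui, .xii, .y1, .p, .xii, .y10, .p, .xii, .y5, .taui, .p5, .xii, .y3, .p7,
   .xii, .p4, .y1, .hi, .taui, .xii, .y2, .p5, .xii, .y9, .p9, .xii, .y2, .y9, .taui, .xii, .p2],
  [.Z10, .Z9, .Z6, .Z0, .X10, .X9, .X7, .X6, .X5, .X1, .X0, .y8, .y7, .y6, .hi, .p2, .hi, .p7, .hi, .p7, .hi, .p2,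
   .xii, .p10, .xii, .p6, .xii, .y2, .y7, .tau, .xii, .p, .xii, .y1, .y6, .hi, .xii, .y7, .y10, .tau, .X0, .xii, .y1,
   .p7, .xii, .p, .xii, .y2, .y3, .tau, .xii, .p7, .xii, .y2, .p10, .y9],
  [.Z9, .Z7, .Z6, .Z5, .Z2, .Z1, .Z0, .X8, .X6, .X5, .X4, .X3, .y9, .y5, .y4, .y2, .y1, .p7, .hi, .p4, .hi, .p3, .hi,
   .p3, .hi, .p5, .hi, .p7, .hi, .xii, .p10, .xii, .y4, .p6, .xii, .y7, .y10, .tau, .y1, .xii, .p10, .xii, .y1, .y7,
   .p10, .xii, .tau, .X0, .p6, .xii, .y2, .p8, .xii, .p2, .y10, .xii, .y3, .taui, .xii, .p5, .xii, .p8, .y7, .xii,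
   .y7, .y10, .tau, .xii, .p7, .xii, .y2]⟩

theorem h811 : Hd F (g wAd) b811 := hdD (by decide +kernel)
theorem r811_0 : R9 F (g wAd) b811 [] 0 0 := .of (startD 0 1) (by decide +kernel)
theorem r811_1 : R9 F (g wAd) b811 [] 0 1 := .of (startD 0 1) (by decide +kernel)
theorem r811_2 : R9 F (g wAd) b811 [] 0 2 := .of (startD 0 1) (by decide +kernel)
theorem r811_3 : R9 F (g wAd) b811 [] 1 0 := .of (startD 0 1) (by decide +kernel)
theorem r811_4 : R9 F (g wAd) b811 [] 1 1 := .of (startD 0 1) (by decide +kernel)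
theorem r811_5 : R9 F (g wAd) b811 [] 1 2 := .of (startD 0 1) (by decide +kernel)
theorem r811_6 : R9 F (g wAd) b811 [] 2 0 := .of (startD 0 1) (by decide +kernel)
theorem r811_7 : R9 F (g wAd) b811 [] 2 1 := .of (startD 0 1) (by decide +kernel)
theorem r811_8 : R9 F (g wAd) b811 [] 2 2 := .of (startD 0 1) (by decide +kernel)
theorem g811 : Gd F (g wAd) (1, d811) [] :=
  good9 ok h811 r811_0 r811_1 r811_2 r811_3 r811_4 r811_5 r811_6 r811_7 r811_8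

def b812 : Wd := ⟨1, d812,
  [.z, .Z6, .Z4, .Z3, .Z1, .Z0, .X8, .X6, .X5, .X4, .X1, .X0, .y10, .y9, .y8, .y6, .y5, .p6, .hi, .p5, .hi, .p9, .hi,
   .p4, .hi, .p3, .hi, .p10, .hi, .xii, .p10, .hi, .p2, .hi, .p10, .taui, .xii, .p, .hi, .xii, .p5, .hi, .y7, .p5,
   .taui, .X0, .p10, .xii, .p6, .xii, .y9, .p7, .y8, .taui, .xii, .p7, .xii, .p, .y2, .hi, .p4, .taui, .xii, .y2, .hi,
   .p8],
  [.Z10, .Z9, .Z8, .Z7, .Z4, .Z3, .Z1, .X10, .X8, .X7, .X6, .X2, .y10, .y8, .y5, .y4, .y1, .p6, .hi, .p5, .hi, .p3,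
   .hi, .p9, .hi, .p8, .hi, .p6, .xii, .p3, .hi, .xii, .tau, .p10, .xii, .y6, .p6, .xii, .y9, .p2, .tau, .xii, .p8,
   .xii, .y1, .y6, .p4, .xii, .y6, .tau, .xii, .p7],
  [.z, .Z5, .Z3, .Z1, .X7, .X5, .X4, .X2, .X1, .y10, .y9, .y8, .y6, .y4, .y2, .hi, .p4, .hi, .p10, .hi, .p10, .hi, .p,
   .hi, .p9, .hi, .xii, .p, .xii, .p7, .xii, .y4, .y9, .taui, .xii, .p, .xii, .y2, .y10, .hi, .xii, .y6, .tau, .y1,
   .xii, .p10, .xii, .p10, .y7, .xii, .y8, .tau, .X0, .p10, .xii, .y6, .p2, .xii, .y5, .taui, .xii, .p7, .xii, .p9,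
   .y3, .xii, .y7, .y10, .tau, .xii, .y6, .p10, .xii]⟩

theorem h812 : Hd F (g wAd) b812 := hdD (by decide +kernel)
theorem r812_0 : R9 F (g wAd) b812 [] 0 0 := .of (startD 0 1) (by decide +kernel)
theorem r812_1 : R9 F (g wAd) b812 [] 0 1 := .of (startD 0 1) (by decide +kernel)
theorem r812_2 : R9 F (g wAd) b812 [] 0 2 := .of (startD 0 1) (by decide +kernel)
theorem r812_3 : R9 F (g wAd) b812 [] 1 0 := .of (startD 0 1) (by decide +kernel)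
theorem r812_4 : R9 F (g wAd) b812 [] 1 1 := .of (startD 0 1) (by decide +kernel)
theorem r812_5 : R9 F (g wAd) b812 [] 1 2 := .of (startD 0 1) (by decide +kernel)
theorem r812_6 : R9 F (g wAd) b812 [] 2 0 := .of (startD 0 1) (by decide +kernel)
theorem r812_7 : R9 F (g wAd) b812 [] 2 1 := .of (startD 0 1) (by decide +kernel)
theorem r812_8 : R9 F (g wAd) b812 [] 2 2 := .of (startD 0 1) (by decide +kernel)
theorem g812 : Gd F (g wAd) (1, d812) [] :=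
  good9 ok h812 r812_0 r812_1 r812_2 r812_3 r812_4 r812_5 r812_6 r812_7 r812_8

def b813 : Wd := ⟨1, d813,
  [.Z7, .Z4, .Z1, .X10, .X9, .X8, .X6, .X4, .X1, .y6, .y5, .p2, .hi, .p5, .hi, .p4, .hi, .p6, .hi, .p6, .hi, .xii,
   .p3, .hi, .xii, .tau, .xii, .p, .xii, .y4, .hi, .xii, .y7, .y10, .taui, .X0, .y1, .xii, .p6, .xii, .p7, .xii, .y9,
   .p8, .tau, .xii, .p9, .xii, .p9, .y7, .xii, .y4, .taui, .xii, .p3],
  [.Z10, .Z9, .Z7, .Z5, .Z4, .Z0, .X8, .X6, .X3, .X1, .X0, .y8, .y4, .y3, .y2, .y1, .p8, .hi, .p9, .hi, .p7, .hi, .p6,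
   .hi, .p7, .hi, .p7, .xii, .hi, .xii, .p10, .tau, .xii, .p3, .hi, .xii, .y9, .taui, .p6, .xii, .p5, .xii, .y9, .p8,
   .tau, .xii, .p4, .xii, .y5, .p4, .y5, .hi, .tau, .xii, .p, .hi],
  [.Z7, .Z6, .Z5, .Z4, .Z3, .Z2, .Z1, .X8, .X3, .X2, .X1, .X0, .y10, .y7, .y5, .y4, .y3, .y2, .y1, .p10, .hi, .p6,
   .hi, .p3, .hi, .p10, .hi, .p7, .hi, .p7, .hi, .xii, .p3, .hi, .tau, .xii, .y6, .p, .xii, .y2, .p, .xii, .y4, .y7,
   .tau, .xii, .hi, .xii, .p8, .xii, .y6, .y9, .p6, .tau, .xii, .p7, .xii, .y9, .y10, .p7, .hi, .tau, .xii, .y2, .p4,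
   .hi, .p9]⟩

theorem h813 : Hd F (g wAd) b813 := hdD (by decide +kernel)
theorem r813_0 : R9 F (g wAd) b813 [] 0 0 := .of (startD 0 1) (by decide +kernel)
theorem r813_1 : R9 F (g wAd) b813 [] 0 1 := .of (startD 0 1) (by decide +kernel)
theorem r813_2 : R9 F (g wAd) b813 [] 0 2 := .of (startD 0 1) (by decide +kernel)
theorem r813_3 : R9 F (g wAd) b813 [] 1 0 := .of (startD 0 1) (by decide +kernel)
theorem r813_4 : R9 F (g wAd) b813 [] 1 1 := .of (startD 0 1) (by decide +kernel)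
theorem r813_5 : R9 F (g wAd) b813 [] 1 2 := .of (startD 0 1) (by decide +kernel)
theorem r813_6 : R9 F (g wAd) b813 [] 2 0 := .of (startD 0 1) (by decide +kernel)
theorem r813_7 : R9 F (g wAd) b813 [] 2 1 := .of (startD 0 2) (by decide +kernel)
theorem r813_8 : R9 F (g wAd) b813 [] 2 2 := .of (startD 0 1) (by decide +kernel)
theorem g813 : Gd F (g wAd) (1, d813) [] :=
  good9 ok h813 r813_0 r813_1 r813_2 r813_3 r813_4 r813_5 r813_6 r813_7 r813_8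

def b814 : Wd := ⟨1, d814,
  [.z, .Z9, .Z7, .Z6, .Z5, .Z3, .Z2, .Z1, .X9, .X7, .X6, .X3, .y9, .y8, .y6, .y4, .y2, .y1, .p5, .hi, .p5, .hi, .p4,
   .hi, .p, .hi, .p4, .hi, .p5, .xii, .hi, .xii, .p9, .y4, .xii, .y5, .taui, .xii, .p, .xii, .y4, .hi, .xii, .y2, .y7,
   .taui, .p10, .xii, .y6, .p9, .xii, .y4, .p3, .hi, .p5, .tau, .xii, .p2, .xii, .p, .xii, .y6, .y10, .tau, .xii, .p9],
  [.z, .Z9, .Z8, .Z5, .Z3, .Z1, .X10, .X8, .X7, .X4, .X3, .y8, .p9, .hi, .p3, .hi, .p4, .hi, .p6, .hi, .p6, .xii, .hi,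
   .p8, .xii, .y9, .y10, .p2, .tau, .y1, .xii, .p10, .xii, .y5, .p10, .xii, .y8, .taui, .hi, .xii, .p9, .xii, .y6,
   .p9, .xii, .y8, .tau, .xii, .p8, .xii, .y5, .y8, .p2, .xii, .y10],
  [.Z10, .Z7, .Z5, .Z2, .Z0, .X9, .X7, .X6, .X0, .y10, .y8, .y5, .p9, .hi, .p8, .hi, .p, .hi, .p3, .hi, .p, .hi, .p9,
   .xii, .y2, .p, .xii, .hi, .p8, .y3, .taui, .y1, .xii, .p10, .xii, .y8, .p10, .xii, .y2, .tau, .y1, .xii, .p5, .xii,
   .p8, .xii, .y5, .y8, .p10, .tau, .xii, .y2, .p5, .xii, .y3, .p2, .xii, .y3, .taui, .xii, .y4, .p3, .xii, .y1]⟩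

theorem h814 : Hd F (g wAd) b814 := hdD (by decide +kernel)
theorem r814_0 : R9 F (g wAd) b814 [] 0 0 := .of (startD 0 1) (by decide +kernel)
theorem r814_1 : R9 F (g wAd) b814 [] 0 1 := .of (startD 0 1) (by decide +kernel)
theorem r814_2 : R9 F (g wAd) b814 [] 0 2 := .of (startD 0 1) (by decide +kernel)
theorem r814_3 : R9 F (g wAd) b814 [] 1 0 := .of (startD 0 1) (by decide +kernel)
theorem r814_4 : R9 F (g wAd) b814 [] 1 1 := .of (startD 0 1) (by decide +kernel)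
theorem r814_5 : R9 F (g wAd) b814 [] 1 2 := .of (startD 0 1) (by decide +kernel)
theorem r814_6 : R9 F (g wAd) b814 [] 2 0 := .of (startD 0 1) (by decide +kernel)
theorem r814_7 : R9 F (g wAd) b814 [] 2 1 := .of (startD 0 1) (by decide +kernel)
theorem r814_8 : R9 F (g wAd) b814 [] 2 2 := .of (startD 0 2) (by decide +kernel)
theorem g814 : Gd F (g wAd) (1, d814) [] :=
  good9 ok h814 r814_0 r814_1 r814_2 r814_3 r814_4 r814_5 r814_6 r814_7 r814_8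

def b815 : Wd := ⟨1, d815,
  [.Z10, .Z7, .Z3, .Z2, .Z1, .Z0, .X6, .X4, .X2, .y10, .y4, .y3, .y2, .p10, .hi, .p9, .hi, .p3, .hi, .p4, .hi, .p4,
   .hi, .p8, .hi, .p3, .xii, .p, .xii, .p2, .hi, .p2, .tau, .xii, .y2, .p, .xii, .y3, .hi, .xii, .y7, .y10, .tau, .X0,
   .p7, .xii, .p7, .y9, .xii, .p2, .y8, .tau, .xii, .p9, .xii, .y1, .hi, .y10, .p6, .taui, .xii, .p5, .hi, .p2],
  [.z, .Z10, .Z9, .Z7, .Z6, .Z4, .Z3, .Z2, .Z0, .X7, .X6, .X5, .X3, .X2, .X1, .X0, .y9, .y5, .y4, .p9, .hi, .p9, .hi,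
   .p4, .hi, .p, .hi, .p8, .hi, .p7, .xii, .y2, .p, .xii, .y3, .y10, .tau, .y1, .xii, .p10, .xii, .y5, .p10, .xii,
   .y2, .y10, .taui, .p9, .xii, .p2, .hi, .xii, .y2, .y7, .p4, .hi, .tau, .xii, .p5, .xii, .p5, .y5, .xii, .taui],
  [.Z5, .Z1, .X9, .X8, .X7, .X6, .X4, .X3, .y9, .y8, .y4, .y2, .y1, .p8, .hi, .p9, .hi, .p6, .hi, .p6, .hi, .p, .hi,
   .p3, .hi, .p9, .xii, .p, .xii, .y1, .y4, .taui, .xii, .p, .xii, .y1, .hi, .xii, .y1, .y4, .taui, .p8, .xii, .p3,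
   .xii, .p3, .y8, .hi, .p, .taui, .xii, .p7, .xii, .y9, .p7, .xii, .y2, .taui, .xii, .hi, .p2]⟩

theorem h815 : Hd F (g wAd) b815 := hdD (by decide +kernel)
theorem r815_0 : R9 F (g wAd) b815 [] 0 0 := .of (startD 0 1) (by decide +kernel)
theorem r815_1 : R9 F (g wAd) b815 [] 0 1 := .of (startD 0 1) (by decide +kernel)
theorem r815_2 : R9 F (g wAd) b815 [] 0 2 := .of (startD 0 1) (by decide +kernel)
theorem r815_3 : R9 F (g wAd) b815 [] 1 0 := .of (startD 0 1) (by decide +kernel)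
theorem r815_4 : R9 F (g wAd) b815 [] 1 1 := .of (startD 0 1) (by decide +kernel)
theorem r815_5 : R9 F (g wAd) b815 [] 1 2 := .of (startD 0 1) (by decide +kernel)
theorem r815_6 : R9 F (g wAd) b815 [] 2 0 := .of (startD 0 1) (by decide +kernel)
theorem r815_7 : R9 F (g wAd) b815 [] 2 1 := .of (startD 0 1) (by decide +kernel)
theorem r815_8 : R9 F (g wAd) b815 [] 2 2 := .of (startD 0 1) (by decide +kernel)
theorem g815 : Gd F (g wAd) (1, d815) [] :=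
  good9 ok h815 r815_0 r815_1 r815_2 r815_3 r815_4 r815_5 r815_6 r815_7 r815_8

def b816 : Wd := ⟨1, d816,
  [.z, .Z8, .Z7, .X10, .X9, .X8, .X7, .X5, .X4, .X1, .y9, .y4, .y2, .hi, .p10, .hi, .p, .hi, .p5, .hi, .p10, .hi, .p2,
   .hi, .p5, .xii, .hi, .p8, .xii, .y10, .taui, .xii, .p, .xii, .y3, .y10, .hi, .xii, .y6, .taui, .X0, .p4, .xii, .p7,
   .xii, .y5, .p, .taui, .xii, .y2, .p4, .xii, .y8, .p5, .xii, .y8, .tau, .xii, .hi, .p7],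
  [.Z9, .Z6, .Z5, .Z4, .Z0, .X10, .X9, .X8, .X6, .X5, .X3, .X2, .y10, .y9, .y8, .y5, .y4, .p, .hi, .p6, .hi, .p4, .hi,
   .p6, .hi, .p8, .xii, .hi, .xii, .y8, .p6, .xii, .y4, .y7, .taui, .xii, .y6, .p, .xii, .y10, .p, .xii, .y5, .tau,
   .X0, .p10, .xii, .y6, .p9, .xii, .y3, .p, .taui, .xii, .p4, .xii, .p2, .hi, .p2, .y1, .taui, .xii, .p],
  [.Z9, .Z7, .Z6, .Z5, .Z4, .Z3, .X4, .X3, .X2, .y10, .y9, .y8, .y7, .y6, .y5, .y4, .y3, .y2, .y1, .p6, .hi, .p8, .hi,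
   .p9, .hi, .p3, .hi, .xii, .y2, .p, .xii, .y6, .tau, .y1, .xii, .p10, .xii, .y1, .p10, .xii, .y1, .y3, .tau, .p10,
   .xii, .y10, .p3, .hi, .xii, .y3, .p10, .taui, .xii, .p4, .xii, .y1, .p5, .y7, .xii, .y7, .tau, .xii, .hi, .xii,
   .y6]⟩

theorem h816 : Hd F (g wAd) b816 := hdD (by decide +kernel)
theorem r816_0 : R9 F (g wAd) b816 [] 0 0 := .of (startD 0 1) (by decide +kernel)
theorem r816_1 : R9 F (g wAd) b816 [] 0 1 := .of (startD 0 1) (by decide +kernel)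
theorem r816_2 : R9 F (g wAd) b816 [] 0 2 := .of (startD 0 1) (by decide +kernel)
theorem r816_3 : R9 F (g wAd) b816 [] 1 0 := .of (startD 0 1) (by decide +kernel)
theorem r816_4 : R9 F (g wAd) b816 [] 1 1 := .of (startD 0 1) (by decide +kernel)
theorem r816_5 : R9 F (g wAd) b816 [] 1 2 := .of (startD 0 1) (by decide +kernel)
theorem r816_6 : R9 F (g wAd) b816 [] 2 0 := .of (startD 0 1) (by decide +kernel)
theorem r816_7 : R9 F (g wAd) b816 [] 2 1 := .of (startD 0 1) (by decide +kernel)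
theorem r816_8 : R9 F (g wAd) b816 [] 2 2 := .of (startD 0 1) (by decide +kernel)
theorem g816 : Gd F (g wAd) (1, d816) [] :=
  good9 ok h816 r816_0 r816_1 r816_2 r816_3 r816_4 r816_5 r816_6 r816_7 r816_8

def b817 : Wd := ⟨1, d817,
  [.Z10, .Z7, .Z4, .Z3, .Z1, .X10, .X9, .X7, .X6, .X5, .X3, .X2, .X0, .y10, .y8, .y7, .y5, .y3, .p10, .hi, .p9, .hi,
   .p8, .hi, .p6, .hi, .p8, .hi, .p7, .hi, .p10, .xii, .hi, .p8, .xii, .y4, .p10, .tau, .y1, .xii, .y1, .hi, .xii,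
   .y6, .p10, .xii, .tau, .xii, .p8, .xii, .p3, .y5, .xii, .y7, .tau, .xii, .p8, .xii, .y4, .p2, .xii, .tau, .xii,
   .y2, .p2],
  [.z, .Z10, .Z8, .Z7, .Z6, .Z5, .Z3, .Z2, .X5, .X4, .X0, .y7, .y6, .y5, .y2, .y1, .p3, .hi, .p10, .hi, .p6, .hi, .p7,
   .hi, .p10, .hi, .p10, .xii, .hi, .xii, .y8, .p9, .xii, .y7, .taui, .p9, .xii, .hi, .p8, .xii, .p7, .y4, .y5, .taui,
   .xii, .p7, .xii, .p9, .xii, .y2, .y7, .tau, .xii, .p2, .hi],
  [.Z7, .Z6, .Z5, .Z4, .Z3, .Z0, .X10, .X9, .X8, .X6, .X5, .X3, .X2, .X1, .X0, .y10, .y5, .y4, .y3, .y1, .hi, .p8,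
   .hi, .p, .hi, .p7, .hi, .p3, .hi, .p7, .hi, .p3, .hi, .xii, .p, .xii, .y4, .p, .xii, .y3, .tau, .xii, .p, .xii,
   .y3, .hi, .xii, .y5, .tau, .y1, .xii, .p3, .xii, .y1, .hi, .xii, .y8, .p2, .taui, .xii, .p7, .xii, .y10, .p10, .hi,
   .p3, .tau, .xii, .y2, .hi, .p2]⟩

theorem h817 : Hd F (g wAd) b817 := hdD (by decide +kernel)
theorem r817_0 : R9 F (g wAd) b817 [] 0 0 := .of (startD 0 1) (by decide +kernel)
theorem r817_1 : R9 F (g wAd) b817 [] 0 1 := .of (startD 0 1) (by decide +kernel)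
theorem r817_2 : R9 F (g wAd) b817 [] 0 2 := .of (startD 0 1) (by decide +kernel)
theorem r817_3 : R9 F (g wAd) b817 [] 1 0 := .of (startD 0 1) (by decide +kernel)
theorem r817_4 : R9 F (g wAd) b817 [] 1 1 := .of (startD 0 1) (by decide +kernel)
theorem r817_5 : R9 F (g wAd) b817 [] 1 2 := .of (startD 0 1) (by decide +kernel)
theorem r817_6 : R9 F (g wAd) b817 [] 2 0 := .of (startD 0 1) (by decide +kernel)
theorem r817_7 : R9 F (g wAd) b817 [] 2 1 := .of (startD 0 1) (by decide +kernel)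
theorem r817_8 : R9 F (g wAd) b817 [] 2 2 := .of (startD 0 1) (by decide +kernel)
theorem g817 : Gd F (g wAd) (1, d817) [] :=
  good9 ok h817 r817_0 r817_1 r817_2 r817_3 r817_4 r817_5 r817_6 r817_7 r817_8

def b818 : Wd := ⟨1, d818,
  [.Z9, .Z5, .Z4, .Z3, .Z2, .X9, .X8, .X6, .X2, .X1, .X0, .y8, .y7, .y5, .y3, .y1, .hi, .p8, .hi, .p4, .hi, .p3, .hi,
   .p, .hi, .p8, .hi, .xii, .hi, .xii, .p8, .y2, .xii, .tau, .xii, .p, .xii, .hi, .y8, .xii, .y1, .y4, .tau, .p2,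
   .xii, .p9, .xii, .y1, .hi, .p2, .hi, .tau, .xii, .p7, .xii, .p3, .xii, .y3, .y5, .y7, .tau, .xii, .y7, .p8],
  [.Z10, .Z9, .Z7, .Z6, .Z4, .Z2, .Z1, .Z0, .X8, .X6, .X4, .X3, .X2, .X1, .X0, .y9, .y8, .y5, .y4, .p, .hi, .p5, .hi,
   .p, .hi, .p5, .xii, .p, .xii, .y4, .y6, .taui, .xii, .y1, .p, .xii, .p, .xii, .y3, .taui, .p5, .xii, .p8, .xii,
   .y1, .y7, .p2, .xii, .y6, .tau, .xii, .p3, .xii, .p5, .y6, .hi, .p7, .taui, .xii, .p8],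
  [.z, .Z10, .Z6, .Z5, .Z4, .Z3, .Z2, .Z1, .X10, .X7, .X5, .X3, .X0, .y10, .y9, .y8, .y6, .y4, .y1, .p4, .hi, .p9,
   .hi, .p3, .hi, .p, .hi, .p4, .hi, .p8, .hi, .xii, .y2, .p3, .hi, .xii, .y1, .y3, .taui, .y1, .xii, .p10, .xii, .y4,
   .p10, .xii, .taui, .xii, .p7, .xii, .y2, .y9, .p5, .xii, .y1, .y5, .y9, .tau, .xii, .p4, .xii, .p8, .y8, .xii, .y4,
   .tau, .xii, .p2]⟩

theorem h818 : Hd F (g wAd) b818 := hdD (by decide +kernel)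
theorem r818_0 : R9 F (g wAd) b818 [] 0 0 := .of (startD 0 1) (by decide +kernel)
theorem r818_1 : R9 F (g wAd) b818 [] 0 1 := .of (startD 0 1) (by decide +kernel)
theorem r818_2 : R9 F (g wAd) b818 [] 0 2 := .of (startD 0 1) (by decide +kernel)
theorem r818_3 : R9 F (g wAd) b818 [] 1 0 := .of (startD 0 1) (by decide +kernel)
theorem r818_4 : R9 F (g wAd) b818 [] 1 1 := .of (startD 0 1) (by decide +kernel)
theorem r818_5 : R9 F (g wAd) b818 [] 1 2 := .of (startD 0 1) (by decide +kernel)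
theorem r818_6 : R9 F (g wAd) b818 [] 2 0 := .of (startD 0 1) (by decide +kernel)
theorem r818_7 : R9 F (g wAd) b818 [] 2 1 := .of (startD 0 1) (by decide +kernel)
theorem r818_8 : R9 F (g wAd) b818 [] 2 2 := .of (startD 0 1) (by decide +kernel)
theorem g818 : Gd F (g wAd) (1, d818) [] :=
  good9 ok h818 r818_0 r818_1 r818_2 r818_3 r818_4 r818_5 r818_6 r818_7 r818_8

def b819 : Wd := ⟨1, d819,
  [.Z6, .Z5, .Z4, .Z3, .Z2, .X10, .X9, .X7, .X6, .X5, .X3, .X1, .y9, .y8, .y7, .y6, .y3, .y1, .p8, .hi, .p5, .hi, .p8,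
   .hi, .p, .hi, .p, .hi, .p6, .xii, .p10, .hi, .p6, .hi, .p2, .tau, .y1, .xii, .p10, .xii, .y5, .p10, .xii, .y2,
   .tau, .p7, .xii, .y4, .p5, .xii, .y1, .hi, .taui, .xii, .p5, .xii, .y4, .p8, .xii, .y7, .tau, .xii, .y2, .hi, .p5],
  [.Z10, .Z4, .Z2, .X10, .X9, .X8, .X7, .X6, .X5, .X2, .X0, .y10, .y6, .y5, .y3, .y1, .hi, .p4, .hi, .p3, .hi, .p6,
   .hi, .p5, .hi, .p7, .hi, .p, .hi, .xii, .y2, .p3, .hi, .tau, .y1, .xii, .p10, .xii, .y8, .p10, .xii, .y8, .taui,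
   .p10, .xii, .p2, .xii, .p2, .hi, .p5, .tau, .xii, .p6, .xii, .p6, .y10, .taui, .xii, .y2, .p8],
  [.Z9, .Z8, .Z7, .Z5, .Z3, .Z2, .Z0, .X10, .X9, .X7, .X5, .X0, .y8, .y5, .y2, .p10, .hi, .p10, .hi, .p8, .hi, .p5,
   .hi, .p9, .hi, .xii, .p, .xii, .y4, .y6, .tau, .xii, .p, .xii, .y1, .hi, .xii, .y3, .y10, .tau, .X0, .xii, .p4,
   .xii, .y5, .p4, .y6, .xii, .y5, .tau, .xii, .p4, .xii, .y4, .p10, .hi, .p5, .taui, .xii, .y2, .p10, .hi, .p9]⟩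

theorem h819 : Hd F (g wAd) b819 := hdD (by decide +kernel)
theorem r819_0 : R9 F (g wAd) b819 [] 0 0 := .of (startD 0 1) (by decide +kernel)
theorem r819_1 : R9 F (g wAd) b819 [] 0 1 := .of (startD 0 1) (by decide +kernel)
theorem r819_2 : R9 F (g wAd) b819 [] 0 2 := .of (startD 0 2) (by decide +kernel)
theorem r819_3 : R9 F (g wAd) b819 [] 1 0 := .of (startD 0 1) (by decide +kernel)
theorem r819_4 : R9 F (g wAd) b819 [] 1 1 := .of (startD 0 1) (by decide +kernel)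
theorem r819_5 : R9 F (g wAd) b819 [] 1 2 := .of (startD 0 1) (by decide +kernel)
theorem r819_6 : R9 F (g wAd) b819 [] 2 0 := .of (startD 0 1) (by decide +kernel)
theorem r819_7 : R9 F (g wAd) b819 [] 2 1 := .of (startD 0 1) (by decide +kernel)
theorem r819_8 : R9 F (g wAd) b819 [] 2 2 := .of (startD 0 1) (by decide +kernel)
theorem g819 : Gd F (g wAd) (1, d819) [] :=
  good9 ok h819 r819_0 r819_1 r819_2 r819_3 r819_4 r819_5 r819_6 r819_7 r819_8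

theorem all : AllG F (g wAd) LD81 :=
  .cons g810 (.cons g811 (.cons g812 (.cons g813 (.cons g814 (.cons g815 (.cons g816 (.cons g817 (.cons g818 (.cons g819 (.nil))))))))))

end Cfsg.Agent.BX.No33.Bk.D81
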