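import Cfsg.Agent.BX.No33.Cheap
set_option linter.all false

/-!
# Tests, diagonal case, part 82 (helper5; generated)
-/

set_option autoImplicit false
set_option maxRecDepth 100000
set_option Elab.async false

namespace Cfsg.Agent.BX.No33.Bk.D82

open Cfsg.Agent.H819.U33 Cfsg.Agent.BX.No33.Front

def b820 : Wd := ⟨1, d820,
  [.Z10, .Z8, .Z6, .Z1, .Z0, .X9, .X5, .X3, .X2, .y9, .y8, .y7, .y5, .y4, .y2, .p, .hi, .p6, .hi, .p7, .hi, .p, .hi,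
   .xii, .p10, .xii, .y1, .y7, .tau, .xii, .p, .xii, .p2, .hi, .taui, .p8, .xii, .p4, .xii, .y3, .p3, .y3, .taui,
   .xii, .p7, .xii, .y2, .p, .y7, .taui, .xii, .y2, .hi, .p6],
  [.z, .Z9, .Z8, .Z7, .Z6, .Z4, .Z0, .X10, .X8, .X5, .X4, .X3, .X2, .X1, .X0, .y8, .y6, .y5, .y2, .hi, .p8, .hi, .p9,
   .hi, .p6, .hi, .p, .hi, .p3, .taui, .xii, .y1, .p, .xii, .y10, .p, .xii, .y6, .y10, .taui, .X0, .xii, .p5, .xii,
   .y8, .y9, .p, .xii, .hi, .tau, .xii, .p8, .xii, .p4, .y7, .xii, .y1, .y7, .taui, .xii, .y2, .p10],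
  [.Z9, .Z8, .Z1, .Z0, .X10, .X3, .X1, .y10, .y8, .y6, .y5, .y3, .y1, .p10, .hi, .p2, .hi, .p7, .hi, .p, .hi, .p5,
   .hi, .p3, .hi, .xii, .p, .xii, .y2, .hi, .xii, .y3, .tau, .y1, .xii, .y2, .p2, .hi, .xii, .y2, .taui, .p7, .xii,
   .y2, .p, .xii, .y1, .hi, .p8, .taui, .xii, .p7, .xii, .y10, .p9, .y6, .xii, .y8, .taui, .xii, .p, .xii, .y4]⟩

theorem h820 : Hd F (g wAd) b820 := hdD (by decide +kernel)
theorem r820_0 : R9 F (g wAd) b820 [] 0 0 := .of (startD 0 1) (by decide +kernel)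
theorem r820_1 : R9 F (g wAd) b820 [] 0 1 := .of (startD 0 1) (by decide +kernel)
theorem r820_2 : R9 F (g wAd) b820 [] 0 2 := .of (startD 0 1) (by decide +kernel)
theorem r820_3 : R9 F (g wAd) b820 [] 1 0 := .of (startD 0 1) (by decide +kernel)
theorem r820_4 : R9 F (g wAd) b820 [] 1 1 := .of (startD 0 1) (by decide +kernel)
theorem r820_5 : R9 F (g wAd) b820 [] 1 2 := .of (startD 0 1) (by decide +kernel)
theorem r820_6 : R9 F (g wAd) b820 [] 2 0 := .of (startD 0 1) (by decide +kernel)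
theorem r820_7 : R9 F (g wAd) b820 [] 2 1 := .of (startD 0 1) (by decide +kernel)
theorem r820_8 : R9 F (g wAd) b820 [] 2 2 := .of (startD 0 1) (by decide +kernel)
theorem g820 : Gd F (g wAd) (1, d820) [] :=
  good9 ok h820 r820_0 r820_1 r820_2 r820_3 r820_4 r820_5 r820_6 r820_7 r820_8

def b821 : Wd := ⟨1, d821,
  [.z, .Z8, .Z7, .Z5, .Z0, .X9, .X8, .X7, .X6, .X5, .X1, .X0, .y9, .y5, .y4, .p9, .hi, .p5, .hi, .p, .hi, .p6, .hi,
   .p4, .hi, .p4, .hi, .p10, .hi, .xii, .p, .xii, .y6, .p4, .xii, .y9, .tau, .y1, .xii, .p10, .xii, .y2, .p10, .xii,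
   .y8, .tau, .X0, .xii, .p7, .xii, .p8, .y8, .xii, .y5, .y6, .hi, .taui, .xii, .y2, .p9, .xii, .y9, .p9, .xii, .y10,
   .tau, .xii, .hi, .p3],
  [.Z9, .Z8, .Z4, .X7, .X5, .X4, .y9, .y8, .y3, .y2, .y1, .p10, .hi, .p10, .hi, .p9, .hi, .p7, .hi, .xii, .p10, .hi,
   .p2, .hi, .p10, .tau, .xii, .p, .xii, .y1, .y4, .p2, .hi, .taui, .X0, .y1, .hi, .xii, .p9, .xii, .p9, .y10, .taui,
   .xii, .p5, .hi, .xii, .y3, .p, .tau, .xii, .y2, .hi, .p8],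
  [.z, .Z8, .Z6, .Z5, .Z3, .Z1, .X10, .X8, .X7, .X0, .y9, .y6, .y3, .y2, .y1, .hi, .p7, .hi, .p9, .hi, .p3, .hi, .p9,
   .hi, .p5, .hi, .xii, .p, .xii, .y2, .p4, .taui, .xii, .p, .xii, .y3, .y10, .hi, .xii, .y6, .tau, .p4, .xii, .y1,
   .p5, .xii, .y2, .p10, .hi, .tau, .xii, .p6, .xii, .y4, .y7, .p6, .xii, .y10, .tau, .xii, .y2, .p3]⟩

theorem h821 : Hd F (g wAd) b821 := hdD (by decide +kernel)
theorem r821_0 : R9 F (g wAd) b821 [] 0 0 := .of (startD 0 1) (by decide +kernel)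
theorem r821_1 : R9 F (g wAd) b821 [] 0 1 := .of (startD 0 1) (by decide +kernel)
theorem r821_2 : R9 F (g wAd) b821 [] 0 2 := .of (startD 0 1) (by decide +kernel)
theorem r821_3 : R9 F (g wAd) b821 [] 1 0 := .of (startD 0 1) (by decide +kernel)
theorem r821_4 : R9 F (g wAd) b821 [] 1 1 := .of (startD 0 1) (by decide +kernel)
theorem r821_5 : R9 F (g wAd) b821 [] 1 2 := .of (startD 0 1) (by decide +kernel)
theorem r821_6 : R9 F (g wAd) b821 [] 2 0 := .of (startD 0 1) (by decide +kernel)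
theorem r821_7 : R9 F (g wAd) b821 [] 2 1 := .of (startD 0 2) (by decide +kernel)
theorem r821_8 : R9 F (g wAd) b821 [] 2 2 := .of (startD 0 1) (by decide +kernel)
theorem g821 : Gd F (g wAd) (1, d821) [] :=
  good9 ok h821 r821_0 r821_1 r821_2 r821_3 r821_4 r821_5 r821_6 r821_7 r821_8

def b822 : Wd := ⟨1, d822,
  [.z, .Z9, .Z8, .Z6, .Z5, .Z3, .Z2, .Z0, .X10, .X9, .X8, .X6, .X5, .X2, .X0, .y10, .y9, .y8, .y7, .y3, .y1, .p5, .hi,
   .p10, .hi, .p2, .hi, .p6, .xii, .hi, .xii, .y6, .p3, .hi, .taui, .xii, .p, .xii, .y4, .y10, .hi, .xii, .y7, .tau,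
   .y1, .xii, .y2, .hi, .xii, .y9, .p10, .xii, .taui, .y1, .p7, .xii, .p7, .xii, .y7, .tau, .xii, .p9, .xii, .y1, .y5,
   .p8, .xii, .y2, .tau, .xii, .p10, .xii, .y4],
  [.Z10, .Z9, .Z8, .Z6, .Z5, .Z2, .X9, .X6, .X5, .X2, .X0, .y10, .y9, .y8, .y7, .y3, .y1, .p9, .hi, .p4, .hi, .p5,
   .hi, .p5, .hi, .p, .hi, .p7, .xii, .hi, .xii, .y6, .tau, .xii, .y1, .p, .xii, .y4, .y10, .p, .xii, .y7, .taui, .X0,
   .p8, .xii, .hi, .p10, .hi, .p2, .tau, .xii, .p5, .xii, .p7, .y8],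
  [.z, .Z10, .Z9, .Z8, .Z7, .Z5, .Z4, .Z0, .X10, .X9, .X6, .X5, .X3, .X2, .y9, .y6, .y5, .hi, .p10, .hi, .p8, .hi, .p,
   .hi, .p10, .xii, .p10, .xii, .y1, .p8, .xii, .y8, .y9, .taui, .y1, .xii, .p10, .xii, .y8, .p10, .xii, .y8, .tau,
   .xii, .y1, .p, .xii, .p, .xii, .y3, .y4, .tau, .X0, .p4, .xii, .p8, .xii, .y2, .tau, .xii, .y2, .p9, .xii, .y5,
   .p5, .xii, .y6, .tau, .xii, .y2, .p3, .xii, .y8]⟩

theorem h822 : Hd F (g wAd) b822 := hdD (by decide +kernel)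
theorem r822_0 : R9 F (g wAd) b822 [] 0 0 := .of (startD 0 1) (by decide +kernel)
theorem r822_1 : R9 F (g wAd) b822 [] 0 1 := .of (startD 0 1) (by decide +kernel)
theorem r822_2 : R9 F (g wAd) b822 [] 0 2 := .of (startD 0 1) (by decide +kernel)
theorem r822_3 : R9 F (g wAd) b822 [] 1 0 := .of (startD 0 1) (by decide +kernel)
theorem r822_4 : R9 F (g wAd) b822 [] 1 1 := .of (startD 0 1) (by decide +kernel)
theorem r822_5 : R9 F (g wAd) b822 [] 1 2 := .of (startD 0 2) (by decide +kernel)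
theorem r822_6 : R9 F (g wAd) b822 [] 2 0 := .of (startD 0 1) (by decide +kernel)
theorem r822_7 : R9 F (g wAd) b822 [] 2 1 := .of (startD 0 1) (by decide +kernel)
theorem r822_8 : R9 F (g wAd) b822 [] 2 2 := .of (startD 0 1) (by decide +kernel)
theorem g822 : Gd F (g wAd) (1, d822) [] :=
  good9 ok h822 r822_0 r822_1 r822_2 r822_3 r822_4 r822_5 r822_6 r822_7 r822_8

def b823 : Wd := ⟨1, d823,
  [.Z10, .Z8, .Z3, .Z1, .Z0, .X7, .X4, .X3, .X2, .X1, .y10, .y8, .y4, .y3, .y1, .p9, .hi, .p10, .hi, .p8, .hi, .p3,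
   .hi, .p6, .hi, .p, .xii, .hi, .p8, .xii, .y2, .taui, .xii, .y6, .p, .xii, .y2, .p, .xii, .y7, .y10, .tau, .X0, .p7,
   .xii, .p9, .xii, .y2, .p4, .y9, .taui, .xii, .p7, .xii, .y1, .y5, .p7, .taui, .xii, .p2],
  [.z, .Z10, .Z7, .Z6, .Z5, .Z4, .Z3, .X10, .X9, .X8, .X7, .X6, .X4, .X2, .X0, .y10, .y9, .y8, .y4, .y1, .p5, .hi,
   .p8, .hi, .p5, .hi, .p9, .hi, .xii, .y2, .p10, .xii, .taui, .xii, .p, .xii, .hi, .y8, .xii, .y3, .taui, .p10, .xii,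
   .hi, .p6, .xii, .p5, .y8, .y9, .tau, .xii, .p7, .xii, .y5, .p4, .xii, .y4, .tau, .xii, .p5, .xii, .y2],
  [.z, .Z10, .Z7, .Z3, .Z1, .X10, .X7, .X6, .X4, .X1, .y9, .y5, .y4, .y3, .y2, .p7, .hi, .p8, .hi, .p4, .hi, .p7, .hi,
   .p2, .xii, .y2, .p10, .xii, .y9, .p5, .xii, .y9, .taui, .xii, .y6, .p, .xii, .y10, .p, .xii, .y1, .y10, .taui, .p4,
   .xii, .p8, .xii, .y1, .y2, .p2, .taui, .xii, .y2, .p6, .xii, .p6, .taui, .xii, .y2, .p2, .hi]⟩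

theorem h823 : Hd F (g wAd) b823 := hdD (by decide +kernel)
theorem r823_0 : R9 F (g wAd) b823 [] 0 0 := .of (startD 0 1) (by decide +kernel)
theorem r823_1 : R9 F (g wAd) b823 [] 0 1 := .of (startD 0 1) (by decide +kernel)
theorem r823_2 : R9 F (g wAd) b823 [] 0 2 := .of (startD 0 1) (by decide +kernel)
theorem r823_3 : R9 F (g wAd) b823 [] 1 0 := .of (startD 0 1) (by decide +kernel)
theorem r823_4 : R9 F (g wAd) b823 [] 1 1 := .of (startD 0 1) (by decide +kernel)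
theorem r823_5 : R9 F (g wAd) b823 [] 1 2 := .of (startD 0 1) (by decide +kernel)
theorem r823_6 : R9 F (g wAd) b823 [] 2 0 := .of (startD 0 1) (by decide +kernel)
theorem r823_7 : R9 F (g wAd) b823 [] 2 1 := .of (startD 0 1) (by decide +kernel)
theorem r823_8 : R9 F (g wAd) b823 [] 2 2 := .of (startD 0 1) (by decide +kernel)
theorem g823 : Gd F (g wAd) (1, d823) [] :=
  good9 ok h823 r823_0 r823_1 r823_2 r823_3 r823_4 r823_5 r823_6 r823_7 r823_8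

def b824 : Wd := ⟨1, d824,
  [.z, .Z10, .Z8, .Z7, .Z4, .Z3, .Z2, .Z1, .Z0, .X10, .X9, .X8, .X7, .X6, .X5, .X4, .X0, .y10, .y4, .y3, .p4, .hi,
   .p8, .hi, .p3, .hi, .p9, .hi, .p6, .xii, .p3, .hi, .xii, .y5, .p10, .taui, .y1, .xii, .y2, .hi, .xii, .y9, .p10,
   .xii, .y4, .taui, .xii, .p, .xii, .y1, .hi, .xii, .y4, .y5, .taui, .X0, .y1, .p8, .xii, .p, .xii, .y4, .taui, .xii,
   .hi, .p6, .xii, .y7, .p2, .tau, .xii, .hi, .p10, .hi],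
  [.z, .Z10, .Z9, .Z6, .Z5, .Z2, .Z0, .X9, .X5, .X4, .X1, .X0, .y8, .y4, .y3, .y2, .y1, .hi, .p10, .hi, .p7, .hi, .p3,
   .hi, .p4, .hi, .p10, .xii, .hi, .xii, .y8, .p9, .xii, .y7, .taui, .xii, .y2, .p, .xii, .y4, .hi, .xii, .y4, .y5,
   .tau, .X0, .xii, .hi, .xii, .p2, .y6, .xii, .y1, .hi, .taui, .xii, .p3, .xii, .hi, .p8],
  [.z, .Z9, .Z6, .Z4, .Z3, .Z0, .X10, .X7, .X5, .X4, .X3, .X2, .y10, .y7, .y5, .y4, .y3, .p3, .hi, .p10, .hi, .p3,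
   .hi, .p10, .hi, .xii, .y2, .hi, .p8, .xii, .y7, .p2, .tau, .xii, .y6, .p, .xii, .y4, .p, .xii, .y1, .tau, .X0, .p5,
   .xii, .y3, .p2, .hi, .xii, .y5, .p5, .hi, .taui, .xii, .p8, .xii, .y2, .p2, .y3, .xii, .y8, .tau, .xii, .p6, .xii]⟩

theorem h824 : Hd F (g wAd) b824 := hdD (by decide +kernel)
theorem r824_0 : R9 F (g wAd) b824 [] 0 0 := .of (startD 0 1) (by decide +kernel)
theorem r824_1 : R9 F (g wAd) b824 [] 0 1 := .of (startD 0 1) (by decide +kernel)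
theorem r824_2 : R9 F (g wAd) b824 [] 0 2 := .of (startD 0 1) (by decide +kernel)
theorem r824_3 : R9 F (g wAd) b824 [] 1 0 := .of (startD 0 1) (by decide +kernel)
theorem r824_4 : R9 F (g wAd) b824 [] 1 1 := .of (startD 0 1) (by decide +kernel)
theorem r824_5 : R9 F (g wAd) b824 [] 1 2 := .of (startD 0 1) (by decide +kernel)
theorem r824_6 : R9 F (g wAd) b824 [] 2 0 := .of (startD 0 1) (by decide +kernel)
theorem r824_7 : R9 F (g wAd) b824 [] 2 1 := .of (startD 0 2) (by decide +kernel)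
theorem r824_8 : R9 F (g wAd) b824 [] 2 2 := .of (startD 0 1) (by decide +kernel)
theorem g824 : Gd F (g wAd) (1, d824) [] :=
  good9 ok h824 r824_0 r824_1 r824_2 r824_3 r824_4 r824_5 r824_6 r824_7 r824_8

def b825 : Wd := ⟨1, d825,
  [.Z8, .Z6, .Z5, .Z3, .Z2, .Z0, .X6, .X5, .X3, .X0, .y9, .y7, .y3, .y1, .p5, .hi, .p7, .hi, .p7, .hi, .p6, .hi, .p10,
   .hi, .p7, .xii, .p3, .hi, .xii, .y3, .y9, .p6, .taui, .y1, .xii, .y2, .hi, .xii, .p10, .xii, .y1, .y6, .tau, .X0,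
   .xii, .p6, .xii, .y7, .p6, .y7, .xii, .y8, .hi, .taui, .xii, .p4, .xii, .y6, .y10, .hi, .tau, .xii, .p3, .hi, .p8],
  [.z, .Z10, .Z7, .Z6, .Z3, .Z0, .X8, .X7, .X4, .X3, .y8, .y5, .y2, .y1, .hi, .p9, .hi, .p3, .hi, .p3, .hi, .p, .hi,
   .p6, .hi, .p9, .hi, .xii, .p10, .xii, .y7, .p3, .hi, .p5, .tau, .X0, .xii, .hi, .xii, .y1, .p9, .xii, .tau, .xii,
   .hi, .p6, .xii, .p2, .y3, .y7, .taui, .xii, .y2, .hi, .p10],
  [.z, .Z10, .Z9, .Z7, .Z6, .Z5, .Z4, .Z3, .Z2, .X10, .X9, .X7, .X5, .X4, .X3, .X1, .y8, .y7, .y4, .y3, .y2, .p7, .hi,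
   .p9, .hi, .p6, .hi, .p6, .hi, .p5, .hi, .p2, .xii, .p, .xii, .hi, .p10, .y8, .taui, .y1, .xii, .y2, .hi, .xii, .y7,
   .p10, .xii, .tau, .xii, .p7, .xii, .y6, .p9, .y9, .xii, .y1, .p2, .tau, .xii, .p9, .xii, .y1, .y2, .p3, .hi]⟩

theorem h825 : Hd F (g wAd) b825 := hdD (by decide +kernel)
theorem r825_0 : R9 F (g wAd) b825 [] 0 0 := .of (startD 0 1) (by decide +kernel)
theorem r825_1 : R9 F (g wAd) b825 [] 0 1 := .of (startD 0 1) (by decide +kernel)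
theorem r825_2 : R9 F (g wAd) b825 [] 0 2 := .of (startD 0 2) (by decide +kernel)
theorem r825_3 : R9 F (g wAd) b825 [] 1 0 := .of (startD 0 1) (by decide +kernel)
theorem r825_4 : R9 F (g wAd) b825 [] 1 1 := .of (startD 0 1) (by decide +kernel)
theorem r825_5 : R9 F (g wAd) b825 [] 1 2 := .of (startD 0 1) (by decide +kernel)
theorem r825_6 : R9 F (g wAd) b825 [] 2 0 := .of (startD 0 1) (by decide +kernel)
theorem r825_7 : R9 F (g wAd) b825 [] 2 1 := .of (startD 0 1) (by decide +kernel)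
theorem r825_8 : R9 F (g wAd) b825 [] 2 2 := .of (startD 0 1) (by decide +kernel)
theorem g825 : Gd F (g wAd) (1, d825) [] :=
  good9 ok h825 r825_0 r825_1 r825_2 r825_3 r825_4 r825_5 r825_6 r825_7 r825_8

def b826 : Wd := ⟨1, d826,
  [.z, .Z7, .Z6, .Z5, .Z0, .X6, .X5, .X3, .y10, .y5, .y3, .y1, .p8, .hi, .p9, .hi, .p5, .hi, .p, .hi, .p8, .hi, .p7,
   .xii, .y2, .p3, .hi, .xii, .y2, .p10, .tau, .xii, .y6, .p, .xii, .p, .xii, .y1, .y2, .y4, .taui, .X0, .y1, .xii,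
   .p9, .xii, .y8, .p8, .y4, .xii, .y3, .y10, .taui, .xii, .p4, .xii, .y6, .p8, .xii, .y2, .taui, .xii, .p4, .xii,
   .y8],
  [.Z9, .Z5, .Z3, .X10, .X8, .X6, .X3, .y9, .y5, .y4, .p2, .hi, .p3, .hi, .p7, .hi, .p10, .hi, .p3, .xii, .p, .xii,
   .p8, .y5, .xii, .y1, .taui, .xii, .p, .xii, .y1, .y10, .hi, .xii, .y1, .tau, .y1, .p4, .xii, .y1, .p7, .xii, .y1,
   .p7, .taui, .xii, .p4, .xii, .p2, .hi, .p2, .y9, .taui, .xii, .p8],
  [.z, .Z7, .Z5, .Z0, .X10, .X9, .X4, .X1, .X0, .y9, .y8, .y7, .y3, .y2, .p10, .hi, .p8, .hi, .p7, .hi, .p8, .hi, .p4,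
   .xii, .p10, .xii, .y4, .tau, .xii, .y2, .p, .xii, .y3, .hi, .xii, .y5, .y10, .taui, .X0, .xii, .p2, .xii, .y9, .p7,
   .xii, .y2, .p9, .tau, .xii, .p8, .xii, .y9, .p4, .xii, .y1, .y4, .tau, .xii, .y7, .p7]⟩

theorem h826 : Hd F (g wAd) b826 := hdD (by decide +kernel)
theorem r826_0 : R9 F (g wAd) b826 [] 0 0 := .of (startD 0 1) (by decide +kernel)
theorem r826_1 : R9 F (g wAd) b826 [] 0 1 := .of (startD 0 1) (by decide +kernel)
theorem r826_2 : R9 F (g wAd) b826 [] 0 2 := .of (startD 0 1) (by decide +kernel)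
theorem r826_3 : R9 F (g wAd) b826 [] 1 0 := .of (startD 0 1) (by decide +kernel)
theorem r826_4 : R9 F (g wAd) b826 [] 1 1 := .of (startD 0 1) (by decide +kernel)
theorem r826_5 : R9 F (g wAd) b826 [] 1 2 := .of (startD 0 1) (by decide +kernel)
theorem r826_6 : R9 F (g wAd) b826 [] 2 0 := .of (startD 0 1) (by decide +kernel)
theorem r826_7 : R9 F (g wAd) b826 [] 2 1 := .of (startD 0 1) (by decide +kernel)
theorem r826_8 : R9 F (g wAd) b826 [] 2 2 := .of (startD 0 1) (by decide +kernel)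
theorem g826 : Gd F (g wAd) (1, d826) [] :=
  good9 ok h826 r826_0 r826_1 r826_2 r826_3 r826_4 r826_5 r826_6 r826_7 r826_8

def b827 : Wd := ⟨1, d827,
  [.Z10, .Z9, .Z8, .Z7, .Z3, .Z1, .X8, .X5, .X4, .X1, .X0, .y10, .y9, .y7, .y5, .y4, .y3, .y1, .hi, .p9, .hi, .p9,
   .hi, .p8, .hi, .p4, .hi, .xii, .hi, .xii, .y4, .p9, .xii, .y1, .y9, .taui, .y1, .xii, .p10, .xii, .y8, .p10, .xii,
   .y9, .taui, .p7, .xii, .p5, .xii, .y1, .y5, .hi, .p6, .tau, .xii, .p5, .xii, .y2, .p2, .xii, .y7, .y8, .taui, .xii,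
   .p4, .xii, .y4, .y10],
  [.z, .Z8, .Z4, .Z1, .X7, .X3, .y9, .y8, .y7, .y6, .y4, .y3, .y2, .y1, .p4, .hi, .p9, .hi, .p9, .hi, .p8, .hi, .p7,
   .hi, .p4, .hi, .taui, .xii, .p, .xii, .y2, .y10, .hi, .xii, .y7, .tau, .X0, .y1, .p5, .xii, .p7, .xii, .y2, .y9,
   .p7, .tau, .xii, .p5, .xii, .y7, .hi, .p5, .taui, .xii, .hi, .p10],
  [.Z10, .Z9, .Z8, .Z7, .Z5, .Z4, .Z3, .Z2, .Z1, .X9, .X8, .X7, .X1, .X0, .y9, .y1, .p2, .hi, .p10, .hi, .p3, .hi,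
   .p4, .hi, .p5, .hi, .xii, .p, .xii, .y6, .p4, .taui, .xii, .y2, .p, .xii, .y3, .hi, .xii, .y5, .y10, .tau, .xii,
   .p, .xii, .y1, .y6, .hi, .xii, .y7, .y10, .tau, .p10, .xii, .p6, .xii, .y7, .tau, .xii, .p7, .xii, .y2, .p8, .y4,
   .xii, .tau, .xii, .p9]⟩

theorem h827 : Hd F (g wAd) b827 := hdD (by decide +kernel)
theorem r827_0 : R9 F (g wAd) b827 [] 0 0 := .of (startD 0 1) (by decide +kernel)
theorem r827_1 : R9 F (g wAd) b827 [] 0 1 := .of (startD 0 1) (by decide +kernel)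
theorem r827_2 : R9 F (g wAd) b827 [] 0 2 := .of (startD 0 1) (by decide +kernel)
theorem r827_3 : R9 F (g wAd) b827 [] 1 0 := .of (startD 0 1) (by decide +kernel)
theorem r827_4 : R9 F (g wAd) b827 [] 1 1 := .of (startD 0 1) (by decide +kernel)
theorem r827_5 : R9 F (g wAd) b827 [] 1 2 := .of (startD 0 1) (by decide +kernel)
theorem r827_6 : R9 F (g wAd) b827 [] 2 0 := .of (startD 0 1) (by decide +kernel)
theorem r827_7 : R9 F (g wAd) b827 [] 2 1 := .of (startD 0 1) (by decide +kernel)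
theorem r827_8 : R9 F (g wAd) b827 [] 2 2 := .of (startD 0 2) (by decide +kernel)
theorem g827 : Gd F (g wAd) (1, d827) [] :=
  good9 ok h827 r827_0 r827_1 r827_2 r827_3 r827_4 r827_5 r827_6 r827_7 r827_8

def b828 : Wd := ⟨1, d828,
  [.z, .Z10, .Z8, .Z6, .Z5, .Z3, .Z1, .Z0, .X8, .X7, .X6, .X4, .y10, .y9, .y8, .y7, .y6, .y4, .y3, .y2, .p9, .hi, .p7,
   .hi, .p, .hi, .p10, .xii, .p, .xii, .y3, .p3, .hi, .tau, .xii, .y1, .p, .xii, .p, .xii, .y7, .tau, .hi, .xii, .p5,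
   .xii, .hi, .p5, .y9, .hi, .p9, .tau, .xii, .p4, .hi, .xii, .y1, .hi, .p, .taui, .xii, .y2, .p4, .hi, .p2],
  [.Z10, .Z9, .Z7, .Z6, .Z3, .Z2, .X7, .X4, .X2, .y10, .y8, .y6, .y2, .y1, .p4, .hi, .p9, .hi, .p, .hi, .p3, .hi, .p3,
   .hi, .p7, .hi, .xii, .y2, .p10, .xii, .y9, .p5, .tau, .xii, .y6, .p, .xii, .p, .xii, .y4, .y5, .taui, .p7, .xii,
   .p4, .xii, .y9, .y10, .p7, .tau, .xii, .p7, .xii, .p5, .xii, .y8, .taui],
  [.z, .Z9, .Z7, .Z6, .Z4, .Z2, .X9, .X8, .X6, .X5, .X1, .y8, .y1, .p4, .hi, .p6, .hi, .p10, .hi, .p6, .hi, .p7, .hi,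
   .p10, .xii, .p, .xii, .p, .xii, .y6, .taui, .xii, .y6, .p, .xii, .y10, .p, .xii, .y1, .y10, .taui, .xii, .y2, .p9,
   .xii, .p5, .y4, .hi, .xii, .y8, .tau, .xii, .p7, .xii, .y5, .p, .hi, .p10, .taui, .xii, .p2]⟩

theorem h828 : Hd F (g wAd) b828 := hdD (by decide +kernel)
theorem r828_0 : R9 F (g wAd) b828 [] 0 0 := .of (startD 0 1) (by decide +kernel)
theorem r828_1 : R9 F (g wAd) b828 [] 0 1 := .of (startD 0 1) (by decide +kernel)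
theorem r828_2 : R9 F (g wAd) b828 [] 0 2 := .of (startD 0 1) (by decide +kernel)
theorem r828_3 : R9 F (g wAd) b828 [] 1 0 := .of (startD 0 1) (by decide +kernel)
theorem r828_4 : R9 F (g wAd) b828 [] 1 1 := .of (startD 0 1) (by decide +kernel)
theorem r828_5 : R9 F (g wAd) b828 [] 1 2 := .of (startD 0 1) (by decide +kernel)
theorem r828_6 : R9 F (g wAd) b828 [] 2 0 := .of (startD 0 1) (by decide +kernel)
theorem r828_7 : R9 F (g wAd) b828 [] 2 1 := .of (startD 0 1) (by decide +kernel)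
theorem r828_8 : R9 F (g wAd) b828 [] 2 2 := .of (startD 0 1) (by decide +kernel)
theorem g828 : Gd F (g wAd) (1, d828) [] :=
  good9 ok h828 r828_0 r828_1 r828_2 r828_3 r828_4 r828_5 r828_6 r828_7 r828_8

def b829 : Wd := ⟨1, d829,
  [.Z10, .Z9, .Z7, .Z3, .Z2, .Z0, .X10, .X9, .X8, .X6, .X4, .X3, .X2, .X0, .y10, .y9, .y7, .y6, .y5, .y3, .y2, .p3,
   .hi, .p9, .hi, .p10, .hi, .p6, .hi, .p3, .hi, .xii, .y2, .taui, .xii, .p, .xii, .y2, .hi, .xii, .y7, .y10, .tau,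
   .X0, .p8, .xii, .hi, .p8, .xii, .y6, .p9, .tau, .xii, .p2, .xii, .y4, .p2, .xii, .y10, .taui, .xii, .p6],
  [.z, .Z8, .Z6, .Z5, .Z4, .Z3, .Z0, .X10, .X9, .X7, .X4, .X0, .y6, .y5, .y2, .p10, .hi, .p8, .hi, .p5, .hi, .p6, .hi,
   .p4, .hi, .p6, .hi, .p2, .xii, .p, .xii, .hi, .p10, .y8, .taui, .p10, .xii, .y5, .p10, .xii, .y8, .p5, .taui, .xii,
   .p4, .xii, .hi, .p8, .hi, .tau, .xii, .y2, .p, .hi, .p],
  [.Z10, .Z8, .Z7, .Z5, .Z3, .Z2, .Z1, .Z0, .X10, .X9, .X7, .X6, .X5, .X4, .X2, .y9, .y8, .y7, .y4, .y3, .p5, .hi,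
   .p7, .hi, .p8, .hi, .p10, .hi, .p10, .xii, .p, .xii, .y2, .hi, .xii, .y1, .y2, .taui, .xii, .y6, .p, .xii, .p,
   .xii, .y1, .y2, .y4, .taui, .xii, .p, .xii, .y4, .hi, .xii, .y4, .y5, .y9, .tau, .X0, .p10, .xii, .y7, .p2, .xii,
   .y10, .taui, .xii, .p4, .xii, .p5, .xii, .y1, .y7, .y9, .tau, .xii, .p, .xii]⟩

theorem h829 : Hd F (g wAd) b829 := hdD (by decide +kernel)
theorem r829_0 : R9 F (g wAd) b829 [] 0 0 := .of (startD 0 1) (by decide +kernel)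
theorem r829_1 : R9 F (g wAd) b829 [] 0 1 := .of (startD 0 1) (by decide +kernel)
theorem r829_2 : R9 F (g wAd) b829 [] 0 2 := .of (startD 0 1) (by decide +kernel)
theorem r829_3 : R9 F (g wAd) b829 [] 1 0 := .of (startD 0 1) (by decide +kernel)
theorem r829_4 : R9 F (g wAd) b829 [] 1 1 := .of (startD 0 1) (by decide +kernel)
theorem r829_5 : R9 F (g wAd) b829 [] 1 2 := .of (startD 0 1) (by decide +kernel)
theorem r829_6 : R9 F (g wAd) b829 [] 2 0 := .of (startD 0 1) (by decide +kernel)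
theorem r829_7 : R9 F (g wAd) b829 [] 2 1 := .of (startD 0 1) (by decide +kernel)
theorem r829_8 : R9 F (g wAd) b829 [] 2 2 := .of (startD 0 1) (by decide +kernel)
theorem g829 : Gd F (g wAd) (1, d829) [] :=
  good9 ok h829 r829_0 r829_1 r829_2 r829_3 r829_4 r829_5 r829_6 r829_7 r829_8

theorem all : AllG F (g wAd) LD82 :=
  .cons g820 (.cons g821 (.cons g822 (.cons g823 (.cons g824 (.cons g825 (.cons g826 (.cons g827 (.cons g828 (.cons g829 (.nil))))))))))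

end Cfsg.Agent.BX.No33.Bk.D82
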