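import Cfsg.Agent.BX.No33.Cheap
set_option linter.all false

/-!
# Tests, diagonal case, part 83 (helper5; generated)
-/

set_option autoImplicit false
set_option maxRecDepth 100000
set_option Elab.async false

namespace Cfsg.Agent.BX.No33.Bk.D83

open Cfsg.Agent.H819.U33 Cfsg.Agent.BX.No33.Front

def b830 : Wd := ⟨1, d830,
  [.Z10, .Z7, .Z4, .Z0, .X9, .X8, .X7, .X6, .X4, .X1, .y8, .y7, .y4, .hi, .p10, .hi, .p9, .hi, .p8, .hi, .p3, .hi,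
   .p7, .xii, .p, .xii, .y3, .tau, .y1, .xii, .p10, .xii, .y1, .y9, .p10, .xii, .y2, .taui, .xii, .p, .xii, .y2, .y10,
   .hi, .xii, .y4, .y7, .taui, .X0, .y1, .p7, .xii, .hi, .xii, .tau, .xii, .p9, .xii, .p3, .y9, .xii, .y9, .taui,
   .xii, .p, .xii, .y4],
  [.z, .Z10, .Z9, .Z7, .Z6, .Z2, .Z0, .X10, .X8, .X7, .X6, .X5, .X4, .X3, .X1, .y5, .y4, .y1, .hi, .p, .hi, .p6, .hi,
   .p4, .hi, .p6, .hi, .xii, .y2, .hi, .xii, .p9, .xii, .y1, .y9, .tau, .y1, .xii, .y2, .hi, .xii, .y7, .p10, .xii,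
   .y10, .taui, .X0, .p6, .xii, .p6, .xii, .hi, .p2, .y4, .tau, .xii, .p3, .hi, .xii, .y5, .p3],
  [.z, .Z8, .Z7, .Z6, .Z2, .Z0, .X9, .X3, .y10, .y5, .y3, .y2, .p6, .hi, .p3, .hi, .p, .hi, .p7, .hi, .p8, .hi, .p,
   .hi, .xii, .p10, .xii, .y9, .p3, .hi, .tau, .y1, .xii, .p10, .xii, .y1, .p10, .xii, .y3, .y5, .tau, .y1, .xii, .p5,
   .xii, .p9, .xii, .y3, .y5, .tau, .xii, .hi, .p6, .xii, .hi, .y10, .p7, .tau, .xii, .y2, .p2]⟩

theorem h830 : Hd F (g wAd) b830 := hdD (by decide +kernel)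
theorem r830_0 : R9 F (g wAd) b830 [] 0 0 := .of (startD 0 1) (by decide +kernel)
theorem r830_1 : R9 F (g wAd) b830 [] 0 1 := .of (startD 0 1) (by decide +kernel)
theorem r830_2 : R9 F (g wAd) b830 [] 0 2 := .of (startD 0 1) (by decide +kernel)
theorem r830_3 : R9 F (g wAd) b830 [] 1 0 := .of (startD 0 1) (by decide +kernel)
theorem r830_4 : R9 F (g wAd) b830 [] 1 1 := .of (startD 0 1) (by decide +kernel)
theorem r830_5 : R9 F (g wAd) b830 [] 1 2 := .of (startD 0 1) (by decide +kernel)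
theorem r830_6 : R9 F (g wAd) b830 [] 2 0 := .of (startD 0 1) (by decide +kernel)
theorem r830_7 : R9 F (g wAd) b830 [] 2 1 := .of (startD 0 1) (by decide +kernel)
theorem r830_8 : R9 F (g wAd) b830 [] 2 2 := .of (startD 0 2) (by decide +kernel)
theorem g830 : Gd F (g wAd) (1, d830) [] :=
  good9 ok h830 r830_0 r830_1 r830_2 r830_3 r830_4 r830_5 r830_6 r830_7 r830_8

def b831 : Wd := ⟨1, d831,
  [.z, .Z7, .Z4, .Z3, .Z2, .Z1, .X10, .X9, .X8, .X7, .X2, .X0, .y7, .y5, .y4, .y3, .y1, .p10, .hi, .p8, .hi, .p4, .hi,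
   .p6, .hi, .p9, .hi, .p4, .xii, .p3, .hi, .xii, .y1, .y3, .tau, .xii, .p, .xii, .y3, .y10, .hi, .xii, .y5, .y10,
   .tau, .xii, .y6, .p, .xii, .p, .xii, .y2, .y5, .tau, .p10, .xii, .y6, .p5, .xii, .tau, .xii, .p2, .xii, .y7, .p3,
   .hi, .p, .taui, .xii, .hi, .p8, .hi],
  [.Z8, .Z5, .Z1, .X8, .X6, .X5, .X3, .y10, .y9, .y7, .y5, .y4, .y2, .p8, .hi, .p6, .hi, .p9, .hi, .p8, .hi, .p, .hi,
   .p7, .hi, .xii, .y2, .p, .xii, .y3, .hi, .xii, .y5, .taui, .y1, .xii, .p10, .xii, .y4, .p10, .xii, .y4, .tau, .X0,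
   .xii, .p7, .xii, .y5, .p5, .xii, .y2, .y5, .tau, .xii, .hi, .p8, .hi, .p5],
  [.z, .Z9, .Z8, .Z6, .Z5, .Z2, .X10, .X6, .X5, .X3, .y10, .y5, .y3, .y2, .y1, .p5, .hi, .p8, .hi, .p5, .hi, .p7, .hi,
   .p2, .hi, .xii, .p10, .xii, .y4, .p10, .xii, .y9, .y10, .taui, .xii, .p, .xii, .y4, .hi, .xii, .y2, .y7, .taui,
   .y1, .xii, .p4, .xii, .p, .xii, .y7, .y10, .tau, .xii, .p9, .xii, .y1, .p9, .xii, .tau, .xii, .y4, .p5]⟩

theorem h831 : Hd F (g wAd) b831 := hdD (by decide +kernel)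
theorem r831_0 : R9 F (g wAd) b831 [] 0 0 := .of (startD 0 1) (by decide +kernel)
theorem r831_1 : R9 F (g wAd) b831 [] 0 1 := .of (startD 0 1) (by decide +kernel)
theorem r831_2 : R9 F (g wAd) b831 [] 0 2 := .of (startD 0 1) (by decide +kernel)
theorem r831_3 : R9 F (g wAd) b831 [] 1 0 := .of (startD 0 1) (by decide +kernel)
theorem r831_4 : R9 F (g wAd) b831 [] 1 1 := .of (startD 0 1) (by decide +kernel)
theorem r831_5 : R9 F (g wAd) b831 [] 1 2 := .of (startD 0 2) (by decide +kernel)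
theorem r831_6 : R9 F (g wAd) b831 [] 2 0 := .of (startD 0 1) (by decide +kernel)
theorem r831_7 : R9 F (g wAd) b831 [] 2 1 := .of (startD 0 1) (by decide +kernel)
theorem r831_8 : R9 F (g wAd) b831 [] 2 2 := .of (startD 0 1) (by decide +kernel)
theorem g831 : Gd F (g wAd) (1, d831) [] :=
  good9 ok h831 r831_0 r831_1 r831_2 r831_3 r831_4 r831_5 r831_6 r831_7 r831_8

def b832 : Wd := ⟨1, d832,
  [.Z9, .Z8, .Z7, .Z6, .Z3, .Z2, .Z0, .X10, .X8, .X5, .X4, .X1, .y10, .y9, .y7, .y4, .y2, .y1, .p9, .hi, .p8, .hi,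
   .p3, .hi, .p5, .hi, .p, .hi, .p6, .hi, .p7, .hi, .xii, .p, .xii, .y1, .y6, .hi, .xii, .y4, .y5, .taui, .xii, .p,
   .xii, .hi, .y8, .xii, .y1, .y10, .taui, .xii, .p2, .xii, .y9, .hi, .xii, .p3, .tau, .xii, .y2, .p5, .xii, .y7, .p9,
   .xii, .tau, .xii, .y6, .p6],
  [.Z10, .Z9, .Z8, .Z6, .Z5, .X9, .X8, .X7, .X5, .X3, .X2, .y10, .y8, .y6, .y4, .y1, .p9, .hi, .p3, .hi, .p6, .hi,
   .p7, .hi, .xii, .y2, .tau, .y1, .xii, .y2, .hi, .xii, .p10, .xii, .y2, .y10, .taui, .xii, .p2, .xii, .p9, .y7,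
   .xii, .y6, .tau, .xii, .p4, .xii, .y2, .p5, .xii, .y3, .taui, .xii, .p],
  [.Z9, .Z7, .Z6, .Z5, .Z2, .X9, .X8, .X0, .y8, .y7, .y6, .y1, .hi, .p8, .hi, .p10, .hi, .p5, .hi, .p6, .hi, .p8, .hi,
   .p5, .xii, .p, .xii, .p4, .xii, .y4, .y8, .tau, .xii, .y6, .p, .xii, .p, .xii, .y5, .tau, .X0, .p10, .xii, .y8,
   .p8, .xii, .y6, .p3, .hi, .p10, .taui, .xii, .p9, .xii, .y5, .p3, .y4, .hi, .tau, .xii, .y2, .p, .hi]⟩

theorem h832 : Hd F (g wAd) b832 := hdD (by decide +kernel)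
theorem r832_0 : R9 F (g wAd) b832 [] 0 0 := .of (startD 0 1) (by decide +kernel)
theorem r832_1 : R9 F (g wAd) b832 [] 0 1 := .of (startD 0 1) (by decide +kernel)
theorem r832_2 : R9 F (g wAd) b832 [] 0 2 := .of (startD 0 1) (by decide +kernel)
theorem r832_3 : R9 F (g wAd) b832 [] 1 0 := .of (startD 0 1) (by decide +kernel)
theorem r832_4 : R9 F (g wAd) b832 [] 1 1 := .of (startD 0 1) (by decide +kernel)
theorem r832_5 : R9 F (g wAd) b832 [] 1 2 := .of (startD 0 1) (by decide +kernel)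
theorem r832_6 : R9 F (g wAd) b832 [] 2 0 := .of (startD 0 1) (by decide +kernel)
theorem r832_7 : R9 F (g wAd) b832 [] 2 1 := .of (startD 0 1) (by decide +kernel)
theorem r832_8 : R9 F (g wAd) b832 [] 2 2 := .of (startD 0 1) (by decide +kernel)
theorem g832 : Gd F (g wAd) (1, d832) [] :=
  good9 ok h832 r832_0 r832_1 r832_2 r832_3 r832_4 r832_5 r832_6 r832_7 r832_8

def b833 : Wd := ⟨1, d833,
  [.Z10, .Z9, .Z7, .Z6, .Z4, .Z3, .Z2, .Z0, .X9, .X6, .X1, .y9, .y7, .y4, .y3, .y1, .hi, .p10, .hi, .p10, .hi, .p2,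
   .hi, .p3, .hi, .p, .hi, .xii, .p, .xii, .y10, .p7, .xii, .tau, .xii, .p, .xii, .hi, .y8, .xii, .y5, .y9, .tau, .p5,
   .xii, .y9, .p9, .xii, .y5, .p9, .xii, .y10, .tau, .xii, .p5, .xii, .y7, .p9, .xii, .y8, .tau, .xii, .p5],
  [.z, .Z9, .Z8, .Z6, .Z3, .Z0, .X9, .X8, .X7, .X5, .X4, .X3, .X1, .y9, .y8, .y7, .y6, .y5, .y2, .y1, .p4, .hi, .p,
   .hi, .p, .hi, .p6, .hi, .p9, .xii, .y2, .tau, .y1, .xii, .y2, .hi, .xii, .y10, .p10, .xii, .y9, .tau, .X0, .p9,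
   .xii, .p10, .xii, .y5, .p5, .hi, .p2, .tau, .xii, .y2, .p9, .xii, .p3, .y5, .xii, .tau, .xii, .p5],
  [.Z10, .Z7, .Z6, .Z2, .Z1, .X5, .X3, .X0, .y10, .y8, .y4, .y2, .p4, .hi, .p8, .hi, .p7, .hi, .p10, .hi, .p8, .hi,
   .p8, .xii, .y2, .p, .xii, .hi, .p10, .tau, .y1, .xii, .p10, .xii, .y8, .p10, .xii, .y8, .y10, .tau, .xii, .y2, .p9,
   .xii, .y5, .p3, .xii, .y9, .p3, .taui, .xii, .p9, .xii, .p, .xii, .y4, .y8, .tau, .xii, .p, .xii, .y3]⟩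

theorem h833 : Hd F (g wAd) b833 := hdD (by decide +kernel)
theorem r833_0 : R9 F (g wAd) b833 [] 0 0 := .of (startD 0 1) (by decide +kernel)
theorem r833_1 : R9 F (g wAd) b833 [] 0 1 := .of (startD 0 1) (by decide +kernel)
theorem r833_2 : R9 F (g wAd) b833 [] 0 2 := .of (startD 0 1) (by decide +kernel)
theorem r833_3 : R9 F (g wAd) b833 [] 1 0 := .of (startD 0 1) (by decide +kernel)
theorem r833_4 : R9 F (g wAd) b833 [] 1 1 := .of (startD 0 1) (by decide +kernel)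
theorem r833_5 : R9 F (g wAd) b833 [] 1 2 := .of (startD 0 1) (by decide +kernel)
theorem r833_6 : R9 F (g wAd) b833 [] 2 0 := .of (startD 0 1) (by decide +kernel)
theorem r833_7 : R9 F (g wAd) b833 [] 2 1 := .of (startD 0 1) (by decide +kernel)
theorem r833_8 : R9 F (g wAd) b833 [] 2 2 := .of (startD 0 1) (by decide +kernel)
theorem g833 : Gd F (g wAd) (1, d833) [] :=
  good9 ok h833 r833_0 r833_1 r833_2 r833_3 r833_4 r833_5 r833_6 r833_7 r833_8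

def b834 : Wd := ⟨1, d834,
  [.Z10, .Z8, .Z5, .Z3, .Z1, .X10, .X9, .X8, .X7, .X4, .X1, .y10, .y8, .y6, .y5, .y4, .y1, .p6, .hi, .p3, .hi, .p5,
   .hi, .p7, .hi, .p10, .xii, .hi, .xii, .p5, .y1, .xii, .y8, .taui, .xii, .y1, .p, .xii, .p, .xii, .y4, .y7, .taui,
   .X0, .hi, .xii, .p9, .xii, .y1, .y6, .hi, .taui, .xii, .p5, .xii, .y6, .p2, .xii, .y8, .y9, .taui, .xii, .p4, .hi,
   .p9],
  [.z, .Z10, .Z8, .Z7, .Z6, .Z5, .Z2, .Z1, .Z0, .X7, .X4, .X3, .y10, .y9, .y7, .y6, .y5, .y4, .y1, .p7, .hi, .p3, .hi,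
   .p, .hi, .p7, .hi, .p, .hi, .xii, .hi, .xii, .p8, .y10, .taui, .X0, .xii, .p9, .xii, .y10, .hi, .xii, .y4, .p2,
   .taui, .xii, .p9, .xii, .p6, .y4, .xii, .y1, .y9],
  [.Z9, .Z5, .Z3, .Z1, .Z0, .X7, .X3, .X1, .y9, .y6, .y4, .y2, .p5, .hi, .p8, .hi, .p6, .hi, .p7, .hi, .p5, .hi, .xii,
   .p10, .xii, .y8, .p10, .xii, .y4, .taui, .xii, .p, .xii, .y2, .hi, .xii, .y5, .y9, .taui, .y1, .xii, .p10, .xii,
   .y1, .y7, .p10, .xii, .taui, .X0, .p6, .xii, .p9, .xii, .y4, .taui, .xii, .p9, .xii, .y6, .p6, .y7, .xii, .tau,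
   .xii, .p6, .xii, .y4]⟩

theorem h834 : Hd F (g wAd) b834 := hdD (by decide +kernel)
theorem r834_0 : R9 F (g wAd) b834 [] 0 0 := .of (startD 0 1) (by decide +kernel)
theorem r834_1 : R9 F (g wAd) b834 [] 0 1 := .of (startD 0 1) (by decide +kernel)
theorem r834_2 : R9 F (g wAd) b834 [] 0 2 := .of (startD 0 1) (by decide +kernel)
theorem r834_3 : R9 F (g wAd) b834 [] 1 0 := .of (startD 0 1) (by decide +kernel)
theorem r834_4 : R9 F (g wAd) b834 [] 1 1 := .of (startD 0 1) (by decide +kernel)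
theorem r834_5 : R9 F (g wAd) b834 [] 1 2 := .of (startD 0 1) (by decide +kernel)
theorem r834_6 : R9 F (g wAd) b834 [] 2 0 := .of (startD 0 1) (by decide +kernel)
theorem r834_7 : R9 F (g wAd) b834 [] 2 1 := .of (startD 0 1) (by decide +kernel)
theorem r834_8 : R9 F (g wAd) b834 [] 2 2 := .of (startD 0 1) (by decide +kernel)
theorem g834 : Gd F (g wAd) (1, d834) [] :=
  good9 ok h834 r834_0 r834_1 r834_2 r834_3 r834_4 r834_5 r834_6 r834_7 r834_8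

def b835 : Wd := ⟨1, d835,
  [.Z6, .Z5, .Z3, .Z0, .X10, .X8, .X6, .X4, .X3, .X0, .y6, .y4, .y3, .p7, .hi, .p5, .hi, .p7, .hi, .p10, .hi, .xii,
   .p10, .xii, .y5, .p6, .xii, .y7, .taui, .y1, .xii, .p10, .xii, .y4, .p10, .xii, .y8, .y10, .tau, .X0, .p10, .xii,
   .y4, .p9, .xii, .y10, .p5, .hi, .tau, .xii, .p3, .xii, .p2, .y3, .hi, .p9, .taui, .xii, .p, .hi, .p],
  [.z, .Z10, .Z4, .Z3, .Z2, .Z0, .X9, .X7, .X2, .X1, .X0, .y10, .y9, .y8, .y7, .y6, .y5, .y4, .y2, .y1, .p, .hi, .p7,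
   .hi, .p4, .hi, .p6, .hi, .p5, .hi, .p2, .hi, .xii, .y2, .hi, .p8, .taui, .y1, .xii, .y2, .hi, .xii, .y9, .p10,
   .xii, .taui, .X0, .y1, .xii, .y6, .p4, .xii, .p, .xii, .y3, .taui, .xii, .y2, .p5, .xii, .y9, .hi, .xii, .y8],
  [.z, .Z9, .Z6, .Z5, .Z4, .Z3, .Z2, .X9, .X8, .X7, .X4, .X3, .X1, .X0, .y10, .y8, .y7, .y6, .y4, .y3, .hi, .p7, .hi,
   .p10, .hi, .p8, .hi, .p3, .hi, .p10, .hi, .p4, .xii, .y2, .p, .xii, .y6, .hi, .p8, .taui, .xii, .p, .xii, .y1, .hi,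
   .xii, .y4, .y7, .tau, .xii, .p10, .xii, .p6, .y1, .xii, .y4, .p6, .tau, .xii, .p7, .xii, .y1, .y10, .p8, .xii,
   .tau, .xii, .p5]⟩

theorem h835 : Hd F (g wAd) b835 := hdD (by decide +kernel)
theorem r835_0 : R9 F (g wAd) b835 [] 0 0 := .of (startD 0 1) (by decide +kernel)
theorem r835_1 : R9 F (g wAd) b835 [] 0 1 := .of (startD 0 1) (by decide +kernel)
theorem r835_2 : R9 F (g wAd) b835 [] 0 2 := .of (startD 0 1) (by decide +kernel)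
theorem r835_3 : R9 F (g wAd) b835 [] 1 0 := .of (startD 0 1) (by decide +kernel)
theorem r835_4 : R9 F (g wAd) b835 [] 1 1 := .of (startD 0 1) (by decide +kernel)
theorem r835_5 : R9 F (g wAd) b835 [] 1 2 := .of (startD 0 1) (by decide +kernel)
theorem r835_6 : R9 F (g wAd) b835 [] 2 0 := .of (startD 0 1) (by decide +kernel)
theorem r835_7 : R9 F (g wAd) b835 [] 2 1 := .of (startD 0 1) (by decide +kernel)
theorem r835_8 : R9 F (g wAd) b835 [] 2 2 := .of (startD 0 1) (by decide +kernel)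
theorem g835 : Gd F (g wAd) (1, d835) [] :=
  good9 ok h835 r835_0 r835_1 r835_2 r835_3 r835_4 r835_5 r835_6 r835_7 r835_8

def b836 : Wd := ⟨1, d836,
  [.z, .Z10, .Z9, .Z8, .Z6, .Z5, .Z2, .Z1, .Z0, .X10, .X8, .X5, .X4, .X1, .X0, .y10, .y9, .y8, .y6, .y4, .y3, .y1,
   .p2, .hi, .p, .hi, .p6, .hi, .p4, .hi, .p4, .hi, .p6, .xii, .p3, .hi, .xii, .y8, .p6, .taui, .xii, .y2, .p, .xii,
   .y4, .hi, .xii, .y6, .taui, .xii, .y1, .p, .xii, .y4, .p, .xii, .y1, .y10, .tau, .X0, .hi, .xii, .p8, .xii, .y9,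
   .tau, .xii, .p2, .xii, .y6, .p6, .xii, .y1, .y3, .taui, .xii, .y7, .p8],
  [.z, .Z10, .Z9, .Z8, .Z6, .Z5, .Z3, .Z0, .X10, .X9, .X8, .X4, .X2, .X1, .y10, .y9, .y4, .y2, .hi, .p5, .hi, .p9,
   .hi, .p9, .hi, .p8, .hi, .p7, .hi, .xii, .p2, .hi, .xii, .y2, .y9, .tau, .xii, .p, .xii, .hi, .y8, .xii, .y2, .y4,
   .y7, .tau, .X0, .xii, .p4, .xii, .y5, .p5, .xii, .y1, .y10, .p10, .taui, .xii, .y2, .p5, .hi, .xii, .p6, .taui,
   .xii, .p7],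
  [.Z7, .Z6, .Z5, .Z4, .Z3, .Z2, .Z1, .Z0, .X9, .X8, .X7, .X6, .X4, .X3, .y10, .y9, .y7, .y6, .y2, .p, .hi, .p4, .hi,
   .p, .hi, .p5, .hi, .p5, .xii, .p10, .xii, .y8, .taui, .y1, .xii, .y2, .hi, .xii, .y10, .p10, .xii, .y9, .taui, .X0,
   .p2, .xii, .p5, .xii, .y4, .y10, .p5, .xii, .y4, .tau, .xii, .p9, .xii, .y4, .y7, .p7, .taui, .xii, .p, .hi]⟩

theorem h836 : Hd F (g wAd) b836 := hdD (by decide +kernel)
theorem r836_0 : R9 F (g wAd) b836 [] 0 0 := .of (startD 0 1) (by decide +kernel)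
theorem r836_1 : R9 F (g wAd) b836 [] 0 1 := .of (startD 0 1) (by decide +kernel)
theorem r836_2 : R9 F (g wAd) b836 [] 0 2 := .of (startD 0 2) (by decide +kernel)
theorem r836_3 : R9 F (g wAd) b836 [] 1 0 := .of (startD 0 1) (by decide +kernel)
theorem r836_4 : R9 F (g wAd) b836 [] 1 1 := .of (startD 0 1) (by decide +kernel)
theorem r836_5 : R9 F (g wAd) b836 [] 1 2 := .of (startD 0 1) (by decide +kernel)
theorem r836_6 : R9 F (g wAd) b836 [] 2 0 := .of (startD 0 1) (by decide +kernel)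
theorem r836_7 : R9 F (g wAd) b836 [] 2 1 := .of (startD 0 1) (by decide +kernel)
theorem r836_8 : R9 F (g wAd) b836 [] 2 2 := .of (startD 0 1) (by decide +kernel)
theorem g836 : Gd F (g wAd) (1, d836) [] :=
  good9 ok h836 r836_0 r836_1 r836_2 r836_3 r836_4 r836_5 r836_6 r836_7 r836_8

def b837 : Wd := ⟨1, d837,
  [.Z10, .Z9, .Z8, .Z4, .X9, .X8, .X5, .X3, .X2, .X1, .X0, .y10, .y5, .y3, .y2, .p10, .hi, .p6, .hi, .p10, .hi, .p7,
   .hi, .p5, .hi, .p5, .xii, .hi, .p8, .xii, .p2, .tau, .xii, .y6, .p, .xii, .p, .xii, .y5, .y8, .taui, .X0, .p10,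
   .xii, .y4, .p3, .hi, .p5, .xii, .hi, .taui, .xii, .p4, .hi, .xii, .y8, .y9, .hi, .tau, .xii, .y2, .p7],
  [.Z10, .Z9, .Z8, .Z4, .Z1, .X10, .X9, .X6, .X5, .X4, .X1, .X0, .y8, .y7, .y2, .y1, .hi, .p4, .hi, .p4, .xii, .p3,
   .hi, .xii, .y9, .tau, .xii, .p, .xii, .y1, .y6, .hi, .xii, .y6, .tau, .p7, .xii, .p7, .xii, .y1, .y2, .p10, .hi,
   .p9, .tau, .xii, .p8, .xii, .y9, .p2, .xii, .y5, .tau, .xii, .y8, .p5],
  [.Z10, .Z6, .Z5, .Z4, .Z0, .X10, .X9, .X8, .X6, .X5, .y10, .y7, .y5, .y3, .hi, .p7, .hi, .p6, .hi, .p3, .hi, .p5,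
   .hi, .p3, .hi, .xii, .p, .xii, .y4, .p, .xii, .y5, .taui, .xii, .y6, .p, .xii, .p, .xii, .y5, .y8, .y10, .tau, .X0,
   .xii, .p8, .xii, .y5, .p4, .xii, .y1, .y7, .p6, .tau, .xii, .p8, .xii, .p5, .y3, .hi, .p5, .tau, .xii, .hi, .p6]⟩

theorem h837 : Hd F (g wAd) b837 := hdD (by decide +kernel)
theorem r837_0 : R9 F (g wAd) b837 [] 0 0 := .of (startD 0 1) (by decide +kernel)
theorem r837_1 : R9 F (g wAd) b837 [] 0 1 := .of (startD 0 1) (by decide +kernel)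
theorem r837_2 : R9 F (g wAd) b837 [] 0 2 := .of (startD 0 1) (by decide +kernel)
theorem r837_3 : R9 F (g wAd) b837 [] 1 0 := .of (startD 0 1) (by decide +kernel)
theorem r837_4 : R9 F (g wAd) b837 [] 1 1 := .of (startD 0 1) (by decide +kernel)
theorem r837_5 : R9 F (g wAd) b837 [] 1 2 := .of (startD 0 1) (by decide +kernel)
theorem r837_6 : R9 F (g wAd) b837 [] 2 0 := .of (startD 0 1) (by decide +kernel)
theorem r837_7 : R9 F (g wAd) b837 [] 2 1 := .of (startD 0 1) (by decide +kernel)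
theorem r837_8 : R9 F (g wAd) b837 [] 2 2 := .of (startD 0 1) (by decide +kernel)
theorem g837 : Gd F (g wAd) (1, d837) [] :=
  good9 ok h837 r837_0 r837_1 r837_2 r837_3 r837_4 r837_5 r837_6 r837_7 r837_8

def b838 : Wd := ⟨1, d838,
  [.z, .Z10, .Z9, .Z7, .Z5, .X9, .X6, .X5, .X4, .X3, .X1, .X0, .y10, .y9, .y7, .y6, .y3, .y2, .hi, .p8, .hi, .p6, .hi,
   .p8, .hi, .p8, .hi, .p7, .hi, .p5, .hi, .xii, .p, .xii, .y1, .y4, .hi, .p8, .tau, .y1, .xii, .hi, .xii, .p3, .y1,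
   .hi, .tau, .X0, .p9, .xii, .p3, .y4, .xii, .y6, .taui, .xii, .p3, .xii, .p4, .xii, .y3, .y4, .taui, .xii, .p5, .hi],
  [.Z10, .Z9, .Z7, .Z6, .Z5, .Z4, .Z3, .Z2, .Z1, .Z0, .X8, .X7, .X2, .X1, .y9, .y8, .y6, .y5, .y2, .y1, .p, .hi, .p8,
   .hi, .p9, .hi, .p10, .hi, .xii, .hi, .xii, .p5, .y1, .xii, .y8, .tau, .xii, .y6, .p, .xii, .y1, .hi, .p8, .tau,
   .p6, .xii, .p10, .xii, .p9, .tau, .xii, .hi, .p6, .xii, .hi, .p7, .y6, .tau, .xii, .y2, .p2],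
  [.z, .Z10, .Z7, .Z3, .Z1, .Z0, .X9, .X8, .X6, .X3, .X2, .X1, .y9, .y8, .y7, .y5, .y4, .y3, .y2, .y1, .p7, .hi, .p10,
   .hi, .p8, .hi, .p6, .hi, .p8, .xii, .y2, .p, .xii, .p8, .xii, .y4, .y6, .tau, .xii, .y1, .p, .xii, .p, .xii, .y3,
   .y10, .tau, .y1, .xii, .p5, .xii, .p2, .y1, .y2, .xii, .y8, .taui, .xii, .p4, .xii, .y2, .p2, .hi, .p2, .tau, .xii,
   .y2, .hi, .p10, .hi]⟩

theorem h838 : Hd F (g wAd) b838 := hdD (by decide +kernel)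
theorem r838_0 : R9 F (g wAd) b838 [] 0 0 := .of (startD 0 1) (by decide +kernel)
theorem r838_1 : R9 F (g wAd) b838 [] 0 1 := .of (startD 0 1) (by decide +kernel)
theorem r838_2 : R9 F (g wAd) b838 [] 0 2 := .of (startD 0 1) (by decide +kernel)
theorem r838_3 : R9 F (g wAd) b838 [] 1 0 := .of (startD 0 1) (by decide +kernel)
theorem r838_4 : R9 F (g wAd) b838 [] 1 1 := .of (startD 0 1) (by decide +kernel)
theorem r838_5 : R9 F (g wAd) b838 [] 1 2 := .of (startD 0 1) (by decide +kernel)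
theorem r838_6 : R9 F (g wAd) b838 [] 2 0 := .of (startD 0 1) (by decide +kernel)
theorem r838_7 : R9 F (g wAd) b838 [] 2 1 := .of (startD 0 1) (by decide +kernel)
theorem r838_8 : R9 F (g wAd) b838 [] 2 2 := .of (startD 0 1) (by decide +kernel)
theorem g838 : Gd F (g wAd) (1, d838) [] :=
  good9 ok h838 r838_0 r838_1 r838_2 r838_3 r838_4 r838_5 r838_6 r838_7 r838_8

def b839 : Wd := ⟨1, d839,
  [.Z6, .Z4, .Z0, .X9, .X8, .X7, .X6, .X5, .X4, .X1, .X0, .y10, .y9, .y7, .y4, .y3, .y2, .hi, .p7, .hi, .p5, .hi, .p9,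
   .hi, .p4, .hi, .p6, .xii, .p2, .hi, .xii, .y5, .y7, .taui, .y1, .xii, .p10, .xii, .y5, .p10, .xii, .y2, .y8, .taui,
   .p4, .xii, .p4, .xii, .y2, .p10, .y1, .hi, .p4, .tau, .xii, .p9, .xii, .y10, .p9, .xii, .y9, .tau, .xii, .y2, .p2],
  [.z, .Z6, .Z3, .Z1, .X10, .X9, .X8, .X6, .X5, .X4, .X2, .X1, .y7, .y1, .hi, .p5, .hi, .p5, .hi, .p8, .hi, .p, .hi,
   .p9, .hi, .xii, .p3, .hi, .xii, .y3, .y5, .taui, .xii, .p, .xii, .y2, .y4, .p2, .hi, .taui, .X0, .p2, .xii, .p4,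
   .xii, .y6, .p9, .y10, .taui, .xii, .p4, .xii, .y2, .p5, .y7, .xii, .taui, .xii, .p6],
  [.Z10, .Z8, .Z7, .Z6, .Z5, .Z3, .Z2, .X9, .X8, .X7, .X6, .X5, .X4, .X3, .X2, .y9, .y6, .y5, .y4, .y3, .p9, .hi, .p8,
   .hi, .p6, .hi, .p8, .hi, .p, .hi, .p, .xii, .hi, .xii, .y6, .tau, .p5, .xii, .p7, .y9, .xii, .y4, .p5, .tau, .xii,
   .p6, .xii, .p, .y10, .xii, .y2, .taui, .xii, .p8, .xii, .y1]⟩

theorem h839 : Hd F (g wAd) b839 := hdD (by decide +kernel)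
theorem r839_0 : R9 F (g wAd) b839 [] 0 0 := .of (startD 0 1) (by decide +kernel)
theorem r839_1 : R9 F (g wAd) b839 [] 0 1 := .of (startD 0 1) (by decide +kernel)
theorem r839_2 : R9 F (g wAd) b839 [] 0 2 := .of (startD 0 1) (by decide +kernel)
theorem r839_3 : R9 F (g wAd) b839 [] 1 0 := .of (startD 0 1) (by decide +kernel)
theorem r839_4 : R9 F (g wAd) b839 [] 1 1 := .of (startD 0 1) (by decide +kernel)
theorem r839_5 : R9 F (g wAd) b839 [] 1 2 := .of (startD 0 1) (by decide +kernel)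
theorem r839_6 : R9 F (g wAd) b839 [] 2 0 := .of (startD 0 1) (by decide +kernel)
theorem r839_7 : R9 F (g wAd) b839 [] 2 1 := .of (startD 0 1) (by decide +kernel)
theorem r839_8 : R9 F (g wAd) b839 [] 2 2 := .of (startD 0 1) (by decide +kernel)
theorem g839 : Gd F (g wAd) (1, d839) [] :=
  good9 ok h839 r839_0 r839_1 r839_2 r839_3 r839_4 r839_5 r839_6 r839_7 r839_8

theorem all : AllG F (g wAd) LD83 :=
  .cons g830 (.cons g831 (.cons g832 (.cons g833 (.cons g834 (.cons g835 (.cons g836 (.cons g837 (.cons g838 (.cons g839 (.nil))))))))))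

end Cfsg.Agent.BX.No33.Bk.D83
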