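import Cfsg.Agent.BX.No33.Cheap
set_option linter.all false

/-!
# Tests, diagonal case, part 84 (helper5; generated)
-/

set_option autoImplicit false
set_option maxRecDepth 100000
set_option Elab.async false

namespace Cfsg.Agent.BX.No33.Bk.D84

open Cfsg.Agent.H819.U33 Cfsg.Agent.BX.No33.Front

def b840 : Wd := ⟨1, d840,
  [.z, .Z10, .Z7, .Z4, .Z1, .Z0, .X8, .X7, .X6, .X4, .X2, .X0, .y9, .y6, .y5, .y4, .y2, .hi, .p9, .hi, .p8, .hi, .p6,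
   .hi, .p, .hi, .p5, .hi, .p9, .hi, .xii, .y2, .p, .xii, .p8, .xii, .y7, .tau, .xii, .p, .xii, .y4, .y10, .hi, .xii,
   .y5, .taui, .p10, .xii, .p8, .xii, .y4, .p9, .y9, .tau, .xii, .p8, .xii, .y1, .y6, .p4, .xii, .y10, .tau, .xii,
   .y8, .p4, .hi, .p10],
  [.Z10, .Z8, .Z7, .Z3, .X9, .X7, .X3, .X1, .y7, .y6, .y5, .y4, .y1, .hi, .p4, .hi, .p9, .hi, .p5, .hi, .p9, .hi, .p8,
   .xii, .p10, .xii, .y1, .y5, .tau, .y1, .xii, .y2, .hi, .xii, .y10, .p10, .xii, .y9, .tau, .p10, .xii, .y4, .p9,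
   .xii, .y1, .y3, .hi, .p2, .tau, .xii, .y2, .hi, .p6, .xii, .p3, .y6, .taui, .xii, .hi, .p6],
  [.z, .Z9, .Z7, .Z4, .Z3, .X8, .X5, .X3, .X2, .X1, .y8, .y7, .y6, .y5, .y4, .y3, .y2, .p4, .hi, .p7, .hi, .p5, .hi,
   .p8, .hi, .p10, .hi, .p9, .xii, .hi, .xii, .p10, .xii, .y10, .tau, .y1, .xii, .p10, .xii, .y5, .p10, .xii, .y2,
   .tau, .p7, .xii, .y4, .p, .xii, .hi, .p2, .y5, .taui, .xii, .p8, .xii, .y8, .p5, .tau, .xii, .y2, .hi, .p6]⟩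

theorem h840 : Hd F (g wAd) b840 := hdD (by decide +kernel)
theorem r840_0 : R9 F (g wAd) b840 [] 0 0 := .of (startD 0 1) (by decide +kernel)
theorem r840_1 : R9 F (g wAd) b840 [] 0 1 := .of (startD 0 1) (by decide +kernel)
theorem r840_2 : R9 F (g wAd) b840 [] 0 2 := .of (startD 0 1) (by decide +kernel)
theorem r840_3 : R9 F (g wAd) b840 [] 1 0 := .of (startD 0 1) (by decide +kernel)
theorem r840_4 : R9 F (g wAd) b840 [] 1 1 := .of (startD 0 1) (by decide +kernel)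
theorem r840_5 : R9 F (g wAd) b840 [] 1 2 := .of (startD 0 1) (by decide +kernel)
theorem r840_6 : R9 F (g wAd) b840 [] 2 0 := .of (startD 0 1) (by decide +kernel)
theorem r840_7 : R9 F (g wAd) b840 [] 2 1 := .of (startD 0 1) (by decide +kernel)
theorem r840_8 : R9 F (g wAd) b840 [] 2 2 := .of (startD 0 1) (by decide +kernel)
theorem g840 : Gd F (g wAd) (1, d840) [] :=
  good9 ok h840 r840_0 r840_1 r840_2 r840_3 r840_4 r840_5 r840_6 r840_7 r840_8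

def b841 : Wd := ⟨1, d841,
  [.z, .Z10, .Z5, .Z3, .Z2, .Z1, .X10, .X7, .X6, .X5, .X3, .X1, .y8, .y5, .y4, .y3, .y2, .p8, .hi, .p7, .hi, .p8, .hi,
   .p5, .hi, .p2, .xii, .hi, .p8, .hi, .p5, .hi, .taui, .X0, .p7, .xii, .p10, .xii, .p5, .y1, .tau, .p10, .xii, .y4,
   .p10, .xii, .y4, .p8, .tau, .xii, .p8, .xii, .p4, .y2, .xii, .taui, .xii, .p, .xii, .y6],
  [.Z9, .Z8, .Z5, .Z2, .Z0, .X10, .X9, .X6, .X5, .X4, .X3, .X1, .y10, .y9, .y8, .y7, .hi, .p5, .hi, .p4, .hi, .p6,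
   .hi, .p10, .xii, .p, .xii, .y2, .hi, .p4, .taui, .xii, .p, .xii, .y4, .y10, .hi, .xii, .y4, .y7, .taui, .X0, .xii,
   .hi, .xii, .y6, .p10, .xii, .y6, .p7, .tau, .xii, .p9, .xii, .y8, .p10],
  [.z, .Z10, .Z9, .Z6, .Z3, .Z0, .X9, .X5, .X4, .X2, .X1, .y9, .y8, .y6, .y5, .y4, .y1, .p4, .hi, .p10, .hi, .p9, .hi,
   .p4, .hi, .p2, .hi, .xii, .p, .xii, .p7, .xii, .y8, .taui, .xii, .p, .xii, .y2, .y10, .hi, .xii, .y7, .taui, .X0,
   .xii, .p4, .xii, .p9, .y9, .xii, .y3, .y5, .y7, .tau, .xii, .p6, .xii, .y4, .hi, .p2, .tau, .xii, .p2, .hi, .p]⟩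

theorem h841 : Hd F (g wAd) b841 := hdD (by decide +kernel)
theorem r841_0 : R9 F (g wAd) b841 [] 0 0 := .of (startD 0 1) (by decide +kernel)
theorem r841_1 : R9 F (g wAd) b841 [] 0 1 := .of (startD 0 2) (by decide +kernel)
theorem r841_2 : R9 F (g wAd) b841 [] 0 2 := .of (startD 0 1) (by decide +kernel)
theorem r841_3 : R9 F (g wAd) b841 [] 1 0 := .of (startD 0 1) (by decide +kernel)
theorem r841_4 : R9 F (g wAd) b841 [] 1 1 := .of (startD 0 1) (by decide +kernel)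
theorem r841_5 : R9 F (g wAd) b841 [] 1 2 := .of (startD 0 1) (by decide +kernel)
theorem r841_6 : R9 F (g wAd) b841 [] 2 0 := .of (startD 0 1) (by decide +kernel)
theorem r841_7 : R9 F (g wAd) b841 [] 2 1 := .of (startD 0 1) (by decide +kernel)
theorem r841_8 : R9 F (g wAd) b841 [] 2 2 := .of (startD 0 1) (by decide +kernel)
theorem g841 : Gd F (g wAd) (1, d841) [] :=
  good9 ok h841 r841_0 r841_1 r841_2 r841_3 r841_4 r841_5 r841_6 r841_7 r841_8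

def b842 : Wd := ⟨1, d842,
  [.z, .Z10, .Z9, .Z6, .Z5, .Z1, .Z0, .X8, .X3, .X2, .X1, .y6, .y3, .y1, .p6, .hi, .p, .hi, .p4, .hi, .p3, .hi, .p3,
   .hi, .p8, .xii, .hi, .xii, .p6, .xii, .y4, .y7, .tau, .y1, .xii, .p10, .xii, .y5, .p10, .xii, .y10, .tau, .xii,
   .p9, .xii, .y4, .y6, .hi, .xii, .y1, .p8, .taui, .xii, .p4, .xii, .y3, .hi, .taui, .xii, .p7],
  [.Z8, .Z7, .Z6, .Z5, .Z4, .Z3, .Z2, .Z1, .Z0, .X9, .X7, .X6, .X5, .X0, .y10, .y9, .y8, .y7, .y5, .y4, .y2, .y1, .p5,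
   .hi, .p7, .hi, .p8, .hi, .p4, .hi, .p8, .xii, .p, .xii, .y3, .p7, .xii, .y2, .tau, .xii, .y6, .p, .xii, .p, .xii,
   .y5, .taui, .X0, .y1, .xii, .p9, .xii, .p4, .hi, .y4, .xii, .tau, .xii, .y2, .p5, .xii, .p3, .y8],
  [.Z6, .Z5, .Z3, .Z2, .Z1, .Z0, .X10, .X8, .X7, .X6, .X4, .X3, .X2, .X0, .y6, .y5, .y3, .p, .hi, .p8, .hi, .p4, .hi,
   .p10, .hi, .p7, .xii, .p, .xii, .y1, .y10, .hi, .p8, .taui, .xii, .y2, .p, .xii, .y2, .hi, .xii, .y6, .taui, .X0,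
   .p8, .xii, .y2, .p2, .hi, .xii, .y4, .y5, .p9, .tau, .xii, .y2, .p9, .xii, .y3, .p3, .xii, .y5, .tau, .xii, .y6,
   .hi, .p2]⟩

theorem h842 : Hd F (g wAd) b842 := hdD (by decide +kernel)
theorem r842_0 : R9 F (g wAd) b842 [] 0 0 := .of (startD 0 1) (by decide +kernel)
theorem r842_1 : R9 F (g wAd) b842 [] 0 1 := .of (startD 0 1) (by decide +kernel)
theorem r842_2 : R9 F (g wAd) b842 [] 0 2 := .of (startD 0 1) (by decide +kernel)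
theorem r842_3 : R9 F (g wAd) b842 [] 1 0 := .of (startD 0 1) (by decide +kernel)
theorem r842_4 : R9 F (g wAd) b842 [] 1 1 := .of (startD 0 1) (by decide +kernel)
theorem r842_5 : R9 F (g wAd) b842 [] 1 2 := .of (startD 0 1) (by decide +kernel)
theorem r842_6 : R9 F (g wAd) b842 [] 2 0 := .of (startD 0 1) (by decide +kernel)
theorem r842_7 : R9 F (g wAd) b842 [] 2 1 := .of (startD 0 1) (by decide +kernel)
theorem r842_8 : R9 F (g wAd) b842 [] 2 2 := .of (startD 0 1) (by decide +kernel)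
theorem g842 : Gd F (g wAd) (1, d842) [] :=
  good9 ok h842 r842_0 r842_1 r842_2 r842_3 r842_4 r842_5 r842_6 r842_7 r842_8

def b843 : Wd := ⟨1, d843,
  [.z, .Z9, .Z8, .Z4, .Z0, .X9, .X8, .X4, .X2, .y10, .y7, .y5, .y2, .y1, .p8, .hi, .p8, .hi, .p9, .hi, .p9, .hi, .p5,
   .hi, .p7, .xii, .hi, .p8, .xii, .y1, .y7, .p10, .taui, .xii, .p, .xii, .y1, .hi, .xii, .y2, .y3, .tau, .hi, .xii,
   .y7, .p8, .xii, .y7, .p10, .taui, .xii, .p4, .xii, .y8, .p4, .xii, .y7, .tau, .xii, .y7, .hi, .p6],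
  [.z, .Z8, .Z4, .Z2, .Z1, .X6, .X4, .X1, .X0, .y6, .y5, .y2, .p4, .hi, .p5, .hi, .p4, .hi, .p6, .hi, .p4, .hi, .p2,
   .xii, .p, .hi, .xii, .y2, .p3, .tau, .p4, .xii, .y1, .p7, .xii, .y7, .p10, .hi, .p2, .tau, .xii, .p4, .xii, .y3,
   .p6, .xii, .y2, .y10, .taui, .xii, .y7, .p4],
  [.Z10, .Z8, .Z7, .Z2, .Z0, .X9, .X8, .X2, .X1, .y6, .y1, .p5, .hi, .p4, .hi, .p, .hi, .p5, .hi, .p8, .hi, .p2, .xii,
   .hi, .p8, .xii, .p2, .y4, .tau, .xii, .p, .xii, .y2, .hi, .xii, .y7, .taui, .xii, .p, .xii, .y4, .hi, .xii, .y3,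
   .y9, .tau, .p5, .xii, .hi, .xii, .y6, .tau, .xii, .p6, .xii, .y1, .p2, .hi, .p2, .taui, .xii, .p10, .hi, .p7]⟩

theorem h843 : Hd F (g wAd) b843 := hdD (by decide +kernel)
theorem r843_0 : R9 F (g wAd) b843 [] 0 0 := .of (startD 0 1) (by decide +kernel)
theorem r843_1 : R9 F (g wAd) b843 [] 0 1 := .of (startD 0 1) (by decide +kernel)
theorem r843_2 : R9 F (g wAd) b843 [] 0 2 := .of (startD 0 1) (by decide +kernel)
theorem r843_3 : R9 F (g wAd) b843 [] 1 0 := .of (startD 0 1) (by decide +kernel)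
theorem r843_4 : R9 F (g wAd) b843 [] 1 1 := .of (startD 0 1) (by decide +kernel)
theorem r843_5 : R9 F (g wAd) b843 [] 1 2 := .of (startD 0 1) (by decide +kernel)
theorem r843_6 : R9 F (g wAd) b843 [] 2 0 := .of (startD 0 1) (by decide +kernel)
theorem r843_7 : R9 F (g wAd) b843 [] 2 1 := .of (startD 0 1) (by decide +kernel)
theorem r843_8 : R9 F (g wAd) b843 [] 2 2 := .of (startD 0 1) (by decide +kernel)
theorem g843 : Gd F (g wAd) (1, d843) [] :=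
  good9 ok h843 r843_0 r843_1 r843_2 r843_3 r843_4 r843_5 r843_6 r843_7 r843_8

def b844 : Wd := ⟨1, d844,
  [.Z10, .Z8, .Z5, .Z4, .Z2, .X9, .X7, .X6, .X4, .X2, .X1, .X0, .y9, .y7, .y5, .y4, .y3, .y1, .p6, .hi, .p8, .hi,
   .p10, .hi, .p10, .hi, .p8, .hi, .p6, .xii, .p10, .xii, .y1, .y7, .p3, .hi, .tau, .xii, .p, .xii, .y1, .hi, .xii,
   .y4, .y7, .taui, .X0, .xii, .p7, .xii, .y4, .p5, .xii, .y5, .y7, .p4, .tau, .xii, .p5, .xii, .p9, .xii, .y2, .y5,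
   .taui, .xii, .p3, .xii, .y2],
  [.Z10, .Z9, .Z8, .Z6, .Z5, .Z2, .Z1, .X8, .X4, .X3, .X2, .y9, .y6, .y2, .p10, .hi, .p7, .hi, .p6, .hi, .p7, .hi,
   .p6, .hi, .p, .hi, .xii, .y2, .p, .xii, .y3, .y10, .tau, .xii, .p, .xii, .y3, .y10, .hi, .xii, .y1, .taui, .xii,
   .y1, .p7, .xii, .y2, .p7, .y5, .xii, .y9, .taui, .xii, .p2, .xii, .p, .xii, .y3, .y7],
  [.Z10, .Z9, .Z8, .Z7, .Z4, .Z3, .Z1, .X8, .X6, .X3, .X2, .X1, .y8, .y5, .y3, .y2, .y1, .p5, .hi, .p10, .hi, .p, .hi,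
   .p, .hi, .p3, .hi, .p10, .hi, .xii, .y2, .p, .xii, .y3, .y10, .taui, .xii, .y6, .p, .xii, .p, .xii, .y1, .y2, .tau,
   .y1, .xii, .p5, .xii, .y7, .p9, .xii, .y2, .p5, .tau, .xii, .p5, .xii, .y3, .y9, .p5, .xii, .y9, .tau, .xii, .p]⟩

theorem h844 : Hd F (g wAd) b844 := hdD (by decide +kernel)
theorem r844_0 : R9 F (g wAd) b844 [] 0 0 := .of (startD 0 1) (by decide +kernel)
theorem r844_1 : R9 F (g wAd) b844 [] 0 1 := .of (startD 0 1) (by decide +kernel)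
theorem r844_2 : R9 F (g wAd) b844 [] 0 2 := .of (startD 0 1) (by decide +kernel)
theorem r844_3 : R9 F (g wAd) b844 [] 1 0 := .of (startD 0 1) (by decide +kernel)
theorem r844_4 : R9 F (g wAd) b844 [] 1 1 := .of (startD 0 1) (by decide +kernel)
theorem r844_5 : R9 F (g wAd) b844 [] 1 2 := .of (startD 0 1) (by decide +kernel)
theorem r844_6 : R9 F (g wAd) b844 [] 2 0 := .of (startD 0 1) (by decide +kernel)
theorem r844_7 : R9 F (g wAd) b844 [] 2 1 := .of (startD 0 1) (by decide +kernel)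
theorem r844_8 : R9 F (g wAd) b844 [] 2 2 := .of (startD 0 1) (by decide +kernel)
theorem g844 : Gd F (g wAd) (1, d844) [] :=
  good9 ok h844 r844_0 r844_1 r844_2 r844_3 r844_4 r844_5 r844_6 r844_7 r844_8

def b845 : Wd := ⟨1, d845,
  [.Z10, .Z9, .Z8, .Z7, .Z6, .Z5, .Z1, .Z0, .X7, .X6, .X3, .X0, .y8, .y7, .y6, .y4, .p8, .hi, .p3, .hi, .p3, .hi, .p6,
   .hi, .p2, .hi, .xii, .p, .xii, .y2, .y10, .hi, .xii, .y5, .tau, .xii, .y1, .p, .xii, .y4, .p, .xii, .y6, .tau, .X0,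
   .y1, .xii, .p9, .xii, .p5, .y5, .xii, .y1, .y2, .y8, .y9, .taui, .xii, .p9, .xii, .y6, .p8, .xii, .y1, .taui, .xii,
   .y6],
  [.z, .Z10, .Z9, .Z8, .Z6, .Z5, .Z3, .Z2, .Z1, .X9, .X7, .X2, .X0, .y10, .y8, .y7, .y5, .p8, .hi, .p6, .hi, .p, .xii,
   .hi, .p2, .hi, .tau, .y1, .xii, .p10, .xii, .y1, .p10, .xii, .y1, .y3, .tau, .xii, .p5, .xii, .y6, .p7, .xii, .y6,
   .hi, .tau, .xii, .p8, .xii, .y3, .y5, .p4, .xii, .y8, .tau, .xii, .p5, .hi, .p9],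
  [.Z10, .Z7, .Z5, .Z4, .Z1, .X9, .X7, .X3, .y10, .y4, .y2, .y1, .p6, .hi, .p8, .hi, .p3, .hi, .p6, .hi, .p3, .hi,
   .p3, .hi, .xii, .p, .xii, .y4, .p, .xii, .y7, .tau, .xii, .y6, .p, .xii, .p, .xii, .y1, .y2, .y4, .tau, .X0, .p2,
   .xii, .p, .xii, .y10, .hi, .y5, .tau, .xii, .p4, .xii, .y5, .y8, .p5, .xii, .y7, .taui, .xii, .hi, .p2]⟩

theorem h845 : Hd F (g wAd) b845 := hdD (by decide +kernel)
theorem r845_0 : R9 F (g wAd) b845 [] 0 0 := .of (startD 0 1) (by decide +kernel)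
theorem r845_1 : R9 F (g wAd) b845 [] 0 1 := .of (startD 0 1) (by decide +kernel)
theorem r845_2 : R9 F (g wAd) b845 [] 0 2 := .of (startD 0 1) (by decide +kernel)
theorem r845_3 : R9 F (g wAd) b845 [] 1 0 := .of (startD 0 1) (by decide +kernel)
theorem r845_4 : R9 F (g wAd) b845 [] 1 1 := .of (startD 0 1) (by decide +kernel)
theorem r845_5 : R9 F (g wAd) b845 [] 1 2 := .of (startD 0 1) (by decide +kernel)
theorem r845_6 : R9 F (g wAd) b845 [] 2 0 := .of (startD 0 1) (by decide +kernel)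
theorem r845_7 : R9 F (g wAd) b845 [] 2 1 := .of (startD 0 1) (by decide +kernel)
theorem r845_8 : R9 F (g wAd) b845 [] 2 2 := .of (startD 0 1) (by decide +kernel)
theorem g845 : Gd F (g wAd) (1, d845) [] :=
  good9 ok h845 r845_0 r845_1 r845_2 r845_3 r845_4 r845_5 r845_6 r845_7 r845_8

def b846 : Wd := ⟨1, d846,
  [.z, .Z10, .Z6, .Z3, .Z2, .Z1, .Z0, .X9, .X7, .X5, .X4, .X1, .X0, .y10, .y9, .y8, .p10, .hi, .p9, .hi, .p5, .hi, .p,
   .hi, .p3, .hi, .p6, .hi, .p10, .xii, .p10, .xii, .p8, .y7, .xii, .tau, .xii, .y2, .p, .xii, .y1, .hi, .xii, .y5,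
   .y10, .taui, .xii, .y6, .hi, .xii, .p9, .xii, .y1, .p4, .tau, .xii, .p2, .xii, .y4, .p6, .xii, .y1, .y3, .tau,
   .xii, .y8],
  [.Z7, .Z5, .Z2, .Z1, .Z0, .X9, .X5, .X1, .X0, .y2, .p9, .hi, .p8, .hi, .p8, .hi, .xii, .hi, .p8, .xii, .y2, .y9,
   .tau, .y1, .xii, .p10, .xii, .y8, .p10, .xii, .y4, .y8, .taui, .p10, .xii, .p2, .xii, .p2, .hi, .p5, .tau, .xii,
   .p7, .xii, .y2, .y4, .p10, .tau, .xii, .y2, .p, .hi],
  [.Z10, .Z8, .Z7, .Z1, .Z0, .X10, .X9, .X8, .X4, .X3, .X1, .y9, .y5, .y4, .y3, .y1, .hi, .p8, .hi, .p10, .hi, .p9,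
   .hi, .p3, .hi, .p9, .hi, .p7, .hi, .xii, .hi, .xii, .p2, .xii, .y3, .y10, .tau, .xii, .y2, .p, .xii, .y4, .hi,
   .xii, .y5, .taui, .xii, .p7, .xii, .y4, .y9, .p7, .xii, .y1, .y4, .tau, .xii, .y2, .p4, .xii, .p4, .xii, .y4, .y8,
   .tau, .xii, .y7, .p10, .xii, .y7]⟩

theorem h846 : Hd F (g wAd) b846 := hdD (by decide +kernel)
theorem r846_0 : R9 F (g wAd) b846 [] 0 0 := .of (startD 0 1) (by decide +kernel)
theorem r846_1 : R9 F (g wAd) b846 [] 0 1 := .of (startD 0 1) (by decide +kernel)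
theorem r846_2 : R9 F (g wAd) b846 [] 0 2 := .of (startD 0 1) (by decide +kernel)
theorem r846_3 : R9 F (g wAd) b846 [] 1 0 := .of (startD 0 1) (by decide +kernel)
theorem r846_4 : R9 F (g wAd) b846 [] 1 1 := .of (startD 0 1) (by decide +kernel)
theorem r846_5 : R9 F (g wAd) b846 [] 1 2 := .of (startD 0 1) (by decide +kernel)
theorem r846_6 : R9 F (g wAd) b846 [] 2 0 := .of (startD 0 1) (by decide +kernel)
theorem r846_7 : R9 F (g wAd) b846 [] 2 1 := .of (startD 0 1) (by decide +kernel)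
theorem r846_8 : R9 F (g wAd) b846 [] 2 2 := .of (startD 0 1) (by decide +kernel)
theorem g846 : Gd F (g wAd) (1, d846) [] :=
  good9 ok h846 r846_0 r846_1 r846_2 r846_3 r846_4 r846_5 r846_6 r846_7 r846_8

def b847 : Wd := ⟨1, d847,
  [.z, .Z8, .Z1, .Z0, .X10, .X9, .X4, .X3, .X2, .X1, .X0, .y6, .y5, .y4, .y2, .y1, .p4, .hi, .p5, .hi, .p, .hi, .p4,
   .xii, .p3, .hi, .xii, .y2, .y3, .p6, .tau, .xii, .y6, .p, .xii, .y10, .p, .xii, .y4, .y6, .taui, .p9, .xii, .p2,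
   .y10, .xii, .y2, .hi, .p4, .tau, .xii, .p8, .xii, .y5, .p, .tau, .xii, .y2, .p7],
  [.z, .Z8, .Z7, .Z5, .Z2, .Z1, .X8, .X7, .X6, .X4, .X3, .X1, .y8, .y6, .y5, .y4, .p8, .hi, .p8, .hi, .p10, .hi, .p5,
   .hi, .p4, .hi, .p4, .hi, .xii, .p5, .hi, .p5, .tau, .xii, .y6, .p, .xii, .p, .xii, .y5, .y10, .tau, .X0, .y1, .hi,
   .xii, .p2, .xii, .p, .xii, .tau, .xii, .p9, .xii, .p3, .y10, .hi, .tau, .xii, .p, .hi],
  [.z, .Z10, .Z9, .Z8, .Z7, .Z5, .Z2, .Z0, .X9, .X8, .X1, .y9, .y8, .y7, .y6, .y4, .y3, .y1, .p9, .hi, .p7, .hi, .p10,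
   .hi, .p5, .hi, .p5, .hi, .p2, .xii, .p3, .hi, .xii, .y9, .taui, .y1, .xii, .y1, .hi, .xii, .p10, .xii, .y3, .y7,
   .tau, .X0, .p10, .xii, .p8, .xii, .y9, .p6, .y7, .hi, .p8, .tau, .xii, .p2, .xii, .y4, .p4, .xii, .y7, .tau, .xii,
   .y7]⟩

theorem h847 : Hd F (g wAd) b847 := hdD (by decide +kernel)
theorem r847_0 : R9 F (g wAd) b847 [] 0 0 := .of (startD 0 1) (by decide +kernel)
theorem r847_1 : R9 F (g wAd) b847 [] 0 1 := .of (startD 0 1) (by decide +kernel)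
theorem r847_2 : R9 F (g wAd) b847 [] 0 2 := .of (startD 0 1) (by decide +kernel)
theorem r847_3 : R9 F (g wAd) b847 [] 1 0 := .of (startD 0 1) (by decide +kernel)
theorem r847_4 : R9 F (g wAd) b847 [] 1 1 := .of (startD 0 1) (by decide +kernel)
theorem r847_5 : R9 F (g wAd) b847 [] 1 2 := .of (startD 0 1) (by decide +kernel)
theorem r847_6 : R9 F (g wAd) b847 [] 2 0 := .of (startD 0 1) (by decide +kernel)
theorem r847_7 : R9 F (g wAd) b847 [] 2 1 := .of (startD 0 1) (by decide +kernel)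
theorem r847_8 : R9 F (g wAd) b847 [] 2 2 := .of (startD 0 1) (by decide +kernel)
theorem g847 : Gd F (g wAd) (1, d847) [] :=
  good9 ok h847 r847_0 r847_1 r847_2 r847_3 r847_4 r847_5 r847_6 r847_7 r847_8

def b848 : Wd := ⟨1, d848,
  [.z, .Z8, .Z5, .Z3, .Z1, .Z0, .X10, .X5, .X4, .X3, .X2, .X1, .X0, .y8, .y5, .y4, .y3, .p3, .hi, .p8, .hi, .p7, .hi,
   .p9, .hi, .p7, .hi, .p2, .xii, .y2, .p10, .hi, .p2, .hi, .p10, .tau, .y1, .xii, .p10, .xii, .y8, .p10, .xii, .y8,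
   .y9, .taui, .y1, .p2, .xii, .p3, .hi, .xii, .y9, .p, .tau, .xii, .p2, .xii, .y10, .hi, .xii, .y6],
  [.z, .Z10, .Z7, .Z6, .Z5, .Z4, .Z3, .Z2, .Z1, .Z0, .X9, .X8, .X7, .X5, .X3, .y9, .y5, .y4, .y3, .hi, .p4, .hi, .p5,
   .hi, .p4, .hi, .p, .hi, .p2, .xii, .p10, .xii, .y7, .p8, .xii, .y9, .taui, .xii, .p, .xii, .y1, .hi, .xii, .y6,
   .tau, .p8, .xii, .y8, .p10, .xii, .y5, .p7, .tau, .xii, .p5, .xii, .y3, .y7, .p4, .taui, .xii, .y2, .p7],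
  [.z, .Z10, .Z9, .Z8, .Z4, .X9, .X8, .X6, .X5, .X4, .X3, .X2, .y10, .y8, .y6, .y5, .y3, .y1, .p5, .hi, .p9, .hi, .p6,
   .hi, .p9, .hi, .p10, .hi, .p3, .hi, .xii, .y2, .p, .xii, .y2, .y4, .hi, .p10, .taui, .xii, .y2, .p, .xii, .y2, .hi,
   .xii, .y3, .tau, .X0, .y1, .p7, .xii, .p7, .xii, .y7, .hi, .y7, .p2, .taui, .xii, .p9, .xii, .y3, .p8, .xii, .y2,
   .taui, .xii]⟩

theorem h848 : Hd F (g wAd) b848 := hdD (by decide +kernel)
theorem r848_0 : R9 F (g wAd) b848 [] 0 0 := .of (startD 0 1) (by decide +kernel)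
theorem r848_1 : R9 F (g wAd) b848 [] 0 1 := .of (startD 0 1) (by decide +kernel)
theorem r848_2 : R9 F (g wAd) b848 [] 0 2 := .of (startD 0 1) (by decide +kernel)
theorem r848_3 : R9 F (g wAd) b848 [] 1 0 := .of (startD 0 1) (by decide +kernel)
theorem r848_4 : R9 F (g wAd) b848 [] 1 1 := .of (startD 0 1) (by decide +kernel)
theorem r848_5 : R9 F (g wAd) b848 [] 1 2 := .of (startD 0 1) (by decide +kernel)
theorem r848_6 : R9 F (g wAd) b848 [] 2 0 := .of (startD 0 1) (by decide +kernel)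
theorem r848_7 : R9 F (g wAd) b848 [] 2 1 := .of (startD 0 1) (by decide +kernel)
theorem r848_8 : R9 F (g wAd) b848 [] 2 2 := .of (startD 0 2) (by decide +kernel)
theorem g848 : Gd F (g wAd) (1, d848) [] :=
  good9 ok h848 r848_0 r848_1 r848_2 r848_3 r848_4 r848_5 r848_6 r848_7 r848_8

def b849 : Wd := ⟨1, d849,
  [.Z10, .Z4, .Z2, .X8, .X6, .X5, .X1, .y7, .y3, .y2, .hi, .p, .hi, .p10, .hi, .p7, .hi, .p, .hi, .p7, .hi, .p2, .hi,
   .xii, .p10, .hi, .p2, .hi, .p10, .taui, .xii, .p, .xii, .hi, .y8, .xii, .y1, .y10, .tau, .X0, .y1, .xii, .y1, .p9,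
   .xii, .y7, .p8, .xii, .y3, .y5, .y10, .taui, .xii, .p5, .xii, .y1, .y6, .tau, .xii, .p10, .hi, .p4],
  [.z, .Z10, .Z9, .Z6, .Z5, .Z4, .Z3, .Z2, .X10, .X9, .X8, .X7, .X3, .X2, .X0, .y9, .y5, .y4, .p7, .hi, .p6, .hi, .p7,
   .hi, .p3, .hi, .p4, .hi, .p2, .xii, .y2, .p2, .hi, .xii, .y6, .p3, .tau, .y1, .xii, .y6, .p10, .xii, .y8, .p10,
   .xii, .y8, .y10, .tau, .p2, .xii, .p, .xii, .y1, .hi, .p7, .tau, .xii, .p3, .xii, .y6, .p9, .taui, .xii, .p7],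
  [.z, .Z10, .Z9, .Z8, .Z6, .Z5, .Z3, .Z1, .Z0, .X10, .X8, .X6, .X5, .X4, .X2, .y8, .y6, .y5, .p9, .hi, .p5, .hi, .p6,
   .hi, .p9, .hi, .p8, .hi, .p7, .hi, .xii, .hi, .xii, .p10, .xii, .y8, .y9, .y10, .tau, .xii, .y6, .p, .xii, .y4, .p,
   .xii, .y6, .tau, .X0, .p10, .xii, .p8, .xii, .y4, .y5, .y7, .p9, .taui, .xii, .y2, .p2, .xii, .p, .xii, .y6, .y10]⟩

theorem h849 : Hd F (g wAd) b849 := hdD (by decide +kernel)
theorem r849_0 : R9 F (g wAd) b849 [] 0 0 := .of (startD 0 1) (by decide +kernel)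
theorem r849_1 : R9 F (g wAd) b849 [] 0 1 := .of (startD 0 1) (by decide +kernel)
theorem r849_2 : R9 F (g wAd) b849 [] 0 2 := .of (startD 0 1) (by decide +kernel)
theorem r849_3 : R9 F (g wAd) b849 [] 1 0 := .of (startD 0 1) (by decide +kernel)
theorem r849_4 : R9 F (g wAd) b849 [] 1 1 := .of (startD 0 1) (by decide +kernel)
theorem r849_5 : R9 F (g wAd) b849 [] 1 2 := .of (startD 0 1) (by decide +kernel)
theorem r849_6 : R9 F (g wAd) b849 [] 2 0 := .of (startD 0 1) (by decide +kernel)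
theorem r849_7 : R9 F (g wAd) b849 [] 2 1 := .of (startD 0 1) (by decide +kernel)
theorem r849_8 : R9 F (g wAd) b849 [] 2 2 := .of (startD 0 1) (by decide +kernel)
theorem g849 : Gd F (g wAd) (1, d849) [] :=
  good9 ok h849 r849_0 r849_1 r849_2 r849_3 r849_4 r849_5 r849_6 r849_7 r849_8

theorem all : AllG F (g wAd) LD84 :=
  .cons g840 (.cons g841 (.cons g842 (.cons g843 (.cons g844 (.cons g845 (.cons g846 (.cons g847 (.cons g848 (.cons g849 (.nil))))))))))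

end Cfsg.Agent.BX.No33.Bk.D84
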