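import Cfsg.Agent.BX.No33.Cheap
set_option linter.all false

/-!
# Tests, diagonal case, part 85 (helper5; generated)
-/

set_option autoImplicit false
set_option maxRecDepth 100000
set_option Elab.async false

namespace Cfsg.Agent.BX.No33.Bk.D85

open Cfsg.Agent.H819.U33 Cfsg.Agent.BX.No33.Front

def b850 : Wd := ⟨1, d850,
  [.z, .Z10, .Z9, .Z8, .Z7, .Z6, .Z5, .X10, .X9, .X5, .X4, .X3, .X2, .X1, .X0, .y7, .y4, .y3, .p5, .hi, .p7, .hi,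
   .p10, .hi, .p4, .hi, .p6, .hi, .xii, .p, .xii, .y2, .y10, .hi, .xii, .y4, .y5, .taui, .xii, .p, .xii, .y3, .hi,
   .xii, .y4, .y5, .tau, .X0, .xii, .p7, .xii, .y5, .p8, .xii, .y1, .y5, .y8, .taui, .xii, .p7, .xii, .y4, .y5, .p9,
   .xii, .y7, .y10, .taui, .xii, .p],
  [.Z10, .Z8, .Z7, .Z6, .Z3, .Z1, .Z0, .X10, .X7, .X4, .X3, .X1, .y9, .y8, .y7, .y5, .y3, .p, .hi, .p8, .hi, .p9, .hi,
   .p10, .hi, .xii, .p, .xii, .y3, .hi, .p4, .taui, .xii, .y6, .p, .xii, .p, .xii, .y6, .y10, .tau, .y1, .xii, .y2,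
   .p9, .xii, .y7, .p8, .xii, .y8, .p9, .tau, .xii, .p5, .xii, .p5, .y1, .y9, .xii, .y4, .tau],
  [.Z9, .Z8, .Z6, .Z4, .X10, .X7, .X3, .X1, .X0, .y10, .y9, .y6, .y4, .y2, .y1, .hi, .p7, .hi, .p10, .hi, .p9, .hi,
   .p5, .hi, .p3, .xii, .p10, .xii, .y10, .p9, .xii, .y5, .y9, .taui, .y1, .xii, .p10, .xii, .y1, .y7, .p10, .xii,
   .y10, .taui, .X0, .p10, .xii, .p2, .xii, .y9, .y10, .p10, .xii, .taui, .xii, .p3, .xii, .p, .hi, .y7, .tau, .xii,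
   .p5, .hi, .p9]⟩

theorem h850 : Hd F (g wAd) b850 := hdD (by decide +kernel)
theorem r850_0 : R9 F (g wAd) b850 [] 0 0 := .of (startD 0 1) (by decide +kernel)
theorem r850_1 : R9 F (g wAd) b850 [] 0 1 := .of (startD 0 1) (by decide +kernel)
theorem r850_2 : R9 F (g wAd) b850 [] 0 2 := .of (startD 0 1) (by decide +kernel)
theorem r850_3 : R9 F (g wAd) b850 [] 1 0 := .of (startD 0 1) (by decide +kernel)
theorem r850_4 : R9 F (g wAd) b850 [] 1 1 := .of (startD 0 1) (by decide +kernel)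
theorem r850_5 : R9 F (g wAd) b850 [] 1 2 := .of (startD 0 1) (by decide +kernel)
theorem r850_6 : R9 F (g wAd) b850 [] 2 0 := .of (startD 0 1) (by decide +kernel)
theorem r850_7 : R9 F (g wAd) b850 [] 2 1 := .of (startD 0 1) (by decide +kernel)
theorem r850_8 : R9 F (g wAd) b850 [] 2 2 := .of (startD 0 2) (by decide +kernel)
theorem g850 : Gd F (g wAd) (1, d850) [] :=
  good9 ok h850 r850_0 r850_1 r850_2 r850_3 r850_4 r850_5 r850_6 r850_7 r850_8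

def b851 : Wd := ⟨1, d851,
  [.Z9, .Z8, .Z7, .Z6, .Z5, .Z3, .Z1, .X10, .X8, .X6, .X5, .X4, .X3, .X0, .y7, .y6, .y5, .y1, .p3, .hi, .p5, .hi, .p4,
   .hi, .p8, .hi, .p5, .hi, .p9, .xii, .y2, .p, .hi, .xii, .p10, .taui, .xii, .p, .hi, .xii, .y6, .p10, .taui, .X0,
   .hi, .xii, .p9, .xii, .y5, .p4, .y10, .tau, .xii, .p8, .xii, .y3, .y5, .p7, .xii, .taui, .xii, .y2, .p],
  [.z, .Z10, .Z9, .Z6, .Z4, .Z1, .Z0, .X10, .X8, .X7, .X6, .X5, .X4, .X3, .X2, .y9, .y6, .y5, .y3, .y2, .p7, .hi, .p5,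
   .hi, .p6, .hi, .p6, .hi, .p10, .hi, .p9, .hi, .xii, .y2, .p5, .hi, .p5, .taui, .xii, .p, .xii, .y2, .hi, .xii, .y4,
   .y7, .taui, .X0, .p10, .xii, .y8, .hi, .p6, .xii, .y1, .y2, .p3, .tau, .xii, .p7, .xii, .y5, .p10, .xii, .y7,
   .taui],
  [.Z10, .Z5, .Z4, .X6, .X5, .X4, .X3, .X1, .X0, .y9, .y8, .y7, .y6, .y3, .y1, .hi, .p7, .hi, .p4, .hi, .p6, .hi, .p3,
   .hi, .p2, .xii, .p3, .hi, .xii, .y1, .y3, .tau, .xii, .y2, .p, .xii, .y1, .hi, .xii, .y6, .y10, .taui, .X0, .y1,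
   .xii, .p9, .xii, .y4, .p8, .xii, .y8, .tau, .xii, .y2, .p4, .hi, .p10, .xii, .p7, .taui, .xii, .y2, .p3, .hi, .p10]⟩

theorem h851 : Hd F (g wAd) b851 := hdD (by decide +kernel)
theorem r851_0 : R9 F (g wAd) b851 [] 0 0 := .of (startD 0 1) (by decide +kernel)
theorem r851_1 : R9 F (g wAd) b851 [] 0 1 := .of (startD 0 1) (by decide +kernel)
theorem r851_2 : R9 F (g wAd) b851 [] 0 2 := .of (startD 0 1) (by decide +kernel)
theorem r851_3 : R9 F (g wAd) b851 [] 1 0 := .of (startD 0 1) (by decide +kernel)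
theorem r851_4 : R9 F (g wAd) b851 [] 1 1 := .of (startD 0 1) (by decide +kernel)
theorem r851_5 : R9 F (g wAd) b851 [] 1 2 := .of (startD 0 1) (by decide +kernel)
theorem r851_6 : R9 F (g wAd) b851 [] 2 0 := .of (startD 0 1) (by decide +kernel)
theorem r851_7 : R9 F (g wAd) b851 [] 2 1 := .of (startD 0 1) (by decide +kernel)
theorem r851_8 : R9 F (g wAd) b851 [] 2 2 := .of (startD 0 1) (by decide +kernel)
theorem g851 : Gd F (g wAd) (1, d851) [] :=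
  good9 ok h851 r851_0 r851_1 r851_2 r851_3 r851_4 r851_5 r851_6 r851_7 r851_8

def b852 : Wd := ⟨1, d852,
  [.z, .Z10, .Z9, .Z8, .Z2, .Z1, .Z0, .X10, .X9, .X6, .X5, .X3, .X1, .y9, .y5, .y4, .y2, .hi, .p7, .hi, .p7, .hi, .p5,
   .hi, .p, .hi, .p8, .hi, .p9, .hi, .xii, .y2, .p5, .hi, .p5, .taui, .xii, .p, .xii, .y1, .y6, .hi, .xii, .y6, .tau,
   .p9, .xii, .y9, .p3, .xii, .y4, .p7, .taui, .xii, .y2, .p3, .xii, .p2, .hi, .p6, .tau, .xii, .y2, .p8],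
  [.z, .Z10, .Z7, .Z6, .Z5, .Z4, .Z3, .Z0, .X10, .X9, .X8, .X6, .X5, .X2, .X0, .y10, .y9, .y7, .y6, .y4, .y3, .y1,
   .hi, .p8, .hi, .p4, .hi, .p4, .hi, .p4, .hi, .p4, .hi, .xii, .y2, .p, .xii, .p8, .xii, .y5, .tau, .xii, .p, .xii,
   .hi, .y8, .xii, .y5, .y10, .tau, .X0, .p8, .xii, .y2, .hi, .xii, .p10, .xii, .y6, .taui, .xii, .p7, .xii, .y4,
   .p10, .hi, .p3, .hi],
  [.Z10, .Z9, .Z8, .Z7, .Z6, .Z4, .Z3, .X10, .X9, .X7, .X3, .y5, .y4, .y2, .y1, .p5, .hi, .p8, .hi, .p8, .hi, .p10,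
   .hi, .p3, .hi, .xii, .p3, .hi, .tau, .xii, .p, .xii, .y3, .hi, .xii, .y7, .y8, .taui, .p9, .xii, .p9, .xii, .p5,
   .y9, .xii, .y3, .tau, .xii, .y2, .p4, .xii, .y4, .p9, .xii, .y6, .taui, .xii, .y7]⟩

theorem h852 : Hd F (g wAd) b852 := hdD (by decide +kernel)
theorem r852_0 : R9 F (g wAd) b852 [] 0 0 := .of (startD 0 1) (by decide +kernel)
theorem r852_1 : R9 F (g wAd) b852 [] 0 1 := .of (startD 0 1) (by decide +kernel)
theorem r852_2 : R9 F (g wAd) b852 [] 0 2 := .of (startD 0 1) (by decide +kernel)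
theorem r852_3 : R9 F (g wAd) b852 [] 1 0 := .of (startD 0 1) (by decide +kernel)
theorem r852_4 : R9 F (g wAd) b852 [] 1 1 := .of (startD 0 1) (by decide +kernel)
theorem r852_5 : R9 F (g wAd) b852 [] 1 2 := .of (startD 0 1) (by decide +kernel)
theorem r852_6 : R9 F (g wAd) b852 [] 2 0 := .of (startD 0 1) (by decide +kernel)
theorem r852_7 : R9 F (g wAd) b852 [] 2 1 := .of (startD 0 1) (by decide +kernel)
theorem r852_8 : R9 F (g wAd) b852 [] 2 2 := .of (startD 0 1) (by decide +kernel)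
theorem g852 : Gd F (g wAd) (1, d852) [] :=
  good9 ok h852 r852_0 r852_1 r852_2 r852_3 r852_4 r852_5 r852_6 r852_7 r852_8

def b853 : Wd := ⟨1, d853,
  [.Z10, .Z7, .Z6, .Z5, .Z3, .Z0, .X8, .X1, .y9, .y7, .y5, .y3, .p4, .hi, .p, .hi, .p7, .hi, .p5, .hi, .p, .hi, .p2,
   .xii, .y2, .p, .xii, .y1, .hi, .p8, .tau, .xii, .p, .xii, .y4, .hi, .xii, .y5, .y9, .y10, .tau, .X0, .xii, .y2,
   .p4, .xii, .y6, .p9, .xii, .y1, .y3, .tau, .xii, .y2, .p9, .xii, .y8, .p, .xii, .y4, .tau, .xii, .p8, .xii, .y1],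
  [.z, .Z9, .Z8, .Z7, .Z6, .Z5, .Z3, .Z0, .X8, .X5, .X3, .X1, .X0, .y9, .y7, .y6, .y5, .y2, .p10, .hi, .p6, .hi, .p10,
   .hi, .p2, .hi, .p3, .hi, .p4, .xii, .p, .hi, .xii, .y5, .tau, .y1, .xii, .p10, .xii, .y1, .p10, .xii, .y4, .tau,
   .X0, .p9, .xii, .p2, .hi, .xii, .y4, .p10, .tau, .xii, .p7, .xii, .p7, .y4, .xii, .y3, .y4, .tau, .xii, .p8],
  [.z, .Z8, .Z7, .Z0, .X10, .X9, .X7, .X5, .X3, .X2, .y8, .y6, .y5, .y4, .y2, .p9, .hi, .p9, .hi, .p8, .hi, .p9, .hi,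
   .p4, .hi, .p8, .hi, .xii, .y2, .hi, .p8, .xii, .y9, .tau, .xii, .y6, .p, .xii, .p, .xii, .y7, .tau, .xii, .p4,
   .xii, .y10, .p8, .y2, .xii, .y4, .y7, .tau, .xii, .p5, .xii, .p8, .y2, .y7, .taui, .xii, .p8]⟩

theorem h853 : Hd F (g wAd) b853 := hdD (by decide +kernel)
theorem r853_0 : R9 F (g wAd) b853 [] 0 0 := .of (startD 0 1) (by decide +kernel)
theorem r853_1 : R9 F (g wAd) b853 [] 0 1 := .of (startD 0 1) (by decide +kernel)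
theorem r853_2 : R9 F (g wAd) b853 [] 0 2 := .of (startD 0 1) (by decide +kernel)
theorem r853_3 : R9 F (g wAd) b853 [] 1 0 := .of (startD 0 1) (by decide +kernel)
theorem r853_4 : R9 F (g wAd) b853 [] 1 1 := .of (startD 0 1) (by decide +kernel)
theorem r853_5 : R9 F (g wAd) b853 [] 1 2 := .of (startD 0 1) (by decide +kernel)
theorem r853_6 : R9 F (g wAd) b853 [] 2 0 := .of (startD 0 1) (by decide +kernel)
theorem r853_7 : R9 F (g wAd) b853 [] 2 1 := .of (startD 0 1) (by decide +kernel)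
theorem r853_8 : R9 F (g wAd) b853 [] 2 2 := .of (startD 0 1) (by decide +kernel)
theorem g853 : Gd F (g wAd) (1, d853) [] :=
  good9 ok h853 r853_0 r853_1 r853_2 r853_3 r853_4 r853_5 r853_6 r853_7 r853_8

def b854 : Wd := ⟨1, d854,
  [.z, .Z10, .Z9, .Z5, .Z3, .Z2, .X5, .X3, .X0, .y10, .y8, .y7, .y4, .y2, .y1, .p7, .hi, .p, .hi, .p7, .hi, .p9, .hi,
   .p8, .hi, .p2, .hi, .xii, .p10, .xii, .y1, .y7, .tau, .xii, .y1, .p, .xii, .p, .y7, .xii, .y4, .y7, .taui, .X0,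
   .xii, .p4, .xii, .p8, .y4, .y5, .xii, .y5, .tau, .xii, .hi, .p5, .xii, .hi, .p, .tau, .xii, .p7],
  [.Z10, .Z8, .Z6, .Z3, .X9, .X7, .X6, .X5, .X4, .X3, .X2, .X1, .y10, .y9, .y8, .y7, .y5, .y4, .y3, .p5, .hi, .p5,
   .hi, .p10, .hi, .p7, .hi, .p10, .hi, .xii, .y2, .hi, .p8, .hi, .p5, .hi, .tau, .xii, .y1, .p, .xii, .y2, .p, .xii,
   .y6, .tau, .p4, .xii, .p4, .xii, .y4, .p10, .xii, .y3, .tau, .xii, .p10, .xii, .p3, .y2, .hi],
  [.Z10, .Z9, .Z7, .Z6, .Z5, .Z4, .Z3, .Z2, .X10, .X9, .X8, .X6, .X5, .X4, .X2, .y9, .y6, .y4, .hi, .p2, .hi, .p, .hi,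
   .p7, .hi, .p5, .hi, .p8, .hi, .p4, .xii, .p3, .hi, .xii, .y8, .p10, .taui, .y1, .xii, .p10, .xii, .y4, .p10, .xii,
   .y10, .taui, .X0, .xii, .p7, .xii, .y2, .y4, .hi, .p5, .xii, .y1, .taui, .xii, .p2, .xii, .y6, .p7, .xii, .y8]⟩

theorem h854 : Hd F (g wAd) b854 := hdD (by decide +kernel)
theorem r854_0 : R9 F (g wAd) b854 [] 0 0 := .of (startD 0 1) (by decide +kernel)
theorem r854_1 : R9 F (g wAd) b854 [] 0 1 := .of (startD 0 1) (by decide +kernel)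
theorem r854_2 : R9 F (g wAd) b854 [] 0 2 := .of (startD 0 1) (by decide +kernel)
theorem r854_3 : R9 F (g wAd) b854 [] 1 0 := .of (startD 0 1) (by decide +kernel)
theorem r854_4 : R9 F (g wAd) b854 [] 1 1 := .of (startD 0 3) (by decide +kernel)
theorem r854_5 : R9 F (g wAd) b854 [] 1 2 := .of (startD 0 1) (by decide +kernel)
theorem r854_6 : R9 F (g wAd) b854 [] 2 0 := .of (startD 0 1) (by decide +kernel)
theorem r854_7 : R9 F (g wAd) b854 [] 2 1 := .of (startD 0 1) (by decide +kernel)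
theorem r854_8 : R9 F (g wAd) b854 [] 2 2 := .of (startD 0 1) (by decide +kernel)
theorem g854 : Gd F (g wAd) (1, d854) [] :=
  good9 ok h854 r854_0 r854_1 r854_2 r854_3 r854_4 r854_5 r854_6 r854_7 r854_8

def b855 : Wd := ⟨1, d855,
  [.Z8, .Z6, .Z4, .Z0, .X10, .X9, .X8, .X7, .X5, .X2, .X0, .y6, .y5, .y2, .p8, .hi, .p, .hi, .p4, .hi, .p3, .hi, .p5,
   .hi, .p5, .hi, .xii, .p10, .xii, .y5, .p6, .xii, .y6, .taui, .xii, .p, .xii, .y1, .y6, .hi, .xii, .y7, .taui, .xii,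
   .y6, .p4, .xii, .y1, .p5, .xii, .hi, .tau, .xii, .p7, .xii, .y1, .y4, .p, .hi, .p4, .taui, .xii, .p, .hi, .p4],
  [.z, .Z10, .Z8, .Z6, .X10, .X8, .X6, .X2, .X1, .y8, .y5, .y2, .y1, .p4, .hi, .p, .hi, .p5, .hi, .p10, .xii, .p10,
   .xii, .p3, .y2, .hi, .taui, .xii, .y6, .p2, .xii, .y6, .p7, .xii, .p, .tau, .xii, .p3, .xii, .y3, .hi, .xii, .y7,
   .tau, .xii, .p10, .xii, .y7],
  [.z, .Z10, .Z9, .Z7, .Z5, .Z4, .Z3, .Z1, .Z0, .X10, .X7, .X5, .X3, .X0, .y9, .y4, .y3, .y2, .hi, .p2, .hi, .p4, .hi,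
   .p4, .hi, .p7, .xii, .p, .xii, .y1, .y4, .hi, .p8, .tau, .xii, .y6, .p, .xii, .p, .xii, .y7, .taui, .X0, .p7, .xii,
   .p3, .y1, .hi, .xii, .p4, .y10, .hi, .tau, .xii, .p4, .xii, .y2, .p4, .xii, .y3, .y7, .tau, .xii, .hi]⟩

theorem h855 : Hd F (g wAd) b855 := hdD (by decide +kernel)
theorem r855_0 : R9 F (g wAd) b855 [] 0 0 := .of (startD 0 1) (by decide +kernel)
theorem r855_1 : R9 F (g wAd) b855 [] 0 1 := .of (startD 0 1) (by decide +kernel)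
theorem r855_2 : R9 F (g wAd) b855 [] 0 2 := .of (startD 0 1) (by decide +kernel)
theorem r855_3 : R9 F (g wAd) b855 [] 1 0 := .of (startD 0 1) (by decide +kernel)
theorem r855_4 : R9 F (g wAd) b855 [] 1 1 := .of (startD 0 1) (by decide +kernel)
theorem r855_5 : R9 F (g wAd) b855 [] 1 2 := .of (startD 0 1) (by decide +kernel)
theorem r855_6 : R9 F (g wAd) b855 [] 2 0 := .of (startD 0 1) (by decide +kernel)
theorem r855_7 : R9 F (g wAd) b855 [] 2 1 := .of (startD 0 1) (by decide +kernel)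
theorem r855_8 : R9 F (g wAd) b855 [] 2 2 := .of (startD 0 1) (by decide +kernel)
theorem g855 : Gd F (g wAd) (1, d855) [] :=
  good9 ok h855 r855_0 r855_1 r855_2 r855_3 r855_4 r855_5 r855_6 r855_7 r855_8

def b856 : Wd := ⟨1, d856,
  [.Z8, .Z6, .Z4, .Z2, .X10, .X9, .X7, .X4, .X3, .X0, .y9, .y8, .y7, .y5, .y4, .y3, .y1, .p9, .hi, .p8, .hi, .p4, .hi,
   .p3, .hi, .p10, .hi, .p7, .xii, .hi, .p8, .hi, .p2, .tau, .xii, .y1, .p, .xii, .p, .xii, .y3, .y10, .tau, .p10,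
   .xii, .y5, .p5, .xii, .p5, .xii, .y5, .tau, .xii, .p4, .xii, .y1, .y8, .p4, .xii, .y5, .taui, .xii, .y6],
  [.Z10, .Z9, .Z3, .Z1, .Z0, .X10, .X9, .X5, .X4, .y10, .y8, .y6, .y4, .y1, .p3, .hi, .p10, .hi, .p2, .hi, .p8, .hi,
   .p5, .hi, .xii, .p3, .hi, .xii, .y9, .tau, .xii, .y2, .p, .xii, .y2, .hi, .xii, .y6, .tau, .p8, .xii, .hi, .p8,
   .xii, .y10, .p9, .taui, .xii, .p6, .xii, .p2, .y9, .xii, .y2, .taui, .xii, .hi, .p],
  [.z, .Z10, .Z9, .Z8, .Z1, .X9, .X5, .X4, .y9, .y7, .y6, .y2, .y1, .p6, .hi, .p, .hi, .p4, .hi, .p9, .hi, .xii, .hi,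
   .p8, .xii, .y1, .p10, .tau, .xii, .p, .xii, .y3, .hi, .xii, .y5, .taui, .X0, .y1, .hi, .xii, .p2, .xii, .y5, .p5,
   .hi, .tau, .xii, .p4, .xii, .y3, .p6, .xii, .y7, .taui, .xii, .y7, .p4, .hi]⟩

theorem h856 : Hd F (g wAd) b856 := hdD (by decide +kernel)
theorem r856_0 : R9 F (g wAd) b856 [] 0 0 := .of (startD 0 1) (by decide +kernel)
theorem r856_1 : R9 F (g wAd) b856 [] 0 1 := .of (startD 0 1) (by decide +kernel)
theorem r856_2 : R9 F (g wAd) b856 [] 0 2 := .of (startD 0 1) (by decide +kernel)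
theorem r856_3 : R9 F (g wAd) b856 [] 1 0 := .of (startD 0 1) (by decide +kernel)
theorem r856_4 : R9 F (g wAd) b856 [] 1 1 := .of (startD 0 1) (by decide +kernel)
theorem r856_5 : R9 F (g wAd) b856 [] 1 2 := .of (startD 0 1) (by decide +kernel)
theorem r856_6 : R9 F (g wAd) b856 [] 2 0 := .of (startD 0 1) (by decide +kernel)
theorem r856_7 : R9 F (g wAd) b856 [] 2 1 := .of (startD 0 1) (by decide +kernel)
theorem r856_8 : R9 F (g wAd) b856 [] 2 2 := .of (startD 0 1) (by decide +kernel)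
theorem g856 : Gd F (g wAd) (1, d856) [] :=
  good9 ok h856 r856_0 r856_1 r856_2 r856_3 r856_4 r856_5 r856_6 r856_7 r856_8

def b857 : Wd := ⟨1, d857,
  [.z, .Z9, .Z6, .Z5, .Z4, .Z2, .Z0, .X8, .X3, .X2, .y10, .y8, .y6, .y5, .y4, .y3, .y2, .y1, .p5, .hi, .p5, .hi, .p,
   .hi, .p4, .hi, .p, .hi, .p4, .hi, .xii, .hi, .p8, .xii, .y9, .y10, .p2, .tau, .y1, .xii, .p10, .xii, .y8, .p10,
   .xii, .y4, .y8, .tau, .p2, .xii, .p7, .xii, .p5, .hi, .y8, .p5, .taui, .xii, .p4, .xii, .y2, .y8, .p9, .xii, .taui,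
   .xii, .y6, .p5, .hi, .p],
  [.z, .Z10, .Z6, .X9, .X7, .X4, .X3, .X1, .X0, .y9, .y8, .y7, .y5, .y3, .y2, .p8, .hi, .p3, .hi, .p6, .hi, .p3, .hi,
   .p2, .hi, .xii, .y2, .p2, .hi, .tau, .y1, .xii, .p10, .xii, .p10, .hi, .p8, .y5, .taui, .y1, .p9, .xii, .p3, .xii,
   .hi, .p8, .tau, .xii, .p5, .xii, .y2, .y7, .p9, .xii, .y10, .tau, .xii, .p5, .hi, .p10],
  [.z, .Z10, .Z9, .Z2, .Z1, .Z0, .X7, .X6, .X3, .X2, .X1, .X0, .y6, .y4, .y3, .y2, .hi, .p9, .hi, .p8, .hi, .p8, .hi,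
   .p8, .hi, .p7, .hi, .p7, .xii, .hi, .xii, .p8, .y10, .xii, .taui, .xii, .p, .xii, .y3, .y10, .hi, .xii, .y1, .taui,
   .xii, .p7, .xii, .p8, .y8, .y10, .xii, .y1, .y8, .y9, .tau, .xii, .p6, .xii, .p6, .y7, .tau, .xii, .y2, .p4, .hi,
   .p2]⟩

theorem h857 : Hd F (g wAd) b857 := hdD (by decide +kernel)
theorem r857_0 : R9 F (g wAd) b857 [] 0 0 := .of (startD 0 1) (by decide +kernel)
theorem r857_1 : R9 F (g wAd) b857 [] 0 1 := .of (startD 0 1) (by decide +kernel)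
theorem r857_2 : R9 F (g wAd) b857 [] 0 2 := .of (startD 0 1) (by decide +kernel)
theorem r857_3 : R9 F (g wAd) b857 [] 1 0 := .of (startD 0 1) (by decide +kernel)
theorem r857_4 : R9 F (g wAd) b857 [] 1 1 := .of (startD 0 1) (by decide +kernel)
theorem r857_5 : R9 F (g wAd) b857 [] 1 2 := .of (startD 0 1) (by decide +kernel)
theorem r857_6 : R9 F (g wAd) b857 [] 2 0 := .of (startD 0 1) (by decide +kernel)
theorem r857_7 : R9 F (g wAd) b857 [] 2 1 := .of (startD 0 1) (by decide +kernel)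
theorem r857_8 : R9 F (g wAd) b857 [] 2 2 := .of (startD 0 1) (by decide +kernel)
theorem g857 : Gd F (g wAd) (1, d857) [] :=
  good9 ok h857 r857_0 r857_1 r857_2 r857_3 r857_4 r857_5 r857_6 r857_7 r857_8

def b858 : Wd := ⟨1, d858,
  [.z, .Z10, .Z7, .Z5, .Z3, .X10, .X8, .X6, .X4, .X3, .X1, .y10, .y7, .y4, .y3, .hi, .p2, .hi, .p, .hi, .p, .hi, .p6,
   .hi, .p5, .hi, .p8, .xii, .y2, .tau, .y1, .xii, .p10, .xii, .y4, .p10, .xii, .y3, .y7, .tau, .p2, .xii, .y6, .p9,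
   .xii, .hi, .y10, .p6, .taui, .xii, .y2, .p5, .xii, .y8, .p8, .xii, .y1, .tau, .xii, .y4, .hi, .p6],
  [.Z9, .Z6, .Z4, .Z3, .Z1, .Z0, .X8, .X7, .X5, .X4, .X3, .X2, .y7, .y3, .y1, .p8, .hi, .p6, .hi, .p3, .hi, .p3, .hi,
   .p, .hi, .p9, .xii, .hi, .xii, .p2, .xii, .y6, .taui, .xii, .y2, .p, .xii, .y1, .hi, .xii, .y4, .y6, .taui, .X0,
   .y1, .p6, .xii, .p5, .xii, .y4, .y5, .tau, .xii, .hi, .p7, .xii, .y1, .y10, .p3, .tau, .xii, .hi, .p6],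
  [.z, .Z5, .Z3, .Z0, .X10, .X9, .X7, .X6, .X5, .X3, .X2, .X0, .y10, .y7, .y6, .y5, .y4, .y3, .p2, .hi, .p, .hi, .p8,
   .hi, .p5, .hi, .p10, .hi, .p, .hi, .xii, .p10, .xii, .y1, .y5, .tau, .X0, .hi, .xii, .hi, .xii, .y5, .p8, .tau,
   .y1, .p2, .xii, .p5, .xii, .y3, .p10, .taui, .xii, .p2, .xii, .y3, .p6, .xii, .y6, .taui, .xii, .y6, .p5, .hi]⟩

theorem h858 : Hd F (g wAd) b858 := hdD (by decide +kernel)
theorem r858_0 : R9 F (g wAd) b858 [] 0 0 := .of (startD 0 1) (by decide +kernel)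
theorem r858_1 : R9 F (g wAd) b858 [] 0 1 := .of (startD 0 1) (by decide +kernel)
theorem r858_2 : R9 F (g wAd) b858 [] 0 2 := .of (startD 0 1) (by decide +kernel)
theorem r858_3 : R9 F (g wAd) b858 [] 1 0 := .of (startD 0 1) (by decide +kernel)
theorem r858_4 : R9 F (g wAd) b858 [] 1 1 := .of (startD 0 1) (by decide +kernel)
theorem r858_5 : R9 F (g wAd) b858 [] 1 2 := .of (startD 0 1) (by decide +kernel)
theorem r858_6 : R9 F (g wAd) b858 [] 2 0 := .of (startD 0 1) (by decide +kernel)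
theorem r858_7 : R9 F (g wAd) b858 [] 2 1 := .of (startD 0 1) (by decide +kernel)
theorem r858_8 : R9 F (g wAd) b858 [] 2 2 := .of (startD 0 1) (by decide +kernel)
theorem g858 : Gd F (g wAd) (1, d858) [] :=
  good9 ok h858 r858_0 r858_1 r858_2 r858_3 r858_4 r858_5 r858_6 r858_7 r858_8

def b859 : Wd := ⟨1, d859,
  [.z, .Z8, .Z7, .Z6, .Z3, .Z2, .X10, .X9, .X5, .X3, .X2, .X1, .X0, .y10, .y9, .y7, .y6, .y5, .y3, .y2, .y1, .p9, .hi,
   .p10, .hi, .p9, .hi, .p8, .hi, .p9, .hi, .p8, .xii, .p2, .hi, .xii, .y1, .p3, .taui, .xii, .p, .xii, .y1, .hi,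
   .xii, .y3, .taui, .p4, .xii, .y2, .hi, .p8, .xii, .y5, .p, .tau, .xii, .y2, .p5, .xii, .y2, .p2, .xii, .y9, .taui,
   .xii, .hi, .xii, .y10],
  [.Z10, .Z9, .Z8, .Z7, .Z6, .Z5, .Z4, .Z2, .Z0, .X10, .X7, .X6, .X3, .X2, .y10, .y8, .y7, .y3, .y2, .p7, .hi, .p3,
   .hi, .p2, .xii, .p5, .hi, .p8, .hi, .tau, .xii, .y2, .p, .xii, .y2, .y10, .hi, .xii, .y7, .tau, .X0, .xii, .p9,
   .xii, .y4, .p3, .y6, .xii, .y10, .p9, .taui, .xii, .y2, .p6, .xii, .p4, .xii, .y4, .tau, .xii, .y7, .p5],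
  [.z, .Z8, .Z7, .Z3, .Z1, .X10, .X9, .X6, .X5, .X4, .X3, .X1, .X0, .y8, .y3, .y2, .p5, .hi, .p5, .hi, .p10, .hi, .p9,
   .hi, .p6, .hi, .p6, .xii, .y2, .hi, .xii, .p10, .taui, .xii, .y6, .p, .xii, .p, .xii, .y4, .y5, .y8, .tau, .xii,
   .y6, .p7, .xii, .p8, .xii, .y8, .y10, .p3, .taui, .xii, .y2, .p8, .xii, .y8, .p6, .hi, .taui, .xii, .hi, .p8]⟩

theorem h859 : Hd F (g wAd) b859 := hdD (by decide +kernel)
theorem r859_0 : R9 F (g wAd) b859 [] 0 0 := .of (startD 0 1) (by decide +kernel)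
theorem r859_1 : R9 F (g wAd) b859 [] 0 1 := .of (startD 0 1) (by decide +kernel)
theorem r859_2 : R9 F (g wAd) b859 [] 0 2 := .of (startD 0 1) (by decide +kernel)
theorem r859_3 : R9 F (g wAd) b859 [] 1 0 := .of (startD 0 1) (by decide +kernel)
theorem r859_4 : R9 F (g wAd) b859 [] 1 1 := .of (startD 0 1) (by decide +kernel)
theorem r859_5 : R9 F (g wAd) b859 [] 1 2 := .of (startD 0 1) (by decide +kernel)
theorem r859_6 : R9 F (g wAd) b859 [] 2 0 := .of (startD 0 1) (by decide +kernel)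
theorem r859_7 : R9 F (g wAd) b859 [] 2 1 := .of (startD 0 1) (by decide +kernel)
theorem r859_8 : R9 F (g wAd) b859 [] 2 2 := .of (startD 0 1) (by decide +kernel)
theorem g859 : Gd F (g wAd) (1, d859) [] :=
  good9 ok h859 r859_0 r859_1 r859_2 r859_3 r859_4 r859_5 r859_6 r859_7 r859_8

theorem all : AllG F (g wAd) LD85 :=
  .cons g850 (.cons g851 (.cons g852 (.cons g853 (.cons g854 (.cons g855 (.cons g856 (.cons g857 (.cons g858 (.cons g859 (.nil))))))))))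

end Cfsg.Agent.BX.No33.Bk.D85
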