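import Cfsg.Agent.BX.No33.Cheap
set_option linter.all false

/-!
# Tests, diagonal case, part 86 (helper5; generated)
-/

set_option autoImplicit false
set_option maxRecDepth 100000
set_option Elab.async false

namespace Cfsg.Agent.BX.No33.Bk.D86

open Cfsg.Agent.H819.U33 Cfsg.Agent.BX.No33.Front

def b860 : Wd := ⟨1, d860,
  [.z, .Z10, .Z9, .Z8, .Z7, .Z6, .Z5, .Z3, .Z1, .X10, .X9, .X7, .X3, .X2, .X1, .X0, .y10, .y7, .y3, .y2, .y1, .p5,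
   .hi, .p4, .hi, .p7, .hi, .p3, .hi, .p, .hi, .p6, .hi, .xii, .y2, .p10, .xii, .y8, .p3, .hi, .tau, .xii, .p, .xii,
   .y1, .y10, .hi, .xii, .y3, .y9, .tau, .X0, .xii, .p3, .xii, .y2, .y8, .p10, .xii, .y4, .p9, .tau, .xii, .p2, .xii,
   .y6, .hi, .xii, .taui, .xii, .p8, .xii, .y4],
  [.Z10, .Z6, .Z4, .Z3, .Z2, .Z0, .X8, .X6, .X4, .X3, .X1, .y6, .y2, .y1, .p10, .hi, .p, .hi, .p4, .hi, .p3, .hi, .p,
   .xii, .y2, .tau, .xii, .y2, .p, .xii, .y2, .hi, .xii, .y4, .y5, .tau, .y1, .xii, .p5, .xii, .y1, .p9, .xii, .y7,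
   .y10, .taui, .xii, .p4, .xii, .y2, .y8, .p],
  [.Z10, .Z9, .Z4, .Z3, .Z2, .Z0, .X4, .X3, .X2, .X1, .X0, .y10, .y7, .y5, .hi, .p10, .hi, .p2, .hi, .p7, .hi, .p7,
   .hi, .p4, .xii, .hi, .xii, .y4, .p9, .xii, .y7, .taui, .xii, .p, .xii, .y2, .y10, .hi, .xii, .y7, .y10, .taui, .X0,
   .p10, .xii, .p10, .xii, .p5, .y8, .hi, .p5, .taui, .xii, .p2, .xii, .p4, .y3, .taui, .xii, .y2, .hi, .p6]⟩

theorem h860 : Hd F (g wAd) b860 := hdD (by decide +kernel)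
theorem r860_0 : R9 F (g wAd) b860 [] 0 0 := .of (startD 0 1) (by decide +kernel)
theorem r860_1 : R9 F (g wAd) b860 [] 0 1 := .of (startD 0 1) (by decide +kernel)
theorem r860_2 : R9 F (g wAd) b860 [] 0 2 := .of (startD 0 1) (by decide +kernel)
theorem r860_3 : R9 F (g wAd) b860 [] 1 0 := .of (startD 0 1) (by decide +kernel)
theorem r860_4 : R9 F (g wAd) b860 [] 1 1 := .of (startD 0 1) (by decide +kernel)
theorem r860_5 : R9 F (g wAd) b860 [] 1 2 := .of (startD 0 1) (by decide +kernel)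
theorem r860_6 : R9 F (g wAd) b860 [] 2 0 := .of (startD 0 1) (by decide +kernel)
theorem r860_7 : R9 F (g wAd) b860 [] 2 1 := .of (startD 0 1) (by decide +kernel)
theorem r860_8 : R9 F (g wAd) b860 [] 2 2 := .of (startD 0 1) (by decide +kernel)
theorem g860 : Gd F (g wAd) (1, d860) [] :=
  good9 ok h860 r860_0 r860_1 r860_2 r860_3 r860_4 r860_5 r860_6 r860_7 r860_8

def b861 : Wd := ⟨1, d861,
  [.z, .Z3, .Z2, .Z1, .Z0, .X10, .X9, .X8, .X7, .X5, .X3, .X0, .y10, .y7, .y6, .y5, .y4, .y3, .y1, .p7, .hi, .p6, .hi,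
   .p10, .hi, .p3, .hi, .p, .hi, .p8, .xii, .y2, .p2, .hi, .xii, .y8, .p3, .taui, .xii, .y1, .p, .xii, .p, .xii, .y3,
   .y9, .taui, .y1, .p7, .xii, .hi, .p5, .xii, .y8, .y10, .tau, .xii, .p4, .xii, .p5, .xii, .y10, .taui, .xii, .y7,
   .hi, .p4],
  [.z, .Z10, .Z9, .Z3, .Z2, .X10, .X5, .X3, .X2, .X1, .y7, .y5, .y3, .y2, .y1, .p8, .hi, .p9, .hi, .p4, .hi, .p2,
   .xii, .p10, .xii, .y1, .y7, .tau, .xii, .p, .hi, .xii, .p10, .taui, .hi, .xii, .y7, .p5, .xii, .y9, .p, .tau, .xii,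
   .hi, .p6, .xii, .y3, .y9, .p3, .taui, .xii, .hi, .p8],
  [.z, .Z9, .Z3, .X10, .X7, .X4, .X2, .y10, .y8, .y4, .y3, .y1, .p10, .hi, .p2, .hi, .p5, .hi, .p8, .hi, .p10, .hi,
   .p, .xii, .y2, .p, .hi, .xii, .p10, .taui, .y1, .xii, .p10, .xii, .y4, .p10, .xii, .y1, .y6, .taui, .p8, .xii, .y5,
   .p3, .xii, .p5, .y8, .hi, .p6, .tau, .xii, .y2, .p5, .xii, .y4, .p7, .taui, .xii, .p8]⟩

theorem h861 : Hd F (g wAd) b861 := hdD (by decide +kernel)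
theorem r861_0 : R9 F (g wAd) b861 [] 0 0 := .of (startD 0 1) (by decide +kernel)
theorem r861_1 : R9 F (g wAd) b861 [] 0 1 := .of (startD 0 1) (by decide +kernel)
theorem r861_2 : R9 F (g wAd) b861 [] 0 2 := .of (startD 0 2) (by decide +kernel)
theorem r861_3 : R9 F (g wAd) b861 [] 1 0 := .of (startD 0 1) (by decide +kernel)
theorem r861_4 : R9 F (g wAd) b861 [] 1 1 := .of (startD 0 1) (by decide +kernel)
theorem r861_5 : R9 F (g wAd) b861 [] 1 2 := .of (startD 0 1) (by decide +kernel)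
theorem r861_6 : R9 F (g wAd) b861 [] 2 0 := .of (startD 0 1) (by decide +kernel)
theorem r861_7 : R9 F (g wAd) b861 [] 2 1 := .of (startD 0 1) (by decide +kernel)
theorem r861_8 : R9 F (g wAd) b861 [] 2 2 := .of (startD 0 1) (by decide +kernel)
theorem g861 : Gd F (g wAd) (1, d861) [] :=
  good9 ok h861 r861_0 r861_1 r861_2 r861_3 r861_4 r861_5 r861_6 r861_7 r861_8

def b862 : Wd := ⟨1, d862,
  [.z, .Z8, .Z7, .Z6, .Z4, .X9, .X8, .X7, .X6, .X5, .X4, .X1, .X0, .y9, .y5, .y4, .y1, .p4, .hi, .p3, .hi, .p7, .hi,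
   .p8, .hi, .p7, .hi, .p7, .xii, .hi, .p3, .hi, .p5, .tau, .xii, .p3, .hi, .xii, .y3, .y5, .taui, .p5, .xii, .y5, .p,
   .xii, .y5, .taui, .xii, .p8, .xii, .p5, .y7, .hi, .p2],
  [.Z9, .Z8, .Z7, .Z0, .X10, .X8, .X6, .X4, .X2, .X1, .y3, .y1, .p6, .hi, .p4, .hi, .p10, .hi, .p6, .hi, .xii, .hi,
   .p8, .xii, .y4, .p2, .taui, .xii, .p, .xii, .y1, .y10, .hi, .xii, .y1, .tau, .X0, .xii, .p8, .xii, .y3, .p4, .xii,
   .y2, .y8, .y10, .taui, .xii, .y2, .p5, .xii, .y7, .p8, .xii, .y4, .y10, .taui, .xii, .hi],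
  [.z, .Z10, .Z9, .Z6, .Z5, .Z3, .Z2, .Z1, .Z0, .X10, .X8, .X2, .X0, .y10, .y9, .y8, .y7, .y6, .y4, .y2, .p7, .hi,
   .p10, .hi, .p5, .hi, .p9, .hi, .xii, .hi, .xii, .y6, .p10, .xii, .y9, .y10, .tau, .xii, .p, .xii, .hi, .y8, .xii,
   .y3, .y10, .taui, .X0, .p5, .xii, .y9, .p7, .xii, .p, .hi, .p7, .tau, .xii, .p9, .xii, .y4, .p9, .y4, .taui, .xii,
   .p5, .xii]⟩

theorem h862 : Hd F (g wAd) b862 := hdD (by decide +kernel)
theorem r862_0 : R9 F (g wAd) b862 [] 0 0 := .of (startD 0 1) (by decide +kernel)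
theorem r862_1 : R9 F (g wAd) b862 [] 0 1 := .of (startD 0 1) (by decide +kernel)
theorem r862_2 : R9 F (g wAd) b862 [] 0 2 := .of (startD 0 1) (by decide +kernel)
theorem r862_3 : R9 F (g wAd) b862 [] 1 0 := .of (startD 0 1) (by decide +kernel)
theorem r862_4 : R9 F (g wAd) b862 [] 1 1 := .of (startD 0 1) (by decide +kernel)
theorem r862_5 : R9 F (g wAd) b862 [] 1 2 := .of (startD 0 1) (by decide +kernel)
theorem r862_6 : R9 F (g wAd) b862 [] 2 0 := .of (startD 0 1) (by decide +kernel)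
theorem r862_7 : R9 F (g wAd) b862 [] 2 1 := .of (startD 0 1) (by decide +kernel)
theorem r862_8 : R9 F (g wAd) b862 [] 2 2 := .of (startD 0 1) (by decide +kernel)
theorem g862 : Gd F (g wAd) (1, d862) [] :=
  good9 ok h862 r862_0 r862_1 r862_2 r862_3 r862_4 r862_5 r862_6 r862_7 r862_8

def b863 : Wd := ⟨1, d863,
  [.Z10, .Z7, .Z5, .Z3, .Z2, .X6, .X3, .X2, .X1, .X0, .y10, .y8, .y7, .y5, .y4, .y1, .hi, .p4, .hi, .p4, .hi, .p7,
   .hi, .p, .hi, .p10, .xii, .p10, .xii, .y6, .p2, .xii, .y5, .taui, .xii, .p, .xii, .y4, .hi, .xii, .y7, .y10, .tau,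
   .X0, .p10, .xii, .p2, .xii, .y5, .p5, .hi, .p4, .taui, .xii, .y2, .p4, .xii, .y2, .p9, .xii, .taui, .xii, .y7, .p2],
  [.Z9, .Z8, .Z6, .Z2, .Z1, .X9, .X6, .X5, .X4, .X3, .X2, .y10, .y9, .y8, .y4, .hi, .p5, .hi, .p4, .hi, .p7, .hi, .p9,
   .hi, .p6, .xii, .p10, .xii, .y4, .taui, .xii, .y1, .p, .xii, .p, .xii, .y1, .y9, .tau, .p2, .xii, .p, .xii, .y1,
   .hi, .p4, .y4, .taui, .xii, .p9, .xii, .y6, .p5, .xii, .y1, .y2, .tau],
  [.z, .Z9, .Z8, .Z7, .Z5, .Z4, .X8, .X7, .X5, .X3, .X1, .X0, .y10, .y9, .p4, .hi, .p8, .hi, .p3, .hi, .p6, .hi, .p7,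
   .hi, .p7, .hi, .xii, .p, .xii, .y4, .y10, .hi, .xii, .y5, .taui, .xii, .y1, .p, .xii, .p, .xii, .y5, .tau, .xii,
   .p6, .xii, .y8, .p2, .xii, .y9, .p9, .taui, .xii, .p8, .xii, .y5, .p4, .y1, .xii, .y10, .taui]⟩

theorem h863 : Hd F (g wAd) b863 := hdD (by decide +kernel)
theorem r863_0 : R9 F (g wAd) b863 [] 0 0 := .of (startD 0 1) (by decide +kernel)
theorem r863_1 : R9 F (g wAd) b863 [] 0 1 := .of (startD 0 1) (by decide +kernel)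
theorem r863_2 : R9 F (g wAd) b863 [] 0 2 := .of (startD 0 1) (by decide +kernel)
theorem r863_3 : R9 F (g wAd) b863 [] 1 0 := .of (startD 0 1) (by decide +kernel)
theorem r863_4 : R9 F (g wAd) b863 [] 1 1 := .of (startD 0 1) (by decide +kernel)
theorem r863_5 : R9 F (g wAd) b863 [] 1 2 := .of (startD 0 1) (by decide +kernel)
theorem r863_6 : R9 F (g wAd) b863 [] 2 0 := .of (startD 0 1) (by decide +kernel)
theorem r863_7 : R9 F (g wAd) b863 [] 2 1 := .of (startD 0 1) (by decide +kernel)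
theorem r863_8 : R9 F (g wAd) b863 [] 2 2 := .of (startD 0 1) (by decide +kernel)
theorem g863 : Gd F (g wAd) (1, d863) [] :=
  good9 ok h863 r863_0 r863_1 r863_2 r863_3 r863_4 r863_5 r863_6 r863_7 r863_8

def b864 : Wd := ⟨1, d864,
  [.Z10, .Z5, .Z3, .Z1, .Z0, .X8, .X7, .X4, .X2, .X1, .y10, .y9, .y8, .y7, .y6, .y4, .y2, .hi, .p9, .hi, .p7, .hi, .p,
   .hi, .p, .hi, .p2, .xii, .hi, .xii, .y6, .p10, .xii, .y10, .taui, .xii, .y1, .p, .xii, .y4, .y10, .p, .xii, .y6,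
   .tau, .p5, .xii, .p7, .y7, .xii, .y7, .p10, .y7, .taui, .xii, .p6, .xii, .p2, .y9, .xii, .y1, .y4, .taui, .xii,
   .hi, .xii, .y2],
  [.z, .Z6, .Z3, .Z2, .Z1, .X10, .X9, .y10, .y7, .y6, .y3, .p6, .hi, .p8, .hi, .p9, .hi, .p, .hi, .p4, .hi, .xii, .y2,
   .p10, .taui, .y1, .xii, .p10, .xii, .y5, .p10, .xii, .y2, .y8, .taui, .X0, .xii, .y2, .hi, .xii, .p10, .xii, .p5,
   .y5, .taui, .xii, .p10, .xii, .p6, .xii, .y4, .y7],
  [.Z10, .Z6, .Z5, .Z3, .Z1, .X9, .X8, .X4, .X0, .y10, .y6, .y5, .y4, .p3, .hi, .p10, .hi, .p, .hi, .p7, .hi, .p,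
   .xii, .y2, .p, .hi, .xii, .p10, .taui, .xii, .p, .xii, .y4, .hi, .xii, .y5, .tau, .xii, .y6, .p, .xii, .p, .xii,
   .y1, .y2, .y10, .tau, .X0, .p10, .xii, .y10, .p8, .xii, .y4, .tau, .xii, .p2, .xii, .p5, .y7, .hi, .p9, .taui,
   .xii, .hi, .p10]⟩

theorem h864 : Hd F (g wAd) b864 := hdD (by decide +kernel)
theorem r864_0 : R9 F (g wAd) b864 [] 0 0 := .of (startD 0 1) (by decide +kernel)
theorem r864_1 : R9 F (g wAd) b864 [] 0 1 := .of (startD 0 1) (by decide +kernel)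
theorem r864_2 : R9 F (g wAd) b864 [] 0 2 := .of (startD 0 2) (by decide +kernel)
theorem r864_3 : R9 F (g wAd) b864 [] 1 0 := .of (startD 0 1) (by decide +kernel)
theorem r864_4 : R9 F (g wAd) b864 [] 1 1 := .of (startD 0 1) (by decide +kernel)
theorem r864_5 : R9 F (g wAd) b864 [] 1 2 := .of (startD 0 1) (by decide +kernel)
theorem r864_6 : R9 F (g wAd) b864 [] 2 0 := .of (startD 0 1) (by decide +kernel)
theorem r864_7 : R9 F (g wAd) b864 [] 2 1 := .of (startD 0 1) (by decide +kernel)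
theorem r864_8 : R9 F (g wAd) b864 [] 2 2 := .of (startD 0 1) (by decide +kernel)
theorem g864 : Gd F (g wAd) (1, d864) [] :=
  good9 ok h864 r864_0 r864_1 r864_2 r864_3 r864_4 r864_5 r864_6 r864_7 r864_8

def b865 : Wd := ⟨1, d865,
  [.z, .Z8, .Z5, .Z3, .Z2, .Z0, .X10, .X9, .X6, .X3, .X1, .y8, .y2, .p10, .hi, .p6, .hi, .p10, .hi, .p10, .hi, .p5,
   .hi, .p10, .xii, .p10, .xii, .p8, .y7, .xii, .y4, .tau, .xii, .y1, .p, .xii, .p, .xii, .y4, .y5, .tau, .y1, .p6,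
   .xii, .p5, .xii, .p3, .y10, .tau, .xii, .y2, .p5, .xii, .y7, .p9, .xii, .y1, .tau, .xii, .y7, .p6],
  [.z, .Z10, .Z9, .Z7, .Z6, .Z0, .X10, .X7, .X3, .y10, .y8, .y5, .y4, .y1, .p10, .hi, .p9, .hi, .p7, .hi, .p9, .hi,
   .p8, .hi, .p4, .hi, .p, .xii, .p10, .xii, .y4, .tau, .y1, .xii, .y1, .hi, .xii, .p10, .xii, .y8, .tau, .X0, .p9,
   .xii, .y9, .p2, .hi, .xii, .y6, .p2, .tau, .xii, .p6, .xii, .y4, .y7, .p10, .xii],
  [.z, .Z10, .Z9, .Z8, .Z7, .Z4, .Z3, .Z2, .X9, .X7, .X6, .X5, .X4, .X3, .y10, .y8, .y6, .y5, .y3, .hi, .p9, .hi, .p,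
   .hi, .p, .hi, .p3, .hi, .p5, .hi, .p10, .xii, .p3, .hi, .xii, .y7, .p6, .taui, .y1, .xii, .p10, .xii, .y8, .p10,
   .xii, .y8, .y9, .taui, .X0, .xii, .p3, .xii, .p2, .y6, .xii, .y1, .y3, .p6, .tau, .xii, .p4, .xii, .p3, .y4, .hi,
   .tau, .xii, .p8]⟩

theorem h865 : Hd F (g wAd) b865 := hdD (by decide +kernel)
theorem r865_0 : R9 F (g wAd) b865 [] 0 0 := .of (startD 0 1) (by decide +kernel)
theorem r865_1 : R9 F (g wAd) b865 [] 0 1 := .of (startD 0 1) (by decide +kernel)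
theorem r865_2 : R9 F (g wAd) b865 [] 0 2 := .of (startD 0 1) (by decide +kernel)
theorem r865_3 : R9 F (g wAd) b865 [] 1 0 := .of (startD 0 1) (by decide +kernel)
theorem r865_4 : R9 F (g wAd) b865 [] 1 1 := .of (startD 0 1) (by decide +kernel)
theorem r865_5 : R9 F (g wAd) b865 [] 1 2 := .of (startD 0 1) (by decide +kernel)
theorem r865_6 : R9 F (g wAd) b865 [] 2 0 := .of (startD 0 1) (by decide +kernel)
theorem r865_7 : R9 F (g wAd) b865 [] 2 1 := .of (startD 0 1) (by decide +kernel)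
theorem r865_8 : R9 F (g wAd) b865 [] 2 2 := .of (startD 0 1) (by decide +kernel)
theorem g865 : Gd F (g wAd) (1, d865) [] :=
  good9 ok h865 r865_0 r865_1 r865_2 r865_3 r865_4 r865_5 r865_6 r865_7 r865_8

def b866 : Wd := ⟨1, d866,
  [.Z9, .Z8, .Z4, .Z3, .Z1, .X8, .X4, .X0, .y9, .y8, .y7, .y5, .y2, .y1, .p8, .hi, .p9, .hi, .p3, .hi, .p10, .hi, .p4,
   .hi, .xii, .p, .xii, .y6, .p3, .hi, .taui, .xii, .y2, .p, .xii, .y4, .hi, .xii, .y2, .y7, .taui, .X0, .p9, .xii,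
   .p2, .hi, .xii, .y5, .y7, .taui, .xii, .y2, .p8, .xii, .y9, .p2, .xii, .y8, .tau, .xii, .p],
  [.Z9, .Z7, .Z3, .Z0, .X10, .X6, .X3, .X2, .y10, .y9, .y8, .y7, .y5, .y2, .p5, .hi, .p4, .hi, .p5, .hi, .p10, .hi,
   .p10, .xii, .hi, .p8, .xii, .y2, .y9, .tau, .y1, .xii, .y6, .p10, .xii, .y8, .p10, .xii, .y4, .taui, .y1, .xii,
   .p5, .xii, .y8, .p2, .xii, .y3, .hi, .taui, .xii, .p7, .xii, .hi, .p6, .y2, .taui, .xii, .p, .hi],
  [.z, .Z10, .Z9, .Z7, .Z6, .X8, .X7, .X3, .X0, .y10, .y9, .y8, .y7, .y6, .y3, .y1, .p4, .hi, .p8, .hi, .p3, .hi, .p,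
   .hi, .p6, .xii, .p10, .xii, .y5, .p9, .xii, .y7, .tau, .xii, .p, .xii, .hi, .y8, .xii, .y3, .tau, .X0, .p9, .xii,
   .p, .hi, .y7, .xii, .y5, .p2, .tau, .xii, .p7, .xii, .y6, .p9, .xii, .y1, .tau, .xii, .p4, .hi]⟩

theorem h866 : Hd F (g wAd) b866 := hdD (by decide +kernel)
theorem r866_0 : R9 F (g wAd) b866 [] 0 0 := .of (startD 0 1) (by decide +kernel)
theorem r866_1 : R9 F (g wAd) b866 [] 0 1 := .of (startD 0 1) (by decide +kernel)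
theorem r866_2 : R9 F (g wAd) b866 [] 0 2 := .of (startD 0 1) (by decide +kernel)
theorem r866_3 : R9 F (g wAd) b866 [] 1 0 := .of (startD 0 1) (by decide +kernel)
theorem r866_4 : R9 F (g wAd) b866 [] 1 1 := .of (startD 0 2) (by decide +kernel)
theorem r866_5 : R9 F (g wAd) b866 [] 1 2 := .of (startD 0 1) (by decide +kernel)
theorem r866_6 : R9 F (g wAd) b866 [] 2 0 := .of (startD 0 2) (by decide +kernel)
theorem r866_7 : R9 F (g wAd) b866 [] 2 1 := .of (startD 0 2) (by decide +kernel)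
theorem r866_8 : R9 F (g wAd) b866 [] 2 2 := .of (startD 0 1) (by decide +kernel)
theorem g866 : Gd F (g wAd) (1, d866) [] :=
  good9 ok h866 r866_0 r866_1 r866_2 r866_3 r866_4 r866_5 r866_6 r866_7 r866_8

def b867 : Wd := ⟨1, d867,
  [.z, .Z10, .Z8, .Z6, .Z5, .Z3, .Z2, .Z1, .X7, .X3, .X2, .X1, .y10, .y9, .y4, .y3, .y1, .p7, .hi, .p5, .hi, .p5, .hi,
   .p, .hi, .p3, .hi, .p5, .hi, .xii, .hi, .p8, .xii, .p2, .y10, .tau, .y1, .xii, .y2, .hi, .xii, .y7, .p10, .xii,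
   .taui, .X0, .p8, .xii, .y6, .p4, .hi, .xii, .p7, .hi, .tau, .xii, .y2, .p9, .xii, .p3, .xii, .y2, .y8, .taui, .xii,
   .y6, .hi, .p9],
  [.z, .Z10, .Z8, .Z4, .Z3, .X10, .X8, .X7, .X4, .X0, .y9, .y6, .y5, .y4, .p6, .hi, .p7, .hi, .p4, .hi, .p7, .hi,
   .p10, .xii, .hi, .xii, .p10, .xii, .y2, .y8, .taui, .xii, .y2, .p, .xii, .y3, .hi, .xii, .y7, .y10, .taui, .xii,
   .p7, .xii, .y2, .y7, .p8, .xii, .y1, .y5, .tau, .xii, .y2, .p8, .xii, .p7, .y5],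
  [.z, .Z8, .Z7, .Z4, .Z1, .X10, .X7, .X6, .X3, .y10, .y8, .y7, .y6, .y5, .y4, .y3, .y1, .hi, .p9, .hi, .p7, .hi, .p4,
   .hi, .p5, .hi, .p8, .hi, .p10, .xii, .hi, .xii, .p2, .xii, .y5, .y8, .tau, .xii, .y6, .p, .xii, .p, .xii, .y4, .y6,
   .taui, .X0, .y1, .xii, .p5, .xii, .p5, .y7, .y10, .xii, .y4, .taui, .xii, .p5, .xii, .y2, .y7, .hi, .p5, .tau,
   .xii, .p]⟩

theorem h867 : Hd F (g wAd) b867 := hdD (by decide +kernel)
theorem r867_0 : R9 F (g wAd) b867 [] 0 0 := .of (startD 0 1) (by decide +kernel)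
theorem r867_1 : R9 F (g wAd) b867 [] 0 1 := .of (startD 0 1) (by decide +kernel)
theorem r867_2 : R9 F (g wAd) b867 [] 0 2 := .of (startD 0 1) (by decide +kernel)
theorem r867_3 : R9 F (g wAd) b867 [] 1 0 := .of (startD 0 1) (by decide +kernel)
theorem r867_4 : R9 F (g wAd) b867 [] 1 1 := .of (startD 0 1) (by decide +kernel)
theorem r867_5 : R9 F (g wAd) b867 [] 1 2 := .of (startD 0 1) (by decide +kernel)
theorem r867_6 : R9 F (g wAd) b867 [] 2 0 := .of (startD 0 1) (by decide +kernel)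
theorem r867_7 : R9 F (g wAd) b867 [] 2 1 := .of (startD 0 1) (by decide +kernel)
theorem r867_8 : R9 F (g wAd) b867 [] 2 2 := .of (startD 0 1) (by decide +kernel)
theorem g867 : Gd F (g wAd) (1, d867) [] :=
  good9 ok h867 r867_0 r867_1 r867_2 r867_3 r867_4 r867_5 r867_6 r867_7 r867_8

def b868 : Wd := ⟨1, d868,
  [.z, .Z8, .Z6, .Z1, .Z0, .X7, .X6, .X5, .X3, .X2, .X1, .X0, .y10, .y9, .y8, .y6, .y4, .y1, .p10, .hi, .p8, .hi, .p9,
   .hi, .p10, .hi, .p3, .hi, .p10, .hi, .xii, .p10, .xii, .y4, .taui, .xii, .y2, .p, .xii, .y2, .hi, .xii, .y3, .y4,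
   .taui, .xii, .p10, .xii, .y1, .p10, .xii, .y1, .y8, .tau, .xii, .p6, .xii, .y2, .y4, .hi, .xii, .tau, .xii, .p8,
   .xii],
  [.z, .Z10, .Z9, .Z6, .Z2, .X7, .X0, .y6, .y5, .y3, .hi, .p8, .hi, .p9, .hi, .p10, .hi, .p8, .hi, .p3, .xii, .p,
   .xii, .y2, .p4, .tau, .y1, .xii, .y2, .hi, .xii, .p10, .xii, .y4, .taui, .p2, .xii, .p3, .hi, .xii, .y3, .p8, .y3,
   .tau, .xii, .p9, .xii, .p9, .xii, .y6, .y7, .tau],
  [.Z10, .Z9, .Z8, .Z5, .Z4, .Z3, .Z2, .Z1, .X8, .X3, .X0, .y10, .y6, .y5, .y3, .p7, .hi, .p3, .hi, .p6, .hi, .p3,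
   .hi, .p5, .hi, .p8, .xii, .hi, .xii, .p6, .xii, .y7, .tau, .xii, .p, .xii, .y1, .y6, .hi, .xii, .y5, .taui, .xii,
   .p7, .xii, .y7, .p8, .xii, .y8, .p, .tau, .xii, .y2, .p3, .xii, .y1, .p2, .xii, .y7, .taui, .xii, .p10]⟩

theorem h868 : Hd F (g wAd) b868 := hdD (by decide +kernel)
theorem r868_0 : R9 F (g wAd) b868 [] 0 0 := .of (startD 0 1) (by decide +kernel)
theorem r868_1 : R9 F (g wAd) b868 [] 0 1 := .of (startD 0 1) (by decide +kernel)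
theorem r868_2 : R9 F (g wAd) b868 [] 0 2 := .of (startD 0 1) (by decide +kernel)
theorem r868_3 : R9 F (g wAd) b868 [] 1 0 := .of (startD 0 1) (by decide +kernel)
theorem r868_4 : R9 F (g wAd) b868 [] 1 1 := .of (startD 0 1) (by decide +kernel)
theorem r868_5 : R9 F (g wAd) b868 [] 1 2 := .of (startD 0 1) (by decide +kernel)
theorem r868_6 : R9 F (g wAd) b868 [] 2 0 := .of (startD 0 1) (by decide +kernel)
theorem r868_7 : R9 F (g wAd) b868 [] 2 1 := .of (startD 0 1) (by decide +kernel)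
theorem r868_8 : R9 F (g wAd) b868 [] 2 2 := .of (startD 0 1) (by decide +kernel)
theorem g868 : Gd F (g wAd) (1, d868) [] :=
  good9 ok h868 r868_0 r868_1 r868_2 r868_3 r868_4 r868_5 r868_6 r868_7 r868_8

def b869 : Wd := ⟨1, d869,
  [.z, .Z9, .Z8, .Z7, .Z5, .Z2, .X9, .X7, .X2, .y9, .y4, .y2, .y1, .p10, .hi, .p8, .hi, .p7, .hi, .p5, .hi, .p, .hi,
   .p4, .xii, .p, .xii, .p4, .hi, .p8, .taui, .y1, .xii, .y1, .hi, .xii, .y6, .p10, .xii, .y4, .y8, .taui, .X0, .p9,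
   .xii, .y7, .hi, .xii, .y5, .p3, .taui, .xii, .p7, .xii, .y2, .p7, .xii, .y4, .tau, .xii, .y7, .p2, .xii],
  [.Z5, .Z1, .Z0, .X10, .X9, .X7, .X0, .y10, .y9, .y7, .y6, .y5, .y3, .p3, .hi, .p6, .hi, .p3, .hi, .p7, .hi, .p3,
   .hi, .xii, .p10, .xii, .p9, .xii, .y1, .y5, .y7, .taui, .xii, .y1, .p, .xii, .y4, .p, .xii, .y3, .y4, .tau, .X0,
   .xii, .p4, .xii, .p4, .xii, .y1, .y8, .p10, .taui, .xii, .y2, .p10, .xii, .y10],
  [.Z6, .Z5, .Z2, .Z1, .Z0, .X10, .X8, .X4, .X3, .X2, .X1, .y10, .y9, .y4, .y3, .y1, .hi, .p9, .hi, .p, .hi, .p4, .hi,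
   .p, .hi, .p4, .hi, .p, .hi, .xii, .p, .xii, .hi, .y8, .xii, .y5, .taui, .xii, .p, .xii, .y4, .hi, .xii, .y1, .y10,
   .tau, .p9, .xii, .p8, .xii, .y5, .y7, .p4, .xii, .tau, .xii, .p3, .xii, .p5, .y2, .hi, .p, .tau, .xii, .y2, .p8]⟩

theorem h869 : Hd F (g wAd) b869 := hdD (by decide +kernel)
theorem r869_0 : R9 F (g wAd) b869 [] 0 0 := .of (startD 0 1) (by decide +kernel)
theorem r869_1 : R9 F (g wAd) b869 [] 0 1 := .of (startD 0 1) (by decide +kernel)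
theorem r869_2 : R9 F (g wAd) b869 [] 0 2 := .of (startD 0 1) (by decide +kernel)
theorem r869_3 : R9 F (g wAd) b869 [] 1 0 := .of (startD 0 1) (by decide +kernel)
theorem r869_4 : R9 F (g wAd) b869 [] 1 1 := .of (startD 0 1) (by decide +kernel)
theorem r869_5 : R9 F (g wAd) b869 [] 1 2 := .of (startD 0 1) (by decide +kernel)
theorem r869_6 : R9 F (g wAd) b869 [] 2 0 := .of (startD 0 1) (by decide +kernel)
theorem r869_7 : R9 F (g wAd) b869 [] 2 1 := .of (startD 0 1) (by decide +kernel)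
theorem r869_8 : R9 F (g wAd) b869 [] 2 2 := .of (startD 0 1) (by decide +kernel)
theorem g869 : Gd F (g wAd) (1, d869) [] :=
  good9 ok h869 r869_0 r869_1 r869_2 r869_3 r869_4 r869_5 r869_6 r869_7 r869_8

theorem all : AllG F (g wAd) LD86 :=
  .cons g860 (.cons g861 (.cons g862 (.cons g863 (.cons g864 (.cons g865 (.cons g866 (.cons g867 (.cons g868 (.cons g869 (.nil))))))))))

end Cfsg.Agent.BX.No33.Bk.D86
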