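import Cfsg.Agent.BX.No33.Cheap
set_option linter.all false

/-!
# Tests, diagonal case, part 87 (helper5; generated)
-/

set_option autoImplicit false
set_option maxRecDepth 100000
set_option Elab.async false

namespace Cfsg.Agent.BX.No33.Bk.D87

open Cfsg.Agent.H819.U33 Cfsg.Agent.BX.No33.Front

def b870 : Wd := ⟨1, d870,
  [.Z9, .Z8, .Z7, .Z6, .Z5, .Z4, .Z3, .Z2, .X10, .X9, .X6, .X5, .X4, .X2, .X0, .y10, .y6, .y5, .y3, .p4, .hi, .p3,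
   .hi, .p3, .hi, .p6, .hi, .p7, .hi, .p3, .xii, .p10, .xii, .y4, .p2, .xii, .y7, .tau, .xii, .p, .xii, .y2, .hi,
   .xii, .y5, .y8, .tau, .y1, .p6, .xii, .p8, .xii, .p6, .y4, .hi, .p8, .taui, .xii, .p7, .xii, .hi, .p8, .hi, .y4,
   .tau, .xii, .y2, .p7],
  [.z, .Z7, .Z6, .Z4, .Z3, .Z1, .X9, .X7, .X6, .X5, .X1, .y9, .y8, .y7, .y5, .y4, .y3, .y1, .hi, .p3, .hi, .p, .hi,
   .p8, .xii, .y2, .p10, .xii, .y10, .p8, .taui, .y1, .xii, .y2, .hi, .xii, .y9, .p10, .xii, .y9, .taui, .X0, .xii,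
   .p6, .xii, .p10, .y10, .xii, .p8, .taui, .xii, .p6, .xii, .y5, .p4, .xii, .tau, .xii, .y7],
  [.Z6, .Z1, .X8, .X5, .X4, .X3, .X2, .X1, .X0, .y8, .y7, .y6, .y5, .y1, .hi, .p8, .hi, .p7, .hi, .p4, .hi, .p5, .hi,
   .p3, .hi, .p8, .hi, .xii, .hi, .xii, .p10, .y8, .xii, .y10, .tau, .xii, .p, .xii, .y2, .y10, .hi, .xii, .y6, .tau,
   .X0, .p7, .xii, .y2, .p8, .xii, .y6, .hi, .tau, .xii, .y2, .p4, .xii, .y6, .p6, .xii, .y8, .tau, .xii, .y6, .p9]⟩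

theorem h870 : Hd F (g wAd) b870 := hdD (by decide +kernel)
theorem r870_0 : R9 F (g wAd) b870 [] 0 0 := .of (startD 0 1) (by decide +kernel)
theorem r870_1 : R9 F (g wAd) b870 [] 0 1 := .of (startD 0 1) (by decide +kernel)
theorem r870_2 : R9 F (g wAd) b870 [] 0 2 := .of (startD 0 1) (by decide +kernel)
theorem r870_3 : R9 F (g wAd) b870 [] 1 0 := .of (startD 0 1) (by decide +kernel)
theorem r870_4 : R9 F (g wAd) b870 [] 1 1 := .of (startD 0 1) (by decide +kernel)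
theorem r870_5 : R9 F (g wAd) b870 [] 1 2 := .of (startD 0 1) (by decide +kernel)
theorem r870_6 : R9 F (g wAd) b870 [] 2 0 := .of (startD 0 1) (by decide +kernel)
theorem r870_7 : R9 F (g wAd) b870 [] 2 1 := .of (startD 0 1) (by decide +kernel)
theorem r870_8 : R9 F (g wAd) b870 [] 2 2 := .of (startD 0 1) (by decide +kernel)
theorem g870 : Gd F (g wAd) (1, d870) [] :=
  good9 ok h870 r870_0 r870_1 r870_2 r870_3 r870_4 r870_5 r870_6 r870_7 r870_8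

def b871 : Wd := ⟨1, d871,
  [.Z10, .Z8, .Z7, .Z5, .Z3, .Z2, .Z1, .Z0, .X9, .X1, .X0, .y8, .y7, .y5, .y2, .p2, .hi, .p8, .hi, .p5, .hi, .p10,
   .hi, .p5, .hi, .p, .xii, .hi, .p8, .xii, .p2, .y10, .tau, .xii, .p, .xii, .y2, .hi, .xii, .y5, .y8, .tau, .y1,
   .xii, .p5, .xii, .y5, .p5, .xii, .y1, .y9, .tau, .xii, .p5, .xii, .p8, .y2, .y4, .xii, .y1, .tau, .xii, .p2],
  [.Z10, .Z9, .Z7, .Z4, .X10, .X8, .X7, .X5, .X4, .X3, .X2, .X0, .y9, .y8, .y7, .y6, .y4, .hi, .p9, .hi, .p4, .hi,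
   .p10, .hi, .p5, .hi, .p7, .xii, .y2, .p3, .hi, .tau, .xii, .p, .xii, .y4, .hi, .xii, .y7, .y8, .taui, .y1, .p7,
   .xii, .p5, .xii, .y1, .y9, .p8, .tau, .xii, .y2, .p4, .xii, .y5, .p3, .hi, .p, .tau, .xii, .p8],
  [.z, .Z10, .Z8, .Z6, .Z4, .Z0, .X6, .X5, .X4, .X2, .X1, .y8, .y5, .p6, .hi, .p6, .hi, .p8, .hi, .p9, .hi, .p7, .hi,
   .p6, .hi, .xii, .y2, .p2, .hi, .xii, .y8, .p3, .tau, .xii, .y6, .p, .xii, .y2, .p, .xii, .y6, .taui, .X0, .y1,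
   .xii, .p7, .xii, .y1, .y6, .p3, .xii, .y8, .y9, .taui, .xii, .p9, .xii, .y3, .p3, .hi, .p7, .taui, .xii, .y2, .p,
   .hi]⟩

theorem h871 : Hd F (g wAd) b871 := hdD (by decide +kernel)
theorem r871_0 : R9 F (g wAd) b871 [] 0 0 := .of (startD 0 1) (by decide +kernel)
theorem r871_1 : R9 F (g wAd) b871 [] 0 1 := .of (startD 0 1) (by decide +kernel)
theorem r871_2 : R9 F (g wAd) b871 [] 0 2 := .of (startD 0 1) (by decide +kernel)
theorem r871_3 : R9 F (g wAd) b871 [] 1 0 := .of (startD 0 1) (by decide +kernel)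
theorem r871_4 : R9 F (g wAd) b871 [] 1 1 := .of (startD 0 1) (by decide +kernel)
theorem r871_5 : R9 F (g wAd) b871 [] 1 2 := .of (startD 0 1) (by decide +kernel)
theorem r871_6 : R9 F (g wAd) b871 [] 2 0 := .of (startD 0 1) (by decide +kernel)
theorem r871_7 : R9 F (g wAd) b871 [] 2 1 := .of (startD 0 1) (by decide +kernel)
theorem r871_8 : R9 F (g wAd) b871 [] 2 2 := .of (startD 0 1) (by decide +kernel)
theorem g871 : Gd F (g wAd) (1, d871) [] :=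
  good9 ok h871 r871_0 r871_1 r871_2 r871_3 r871_4 r871_5 r871_6 r871_7 r871_8

def b872 : Wd := ⟨1, d872,
  [.Z10, .Z9, .Z8, .Z6, .Z3, .Z1, .X10, .X9, .X8, .X6, .X5, .X4, .X0, .y9, .y8, .y5, .y4, .y2, .y1, .hi, .p9, .hi,
   .p6, .hi, .p10, .hi, .p5, .hi, .p6, .hi, .p2, .xii, .p3, .hi, .xii, .y9, .taui, .xii, .y6, .p, .xii, .p, .xii, .y5,
   .y8, .taui, .y1, .xii, .p10, .xii, .p10, .y7, .xii, .y4, .y8, .taui, .p10, .xii, .y10, .p6, .xii, .y9, .taui, .xii,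
   .p9, .xii, .y4, .p2, .y2, .hi, .p2, .taui, .xii, .p],
  [.Z9, .Z8, .Z5, .Z2, .Z1, .X10, .X7, .X5, .X3, .X2, .y7, .y5, .p10, .hi, .p3, .hi, .p10, .hi, .p7, .xii, .p10, .xii,
   .y4, .taui, .y1, .xii, .p10, .xii, .y2, .p10, .xii, .y2, .y8, .taui, .X0, .p7, .xii, .y4, .p7, .xii, .y10, .p3,
   .hi, .tau, .xii, .p8, .xii, .y6, .p4, .xii, .y6, .taui, .xii, .p5, .hi, .p9],
  [.Z8, .Z7, .Z6, .Z5, .Z4, .Z3, .Z2, .X6, .X5, .X3, .X2, .X1, .X0, .y6, .y5, .y2, .y1, .p3, .hi, .p, .hi, .p, .hi,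
   .p5, .hi, .p3, .hi, .p9, .hi, .xii, .y2, .hi, .p8, .hi, .p2, .taui, .y1, .xii, .y1, .hi, .xii, .p10, .xii, .y10,
   .tau, .X0, .xii, .p8, .xii, .p4, .y9, .xii, .y4, .p6, .taui, .xii, .p5, .xii, .y2, .p2, .y10, .xii, .y9, .taui,
   .xii, .p4, .hi, .p9]⟩

theorem h872 : Hd F (g wAd) b872 := hdD (by decide +kernel)
theorem r872_0 : R9 F (g wAd) b872 [] 0 0 := .of (startD 0 1) (by decide +kernel)
theorem r872_1 : R9 F (g wAd) b872 [] 0 1 := .of (startD 0 1) (by decide +kernel)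
theorem r872_2 : R9 F (g wAd) b872 [] 0 2 := .of (startD 0 1) (by decide +kernel)
theorem r872_3 : R9 F (g wAd) b872 [] 1 0 := .of (startD 0 1) (by decide +kernel)
theorem r872_4 : R9 F (g wAd) b872 [] 1 1 := .of (startD 0 1) (by decide +kernel)
theorem r872_5 : R9 F (g wAd) b872 [] 1 2 := .of (startD 0 1) (by decide +kernel)
theorem r872_6 : R9 F (g wAd) b872 [] 2 0 := .of (startD 0 1) (by decide +kernel)
theorem r872_7 : R9 F (g wAd) b872 [] 2 1 := .of (startD 0 1) (by decide +kernel)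
theorem r872_8 : R9 F (g wAd) b872 [] 2 2 := .of (startD 0 1) (by decide +kernel)
theorem g872 : Gd F (g wAd) (1, d872) [] :=
  good9 ok h872 r872_0 r872_1 r872_2 r872_3 r872_4 r872_5 r872_6 r872_7 r872_8

def b873 : Wd := ⟨1, d873,
  [.z, .Z10, .Z9, .Z7, .Z6, .Z4, .X10, .X7, .X6, .X5, .X4, .X3, .X0, .y8, .y7, .y6, .y5, .y3, .y2, .p3, .hi, .p9, .hi,
   .p4, .hi, .p3, .hi, .p7, .hi, .p7, .xii, .y2, .p, .hi, .xii, .p10, .tau, .y1, .xii, .p10, .xii, .y5, .p10, .xii,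
   .y8, .tau, .xii, .p, .xii, .y3, .hi, .xii, .y7, .y10, .taui, .p8, .xii, .y6, .p3, .xii, .y8, .tau, .xii, .p4, .xii,
   .y3, .y4, .hi, .p10, .taui, .xii, .p, .hi],
  [.Z10, .Z6, .Z4, .Z3, .Z2, .Z0, .X10, .X9, .X8, .X6, .X4, .X2, .X1, .y6, .y5, .y4, .y2, .p8, .hi, .p8, .hi, .p, .hi,
   .p5, .hi, .p8, .xii, .p10, .xii, .y6, .p8, .taui, .xii, .p, .xii, .hi, .y8, .xii, .y1, .y4, .tau, .X0, .p9, .xii,
   .y2, .p, .xii, .hi, .y7, .tau, .xii, .p6, .xii, .y5, .p2, .xii, .y4, .taui, .xii, .hi, .p9],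
  [.z, .Z10, .Z9, .Z8, .Z6, .Z4, .Z0, .X7, .X6, .X3, .X2, .y10, .y9, .y7, .y5, .y4, .y3, .y1, .p10, .hi, .p, .hi, .p7,
   .hi, .p6, .hi, .p8, .xii, .y2, .p3, .hi, .xii, .y3, .p6, .tau, .xii, .y2, .p, .xii, .y2, .hi, .xii, .y4, .y7, .tau,
   .X0, .y1, .xii, .p9, .xii, .y7, .y10, .p6, .xii, .y3, .tau, .xii, .p6, .xii, .p7, .y2, .xii, .y9, .tau, .xii, .p6,
   .xii, .y8]⟩

theorem h873 : Hd F (g wAd) b873 := hdD (by decide +kernel)
theorem r873_0 : R9 F (g wAd) b873 [] 0 0 := .of (startD 0 1) (by decide +kernel)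
theorem r873_1 : R9 F (g wAd) b873 [] 0 1 := .of (startD 0 1) (by decide +kernel)
theorem r873_2 : R9 F (g wAd) b873 [] 0 2 := .of (startD 0 1) (by decide +kernel)
theorem r873_3 : R9 F (g wAd) b873 [] 1 0 := .of (startD 0 1) (by decide +kernel)
theorem r873_4 : R9 F (g wAd) b873 [] 1 1 := .of (startD 0 1) (by decide +kernel)
theorem r873_5 : R9 F (g wAd) b873 [] 1 2 := .of (startD 0 1) (by decide +kernel)
theorem r873_6 : R9 F (g wAd) b873 [] 2 0 := .of (startD 0 1) (by decide +kernel)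
theorem r873_7 : R9 F (g wAd) b873 [] 2 1 := .of (startD 0 1) (by decide +kernel)
theorem r873_8 : R9 F (g wAd) b873 [] 2 2 := .of (startD 0 1) (by decide +kernel)
theorem g873 : Gd F (g wAd) (1, d873) [] :=
  good9 ok h873 r873_0 r873_1 r873_2 r873_3 r873_4 r873_5 r873_6 r873_7 r873_8

def b874 : Wd := ⟨1, d874,
  [.z, .Z10, .Z7, .Z5, .Z4, .Z1, .X7, .X6, .X5, .X2, .X1, .X0, .y9, .y8, .y6, .y4, .y3, .p8, .hi, .p9, .hi, .p3, .hi,
   .p8, .hi, .p5, .hi, .p3, .xii, .y2, .p, .xii, .p5, .xii, .y3, .tau, .xii, .p, .xii, .y4, .y10, .hi, .xii, .y7,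
   .tau, .X0, .xii, .p7, .xii, .p7, .y1, .hi, .xii, .y2, .tau, .xii, .p8, .xii, .p2, .y7, .xii, .y2, .tau, .xii, .p],
  [.z, .Z9, .Z8, .Z6, .Z5, .Z4, .Z3, .Z2, .Z1, .Z0, .X8, .X6, .X5, .X0, .y7, .y4, .y2, .y1, .p4, .hi, .p7, .hi, .p4,
   .hi, .p3, .hi, .p7, .hi, .p2, .xii, .p10, .xii, .y6, .p8, .xii, .taui, .X0, .hi, .xii, .hi, .xii, .y2, .p8, .tau,
   .X0, .p9, .xii, .p2, .xii, .p8, .y4, .tau, .xii, .p8, .xii, .y1, .p8, .y9, .taui, .xii, .p, .hi],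
  [.Z10, .Z8, .Z7, .Z6, .Z4, .Z1, .X7, .X6, .X5, .X4, .X3, .X2, .y10, .y7, .y2, .y1, .hi, .p7, .hi, .p3, .hi, .p10,
   .hi, .p4, .hi, .p10, .hi, .p4, .hi, .xii, .p10, .xii, .y8, .p3, .hi, .tau, .y1, .xii, .p10, .xii, .y8, .p10, .xii,
   .y8, .y9, .tau, .y1, .p4, .xii, .p8, .xii, .y9, .p2, .xii, .y10, .tau, .xii, .p, .xii, .y2, .p9, .xii, .y3, .taui]⟩

theorem h874 : Hd F (g wAd) b874 := hdD (by decide +kernel)
theorem r874_0 : R9 F (g wAd) b874 [] 0 0 := .of (startD 0 1) (by decide +kernel)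
theorem r874_1 : R9 F (g wAd) b874 [] 0 1 := .of (startD 0 1) (by decide +kernel)
theorem r874_2 : R9 F (g wAd) b874 [] 0 2 := .of (startD 0 1) (by decide +kernel)
theorem r874_3 : R9 F (g wAd) b874 [] 1 0 := .of (startD 0 1) (by decide +kernel)
theorem r874_4 : R9 F (g wAd) b874 [] 1 1 := .of (startD 0 1) (by decide +kernel)
theorem r874_5 : R9 F (g wAd) b874 [] 1 2 := .of (startD 0 1) (by decide +kernel)
theorem r874_6 : R9 F (g wAd) b874 [] 2 0 := .of (startD 0 1) (by decide +kernel)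
theorem r874_7 : R9 F (g wAd) b874 [] 2 1 := .of (startD 0 1) (by decide +kernel)
theorem r874_8 : R9 F (g wAd) b874 [] 2 2 := .of (startD 0 1) (by decide +kernel)
theorem g874 : Gd F (g wAd) (1, d874) [] :=
  good9 ok h874 r874_0 r874_1 r874_2 r874_3 r874_4 r874_5 r874_6 r874_7 r874_8

def b875 : Wd := ⟨1, d875,
  [.z, .Z10, .Z8, .Z7, .Z4, .Z2, .Z1, .X10, .X8, .X0, .y10, .y3, .y2, .p10, .hi, .p5, .hi, .p6, .hi, .p4, .hi, .p6,
   .hi, .p7, .xii, .hi, .xii, .p5, .y7, .taui, .xii, .y6, .p, .xii, .y10, .p, .xii, .y1, .y10, .taui, .X0, .p8, .xii,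
   .y2, .p4, .xii, .y2, .y3, .y4, .taui, .xii, .p4, .xii, .y3, .p8, .xii, .y4, .y5, .tau, .xii, .p8, .xii, .y5],
  [.z, .Z9, .Z6, .Z5, .Z4, .Z3, .Z2, .Z0, .X8, .X4, .X0, .y10, .y8, .y5, .y3, .y2, .y1, .p8, .hi, .p9, .hi, .p9, .hi,
   .p8, .hi, .p6, .hi, .p8, .xii, .y2, .p10, .taui, .xii, .y6, .p, .xii, .y10, .p, .xii, .y1, .y4, .tau, .xii, .y1,
   .p9, .xii, .p3, .xii, .y3, .y4, .tau, .xii, .p8, .xii, .p, .y1, .hi, .p8, .tau, .xii, .p8],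
  [.Z10, .Z8, .Z7, .Z3, .Z2, .Z0, .X10, .X8, .X7, .X5, .X3, .X2, .y9, .y8, .y6, .y4, .hi, .p5, .hi, .p4, .hi, .p10,
   .hi, .p7, .hi, .p2, .hi, .xii, .p, .xii, .y3, .hi, .p8, .tau, .y1, .xii, .p10, .xii, .p10, .y7, .xii, .y4, .taui,
   .X0, .p4, .xii, .y6, .p7, .xii, .p10, .y8, .hi, .p7, .tau, .xii, .y2, .p5, .xii, .y8, .p5, .xii, .y9, .tau, .xii,
   .y4, .hi, .p7]⟩

theorem h875 : Hd F (g wAd) b875 := hdD (by decide +kernel)
theorem r875_0 : R9 F (g wAd) b875 [] 0 0 := .of (startD 0 2) (by decide +kernel)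
theorem r875_1 : R9 F (g wAd) b875 [] 0 1 := .of (startD 0 1) (by decide +kernel)
theorem r875_2 : R9 F (g wAd) b875 [] 0 2 := .of (startD 0 1) (by decide +kernel)
theorem r875_3 : R9 F (g wAd) b875 [] 1 0 := .of (startD 0 1) (by decide +kernel)
theorem r875_4 : R9 F (g wAd) b875 [] 1 1 := .of (startD 0 1) (by decide +kernel)
theorem r875_5 : R9 F (g wAd) b875 [] 1 2 := .of (startD 0 1) (by decide +kernel)
theorem r875_6 : R9 F (g wAd) b875 [] 2 0 := .of (startD 0 1) (by decide +kernel)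
theorem r875_7 : R9 F (g wAd) b875 [] 2 1 := .of (startD 0 1) (by decide +kernel)
theorem r875_8 : R9 F (g wAd) b875 [] 2 2 := .of (startD 0 1) (by decide +kernel)
theorem g875 : Gd F (g wAd) (1, d875) [] :=
  good9 ok h875 r875_0 r875_1 r875_2 r875_3 r875_4 r875_5 r875_6 r875_7 r875_8

def b876 : Wd := ⟨1, d876,
  [.z, .Z10, .Z9, .Z7, .Z6, .Z4, .Z3, .Z0, .X10, .X9, .X7, .X5, .X3, .X2, .X1, .X0, .y10, .y9, .y2, .y1, .p5, .hi,
   .p4, .hi, .p7, .hi, .p10, .hi, .p10, .hi, .p7, .xii, .p, .xii, .y10, .p4, .taui, .xii, .p, .xii, .y3, .hi, .xii,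
   .y7, .y10, .tau, .p2, .xii, .p4, .xii, .y8, .hi, .p7, .tau, .xii, .p7, .xii, .y4, .y6, .p8, .xii, .y2, .tau, .xii,
   .hi, .xii, .y8],
  [.Z6, .Z3, .Z2, .Z0, .X9, .X6, .X3, .y6, .y5, .y3, .p7, .hi, .p10, .hi, .p8, .hi, .p8, .hi, .p9, .xii, .p, .xii,
   .p4, .xii, .taui, .xii, .y2, .p, .xii, .y3, .hi, .xii, .y5, .y8, .taui, .xii, .p4, .xii, .y4, .p4, .xii, .y6, .p7,
   .taui, .xii, .p8, .xii, .y2, .y3, .p6, .hi, .tau, .xii, .hi, .p6],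
  [.Z10, .Z7, .Z4, .Z3, .X9, .X8, .X7, .X5, .X4, .X3, .y10, .y7, .y4, .y3, .p3, .hi, .p6, .hi, .p5, .hi, .p9, .hi,
   .xii, .p10, .xii, .y10, .tau, .xii, .y2, .p, .xii, .y3, .hi, .xii, .y5, .tau, .xii, .p7, .xii, .y1, .y4, .p, .xii,
   .y2, .taui, .xii, .p3, .xii, .p2, .y9, .tau, .xii, .hi, .p10, .hi]⟩

theorem h876 : Hd F (g wAd) b876 := hdD (by decide +kernel)
theorem r876_0 : R9 F (g wAd) b876 [] 0 0 := .of (startD 0 1) (by decide +kernel)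
theorem r876_1 : R9 F (g wAd) b876 [] 0 1 := .of (startD 0 1) (by decide +kernel)
theorem r876_2 : R9 F (g wAd) b876 [] 0 2 := .of (startD 0 1) (by decide +kernel)
theorem r876_3 : R9 F (g wAd) b876 [] 1 0 := .of (startD 0 1) (by decide +kernel)
theorem r876_4 : R9 F (g wAd) b876 [] 1 1 := .of (startD 0 1) (by decide +kernel)
theorem r876_5 : R9 F (g wAd) b876 [] 1 2 := .of (startD 0 1) (by decide +kernel)
theorem r876_6 : R9 F (g wAd) b876 [] 2 0 := .of (startD 0 1) (by decide +kernel)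
theorem r876_7 : R9 F (g wAd) b876 [] 2 1 := .of (startD 0 1) (by decide +kernel)
theorem r876_8 : R9 F (g wAd) b876 [] 2 2 := .of (startD 0 1) (by decide +kernel)
theorem g876 : Gd F (g wAd) (1, d876) [] :=
  good9 ok h876 r876_0 r876_1 r876_2 r876_3 r876_4 r876_5 r876_6 r876_7 r876_8

def b877 : Wd := ⟨1, d877,
  [.Z9, .Z6, .Z5, .Z2, .Z1, .X8, .X6, .X5, .X4, .X0, .y8, .y7, .y6, .y5, .y4, .y1, .p3, .hi, .p7, .hi, .p7, .hi, .p10,
   .hi, .p4, .hi, .p, .xii, .hi, .xii, .p10, .y8, .xii, .tau, .y1, .xii, .p10, .xii, .y1, .y7, .p10, .xii, .taui, .X0,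
   .p4, .xii, .y2, .p3, .xii, .p10, .xii, .y9, .taui, .xii, .p5, .xii, .y8, .p7, .xii, .tau, .xii, .p8, .xii, .y8],
  [.z, .Z9, .Z7, .Z6, .Z4, .Z3, .X10, .X9, .X8, .X4, .X2, .X1, .y9, .y6, .y5, .p8, .hi, .p4, .hi, .p5, .hi, .p6, .hi,
   .p2, .hi, .xii, .y2, .p3, .hi, .tau, .xii, .p, .xii, .y4, .hi, .xii, .y7, .y10, .taui, .xii, .y1, .p10, .xii, .y6,
   .p9, .xii, .y1, .y2, .taui, .xii, .p7, .xii, .y4, .p2, .y5, .tau, .xii, .hi],
  [.Z10, .Z9, .Z8, .Z7, .Z5, .Z4, .Z3, .Z2, .Z1, .X10, .X7, .X6, .X4, .X2, .y10, .y9, .y5, .y4, .y3, .y2, .hi, .p2,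
   .hi, .p3, .hi, .p10, .hi, .p3, .hi, .p4, .hi, .xii, .hi, .p8, .xii, .p2, .y10, .tau, .xii, .y2, .p, .xii, .y4, .hi,
   .xii, .y6, .tau, .y1, .hi, .xii, .p2, .xii, .y7, .hi, .p10, .tau, .xii, .y2, .p9, .xii, .p3, .xii, .y2, .y8, .taui,
   .xii, .y7, .p, .xii]⟩

theorem h877 : Hd F (g wAd) b877 := hdD (by decide +kernel)
theorem r877_0 : R9 F (g wAd) b877 [] 0 0 := .of (startD 0 1) (by decide +kernel)
theorem r877_1 : R9 F (g wAd) b877 [] 0 1 := .of (startD 0 1) (by decide +kernel)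
theorem r877_2 : R9 F (g wAd) b877 [] 0 2 := .of (startD 0 1) (by decide +kernel)
theorem r877_3 : R9 F (g wAd) b877 [] 1 0 := .of (startD 0 1) (by decide +kernel)
theorem r877_4 : R9 F (g wAd) b877 [] 1 1 := .of (startD 0 1) (by decide +kernel)
theorem r877_5 : R9 F (g wAd) b877 [] 1 2 := .of (startD 0 1) (by decide +kernel)
theorem r877_6 : R9 F (g wAd) b877 [] 2 0 := .of (startD 0 1) (by decide +kernel)
theorem r877_7 : R9 F (g wAd) b877 [] 2 1 := .of (startD 0 1) (by decide +kernel)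
theorem r877_8 : R9 F (g wAd) b877 [] 2 2 := .of (startD 0 1) (by decide +kernel)
theorem g877 : Gd F (g wAd) (1, d877) [] :=
  good9 ok h877 r877_0 r877_1 r877_2 r877_3 r877_4 r877_5 r877_6 r877_7 r877_8

def b878 : Wd := ⟨1, d878,
  [.z, .Z8, .Z5, .Z3, .Z2, .Z1, .Z0, .X10, .X9, .X8, .X7, .X5, .X2, .X0, .y8, .y7, .y3, .p9, .hi, .p7, .hi, .p3, .hi,
   .p4, .hi, .p, .hi, .p6, .xii, .p10, .xii, .p8, .y7, .taui, .y1, .xii, .p10, .xii, .y5, .p10, .xii, .y4, .tau, .X0,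
   .p8, .xii, .p4, .xii, .p10, .y3, .hi, .p5, .tau, .xii, .p7, .xii, .p5, .y3, .xii, .y1, .y5, .taui, .xii, .y2],
  [.z, .Z10, .Z8, .Z6, .Z5, .Z4, .Z2, .Z0, .X6, .X5, .X3, .X1, .y10, .y5, .y3, .y2, .p10, .hi, .p, .hi, .p7, .hi, .p2,
   .xii, .p5, .hi, .p5, .tau, .xii, .y6, .p, .xii, .y3, .y4, .taui, .p2, .xii, .p7, .xii, .y3, .y9, .p5, .taui, .xii,
   .p6, .xii, .y4, .p4, .xii, .y10, .tau],
  [.z, .Z10, .Z9, .Z6, .Z3, .Z2, .Z1, .Z0, .X10, .X9, .X3, .y10, .y5, .y4, .y3, .hi, .p3, .hi, .p5, .hi, .p7, .hi,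
   .p8, .hi, .p4, .xii, .p, .hi, .xii, .p5, .hi, .p5, .taui, .y1, .xii, .y1, .hi, .xii, .p10, .xii, .y4, .y9, .taui,
   .xii, .y1, .p, .xii, .y4, .p, .xii, .y6, .taui, .p5, .xii, .y9, .p6, .xii, .taui, .xii, .p6, .xii, .p, .hi, .p4,
   .taui, .xii, .p2]⟩

theorem h878 : Hd F (g wAd) b878 := hdD (by decide +kernel)
theorem r878_0 : R9 F (g wAd) b878 [] 0 0 := .of (startD 0 1) (by decide +kernel)
theorem r878_1 : R9 F (g wAd) b878 [] 0 1 := .of (startD 0 1) (by decide +kernel)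
theorem r878_2 : R9 F (g wAd) b878 [] 0 2 := .of (startD 0 1) (by decide +kernel)
theorem r878_3 : R9 F (g wAd) b878 [] 1 0 := .of (startD 0 1) (by decide +kernel)
theorem r878_4 : R9 F (g wAd) b878 [] 1 1 := .of (startD 0 1) (by decide +kernel)
theorem r878_5 : R9 F (g wAd) b878 [] 1 2 := .of (startD 0 1) (by decide +kernel)
theorem r878_6 : R9 F (g wAd) b878 [] 2 0 := .of (startD 0 1) (by decide +kernel)
theorem r878_7 : R9 F (g wAd) b878 [] 2 1 := .of (startD 0 1) (by decide +kernel)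
theorem r878_8 : R9 F (g wAd) b878 [] 2 2 := .of (startD 0 1) (by decide +kernel)
theorem g878 : Gd F (g wAd) (1, d878) [] :=
  good9 ok h878 r878_0 r878_1 r878_2 r878_3 r878_4 r878_5 r878_6 r878_7 r878_8

def b879 : Wd := ⟨1, d879,
  [.Z4, .Z2, .Z1, .Z0, .X9, .X5, .X4, .X2, .X0, .y10, .y9, .y8, .y7, .y3, .y2, .p8, .hi, .p7, .hi, .p5, .hi, .p6, .hi,
   .p5, .hi, .p4, .xii, .hi, .p8, .xii, .y4, .tau, .xii, .p, .xii, .y1, .hi, .xii, .y1, .taui, .X0, .xii, .p7, .xii,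
   .p9, .y2, .xii, .y1, .y2, .y3, .y7, .taui, .xii, .p4, .xii, .y3, .hi, .p5, .tau, .xii, .p, .hi],
  [.z, .Z9, .Z8, .Z6, .Z4, .X10, .X8, .X5, .X4, .X3, .X0, .y10, .y8, .y7, .y5, .y2, .y1, .p2, .hi, .p10, .hi, .p4,
   .hi, .p5, .hi, .p9, .hi, .p8, .xii, .p2, .hi, .xii, .y5, .y9, .p3, .taui, .X0, .xii, .p7, .xii, .y7, .p8, .y8,
   .xii, .tau, .xii, .p7, .xii, .p, .hi, .y8, .p, .taui, .xii, .y2, .p10, .hi, .p8],
  [.z, .Z10, .Z6, .Z5, .Z3, .Z1, .Z0, .X10, .X9, .X8, .X7, .X2, .X1, .y7, .y5, .y4, .y3, .y2, .y1, .p4, .hi, .p6, .hi,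
   .p9, .hi, .p5, .hi, .p9, .hi, .p4, .xii, .p10, .xii, .y5, .p9, .xii, .y2, .y7, .tau, .xii, .p, .xii, .y2, .hi,
   .xii, .y1, .y2, .tau, .xii, .y2, .p2, .xii, .p8, .xii, .y10, .p10, .taui, .xii, .p5, .xii, .y4, .y9, .p8, .xii,
   .y6, .tau]⟩

theorem h879 : Hd F (g wAd) b879 := hdD (by decide +kernel)
theorem r879_0 : R9 F (g wAd) b879 [] 0 0 := .of (startD 0 1) (by decide +kernel)
theorem r879_1 : R9 F (g wAd) b879 [] 0 1 := .of (startD 0 1) (by decide +kernel)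
theorem r879_2 : R9 F (g wAd) b879 [] 0 2 := .of (startD 0 2) (by decide +kernel)
theorem r879_3 : R9 F (g wAd) b879 [] 1 0 := .of (startD 0 1) (by decide +kernel)
theorem r879_4 : R9 F (g wAd) b879 [] 1 1 := .of (startD 0 1) (by decide +kernel)
theorem r879_5 : R9 F (g wAd) b879 [] 1 2 := .of (startD 0 1) (by decide +kernel)
theorem r879_6 : R9 F (g wAd) b879 [] 2 0 := .of (startD 0 1) (by decide +kernel)
theorem r879_7 : R9 F (g wAd) b879 [] 2 1 := .of (startD 0 1) (by decide +kernel)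
theorem r879_8 : R9 F (g wAd) b879 [] 2 2 := .of (startD 0 1) (by decide +kernel)
theorem g879 : Gd F (g wAd) (1, d879) [] :=
  good9 ok h879 r879_0 r879_1 r879_2 r879_3 r879_4 r879_5 r879_6 r879_7 r879_8

theorem all : AllG F (g wAd) LD87 :=
  .cons g870 (.cons g871 (.cons g872 (.cons g873 (.cons g874 (.cons g875 (.cons g876 (.cons g877 (.cons g878 (.cons g879 (.nil))))))))))

end Cfsg.Agent.BX.No33.Bk.D87
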