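import Cfsg.Agent.BX.No33.Cheap
set_option linter.all false

/-!
# Tests, diagonal case, part 88 (helper5; generated)
-/

set_option autoImplicit false
set_option maxRecDepth 100000
set_option Elab.async false

namespace Cfsg.Agent.BX.No33.Bk.D88

open Cfsg.Agent.H819.U33 Cfsg.Agent.BX.No33.Front

def b880 : Wd := ⟨1, d880,
  [.Z7, .Z1, .Z0, .X9, .X8, .X7, .X2, .X0, .y10, .y9, .y8, .y7, .y4, .y3, .y2, .p6, .hi, .p, .hi, .p8, .hi, .p9, .hi,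
   .p7, .hi, .p5, .hi, .xii, .p3, .hi, .xii, .y8, .y9, .taui, .xii, .p, .xii, .y4, .hi, .xii, .y7, .y8, .tau, .p10,
   .xii, .y6, .p10, .xii, .y3, .taui, .xii, .p5, .xii, .y4, .y5, .hi, .xii, .y7, .tau],
  [.z, .Z9, .Z8, .Z7, .Z4, .Z3, .X8, .X6, .X3, .X0, .y10, .y9, .y8, .y7, .y6, .y5, .y3, .y2, .y1, .hi, .p4, .hi, .p3,
   .hi, .p3, .hi, .p7, .hi, .p6, .hi, .p10, .hi, .xii, .hi, .p8, .xii, .y1, .y9, .p10, .taui, .xii, .y1, .p, .xii, .p,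
   .xii, .y6, .taui, .X0, .p9, .xii, .p3, .y10, .xii, .y7, .p2, .hi, .p9, .tau, .xii, .hi, .xii, .p4, .y1],
  [.z, .Z9, .Z7, .Z5, .Z2, .X9, .X8, .X7, .X4, .X3, .X2, .y10, .y5, .y2, .y1, .hi, .p4, .hi, .p4, .hi, .p3, .hi, .p6,
   .hi, .p8, .hi, .p2, .xii, .tau, .y1, .xii, .p10, .xii, .y1, .p10, .xii, .y4, .y8, .taui, .y1, .xii, .p10, .xii,
   .y5, .p10, .xii, .y2, .y10, .tau, .p9, .xii, .y7, .p3, .xii, .taui, .xii, .p5, .xii, .hi, .xii, .y3, .y7, .taui,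
   .xii]⟩

theorem h880 : Hd F (g wAd) b880 := hdD (by decide +kernel)
theorem r880_0 : R9 F (g wAd) b880 [] 0 0 := .of (startD 0 1) (by decide +kernel)
theorem r880_1 : R9 F (g wAd) b880 [] 0 1 := .of (startD 0 1) (by decide +kernel)
theorem r880_2 : R9 F (g wAd) b880 [] 0 2 := .of (startD 0 1) (by decide +kernel)
theorem r880_3 : R9 F (g wAd) b880 [] 1 0 := .of (startD 0 1) (by decide +kernel)
theorem r880_4 : R9 F (g wAd) b880 [] 1 1 := .of (startD 0 1) (by decide +kernel)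
theorem r880_5 : R9 F (g wAd) b880 [] 1 2 := .of (startD 0 1) (by decide +kernel)
theorem r880_6 : R9 F (g wAd) b880 [] 2 0 := .of (startD 0 1) (by decide +kernel)
theorem r880_7 : R9 F (g wAd) b880 [] 2 1 := .of (startD 0 1) (by decide +kernel)
theorem r880_8 : R9 F (g wAd) b880 [] 2 2 := .of (startD 0 1) (by decide +kernel)
theorem g880 : Gd F (g wAd) (1, d880) [] :=
  good9 ok h880 r880_0 r880_1 r880_2 r880_3 r880_4 r880_5 r880_6 r880_7 r880_8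

def b881 : Wd := ⟨1, d881,
  [.Z9, .Z6, .Z3, .Z2, .Z1, .Z0, .X10, .X9, .X8, .X7, .X3, .X2, .y10, .y9, .y8, .y4, .y1, .p10, .hi, .p4, .hi, .p9,
   .hi, .p8, .hi, .p5, .hi, .p3, .hi, .xii, .p, .xii, .y6, .p4, .hi, .p8, .taui, .xii, .p, .xii, .hi, .y8, .xii, .y2,
   .y7, .y10, .taui, .p5, .xii, .p6, .xii, .y7, .hi, .p5, .taui, .xii, .y2, .p4, .hi, .xii, .y1, .hi, .taui, .xii, .p],
  [.Z6, .Z5, .Z2, .Z0, .X10, .X3, .X2, .X1, .X0, .y9, .y8, .y7, .y2, .y1, .hi, .p6, .hi, .p4, .hi, .p4, .hi, .p6, .hi,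
   .p5, .hi, .p, .xii, .tau, .p10, .xii, .y2, .hi, .p6, .xii, .y9, .p5, .y7, .tau, .xii, .p5, .xii, .y4, .y9, .hi, .p,
   .tau, .xii, .hi],
  [.z, .Z9, .Z8, .Z7, .Z6, .Z4, .Z3, .Z2, .Z1, .Z0, .X10, .X9, .X8, .X6, .X5, .X4, .X3, .X0, .y10, .y9, .y8, .y6, .y1,
   .p10, .hi, .p5, .hi, .p5, .hi, .p8, .hi, .p5, .hi, .p8, .hi, .p6, .hi, .xii, .p10, .xii, .y8, .p3, .hi, .taui, .y1,
   .xii, .y1, .hi, .xii, .p10, .xii, .y2, .y4, .taui, .xii, .y6, .p, .xii, .p, .xii, .y1, .y2, .y10, .tau, .X0, .p9,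
   .xii, .p10, .xii, .y3, .tau, .xii, .y2, .p7, .xii, .y5, .y10, .p5, .hi, .taui, .xii, .p2]⟩

theorem h881 : Hd F (g wAd) b881 := hdD (by decide +kernel)
theorem r881_0 : R9 F (g wAd) b881 [] 0 0 := .of (startD 0 1) (by decide +kernel)
theorem r881_1 : R9 F (g wAd) b881 [] 0 1 := .of (startD 0 1) (by decide +kernel)
theorem r881_2 : R9 F (g wAd) b881 [] 0 2 := .of (startD 0 1) (by decide +kernel)
theorem r881_3 : R9 F (g wAd) b881 [] 1 0 := .of (startD 0 1) (by decide +kernel)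
theorem r881_4 : R9 F (g wAd) b881 [] 1 1 := .of (startD 0 1) (by decide +kernel)
theorem r881_5 : R9 F (g wAd) b881 [] 1 2 := .of (startD 0 1) (by decide +kernel)
theorem r881_6 : R9 F (g wAd) b881 [] 2 0 := .of (startD 0 1) (by decide +kernel)
theorem r881_7 : R9 F (g wAd) b881 [] 2 1 := .of (startD 0 2) (by decide +kernel)
theorem r881_8 : R9 F (g wAd) b881 [] 2 2 := .of (startD 0 1) (by decide +kernel)
theorem g881 : Gd F (g wAd) (1, d881) [] :=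
  good9 ok h881 r881_0 r881_1 r881_2 r881_3 r881_4 r881_5 r881_6 r881_7 r881_8

def b882 : Wd := ⟨1, d882,
  [.z, .Z10, .Z5, .Z4, .Z3, .Z1, .Z0, .X10, .X9, .X8, .X7, .X6, .X4, .X0, .y10, .y9, .y8, .y7, .y6, .y4, .hi, .p9,
   .hi, .p7, .hi, .p9, .hi, .p8, .hi, .p4, .hi, .p2, .hi, .xii, .y2, .hi, .xii, .p5, .taui, .xii, .y6, .p, .xii, .p,
   .xii, .y1, .y10, .tau, .y1, .xii, .p9, .xii, .p5, .y2, .xii, .y1, .tau, .xii, .p7, .xii, .p10, .hi, .y5, .p10,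
   .tau, .xii, .p, .hi],
  [.z, .Z9, .Z8, .Z7, .Z6, .Z4, .Z0, .X10, .X8, .X6, .X5, .X4, .X3, .X1, .X0, .y10, .y9, .y8, .y6, .y5, .y4, .y3, .y2,
   .y1, .p9, .hi, .p4, .hi, .p, .hi, .p, .hi, .p7, .taui, .y1, .xii, .y1, .hi, .xii, .p10, .xii, .y2, .y10, .tau, .X0,
   .p6, .xii, .p9, .xii, .p, .y10, .hi, .p3, .tau, .xii, .hi, .p7, .xii, .p2, .xii, .taui, .xii, .p4],
  [.z, .Z10, .Z8, .Z6, .Z5, .Z4, .Z3, .Z2, .Z1, .Z0, .X7, .X5, .X4, .X3, .X1, .X0, .y10, .y9, .y1, .p10, .hi, .p9,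
   .hi, .p6, .hi, .p3, .hi, .p10, .hi, .p3, .xii, .p10, .xii, .p4, .hi, .tau, .xii, .p, .xii, .y2, .hi, .xii, .y5,
   .y9, .taui, .X0, .p2, .xii, .p9, .xii, .p2, .y6, .hi, .y4, .p9, .taui, .xii, .p2, .xii, .p10, .y5, .xii, .tau,
   .xii, .p2, .xii, .y8]⟩

theorem h882 : Hd F (g wAd) b882 := hdD (by decide +kernel)
theorem r882_0 : R9 F (g wAd) b882 [] 0 0 := .of (startD 0 1) (by decide +kernel)
theorem r882_1 : R9 F (g wAd) b882 [] 0 1 := .of (startD 0 1) (by decide +kernel)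
theorem r882_2 : R9 F (g wAd) b882 [] 0 2 := .of (startD 0 1) (by decide +kernel)
theorem r882_3 : R9 F (g wAd) b882 [] 1 0 := .of (startD 0 1) (by decide +kernel)
theorem r882_4 : R9 F (g wAd) b882 [] 1 1 := .of (startD 0 1) (by decide +kernel)
theorem r882_5 : R9 F (g wAd) b882 [] 1 2 := .of (startD 0 1) (by decide +kernel)
theorem r882_6 : R9 F (g wAd) b882 [] 2 0 := .of (startD 0 1) (by decide +kernel)
theorem r882_7 : R9 F (g wAd) b882 [] 2 1 := .of (startD 0 2) (by decide +kernel)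
theorem r882_8 : R9 F (g wAd) b882 [] 2 2 := .of (startD 0 1) (by decide +kernel)
theorem g882 : Gd F (g wAd) (1, d882) [] :=
  good9 ok h882 r882_0 r882_1 r882_2 r882_3 r882_4 r882_5 r882_6 r882_7 r882_8

def b883 : Wd := ⟨1, d883,
  [.z, .Z9, .Z8, .Z5, .Z4, .Z3, .Z0, .X9, .X8, .X4, .X1, .X0, .y10, .y9, .y6, .y4, .y3, .p10, .hi, .p9, .hi, .p, .hi,
   .p3, .hi, .p4, .hi, .p, .hi, .p9, .xii, .y2, .tau, .y1, .xii, .p10, .xii, .y1, .p10, .xii, .y8, .y10, .taui, .X0,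
   .p8, .xii, .y2, .p, .xii, .y5, .hi, .p4, .taui, .xii, .p5, .xii, .p2, .y5, .xii, .y7, .tau, .xii, .p4, .xii, .y8],
  [.Z10, .Z9, .Z8, .Z7, .Z3, .X10, .X7, .X6, .X5, .X3, .X2, .X0, .y7, .y2, .y1, .p9, .hi, .p4, .hi, .p6, .hi, .p7,
   .hi, .p6, .xii, .p3, .hi, .xii, .y8, .taui, .xii, .p, .xii, .y4, .hi, .xii, .y5, .tau, .X0, .xii, .p7, .xii, .y4,
   .y5, .p9, .xii, .p5, .y1, .taui, .xii, .p8, .xii, .p6, .y7, .hi, .p6, .taui, .xii, .y2, .p7],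
  [.Z10, .Z9, .Z8, .Z7, .Z5, .Z4, .Z3, .Z2, .X10, .X7, .X5, .X2, .y10, .y9, .y6, .y1, .p5, .hi, .p4, .hi, .p, .hi,
   .p6, .hi, .p, .hi, .xii, .p3, .hi, .taui, .xii, .y6, .p, .xii, .y10, .p, .xii, .y4, .y7, .tau, .p10, .xii, .y6,
   .hi, .p6, .xii, .p7, .tau, .xii, .p9, .xii, .p, .y1, .hi, .p9, .taui, .xii, .p7]⟩

theorem h883 : Hd F (g wAd) b883 := hdD (by decide +kernel)
theorem r883_0 : R9 F (g wAd) b883 [] 0 0 := .of (startD 0 1) (by decide +kernel)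
theorem r883_1 : R9 F (g wAd) b883 [] 0 1 := .of (startD 0 1) (by decide +kernel)
theorem r883_2 : R9 F (g wAd) b883 [] 0 2 := .of (startD 0 1) (by decide +kernel)
theorem r883_3 : R9 F (g wAd) b883 [] 1 0 := .of (startD 0 1) (by decide +kernel)
theorem r883_4 : R9 F (g wAd) b883 [] 1 1 := .of (startD 0 1) (by decide +kernel)
theorem r883_5 : R9 F (g wAd) b883 [] 1 2 := .of (startD 0 1) (by decide +kernel)
theorem r883_6 : R9 F (g wAd) b883 [] 2 0 := .of (startD 0 1) (by decide +kernel)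
theorem r883_7 : R9 F (g wAd) b883 [] 2 1 := .of (startD 0 1) (by decide +kernel)
theorem r883_8 : R9 F (g wAd) b883 [] 2 2 := .of (startD 0 1) (by decide +kernel)
theorem g883 : Gd F (g wAd) (1, d883) [] :=
  good9 ok h883 r883_0 r883_1 r883_2 r883_3 r883_4 r883_5 r883_6 r883_7 r883_8

def b884 : Wd := ⟨1, d884,
  [.z, .Z10, .Z9, .Z8, .Z5, .Z4, .Z3, .Z0, .X10, .X9, .X7, .X5, .X4, .X3, .X1, .X0, .y10, .y7, .y3, .y2, .hi, .p2,
   .hi, .p10, .hi, .p4, .hi, .p6, .hi, .p10, .xii, .y2, .hi, .xii, .p5, .xii, .y8, .taui, .xii, .y2, .p, .xii, .y3,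
   .hi, .xii, .y5, .tau, .p9, .xii, .y2, .p3, .xii, .y7, .hi, .taui, .xii, .p4, .xii, .y4, .y6, .p3, .hi, .p6, .taui,
   .xii, .hi, .p10],
  [.z, .Z10, .Z8, .Z7, .Z5, .Z4, .Z1, .X4, .X1, .X0, .y6, .y4, .y1, .hi, .p2, .hi, .p3, .hi, .p8, .hi, .xii, .p2, .hi,
   .xii, .y2, .y9, .taui, .y1, .xii, .p10, .xii, .p10, .y7, .xii, .tau, .X0, .xii, .y2, .p7, .xii, .p8, .y1, .xii,
   .y3, .y7, .taui, .xii, .y2, .p4, .xii, .p3, .tau, .xii, .y2, .p],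
  [.z, .Z10, .Z8, .Z6, .Z5, .Z4, .Z2, .Z1, .X9, .X8, .X5, .X4, .X1, .y7, .y3, .y2, .y1, .hi, .p6, .hi, .p8, .hi, .p8,
   .hi, .p10, .hi, .p2, .xii, .hi, .p8, .xii, .y2, .p10, .taui, .y1, .xii, .p10, .xii, .y1, .p10, .xii, .y2, .y4,
   .tau, .p7, .xii, .p5, .xii, .y2, .hi, .p2, .y10, .taui, .xii, .p3, .xii, .y7, .hi, .xii, .y1, .tau, .xii, .p3]⟩

theorem h884 : Hd F (g wAd) b884 := hdD (by decide +kernel)
theorem r884_0 : R9 F (g wAd) b884 [] 0 0 := .of (startD 0 1) (by decide +kernel)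
theorem r884_1 : R9 F (g wAd) b884 [] 0 1 := .of (startD 0 1) (by decide +kernel)
theorem r884_2 : R9 F (g wAd) b884 [] 0 2 := .of (startD 0 1) (by decide +kernel)
theorem r884_3 : R9 F (g wAd) b884 [] 1 0 := .of (startD 0 1) (by decide +kernel)
theorem r884_4 : R9 F (g wAd) b884 [] 1 1 := .of (startD 0 1) (by decide +kernel)
theorem r884_5 : R9 F (g wAd) b884 [] 1 2 := .of (startD 0 1) (by decide +kernel)
theorem r884_6 : R9 F (g wAd) b884 [] 2 0 := .of (startD 0 1) (by decide +kernel)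
theorem r884_7 : R9 F (g wAd) b884 [] 2 1 := .of (startD 0 1) (by decide +kernel)
theorem r884_8 : R9 F (g wAd) b884 [] 2 2 := .of (startD 0 2) (by decide +kernel)
theorem g884 : Gd F (g wAd) (1, d884) [] :=
  good9 ok h884 r884_0 r884_1 r884_2 r884_3 r884_4 r884_5 r884_6 r884_7 r884_8

def b885 : Wd := ⟨1, d885,
  [.z, .Z9, .Z8, .Z6, .Z5, .Z2, .Z1, .X10, .X9, .X6, .X4, .X2, .X1, .X0, .y10, .y9, .y7, .y6, .y5, .y4, .y1, .hi, .p8,
   .hi, .p3, .hi, .p, .hi, .p4, .hi, .p9, .hi, .xii, .hi, .xii, .p10, .xii, .y9, .taui, .xii, .p, .xii, .y4, .hi,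
   .xii, .y3, .y10, .taui, .xii, .p, .xii, .y3, .hi, .xii, .y7, .y10, .taui, .X0, .p4, .xii, .p, .xii, .y4, .taui,
   .xii, .p3, .xii, .y5, .hi, .p7, .tau, .xii, .p8],
  [.Z10, .Z9, .Z8, .Z7, .Z6, .Z5, .Z4, .Z3, .X7, .X3, .X1, .y8, .y4, .y1, .p9, .hi, .p9, .hi, .p5, .hi, .p8, .hi, .p5,
   .hi, .xii, .y2, .hi, .p2, .hi, .tau, .xii, .y6, .p, .xii, .y10, .p, .xii, .y1, .y2, .tau, .X0, .p9, .xii, .y6, .p2,
   .xii, .y1, .p5, .hi, .p9, .taui, .xii, .y2, .p7, .xii, .y1, .y9, .hi, .taui, .xii, .y2, .p],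
  [.Z10, .Z8, .Z6, .Z3, .Z1, .X10, .X8, .X6, .X4, .X3, .y6, .y5, .y3, .y1, .p7, .hi, .p8, .hi, .p9, .hi, .p, .hi, .p3,
   .hi, .xii, .p3, .hi, .xii, .y8, .taui, .y1, .xii, .p10, .xii, .y4, .p10, .xii, .y4, .y9, .taui, .X0, .y1, .xii,
   .y6, .p9, .xii, .p5, .xii, .p8, .y7, .tau, .xii, .y2, .p5, .xii, .p2, .xii, .y9, .taui, .xii, .y2, .p2]⟩

theorem h885 : Hd F (g wAd) b885 := hdD (by decide +kernel)
theorem r885_0 : R9 F (g wAd) b885 [] 0 0 := .of (startD 0 1) (by decide +kernel)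
theorem r885_1 : R9 F (g wAd) b885 [] 0 1 := .of (startD 0 1) (by decide +kernel)
theorem r885_2 : R9 F (g wAd) b885 [] 0 2 := .of (startD 0 1) (by decide +kernel)
theorem r885_3 : R9 F (g wAd) b885 [] 1 0 := .of (startD 0 1) (by decide +kernel)
theorem r885_4 : R9 F (g wAd) b885 [] 1 1 := .of (startD 0 1) (by decide +kernel)
theorem r885_5 : R9 F (g wAd) b885 [] 1 2 := .of (startD 0 1) (by decide +kernel)
theorem r885_6 : R9 F (g wAd) b885 [] 2 0 := .of (startD 0 2) (by decide +kernel)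
theorem r885_7 : R9 F (g wAd) b885 [] 2 1 := .of (startD 0 1) (by decide +kernel)
theorem r885_8 : R9 F (g wAd) b885 [] 2 2 := .of (startD 0 1) (by decide +kernel)
theorem g885 : Gd F (g wAd) (1, d885) [] :=
  good9 ok h885 r885_0 r885_1 r885_2 r885_3 r885_4 r885_5 r885_6 r885_7 r885_8

def b886 : Wd := ⟨1, d886,
  [.Z8, .Z6, .Z0, .X10, .X8, .X6, .X5, .X4, .X3, .X1, .X0, .y9, .y6, .y4, .y1, .p4, .hi, .p4, .hi, .p8, .hi, .p5, .hi,
   .p7, .hi, .xii, .y2, .p3, .hi, .xii, .p3, .hi, .taui, .xii, .y2, .p, .xii, .y3, .hi, .xii, .y4, .y7, .taui, .X0,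
   .p8, .xii, .p, .hi, .xii, .y2, .p6, .taui, .xii, .p9, .xii, .y8, .p9, .xii, .y8, .taui, .xii, .p6],
  [.Z10, .Z7, .Z6, .Z5, .X9, .X8, .X7, .X4, .X1, .y10, .y8, .y6, .y5, .y3, .y2, .y1, .p10, .hi, .p, .hi, .p4, .hi,
   .p5, .hi, .p10, .hi, .xii, .hi, .xii, .p8, .xii, .taui, .y1, .xii, .p10, .xii, .y4, .p10, .xii, .y1, .y6, .taui,
   .xii, .p3, .xii, .p2, .xii, .y3, .p5, .y10, .taui, .xii, .p9, .xii, .p5, .y10],
  [.Z8, .Z7, .Z6, .Z5, .X9, .X8, .X6, .X3, .y8, .y6, .y4, .y2, .p6, .hi, .p3, .hi, .p, .hi, .p4, .hi, .p3, .hi, .p10,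
   .xii, .hi, .xii, .y6, .p4, .hi, .tau, .xii, .p, .xii, .y1, .y10, .hi, .xii, .y1, .y10, .tau, .X0, .xii, .p4, .xii,
   .p5, .y3, .y7, .xii, .y9, .p3, .taui, .xii, .p5, .xii, .p9, .xii, .y5, .taui, .xii]⟩

theorem h886 : Hd F (g wAd) b886 := hdD (by decide +kernel)
theorem r886_0 : R9 F (g wAd) b886 [] 0 0 := .of (startD 0 2) (by decide +kernel)
theorem r886_1 : R9 F (g wAd) b886 [] 0 1 := .of (startD 0 1) (by decide +kernel)
theorem r886_2 : R9 F (g wAd) b886 [] 0 2 := .of (startD 0 1) (by decide +kernel)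
theorem r886_3 : R9 F (g wAd) b886 [] 1 0 := .of (startD 0 1) (by decide +kernel)
theorem r886_4 : R9 F (g wAd) b886 [] 1 1 := .of (startD 0 1) (by decide +kernel)
theorem r886_5 : R9 F (g wAd) b886 [] 1 2 := .of (startD 0 1) (by decide +kernel)
theorem r886_6 : R9 F (g wAd) b886 [] 2 0 := .of (startD 0 1) (by decide +kernel)
theorem r886_7 : R9 F (g wAd) b886 [] 2 1 := .of (startD 0 1) (by decide +kernel)
theorem r886_8 : R9 F (g wAd) b886 [] 2 2 := .of (startD 0 1) (by decide +kernel)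
theorem g886 : Gd F (g wAd) (1, d886) [] :=
  good9 ok h886 r886_0 r886_1 r886_2 r886_3 r886_4 r886_5 r886_6 r886_7 r886_8

def b887 : Wd := ⟨1, d887,
  [.Z8, .Z7, .Z5, .Z3, .Z2, .X10, .X9, .X8, .X4, .X0, .y10, .y9, .y7, .y6, .y5, .y4, .y3, .y2, .y1, .hi, .p6, .hi, .p,
   .hi, .p5, .hi, .p9, .hi, .p9, .xii, .y2, .p10, .taui, .y1, .xii, .y2, .hi, .xii, .y9, .p10, .xii, .y9, .tau, .X0,
   .y1, .p2, .xii, .p8, .xii, .y9, .p6, .hi, .p4, .tau, .xii, .p7, .xii, .p7, .y2, .y8, .xii, .taui, .xii, .y6, .p3],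
  [.Z9, .Z8, .Z4, .Z3, .Z0, .X9, .X7, .X4, .X1, .X0, .y8, .y7, .y6, .y5, .y4, .y3, .y2, .p6, .hi, .p8, .hi, .p5, .hi,
   .p8, .xii, .y2, .p3, .hi, .xii, .p4, .hi, .p2, .tau, .xii, .y2, .p, .xii, .y1, .hi, .xii, .y1, .taui, .X0, .xii,
   .y2, .p7, .xii, .y7, .y10, .p5, .xii, .y8, .tau, .xii, .p7, .xii, .y1, .y10, .hi, .taui, .xii, .y2, .hi],
  [.Z10, .Z9, .Z8, .Z3, .Z2, .Z1, .X8, .X6, .X0, .y9, .y6, .y5, .y4, .p9, .hi, .p3, .hi, .p8, .hi, .p9, .hi, .p7, .hi,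
   .xii, .p, .hi, .xii, .p10, .y8, .taui, .xii, .p, .xii, .hi, .y8, .xii, .y7, .y10, .tau, .y1, .p5, .xii, .p, .hi,
   .xii, .y2, .p4, .taui, .xii, .y2, .p2, .xii, .y7, .hi, .xii, .y10, .taui, .xii]⟩

theorem h887 : Hd F (g wAd) b887 := hdD (by decide +kernel)
theorem r887_0 : R9 F (g wAd) b887 [] 0 0 := .of (startD 0 1) (by decide +kernel)
theorem r887_1 : R9 F (g wAd) b887 [] 0 1 := .of (startD 0 1) (by decide +kernel)
theorem r887_2 : R9 F (g wAd) b887 [] 0 2 := .of (startD 0 1) (by decide +kernel)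
theorem r887_3 : R9 F (g wAd) b887 [] 1 0 := .of (startD 0 1) (by decide +kernel)
theorem r887_4 : R9 F (g wAd) b887 [] 1 1 := .of (startD 0 1) (by decide +kernel)
theorem r887_5 : R9 F (g wAd) b887 [] 1 2 := .of (startD 0 1) (by decide +kernel)
theorem r887_6 : R9 F (g wAd) b887 [] 2 0 := .of (startD 0 1) (by decide +kernel)
theorem r887_7 : R9 F (g wAd) b887 [] 2 1 := .of (startD 0 1) (by decide +kernel)
theorem r887_8 : R9 F (g wAd) b887 [] 2 2 := .of (startD 0 1) (by decide +kernel)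
theorem g887 : Gd F (g wAd) (1, d887) [] :=
  good9 ok h887 r887_0 r887_1 r887_2 r887_3 r887_4 r887_5 r887_6 r887_7 r887_8

def b888 : Wd := ⟨1, d888,
  [.Z10, .Z8, .Z6, .Z5, .Z4, .Z3, .Z0, .X8, .X5, .X4, .X3, .y9, .y5, .y3, .hi, .p7, .hi, .p4, .hi, .p10, .hi, .p, .hi,
   .p9, .hi, .xii, .p10, .xii, .y1, .y7, .tau, .xii, .y2, .p, .xii, .y2, .y10, .hi, .xii, .y7, .taui, .y1, .xii, .y1,
   .hi, .xii, .p10, .xii, .y1, .y3, .taui, .X0, .p2, .xii, .p9, .xii, .y8, .tau, .xii, .p4, .xii, .y1, .p8, .xii, .y8,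
   .y9, .tau, .xii, .y6, .hi],
  [.Z8, .Z6, .Z5, .Z3, .Z2, .X9, .X5, .X3, .X2, .X1, .X0, .y8, .y7, .y3, .p9, .hi, .p3, .hi, .p6, .hi, .p9, .hi, .p3,
   .hi, .p3, .xii, .p10, .xii, .y6, .p5, .xii, .tau, .p10, .xii, .p2, .xii, .y6, .hi, .p3, .tau, .xii, .p5, .xii, .y2,
   .p2, .y10, .xii, .y10, .taui, .xii, .y6, .p3],
  [.Z8, .Z6, .Z3, .Z1, .Z0, .X10, .X9, .X7, .X4, .X2, .y7, .y5, .y4, .y3, .y1, .hi, .p8, .hi, .p, .hi, .p8, .hi, .p6,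
   .hi, .p7, .hi, .p4, .hi, .xii, .y2, .p3, .hi, .xii, .tau, .y1, .xii, .p10, .xii, .y1, .y7, .p10, .xii, .y9, .y10,
   .taui, .X0, .y1, .xii, .p5, .xii, .p2, .y2, .xii, .y10, .hi, .taui, .xii, .p4, .xii, .p5, .y7, .xii, .y2, .tau,
   .xii, .hi, .xii, .y8]⟩

theorem h888 : Hd F (g wAd) b888 := hdD (by decide +kernel)
theorem r888_0 : R9 F (g wAd) b888 [] 0 0 := .of (startD 0 1) (by decide +kernel)
theorem r888_1 : R9 F (g wAd) b888 [] 0 1 := .of (startD 0 1) (by decide +kernel)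
theorem r888_2 : R9 F (g wAd) b888 [] 0 2 := .of (startD 0 1) (by decide +kernel)
theorem r888_3 : R9 F (g wAd) b888 [] 1 0 := .of (startD 0 1) (by decide +kernel)
theorem r888_4 : R9 F (g wAd) b888 [] 1 1 := .of (startD 0 1) (by decide +kernel)
theorem r888_5 : R9 F (g wAd) b888 [] 1 2 := .of (startD 0 1) (by decide +kernel)
theorem r888_6 : R9 F (g wAd) b888 [] 2 0 := .of (startD 0 1) (by decide +kernel)
theorem r888_7 : R9 F (g wAd) b888 [] 2 1 := .of (startD 0 1) (by decide +kernel)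
theorem r888_8 : R9 F (g wAd) b888 [] 2 2 := .of (startD 0 1) (by decide +kernel)
theorem g888 : Gd F (g wAd) (1, d888) [] :=
  good9 ok h888 r888_0 r888_1 r888_2 r888_3 r888_4 r888_5 r888_6 r888_7 r888_8

def b889 : Wd := ⟨1, d889,
  [.z, .Z9, .Z7, .Z5, .Z4, .Z2, .Z1, .X10, .X5, .X4, .X1, .y10, .y9, .y8, .y7, .y5, .y4, .y3, .y2, .hi, .p9, .hi, .p3,
   .hi, .p9, .hi, .p8, .hi, .p2, .xii, .y2, .p, .xii, .y3, .tau, .xii, .y1, .p, .xii, .p, .xii, .y7, .tau, .X0, .hi,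
   .xii, .p6, .xii, .p5, .hi, .p9, .y10, .tau, .xii, .p7, .xii, .p9, .y6, .xii, .y8, .tau, .xii, .p2, .hi],
  [.Z9, .Z7, .Z5, .Z4, .X8, .X7, .X6, .X5, .X4, .X2, .X0, .y8, .y7, .y6, .y5, .y3, .y2, .p8, .hi, .p, .hi, .p, .xii,
   .p, .xii, .p9, .y1, .tau, .xii, .y6, .p, .xii, .p, .xii, .y1, .y5, .y7, .tau, .y1, .xii, .p9, .xii, .y1, .y8, .p9,
   .xii, .y10, .tau, .xii, .p7, .xii, .p8, .y6, .xii, .y8, .tau, .xii, .p5],
  [.z, .Z10, .Z8, .Z7, .Z6, .Z3, .Z1, .Z0, .X9, .X7, .X6, .X3, .X2, .X1, .X0, .y10, .y6, .y4, .y3, .y2, .p9, .hi, .p9,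
   .hi, .p9, .hi, .p6, .hi, .p4, .hi, .p5, .hi, .xii, .p10, .xii, .y1, .p6, .xii, .y3, .tau, .y1, .xii, .p10, .xii,
   .y8, .p10, .xii, .y10, .taui, .X0, .y1, .p7, .xii, .p4, .xii, .y6, .p10, .tau, .xii, .p5, .xii, .y3, .y4, .hi,
   .xii, .y9, .tau, .xii, .p9, .xii, .y5]⟩

theorem h889 : Hd F (g wAd) b889 := hdD (by decide +kernel)
theorem r889_0 : R9 F (g wAd) b889 [] 0 0 := .of (startD 0 1) (by decide +kernel)
theorem r889_1 : R9 F (g wAd) b889 [] 0 1 := .of (startD 0 1) (by decide +kernel)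
theorem r889_2 : R9 F (g wAd) b889 [] 0 2 := .of (startD 0 1) (by decide +kernel)
theorem r889_3 : R9 F (g wAd) b889 [] 1 0 := .of (startD 0 1) (by decide +kernel)
theorem r889_4 : R9 F (g wAd) b889 [] 1 1 := .of (startD 0 1) (by decide +kernel)
theorem r889_5 : R9 F (g wAd) b889 [] 1 2 := .of (startD 0 1) (by decide +kernel)
theorem r889_6 : R9 F (g wAd) b889 [] 2 0 := .of (startD 0 1) (by decide +kernel)
theorem r889_7 : R9 F (g wAd) b889 [] 2 1 := .of (startD 0 1) (by decide +kernel)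
theorem r889_8 : R9 F (g wAd) b889 [] 2 2 := .of (startD 0 1) (by decide +kernel)
theorem g889 : Gd F (g wAd) (1, d889) [] :=
  good9 ok h889 r889_0 r889_1 r889_2 r889_3 r889_4 r889_5 r889_6 r889_7 r889_8

theorem all : AllG F (g wAd) LD88 :=
  .cons g880 (.cons g881 (.cons g882 (.cons g883 (.cons g884 (.cons g885 (.cons g886 (.cons g887 (.cons g888 (.cons g889 (.nil))))))))))

end Cfsg.Agent.BX.No33.Bk.D88
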