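import Cfsg.Agent.BX.No33.Cheap
set_option linter.all false

/-!
# Tests, diagonal case, part 89 (helper5; generated)
-/

set_option autoImplicit false
set_option maxRecDepth 100000
set_option Elab.async false

namespace Cfsg.Agent.BX.No33.Bk.D89

open Cfsg.Agent.H819.U33 Cfsg.Agent.BX.No33.Front

def b890 : Wd := ⟨1, d890,
  [.z, .Z8, .Z7, .Z6, .Z5, .Z3, .X8, .X7, .X6, .X3, .X0, .y8, .y7, .y6, .y3, .y2, .y1, .p8, .hi, .p9, .hi, .p9, .hi,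
   .p3, .hi, .p6, .hi, .p8, .hi, .xii, .hi, .xii, .p10, .y8, .xii, .taui, .y1, .xii, .y2, .hi, .xii, .y10, .p10, .xii,
   .y4, .y8, .taui, .X0, .p2, .xii, .p9, .xii, .hi, .p5, .y10, .tau, .xii, .y2, .p6, .xii, .y2, .hi, .p3, .tau, .xii,
   .y2, .p7],
  [.Z10, .Z7, .Z6, .Z3, .Z2, .X9, .X5, .X3, .X0, .y6, .y5, .y4, .y3, .y1, .hi, .p6, .hi, .p5, .hi, .p4, .hi, .p10,
   .hi, .p, .hi, .xii, .y2, .p10, .xii, .y10, .p8, .taui, .xii, .y2, .p, .xii, .y2, .hi, .xii, .y4, .y5, .tau, .X0,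
   .y1, .p6, .xii, .p6, .xii, .p3, .y9, .taui, .xii, .p7, .xii, .y7, .y10, .p10, .hi, .tau, .xii, .p8],
  [.Z9, .Z1, .X9, .y8, .y6, .y5, .y4, .y3, .y1, .p9, .hi, .p4, .hi, .p4, .hi, .p8, .hi, .p9, .hi, .p6, .xii, .y2, .p,
   .xii, .y3, .hi, .xii, .y6, .taui, .xii, .y2, .p, .xii, .y4, .hi, .xii, .y4, .y6, .tau, .xii, .y6, .p5, .xii, .y8,
   .p7, .xii, .y7, .tau, .xii, .p9, .xii, .p4, .hi, .y10, .p2, .taui, .xii, .p7]⟩

theorem h890 : Hd F (g wAd) b890 := hdD (by decide +kernel)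
theorem r890_0 : R9 F (g wAd) b890 [] 0 0 := .of (startD 0 1) (by decide +kernel)
theorem r890_1 : R9 F (g wAd) b890 [] 0 1 := .of (startD 0 1) (by decide +kernel)
theorem r890_2 : R9 F (g wAd) b890 [] 0 2 := .of (startD 0 1) (by decide +kernel)
theorem r890_3 : R9 F (g wAd) b890 [] 1 0 := .of (startD 0 1) (by decide +kernel)
theorem r890_4 : R9 F (g wAd) b890 [] 1 1 := .of (startD 0 1) (by decide +kernel)
theorem r890_5 : R9 F (g wAd) b890 [] 1 2 := .of (startD 0 1) (by decide +kernel)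
theorem r890_6 : R9 F (g wAd) b890 [] 2 0 := .of (startD 0 1) (by decide +kernel)
theorem r890_7 : R9 F (g wAd) b890 [] 2 1 := .of (startD 0 1) (by decide +kernel)
theorem r890_8 : R9 F (g wAd) b890 [] 2 2 := .of (startD 0 1) (by decide +kernel)
theorem g890 : Gd F (g wAd) (1, d890) [] :=
  good9 ok h890 r890_0 r890_1 r890_2 r890_3 r890_4 r890_5 r890_6 r890_7 r890_8

def b891 : Wd := ⟨1, d891,
  [.Z8, .Z5, .Z4, .Z1, .Z0, .X9, .X8, .X6, .X5, .X2, .X0, .y10, .y8, .y6, .y4, .y3, .hi, .p3, .hi, .p, .hi, .p7, .hi,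
   .p6, .hi, .p6, .xii, .hi, .xii, .p10, .y9, .xii, .y8, .y10, .taui, .xii, .p, .xii, .y1, .y6, .hi, .xii, .y7, .taui,
   .p5, .xii, .p7, .y5, .xii, .y6, .p7, .xii, .tau, .xii, .hi, .p7, .xii, .p10, .hi, .y7, .taui, .xii, .y2, .p, .hi],
  [.Z10, .Z9, .Z6, .Z1, .Z0, .X9, .X7, .X6, .X5, .X1, .y9, .y8, .y7, .y2, .y1, .p10, .hi, .p8, .hi, .p, .hi, .p4, .hi,
   .p2, .hi, .tau, .xii, .y6, .p, .xii, .y10, .p, .xii, .y1, .y10, .taui, .xii, .y2, .p7, .xii, .p7, .xii, .p10, .y9,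
   .taui, .xii, .y2, .p8, .xii, .p5, .y9, .hi, .p2, .taui, .xii, .y2, .p, .hi],
  [.Z7, .Z4, .Z3, .Z2, .Z1, .X10, .X6, .X5, .X3, .X2, .y10, .y9, .y8, .y7, .y6, .y4, .y2, .hi, .p3, .hi, .p4, .hi,
   .p7, .hi, .p, .hi, .p4, .hi, .xii, .hi, .xii, .p8, .tau, .xii, .p, .xii, .y2, .y10, .hi, .xii, .y4, .y5, .taui,
   .xii, .p, .xii, .y4, .hi, .xii, .y6, .tau, .X0, .p9, .xii, .y7, .hi, .xii, .y6, .taui, .xii, .y2, .p4, .xii, .y5,
   .p8, .xii, .y7, .taui, .xii, .y2]⟩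

theorem h891 : Hd F (g wAd) b891 := hdD (by decide +kernel)
theorem r891_0 : R9 F (g wAd) b891 [] 0 0 := .of (startD 0 1) (by decide +kernel)
theorem r891_1 : R9 F (g wAd) b891 [] 0 1 := .of (startD 0 1) (by decide +kernel)
theorem r891_2 : R9 F (g wAd) b891 [] 0 2 := .of (startD 0 1) (by decide +kernel)
theorem r891_3 : R9 F (g wAd) b891 [] 1 0 := .of (startD 0 1) (by decide +kernel)
theorem r891_4 : R9 F (g wAd) b891 [] 1 1 := .of (startD 0 1) (by decide +kernel)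
theorem r891_5 : R9 F (g wAd) b891 [] 1 2 := .of (startD 0 1) (by decide +kernel)
theorem r891_6 : R9 F (g wAd) b891 [] 2 0 := .of (startD 0 1) (by decide +kernel)
theorem r891_7 : R9 F (g wAd) b891 [] 2 1 := .of (startD 0 2) (by decide +kernel)
theorem r891_8 : R9 F (g wAd) b891 [] 2 2 := .of (startD 0 1) (by decide +kernel)
theorem g891 : Gd F (g wAd) (1, d891) [] :=
  good9 ok h891 r891_0 r891_1 r891_2 r891_3 r891_4 r891_5 r891_6 r891_7 r891_8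

def b892 : Wd := ⟨1, d892,
  [.Z9, .Z4, .Z3, .Z2, .X9, .X8, .X7, .X5, .X1, .y10, .y8, .y7, .y6, .y5, .y4, .p8, .hi, .p6, .hi, .p6, .hi, .p6, .hi,
   .p6, .hi, .p7, .xii, .p, .xii, .p8, .y1, .xii, .y5, .tau, .xii, .p6, .xii, .y6, .hi, .xii, .p, .taui, .p10, .xii,
   .p10, .xii, .y6, .p2, .xii, .y7, .y8, .tau, .xii, .y2, .p9, .xii, .y5, .p2, .hi, .p6, .tau, .xii, .y2, .p2],
  [.z, .Z9, .Z8, .Z7, .Z4, .Z3, .Z2, .Z0, .X10, .X9, .X8, .X5, .X3, .X2, .y5, .y4, .y3, .p10, .hi, .p5, .hi, .p9, .hi,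
   .p, .hi, .p8, .hi, .p6, .hi, .tau, .xii, .p, .xii, .y4, .y10, .hi, .xii, .y5, .y10, .taui, .xii, .p4, .xii, .p7,
   .y4, .xii, .y1, .y2, .y3, .tau, .xii, .y2, .p6, .xii, .p, .xii, .y1, .y4, .taui, .xii, .hi, .p5],
  [.z, .Z10, .Z9, .Z5, .Z4, .Z2, .Z1, .Z0, .X8, .X7, .X3, .X0, .y9, .y7, .y6, .y4, .y3, .y2, .p10, .hi, .p9, .hi, .p5,
   .hi, .p5, .hi, .p5, .hi, .p, .hi, .p10, .xii, .p, .xii, .p8, .y8, .xii, .y1, .y9, .taui, .xii, .p, .xii, .y1, .hi,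
   .xii, .y5, .y8, .taui, .y1, .p7, .xii, .p7, .xii, .y1, .p10, .taui, .xii, .y2, .p3, .xii, .y1, .hi, .p8, .taui,
   .xii, .p10, .hi, .p10]⟩

theorem h892 : Hd F (g wAd) b892 := hdD (by decide +kernel)
theorem r892_0 : R9 F (g wAd) b892 [] 0 0 := .of (startD 0 1) (by decide +kernel)
theorem r892_1 : R9 F (g wAd) b892 [] 0 1 := .of (startD 0 1) (by decide +kernel)
theorem r892_2 : R9 F (g wAd) b892 [] 0 2 := .of (startD 0 1) (by decide +kernel)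
theorem r892_3 : R9 F (g wAd) b892 [] 1 0 := .of (startD 0 1) (by decide +kernel)
theorem r892_4 : R9 F (g wAd) b892 [] 1 1 := .of (startD 0 1) (by decide +kernel)
theorem r892_5 : R9 F (g wAd) b892 [] 1 2 := .of (startD 0 1) (by decide +kernel)
theorem r892_6 : R9 F (g wAd) b892 [] 2 0 := .of (startD 0 1) (by decide +kernel)
theorem r892_7 : R9 F (g wAd) b892 [] 2 1 := .of (startD 0 1) (by decide +kernel)
theorem r892_8 : R9 F (g wAd) b892 [] 2 2 := .of (startD 0 1) (by decide +kernel)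
theorem g892 : Gd F (g wAd) (1, d892) [] :=
  good9 ok h892 r892_0 r892_1 r892_2 r892_3 r892_4 r892_5 r892_6 r892_7 r892_8

def b893 : Wd := ⟨1, d893,
  [.z, .Z9, .Z8, .Z6, .Z5, .Z3, .Z2, .Z1, .X10, .X8, .X7, .X2, .X0, .y10, .y8, .y7, .y6, .y4, .y1, .p8, .hi, .p3, .hi,
   .p5, .hi, .p10, .hi, .p10, .hi, .p6, .xii, .p, .xii, .hi, .p8, .y3, .taui, .xii, .p, .xii, .y1, .hi, .xii, .y5,
   .y8, .taui, .p10, .xii, .p8, .xii, .y8, .p3, .hi, .p3, .taui, .xii, .p9, .xii, .y9, .y10, .p9, .xii, .y4, .tau,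
   .xii, .y2, .hi, .p6],
  [.z, .Z10, .Z7, .Z3, .Z2, .Z1, .X10, .X8, .X7, .X6, .X3, .X1, .y10, .y9, .y7, .y5, .p7, .hi, .p, .hi, .p8, .hi, .p4,
   .hi, .p3, .hi, .p5, .hi, .xii, .p10, .xii, .y5, .p9, .xii, .y7, .taui, .y1, .xii, .p10, .xii, .y8, .p10, .xii, .y1,
   .y3, .taui, .p4, .xii, .y2, .p7, .xii, .y5, .p4, .tau, .xii, .p8, .xii, .y1, .y3, .taui, .xii, .y2],
  [.Z8, .Z7, .Z6, .Z5, .Z2, .Z0, .X8, .X7, .X2, .X1, .y10, .y8, .y6, .y4, .p4, .hi, .p5, .hi, .p8, .hi, .p5, .hi, .p8,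
   .xii, .p, .xii, .y2, .p4, .taui, .xii, .p, .xii, .y2, .hi, .xii, .y4, .y7, .taui, .X0, .p8, .xii, .y6, .p, .xii,
   .hi, .y7, .p10, .taui, .xii, .p5, .hi, .p3, .xii, .tau, .xii, .p2]⟩

theorem h893 : Hd F (g wAd) b893 := hdD (by decide +kernel)
theorem r893_0 : R9 F (g wAd) b893 [] 0 0 := .of (startD 0 1) (by decide +kernel)
theorem r893_1 : R9 F (g wAd) b893 [] 0 1 := .of (startD 0 1) (by decide +kernel)
theorem r893_2 : R9 F (g wAd) b893 [] 0 2 := .of (startD 0 1) (by decide +kernel)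
theorem r893_3 : R9 F (g wAd) b893 [] 1 0 := .of (startD 0 1) (by decide +kernel)
theorem r893_4 : R9 F (g wAd) b893 [] 1 1 := .of (startD 0 1) (by decide +kernel)
theorem r893_5 : R9 F (g wAd) b893 [] 1 2 := .of (startD 0 1) (by decide +kernel)
theorem r893_6 : R9 F (g wAd) b893 [] 2 0 := .of (startD 0 1) (by decide +kernel)
theorem r893_7 : R9 F (g wAd) b893 [] 2 1 := .of (startD 0 1) (by decide +kernel)
theorem r893_8 : R9 F (g wAd) b893 [] 2 2 := .of (startD 0 1) (by decide +kernel)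
theorem g893 : Gd F (g wAd) (1, d893) [] :=
  good9 ok h893 r893_0 r893_1 r893_2 r893_3 r893_4 r893_5 r893_6 r893_7 r893_8

def b894 : Wd := ⟨1, d894,
  [.z, .Z9, .Z5, .Z2, .X9, .X4, .X3, .X2, .X1, .X0, .y9, .y8, .y7, .y5, .y3, .y1, .p10, .hi, .p4, .hi, .p10, .hi, .p8,
   .hi, .p4, .hi, .p4, .hi, .xii, .p10, .xii, .p6, .xii, .y7, .tau, .xii, .p, .xii, .y1, .y10, .hi, .xii, .y3, .y9,
   .taui, .X0, .p9, .xii, .y10, .p6, .xii, .p4, .y9, .xii, .tau, .xii, .p5, .xii, .y2, .p2, .xii, .y7, .taui, .xii,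
   .y6, .p, .xii],
  [.z, .Z5, .Z2, .Z1, .Z0, .X10, .X7, .X4, .X0, .y9, .y8, .y7, .y5, .y2, .hi, .p8, .hi, .p4, .hi, .p4, .xii, .hi, .p8,
   .xii, .y3, .y7, .taui, .y1, .xii, .p10, .xii, .p10, .y7, .xii, .y8, .taui, .X0, .xii, .p3, .xii, .p2, .xii, .y3,
   .y5, .p8, .taui, .xii, .p5, .xii, .y4, .p2, .xii, .y2, .y4, .taui],
  [.Z10, .Z9, .Z7, .Z6, .Z4, .Z3, .Z2, .Z1, .X10, .X7, .X3, .X2, .X1, .y10, .y7, .y6, .y4, .y3, .y2, .p9, .hi, .p10,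
   .hi, .p7, .hi, .p, .hi, .p, .hi, .p6, .hi, .xii, .p10, .xii, .y4, .p2, .xii, .y1, .taui, .y1, .xii, .y6, .p10,
   .xii, .y8, .p10, .xii, .y4, .y8, .taui, .hi, .xii, .y7, .p5, .xii, .y6, .p6, .hi, .taui, .xii, .p5, .xii, .p2, .y9,
   .xii, .y5, .tau, .xii, .p10, .xii, .y6]⟩

theorem h894 : Hd F (g wAd) b894 := hdD (by decide +kernel)
theorem r894_0 : R9 F (g wAd) b894 [] 0 0 := .of (startD 0 1) (by decide +kernel)
theorem r894_1 : R9 F (g wAd) b894 [] 0 1 := .of (startD 0 1) (by decide +kernel)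
theorem r894_2 : R9 F (g wAd) b894 [] 0 2 := .of (startD 0 1) (by decide +kernel)
theorem r894_3 : R9 F (g wAd) b894 [] 1 0 := .of (startD 0 1) (by decide +kernel)
theorem r894_4 : R9 F (g wAd) b894 [] 1 1 := .of (startD 0 1) (by decide +kernel)
theorem r894_5 : R9 F (g wAd) b894 [] 1 2 := .of (startD 0 1) (by decide +kernel)
theorem r894_6 : R9 F (g wAd) b894 [] 2 0 := .of (startD 0 1) (by decide +kernel)
theorem r894_7 : R9 F (g wAd) b894 [] 2 1 := .of (startD 0 1) (by decide +kernel)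
theorem r894_8 : R9 F (g wAd) b894 [] 2 2 := .of (startD 0 1) (by decide +kernel)
theorem g894 : Gd F (g wAd) (1, d894) [] :=
  good9 ok h894 r894_0 r894_1 r894_2 r894_3 r894_4 r894_5 r894_6 r894_7 r894_8

def b895 : Wd := ⟨1, d895,
  [.Z10, .Z7, .Z6, .Z2, .Z0, .X8, .X6, .X5, .X2, .X1, .X0, .y10, .y9, .y6, .y5, .y4, .p7, .hi, .p6, .hi, .p9, .hi,
   .p8, .hi, .p9, .hi, .p6, .hi, .xii, .y2, .p10, .xii, .y10, .p8, .xii, .y4, .taui, .xii, .p, .xii, .hi, .y8, .xii,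
   .y4, .y5, .y9, .taui, .p2, .xii, .p5, .xii, .y2, .y3, .p, .xii, .y10, .tau, .xii, .p4, .xii, .p9, .xii, .y3, .y7,
   .taui, .xii, .p],
  [.z, .Z8, .Z6, .Z3, .Z2, .Z1, .Z0, .X9, .X7, .X6, .X5, .X3, .X2, .X0, .y9, .y8, .y2, .y1, .p, .hi, .p5, .hi, .p5,
   .hi, .p9, .xii, .p, .xii, .hi, .y8, .p8, .tau, .y1, .xii, .p10, .xii, .y1, .p10, .xii, .y2, .taui, .X0, .p6, .xii,
   .y8, .p6, .xii, .p, .xii, .y1, .taui, .xii, .p4, .hi, .p10, .xii, .p, .y8, .taui, .xii, .p],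
  [.z, .Z9, .Z8, .Z7, .Z6, .Z4, .Z3, .Z1, .Z0, .X10, .X7, .X6, .X3, .X1, .X0, .y9, .y7, .y5, .y3, .y2, .hi, .p8, .hi,
   .p10, .hi, .p10, .hi, .p7, .xii, .p, .xii, .y1, .hi, .p8, .tau, .y1, .xii, .y6, .p10, .xii, .y8, .p10, .xii, .y4,
   .y8, .tau, .p8, .xii, .y4, .p, .hi, .xii, .y6, .p7, .taui, .xii, .p2, .xii, .y7, .p5, .hi, .p8, .taui, .xii, .y2,
   .hi, .p6]⟩

theorem h895 : Hd F (g wAd) b895 := hdD (by decide +kernel)
theorem r895_0 : R9 F (g wAd) b895 [] 0 0 := .of (startD 0 1) (by decide +kernel)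
theorem r895_1 : R9 F (g wAd) b895 [] 0 1 := .of (startD 0 1) (by decide +kernel)
theorem r895_2 : R9 F (g wAd) b895 [] 0 2 := .of (startD 0 1) (by decide +kernel)
theorem r895_3 : R9 F (g wAd) b895 [] 1 0 := .of (startD 0 1) (by decide +kernel)
theorem r895_4 : R9 F (g wAd) b895 [] 1 1 := .of (startD 0 1) (by decide +kernel)
theorem r895_5 : R9 F (g wAd) b895 [] 1 2 := .of (startD 0 1) (by decide +kernel)
theorem r895_6 : R9 F (g wAd) b895 [] 2 0 := .of (startD 0 1) (by decide +kernel)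
theorem r895_7 : R9 F (g wAd) b895 [] 2 1 := .of (startD 0 1) (by decide +kernel)
theorem r895_8 : R9 F (g wAd) b895 [] 2 2 := .of (startD 0 1) (by decide +kernel)
theorem g895 : Gd F (g wAd) (1, d895) [] :=
  good9 ok h895 r895_0 r895_1 r895_2 r895_3 r895_4 r895_5 r895_6 r895_7 r895_8

def b896 : Wd := ⟨1, d896,
  [.z, .Z8, .Z7, .Z6, .Z5, .Z0, .X10, .X9, .X7, .X6, .X3, .X2, .y7, .y6, .y4, .y2, .y1, .p8, .hi, .p6, .hi, .p6, .hi,
   .p, .hi, .p4, .hi, .p7, .xii, .y2, .p, .xii, .p9, .taui, .xii, .y1, .p, .xii, .y4, .p, .xii, .y3, .tau, .X0, .y1,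
   .xii, .p9, .xii, .y1, .p2, .xii, .y2, .taui, .xii, .p3, .xii, .hi, .p10, .y5, .tau, .xii, .p2],
  [.Z9, .Z8, .Z7, .Z3, .Z1, .X8, .X7, .X5, .X4, .X1, .y6, .y5, .p9, .hi, .p8, .hi, .p5, .hi, .p7, .hi, .p, .hi, .p9,
   .hi, .xii, .p2, .hi, .xii, .y9, .tau, .xii, .p, .xii, .hi, .y8, .xii, .y2, .y4, .y7, .tau, .p10, .xii, .y10, .p9,
   .xii, .y7, .y10, .p5, .tau, .xii, .p5, .xii, .p10, .y8, .hi, .p5, .tau, .xii, .y2, .p],
  [.Z10, .Z8, .Z7, .Z6, .Z5, .Z3, .X8, .X7, .X5, .X1, .X0, .y10, .y9, .y8, .y5, .y4, .y3, .y2, .p6, .hi, .p8, .hi,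
   .p9, .hi, .p8, .hi, .p8, .hi, .xii, .tau, .xii, .y1, .p, .xii, .y2, .p, .xii, .y3, .tau, .X0, .p5, .xii, .y9, .p7,
   .xii, .y5, .p9, .xii, .y5, .tau, .xii, .p9, .xii, .y7, .y10, .p9, .xii, .y10, .tau, .xii, .p9, .xii, .y9]⟩

theorem h896 : Hd F (g wAd) b896 := hdD (by decide +kernel)
theorem r896_0 : R9 F (g wAd) b896 [] 0 0 := .of (startD 0 1) (by decide +kernel)
theorem r896_1 : R9 F (g wAd) b896 [] 0 1 := .of (startD 0 1) (by decide +kernel)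
theorem r896_2 : R9 F (g wAd) b896 [] 0 2 := .of (startD 0 1) (by decide +kernel)
theorem r896_3 : R9 F (g wAd) b896 [] 1 0 := .of (startD 0 1) (by decide +kernel)
theorem r896_4 : R9 F (g wAd) b896 [] 1 1 := .of (startD 0 1) (by decide +kernel)
theorem r896_5 : R9 F (g wAd) b896 [] 1 2 := .of (startD 0 2) (by decide +kernel)
theorem r896_6 : R9 F (g wAd) b896 [] 2 0 := .of (startD 0 1) (by decide +kernel)
theorem r896_7 : R9 F (g wAd) b896 [] 2 1 := .of (startD 0 1) (by decide +kernel)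
theorem r896_8 : R9 F (g wAd) b896 [] 2 2 := .of (startD 0 1) (by decide +kernel)
theorem g896 : Gd F (g wAd) (1, d896) [] :=
  good9 ok h896 r896_0 r896_1 r896_2 r896_3 r896_4 r896_5 r896_6 r896_7 r896_8

def b897 : Wd := ⟨1, d897,
  [.z, .Z7, .Z6, .Z5, .Z4, .Z3, .Z1, .X9, .X7, .X6, .X5, .X3, .X2, .X1, .X0, .y10, .y8, .y7, .y6, .p8, .hi, .p8, .hi,
   .p6, .hi, .p3, .hi, .p4, .hi, .p2, .xii, .p, .xii, .y6, .p2, .hi, .tau, .xii, .y6, .p, .xii, .p, .xii, .y1, .y10,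
   .tau, .y1, .xii, .p5, .xii, .p8, .y7, .xii, .y7, .tau, .xii, .p5, .xii, .p9, .y1, .xii, .y7, .y10, .tau, .xii, .y7,
   .p4, .xii],
  [.Z10, .Z8, .Z2, .Z0, .X6, .X4, .X2, .X1, .y9, .y7, .y1, .p8, .hi, .p4, .hi, .p10, .hi, .p9, .hi, .p8, .hi, .p,
   .xii, .p, .xii, .y10, .p9, .tau, .y1, .xii, .p10, .xii, .y5, .p10, .xii, .y8, .tau, .X0, .p7, .xii, .p4, .xii, .p8,
   .y3, .y10, .taui, .xii, .p7, .xii, .p7, .y4, .xii, .y9, .tau],
  [.z, .Z8, .Z7, .Z6, .X9, .X8, .X5, .X2, .X1, .y10, .y9, .y7, .y6, .y4, .y3, .y1, .hi, .p, .hi, .p3, .hi, .p6, .hi,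
   .p6, .hi, .p8, .hi, .p7, .hi, .xii, .p3, .hi, .tau, .y1, .xii, .p10, .xii, .y2, .p10, .xii, .y2, .taui, .X0, .p2,
   .xii, .p4, .xii, .y5, .y8, .y10, .p5, .tau, .xii, .p5, .xii, .y8, .p5, .y10, .xii, .y4, .tau, .xii, .p8]⟩

theorem h897 : Hd F (g wAd) b897 := hdD (by decide +kernel)
theorem r897_0 : R9 F (g wAd) b897 [] 0 0 := .of (startD 0 1) (by decide +kernel)
theorem r897_1 : R9 F (g wAd) b897 [] 0 1 := .of (startD 0 1) (by decide +kernel)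
theorem r897_2 : R9 F (g wAd) b897 [] 0 2 := .of (startD 0 1) (by decide +kernel)
theorem r897_3 : R9 F (g wAd) b897 [] 1 0 := .of (startD 0 1) (by decide +kernel)
theorem r897_4 : R9 F (g wAd) b897 [] 1 1 := .of (startD 0 1) (by decide +kernel)
theorem r897_5 : R9 F (g wAd) b897 [] 1 2 := .of (startD 0 1) (by decide +kernel)
theorem r897_6 : R9 F (g wAd) b897 [] 2 0 := .of (startD 0 2) (by decide +kernel)
theorem r897_7 : R9 F (g wAd) b897 [] 2 1 := .of (startD 0 1) (by decide +kernel)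
theorem r897_8 : R9 F (g wAd) b897 [] 2 2 := .of (startD 0 1) (by decide +kernel)
theorem g897 : Gd F (g wAd) (1, d897) [] :=
  good9 ok h897 r897_0 r897_1 r897_2 r897_3 r897_4 r897_5 r897_6 r897_7 r897_8

def b898 : Wd := ⟨1, d898,
  [.Z9, .Z7, .Z3, .Z1, .Z0, .X10, .X9, .X8, .X7, .X5, .X2, .X0, .y10, .y9, .y6, .y4, .y3, .y2, .p3, .hi, .p9, .hi,
   .p3, .hi, .p7, .hi, .p10, .xii, .p10, .xii, .y5, .p6, .xii, .y4, .y7, .tau, .xii, .p, .xii, .y3, .hi, .xii, .y7,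
   .y10, .taui, .X0, .p10, .xii, .y4, .p2, .xii, .y8, .p5, .hi, .p2, .tau, .xii, .p5, .xii, .y1, .y7, .p2, .xii, .tau,
   .xii, .y4, .p6],
  [.z, .Z10, .Z9, .Z8, .Z6, .Z4, .Z2, .Z0, .X8, .X7, .X5, .X4, .X3, .y8, .y1, .p8, .hi, .p9, .hi, .p4, .hi, .p10, .hi,
   .p5, .hi, .p, .xii, .y2, .p, .xii, .p, .xii, .y3, .y10, .tau, .y1, .xii, .p10, .xii, .y4, .p10, .xii, .y4, .y9,
   .tau, .X0, .y1, .p8, .xii, .p, .xii, .hi, .p3, .taui, .xii, .p4, .xii, .y3, .p4, .xii, .taui, .xii, .p5],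
  [.z, .Z8, .Z7, .Z6, .Z3, .X7, .X5, .X3, .X2, .X0, .y9, .y5, .y2, .y1, .hi, .p4, .hi, .p7, .hi, .p10, .hi, .p10, .hi,
   .p9, .hi, .xii, .p10, .xii, .y8, .p6, .xii, .y3, .y4, .tau, .xii, .y1, .p, .xii, .y1, .y10, .tau, .X0, .p5, .xii,
   .p7, .y5, .xii, .y1, .y9, .p8, .tau, .xii, .p7, .xii, .y10, .p8, .xii, .y4, .taui, .xii, .p6]⟩

theorem h898 : Hd F (g wAd) b898 := hdD (by decide +kernel)
theorem r898_0 : R9 F (g wAd) b898 [] 0 0 := .of (startD 0 1) (by decide +kernel)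
theorem r898_1 : R9 F (g wAd) b898 [] 0 1 := .of (startD 0 1) (by decide +kernel)
theorem r898_2 : R9 F (g wAd) b898 [] 0 2 := .of (startD 0 1) (by decide +kernel)
theorem r898_3 : R9 F (g wAd) b898 [] 1 0 := .of (startD 0 1) (by decide +kernel)
theorem r898_4 : R9 F (g wAd) b898 [] 1 1 := .of (startD 0 1) (by decide +kernel)
theorem r898_5 : R9 F (g wAd) b898 [] 1 2 := .of (startD 0 1) (by decide +kernel)
theorem r898_6 : R9 F (g wAd) b898 [] 2 0 := .of (startD 0 1) (by decide +kernel)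
theorem r898_7 : R9 F (g wAd) b898 [] 2 1 := .of (startD 0 1) (by decide +kernel)
theorem r898_8 : R9 F (g wAd) b898 [] 2 2 := .of (startD 0 1) (by decide +kernel)
theorem g898 : Gd F (g wAd) (1, d898) [] :=
  good9 ok h898 r898_0 r898_1 r898_2 r898_3 r898_4 r898_5 r898_6 r898_7 r898_8

def b899 : Wd := ⟨1, d899,
  [.Z10, .Z7, .Z6, .Z5, .Z4, .Z3, .Z2, .Z0, .X10, .X8, .X4, .X0, .y7, .y5, .y4, .y2, .p7, .hi, .p, .hi, .p7, .hi, .p9,
   .hi, .p10, .xii, .p10, .xii, .y1, .y7, .tau, .xii, .p, .xii, .y1, .hi, .xii, .y2, .y7, .taui, .xii, .p3, .xii, .y9,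
   .p2, .xii, .y5, .p2, .tau, .xii, .y2, .p5, .xii, .p10, .hi, .tau, .xii, .hi, .p7],
  [.Z8, .Z7, .Z6, .Z4, .Z2, .Z1, .Z0, .X2, .X0, .y10, .y7, .y5, .y4, .p3, .hi, .p8, .hi, .p10, .hi, .p3, .hi, .p,
   .xii, .hi, .p8, .xii, .y2, .tau, .y1, .xii, .p10, .xii, .y4, .p10, .xii, .y1, .y5, .tau, .X0, .xii, .p2, .xii, .hi,
   .y7, .xii, .y1, .taui, .xii, .p5, .xii, .p5, .y1, .xii, .y7, .taui, .xii, .y7],
  [.Z8, .Z7, .Z5, .Z2, .Z1, .X9, .X8, .X7, .X5, .X4, .y10, .y9, .y8, .y5, .p10, .hi, .p2, .hi, .p8, .hi, .p10, .hi,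
   .p6, .hi, .p, .hi, .xii, .p3, .hi, .xii, .y8, .p10, .taui, .xii, .y1, .p, .xii, .p, .xii, .y5, .y10, .tau, .X0,
   .p8, .xii, .y4, .p3, .xii, .y6, .p10, .xii, .tau, .xii, .y2, .hi, .p6, .xii, .y3, .p9, .taui, .xii, .p3, .hi, .p7]⟩

theorem h899 : Hd F (g wAd) b899 := hdD (by decide +kernel)
theorem r899_0 : R9 F (g wAd) b899 [] 0 0 := .of (startD 0 1) (by decide +kernel)
theorem r899_1 : R9 F (g wAd) b899 [] 0 1 := .of (startD 0 1) (by decide +kernel)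
theorem r899_2 : R9 F (g wAd) b899 [] 0 2 := .of (startD 0 1) (by decide +kernel)
theorem r899_3 : R9 F (g wAd) b899 [] 1 0 := .of (startD 0 1) (by decide +kernel)
theorem r899_4 : R9 F (g wAd) b899 [] 1 1 := .of (startD 0 1) (by decide +kernel)
theorem r899_5 : R9 F (g wAd) b899 [] 1 2 := .of (startD 0 1) (by decide +kernel)
theorem r899_6 : R9 F (g wAd) b899 [] 2 0 := .of (startD 0 1) (by decide +kernel)
theorem r899_7 : R9 F (g wAd) b899 [] 2 1 := .of (startD 0 1) (by decide +kernel)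
theorem r899_8 : R9 F (g wAd) b899 [] 2 2 := .of (startD 0 1) (by decide +kernel)
theorem g899 : Gd F (g wAd) (1, d899) [] :=
  good9 ok h899 r899_0 r899_1 r899_2 r899_3 r899_4 r899_5 r899_6 r899_7 r899_8

theorem all : AllG F (g wAd) LD89 :=
  .cons g890 (.cons g891 (.cons g892 (.cons g893 (.cons g894 (.cons g895 (.cons g896 (.cons g897 (.cons g898 (.cons g899 (.nil))))))))))

end Cfsg.Agent.BX.No33.Bk.D89
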