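import Cfsg.Agent.BX.No33.Cheap
set_option linter.all false

/-!
# Tests, diagonal case, part 90 (helper5; generated)
-/

set_option autoImplicit false
set_option maxRecDepth 100000
set_option Elab.async false

namespace Cfsg.Agent.BX.No33.Bk.D90

open Cfsg.Agent.H819.U33 Cfsg.Agent.BX.No33.Front

def b900 : Wd := ⟨1, d900,
  [.Z9, .Z8, .Z7, .Z3, .Z2, .Z0, .X6, .X4, .X3, .X1, .y9, .y7, .y5, .y4, .y1, .hi, .p, .hi, .p3, .hi, .p3, .hi, .p4,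
   .hi, .p8, .hi, .p8, .hi, .xii, .y2, .p10, .hi, .p8, .tau, .xii, .p, .xii, .hi, .y8, .xii, .y7, .tau, .X0, .p7,
   .xii, .y4, .p8, .xii, .y8, .p4, .taui, .xii, .p4, .xii, .y1, .y8, .p10, .tau, .xii, .y2, .hi, .p6],
  [.Z10, .Z9, .Z8, .Z7, .Z6, .Z4, .Z1, .X9, .X8, .X7, .X3, .X2, .X1, .y9, .y6, .y4, .y3, .y2, .y1, .p4, .hi, .p3, .hi,
   .p7, .hi, .p7, .hi, .p2, .xii, .hi, .xii, .y4, .p6, .xii, .y7, .tau, .xii, .y2, .p, .xii, .y4, .hi, .xii, .y5,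
   .y10, .taui, .xii, .p7, .xii, .y7, .p7, .xii, .y1, .y2, .p7, .taui, .xii, .p5, .xii, .p7, .xii, .y8],
  [.Z10, .Z8, .Z4, .Z3, .Z1, .X7, .X6, .X5, .X4, .X3, .X2, .X1, .y10, .y9, .y4, .p4, .hi, .p, .hi, .p7, .hi, .p10,
   .hi, .p6, .hi, .p6, .hi, .xii, .p10, .xii, .y2, .tau, .xii, .y6, .p, .xii, .p, .xii, .y3, .y10, .tau, .X0, .hi,
   .xii, .p5, .xii, .y3, .y7, .p9, .taui, .xii, .p9, .xii, .y6, .hi, .xii, .taui]⟩

theorem h900 : Hd F (g wAd) b900 := hdD (by decide +kernel)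
theorem r900_0 : R9 F (g wAd) b900 [] 0 0 := .of (startD 0 1) (by decide +kernel)
theorem r900_1 : R9 F (g wAd) b900 [] 0 1 := .of (startD 0 1) (by decide +kernel)
theorem r900_2 : R9 F (g wAd) b900 [] 0 2 := .of (startD 0 1) (by decide +kernel)
theorem r900_3 : R9 F (g wAd) b900 [] 1 0 := .of (startD 0 1) (by decide +kernel)
theorem r900_4 : R9 F (g wAd) b900 [] 1 1 := .of (startD 0 1) (by decide +kernel)
theorem r900_5 : R9 F (g wAd) b900 [] 1 2 := .of (startD 0 1) (by decide +kernel)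
theorem r900_6 : R9 F (g wAd) b900 [] 2 0 := .of (startD 0 1) (by decide +kernel)
theorem r900_7 : R9 F (g wAd) b900 [] 2 1 := .of (startD 0 1) (by decide +kernel)
theorem r900_8 : R9 F (g wAd) b900 [] 2 2 := .of (startD 0 1) (by decide +kernel)
theorem g900 : Gd F (g wAd) (1, d900) [] :=
  good9 ok h900 r900_0 r900_1 r900_2 r900_3 r900_4 r900_5 r900_6 r900_7 r900_8

def b901 : Wd := ⟨1, d901,
  [.z, .Z10, .Z9, .Z8, .Z4, .Z3, .Z2, .Z1, .X5, .X4, .X2, .X0, .y9, .y7, .y4, .y1, .p7, .hi, .p8, .hi, .p, .hi, .p4,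
   .hi, .p7, .hi, .xii, .p5, .hi, .p5, .taui, .y1, .xii, .p10, .xii, .y1, .y7, .p10, .xii, .y9, .y10, .tau, .p4, .xii,
   .y6, .p5, .hi, .xii, .y4, .hi, .p2, .taui, .xii, .p7, .xii, .y4, .tau, .xii, .y2, .p, .hi],
  [.Z10, .Z8, .Z6, .Z5, .Z4, .Z2, .Z0, .X10, .X9, .X8, .X7, .X5, .X0, .y8, .y7, .y5, .y4, .y3, .p8, .hi, .p3, .hi,
   .p9, .hi, .p9, .xii, .y2, .p, .xii, .y3, .p9, .taui, .y1, .xii, .p10, .xii, .y4, .p10, .xii, .y4, .y9, .taui, .p6,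
   .xii, .p10, .xii, .p8, .y6, .tau, .xii, .p4, .xii, .p4, .y8, .xii, .tau, .xii, .p5, .hi],
  [.z, .Z9, .Z8, .Z1, .Z0, .X10, .X8, .X7, .X3, .X1, .y10, .y6, .y3, .p9, .hi, .p6, .hi, .p, .hi, .p5, .hi, .p10,
   .xii, .hi, .xii, .p10, .xii, .y8, .y9, .tau, .xii, .y1, .p, .xii, .p, .xii, .y1, .y10, .taui, .p5, .xii, .y9, .p7,
   .xii, .y10, .hi, .p7, .tau, .xii, .p8, .xii, .p2, .y4, .xii, .y5, .y8, .tau, .xii, .p9]⟩

theorem h901 : Hd F (g wAd) b901 := hdD (by decide +kernel)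
theorem r901_0 : R9 F (g wAd) b901 [] 0 0 := .of (startD 0 1) (by decide +kernel)
theorem r901_1 : R9 F (g wAd) b901 [] 0 1 := .of (startD 0 1) (by decide +kernel)
theorem r901_2 : R9 F (g wAd) b901 [] 0 2 := .of (startD 0 1) (by decide +kernel)
theorem r901_3 : R9 F (g wAd) b901 [] 1 0 := .of (startD 0 1) (by decide +kernel)
theorem r901_4 : R9 F (g wAd) b901 [] 1 1 := .of (startD 0 1) (by decide +kernel)
theorem r901_5 : R9 F (g wAd) b901 [] 1 2 := .of (startD 0 1) (by decide +kernel)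
theorem r901_6 : R9 F (g wAd) b901 [] 2 0 := .of (startD 0 1) (by decide +kernel)
theorem r901_7 : R9 F (g wAd) b901 [] 2 1 := .of (startD 0 1) (by decide +kernel)
theorem r901_8 : R9 F (g wAd) b901 [] 2 2 := .of (startD 0 1) (by decide +kernel)
theorem g901 : Gd F (g wAd) (1, d901) [] :=
  good9 ok h901 r901_0 r901_1 r901_2 r901_3 r901_4 r901_5 r901_6 r901_7 r901_8

def b902 : Wd := ⟨1, d902,
  [.z, .Z10, .Z9, .Z8, .Z6, .Z5, .X9, .X8, .X7, .X1, .X0, .y10, .y8, .y7, .y6, .y5, .y2, .p7, .hi, .p9, .hi, .p, .hi,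
   .p, .hi, .p3, .hi, .p6, .xii, .hi, .xii, .p6, .xii, .y7, .taui, .y1, .xii, .p10, .xii, .y1, .p10, .xii, .y4, .y8,
   .tau, .xii, .p, .xii, .y3, .hi, .xii, .y6, .taui, .y1, .p5, .xii, .p, .hi, .tau, .xii, .p4, .xii, .p6, .y10],
  [.z, .Z7, .Z6, .Z5, .Z3, .Z2, .Z0, .X5, .X2, .X1, .y6, .y5, .y4, .p9, .hi, .p10, .hi, .p, .hi, .p3, .hi, .p7, .hi,
   .p6, .hi, .xii, .p, .xii, .y2, .hi, .xii, .y3, .tau, .xii, .p, .xii, .y2, .y10, .hi, .xii, .y7, .taui, .X0, .p4,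
   .xii, .y2, .p4, .xii, .p5, .tau, .xii, .p9, .xii, .hi, .p9, .y3, .y5],
  [.z, .Z9, .Z8, .Z7, .Z6, .Z5, .Z4, .Z3, .X10, .X7, .X6, .X4, .X0, .y10, .y9, .y5, .y4, .hi, .p8, .hi, .p6, .hi, .p9,
   .hi, .p, .hi, .p, .hi, .p8, .hi, .xii, .p, .xii, .hi, .p4, .y2, .taui, .xii, .y2, .p, .xii, .y2, .hi, .xii, .y7,
   .y10, .tau, .X0, .p9, .xii, .y7, .hi, .xii, .y6, .p6, .xii, .y9, .tau, .xii, .y2, .p4, .xii, .y3, .p9, .xii, .tau,
   .xii, .y7, .p5, .hi]⟩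

theorem h902 : Hd F (g wAd) b902 := hdD (by decide +kernel)
theorem r902_0 : R9 F (g wAd) b902 [] 0 0 := .of (startD 0 1) (by decide +kernel)
theorem r902_1 : R9 F (g wAd) b902 [] 0 1 := .of (startD 0 1) (by decide +kernel)
theorem r902_2 : R9 F (g wAd) b902 [] 0 2 := .of (startD 0 1) (by decide +kernel)
theorem r902_3 : R9 F (g wAd) b902 [] 1 0 := .of (startD 0 1) (by decide +kernel)
theorem r902_4 : R9 F (g wAd) b902 [] 1 1 := .of (startD 0 1) (by decide +kernel)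
theorem r902_5 : R9 F (g wAd) b902 [] 1 2 := .of (startD 0 1) (by decide +kernel)
theorem r902_6 : R9 F (g wAd) b902 [] 2 0 := .of (startD 0 2) (by decide +kernel)
theorem r902_7 : R9 F (g wAd) b902 [] 2 1 := .of (startD 0 1) (by decide +kernel)
theorem r902_8 : R9 F (g wAd) b902 [] 2 2 := .of (startD 0 1) (by decide +kernel)
theorem g902 : Gd F (g wAd) (1, d902) [] :=
  good9 ok h902 r902_0 r902_1 r902_2 r902_3 r902_4 r902_5 r902_6 r902_7 r902_8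

def b903 : Wd := ⟨1, d903,
  [.z, .Z10, .Z8, .Z6, .Z4, .Z3, .Z2, .Z0, .X9, .X5, .X3, .X2, .X0, .y5, .y3, .y2, .hi, .p10, .hi, .p2, .hi, .p4, .hi,
   .p, .hi, .p, .hi, .xii, .p, .xii, .y6, .p9, .tau, .y1, .xii, .p10, .xii, .y1, .p10, .xii, .taui, .xii, .y1, .p,
   .xii, .y4, .p, .xii, .y7, .taui, .p8, .xii, .y9, .p10, .xii, .taui, .xii, .p9, .xii, .p6, .xii, .y1, .y8, .taui,
   .xii, .y6],
  [.z, .Z8, .Z4, .Z3, .Z2, .Z0, .X9, .X3, .X2, .y8, .y3, .y1, .p, .hi, .p3, .hi, .p, .hi, .p5, .hi, .p7, .hi, .p5,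
   .xii, .hi, .xii, .p8, .y10, .taui, .xii, .p, .hi, .xii, .p10, .y8, .tau, .p8, .xii, .p, .xii, .y3, .p2, .taui,
   .xii, .y2, .p7, .xii, .y2, .p9, .tau, .xii, .y2, .p7],
  [.z, .Z8, .Z7, .Z6, .Z4, .Z1, .X9, .X8, .X7, .X6, .X1, .X0, .y9, .y8, .y7, .y6, .y2, .hi, .p10, .hi, .p5, .hi, .p8,
   .hi, .p5, .hi, .p3, .hi, .p9, .hi, .xii, .y2, .p, .xii, .p8, .xii, .y1, .y9, .tau, .xii, .y1, .p, .xii, .p, .xii,
   .y4, .y7, .taui, .xii, .p4, .xii, .y1, .p4, .y10, .xii, .y1, .p9, .tau, .xii, .p7, .xii, .p, .y1, .tau, .xii, .y2,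
   .p7]⟩

theorem h903 : Hd F (g wAd) b903 := hdD (by decide +kernel)
theorem r903_0 : R9 F (g wAd) b903 [] 0 0 := .of (startD 0 2) (by decide +kernel)
theorem r903_1 : R9 F (g wAd) b903 [] 0 1 := .of (startD 0 1) (by decide +kernel)
theorem r903_2 : R9 F (g wAd) b903 [] 0 2 := .of (startD 0 2) (by decide +kernel)
theorem r903_3 : R9 F (g wAd) b903 [] 1 0 := .of (startD 0 1) (by decide +kernel)
theorem r903_4 : R9 F (g wAd) b903 [] 1 1 := .of (startD 0 1) (by decide +kernel)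
theorem r903_5 : R9 F (g wAd) b903 [] 1 2 := .of (startD 0 1) (by decide +kernel)
theorem r903_6 : R9 F (g wAd) b903 [] 2 0 := .of (startD 0 1) (by decide +kernel)
theorem r903_7 : R9 F (g wAd) b903 [] 2 1 := .of (startD 0 1) (by decide +kernel)
theorem r903_8 : R9 F (g wAd) b903 [] 2 2 := .of (startD 0 1) (by decide +kernel)
theorem g903 : Gd F (g wAd) (1, d903) [] :=
  good9 ok h903 r903_0 r903_1 r903_2 r903_3 r903_4 r903_5 r903_6 r903_7 r903_8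

def b904 : Wd := ⟨1, d904,
  [.Z10, .Z9, .Z8, .Z5, .Z4, .Z3, .Z1, .X8, .X6, .X4, .X3, .X2, .X0, .y9, .y7, .y3, .y2, .hi, .p2, .hi, .p3, .hi, .p4,
   .hi, .p4, .hi, .p10, .xii, .y2, .hi, .p8, .taui, .xii, .y1, .p, .xii, .p, .xii, .y3, .y9, .tau, .y1, .xii, .y2,
   .hi, .xii, .p10, .xii, .y8, .y10, .tau, .p5, .xii, .p7, .xii, .y4, .tau, .xii, .p7, .xii, .p, .hi, .y9, .p6, .tau,
   .xii, .p8],
  [.z, .Z9, .Z7, .Z4, .Z3, .Z1, .Z0, .X10, .X8, .X6, .X5, .X4, .X3, .X0, .y10, .y9, .y8, .y7, .y4, .y2, .hi, .p5, .hi,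
   .p3, .xii, .y2, .p2, .hi, .xii, .y2, .taui, .y1, .xii, .y1, .hi, .xii, .p10, .xii, .y8, .taui, .X0, .xii, .y2,
   .p10, .xii, .y10, .p9, .xii, .p9, .y1, .taui, .xii, .p4, .xii, .p2, .y2, .hi, .p2],
  [.z, .Z10, .Z9, .Z5, .Z3, .Z1, .Z0, .X5, .X4, .X2, .y7, .y2, .y1, .p8, .hi, .p3, .hi, .p4, .hi, .p4, .hi, .p8, .hi,
   .xii, .hi, .xii, .y8, .p9, .xii, .y7, .tau, .xii, .y2, .p, .xii, .y4, .hi, .xii, .y5, .taui, .p2, .xii, .p7, .xii,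
   .p10, .hi, .y10, .p8, .y2, .taui, .xii, .p5, .xii, .y6, .p2, .xii, .y9, .taui, .xii, .p3, .xii]⟩

theorem h904 : Hd F (g wAd) b904 := hdD (by decide +kernel)
theorem r904_0 : R9 F (g wAd) b904 [] 0 0 := .of (startD 0 1) (by decide +kernel)
theorem r904_1 : R9 F (g wAd) b904 [] 0 1 := .of (startD 0 1) (by decide +kernel)
theorem r904_2 : R9 F (g wAd) b904 [] 0 2 := .of (startD 0 1) (by decide +kernel)
theorem r904_3 : R9 F (g wAd) b904 [] 1 0 := .of (startD 0 1) (by decide +kernel)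
theorem r904_4 : R9 F (g wAd) b904 [] 1 1 := .of (startD 0 1) (by decide +kernel)
theorem r904_5 : R9 F (g wAd) b904 [] 1 2 := .of (startD 0 1) (by decide +kernel)
theorem r904_6 : R9 F (g wAd) b904 [] 2 0 := .of (startD 0 1) (by decide +kernel)
theorem r904_7 : R9 F (g wAd) b904 [] 2 1 := .of (startD 0 1) (by decide +kernel)
theorem r904_8 : R9 F (g wAd) b904 [] 2 2 := .of (startD 0 1) (by decide +kernel)
theorem g904 : Gd F (g wAd) (1, d904) [] :=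
  good9 ok h904 r904_0 r904_1 r904_2 r904_3 r904_4 r904_5 r904_6 r904_7 r904_8

def b905 : Wd := ⟨1, d905,
  [.Z5, .Z4, .Z1, .X9, .X7, .X6, .X4, .X2, .X0, .y10, .y9, .y8, .y7, .y6, .y5, .y1, .hi, .p7, .hi, .p6, .hi, .p10,
   .hi, .p8, .hi, .p6, .hi, .p2, .hi, .xii, .y2, .p, .xii, .p5, .xii, .y7, .y10, .tau, .xii, .p, .xii, .y3, .hi, .xii,
   .y5, .y8, .taui, .X0, .p6, .xii, .y2, .p9, .xii, .y4, .hi, .p7, .tau, .xii, .p7, .xii, .y1, .y10, .p9, .xii, .y7,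
   .tau, .xii, .y8, .p4, .hi],
  [.z, .Z10, .Z9, .Z6, .Z2, .Z0, .X9, .X7, .X5, .X1, .y6, .y4, .y3, .y1, .p9, .hi, .p9, .hi, .p3, .hi, .p8, .hi, .p,
   .hi, .p9, .xii, .p2, .hi, .xii, .y1, .y5, .p3, .tau, .xii, .y6, .p, .xii, .y1, .tau, .X0, .p7, .xii, .p8, .xii,
   .p5, .y1, .tau, .xii, .p4, .xii, .y3, .y5, .hi, .p5, .taui, .xii, .y2, .p],
  [.z, .Z6, .Z5, .Z3, .Z1, .X6, .X5, .X4, .X2, .X0, .y10, .y9, .y6, .y5, .y2, .hi, .p, .hi, .p4, .hi, .p4, .hi, .p6,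
   .hi, .p5, .xii, .p10, .xii, .y7, .p6, .xii, .y7, .y10, .taui, .xii, .p, .xii, .y1, .y10, .hi, .xii, .y7, .y10,
   .tau, .y1, .xii, .p2, .xii, .y7, .p6, .xii, .y4, .y5, .taui, .xii, .p8, .xii, .y8, .p2, .xii, .y7, .taui, .xii,
   .y7, .p9]⟩

theorem h905 : Hd F (g wAd) b905 := hdD (by decide +kernel)
theorem r905_0 : R9 F (g wAd) b905 [] 0 0 := .of (startD 0 1) (by decide +kernel)
theorem r905_1 : R9 F (g wAd) b905 [] 0 1 := .of (startD 0 1) (by decide +kernel)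
theorem r905_2 : R9 F (g wAd) b905 [] 0 2 := .of (startD 0 1) (by decide +kernel)
theorem r905_3 : R9 F (g wAd) b905 [] 1 0 := .of (startD 0 1) (by decide +kernel)
theorem r905_4 : R9 F (g wAd) b905 [] 1 1 := .of (startD 0 1) (by decide +kernel)
theorem r905_5 : R9 F (g wAd) b905 [] 1 2 := .of (startD 0 1) (by decide +kernel)
theorem r905_6 : R9 F (g wAd) b905 [] 2 0 := .of (startD 0 1) (by decide +kernel)
theorem r905_7 : R9 F (g wAd) b905 [] 2 1 := .of (startD 0 1) (by decide +kernel)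
theorem r905_8 : R9 F (g wAd) b905 [] 2 2 := .of (startD 0 1) (by decide +kernel)
theorem g905 : Gd F (g wAd) (1, d905) [] :=
  good9 ok h905 r905_0 r905_1 r905_2 r905_3 r905_4 r905_5 r905_6 r905_7 r905_8

def b906 : Wd := ⟨1, d906,
  [.z, .Z10, .Z9, .Z5, .Z4, .Z0, .X7, .X6, .X1, .X0, .y8, .y7, .y5, .y3, .y2, .y1, .p10, .hi, .p4, .hi, .p9, .hi, .p9,
   .hi, .p4, .hi, .p8, .xii, .p10, .hi, .p, .taui, .xii, .p, .xii, .y4, .hi, .xii, .y1, .y2, .tau, .X0, .p8, .xii,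
   .y7, .p4, .hi, .xii, .y7, .p5, .hi, .tau, .xii, .p9, .xii, .y9, .p2, .hi, .p5, .tau, .xii, .p8],
  [.z, .Z7, .Z6, .Z4, .Z3, .Z2, .X10, .X7, .X6, .X5, .y8, .y7, .y6, .y4, .y2, .y1, .p4, .hi, .p10, .hi, .p5, .hi, .p7,
   .hi, .p9, .hi, .xii, .y2, .p3, .hi, .p8, .hi, .p6, .tau, .y1, .xii, .y1, .hi, .xii, .p10, .xii, .y4, .taui, .X0,
   .hi, .xii, .p2, .xii, .p5, .y10, .taui, .xii, .p9, .xii, .p2, .hi, .y10, .p2, .taui, .xii, .p],
  [.z, .Z10, .Z9, .Z8, .Z7, .Z5, .Z4, .Z2, .Z0, .X8, .X7, .X6, .X4, .X0, .y8, .p9, .hi, .p4, .hi, .p5, .hi, .p8, .hi,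
   .p8, .hi, .p, .hi, .xii, .p10, .xii, .y6, .p8, .xii, .y8, .taui, .y1, .xii, .y6, .p10, .xii, .y8, .p10, .xii, .y4,
   .tau, .X0, .xii, .p4, .xii, .y10, .p4, .xii, .tau, .xii, .p7, .xii, .y2, .y10, .p3, .tau, .xii, .p3, .hi, .p10]⟩

theorem h906 : Hd F (g wAd) b906 := hdD (by decide +kernel)
theorem r906_0 : R9 F (g wAd) b906 [] 0 0 := .of (startD 0 1) (by decide +kernel)
theorem r906_1 : R9 F (g wAd) b906 [] 0 1 := .of (startD 0 1) (by decide +kernel)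
theorem r906_2 : R9 F (g wAd) b906 [] 0 2 := .of (startD 0 1) (by decide +kernel)
theorem r906_3 : R9 F (g wAd) b906 [] 1 0 := .of (startD 0 1) (by decide +kernel)
theorem r906_4 : R9 F (g wAd) b906 [] 1 1 := .of (startD 0 1) (by decide +kernel)
theorem r906_5 : R9 F (g wAd) b906 [] 1 2 := .of (startD 0 1) (by decide +kernel)
theorem r906_6 : R9 F (g wAd) b906 [] 2 0 := .of (startD 0 1) (by decide +kernel)
theorem r906_7 : R9 F (g wAd) b906 [] 2 1 := .of (startD 0 1) (by decide +kernel)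
theorem r906_8 : R9 F (g wAd) b906 [] 2 2 := .of (startD 0 1) (by decide +kernel)
theorem g906 : Gd F (g wAd) (1, d906) [] :=
  good9 ok h906 r906_0 r906_1 r906_2 r906_3 r906_4 r906_5 r906_6 r906_7 r906_8

def b907 : Wd := ⟨1, d907,
  [.z, .Z9, .Z8, .Z5, .Z3, .Z2, .X8, .X0, .y6, .y5, .y3, .y1, .p9, .hi, .p3, .hi, .p7, .hi, .p, .hi, .p9, .xii, .p10,
   .xii, .p6, .xii, .y7, .y8, .tau, .xii, .y1, .p, .xii, .y2, .p, .xii, .y3, .taui, .X0, .xii, .p4, .xii, .y2, .y8,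
   .p8, .xii, .y2, .p2, .tau, .xii, .p9, .xii, .y1, .y9, .p8, .xii, .y6, .tau, .xii, .p9],
  [.z, .Z10, .Z8, .Z7, .Z5, .Z3, .Z2, .Z1, .X9, .X8, .X7, .X6, .X5, .X3, .X2, .X1, .y8, .y6, .y5, .p9, .hi, .p4, .hi,
   .p4, .hi, .p7, .hi, .p10, .hi, .p2, .xii, .hi, .xii, .p8, .y10, .taui, .xii, .y2, .p, .xii, .hi, .p10, .y8, .tau,
   .hi, .xii, .p2, .xii, .p, .tau, .xii, .p8, .xii, .y9, .p4, .xii, .y1, .y9],
  [.z, .Z10, .Z9, .Z6, .Z4, .Z2, .Z1, .Z0, .X9, .X4, .X1, .X0, .y10, .y9, .y7, .y6, .y5, .p9, .hi, .p6, .hi, .p8, .hi,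
   .p3, .hi, .p3, .xii, .hi, .xii, .y6, .p3, .hi, .tau, .xii, .p, .xii, .y2, .y10, .hi, .xii, .y5, .tau, .X0, .y1,
   .p10, .xii, .p2, .xii, .y6, .p6, .taui, .xii, .p6, .xii, .y5, .p2, .xii, .y4, .y8, .tau, .xii, .y6, .hi, .p]⟩

theorem h907 : Hd F (g wAd) b907 := hdD (by decide +kernel)
theorem r907_0 : R9 F (g wAd) b907 [] 0 0 := .of (startD 0 1) (by decide +kernel)
theorem r907_1 : R9 F (g wAd) b907 [] 0 1 := .of (startD 0 1) (by decide +kernel)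
theorem r907_2 : R9 F (g wAd) b907 [] 0 2 := .of (startD 0 1) (by decide +kernel)
theorem r907_3 : R9 F (g wAd) b907 [] 1 0 := .of (startD 0 1) (by decide +kernel)
theorem r907_4 : R9 F (g wAd) b907 [] 1 1 := .of (startD 0 1) (by decide +kernel)
theorem r907_5 : R9 F (g wAd) b907 [] 1 2 := .of (startD 0 1) (by decide +kernel)
theorem r907_6 : R9 F (g wAd) b907 [] 2 0 := .of (startD 0 1) (by decide +kernel)
theorem r907_7 : R9 F (g wAd) b907 [] 2 1 := .of (startD 0 1) (by decide +kernel)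
theorem r907_8 : R9 F (g wAd) b907 [] 2 2 := .of (startD 0 1) (by decide +kernel)
theorem g907 : Gd F (g wAd) (1, d907) [] :=
  good9 ok h907 r907_0 r907_1 r907_2 r907_3 r907_4 r907_5 r907_6 r907_7 r907_8

def b908 : Wd := ⟨1, d908,
  [.Z9, .Z2, .Z1, .X10, .X9, .X7, .X3, .X0, .y10, .y9, .y8, .y5, .y2, .y1, .p, .hi, .p4, .hi, .p4, .hi, .p4, .hi, .p6,
   .hi, .p7, .xii, .p, .xii, .y2, .p9, .xii, .y8, .taui, .xii, .y6, .p, .xii, .p, .xii, .y1, .y10, .taui, .xii, .p,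
   .xii, .y4, .hi, .xii, .y3, .y9, .tau, .X0, .y1, .p8, .xii, .p3, .xii, .taui, .xii, .p4, .hi, .xii, .y2, .p3, .hi,
   .tau, .xii, .p, .hi],
  [.z, .Z9, .Z8, .Z7, .Z5, .Z4, .Z3, .Z2, .Z1, .X8, .X7, .X3, .X2, .X0, .y10, .y6, .y3, .y2, .p9, .hi, .p5, .hi, .p8,
   .hi, .p6, .hi, .p10, .hi, .p2, .xii, .p10, .xii, .y1, .y5, .tau, .y1, .xii, .p10, .xii, .y2, .p10, .xii, .y8, .y10,
   .tau, .X0, .p4, .xii, .p7, .xii, .p5, .y9, .xii, .y3, .tau, .xii, .p9, .xii, .y10, .p5, .xii, .y1, .y2, .taui],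
  [.Z10, .Z9, .Z5, .Z4, .Z2, .Z1, .X9, .X6, .X5, .X2, .y10, .y9, .y7, .y4, .y3, .p9, .hi, .p10, .hi, .p3, .hi, .p6,
   .hi, .p, .hi, .p7, .hi, .p, .xii, .p10, .xii, .p5, .y5, .xii, .y9, .tau, .xii, .y2, .p, .xii, .y2, .hi, .xii, .y5,
   .y10, .tau, .y1, .p4, .xii, .p7, .xii, .y7, .y10, .p10, .tau, .xii, .p9, .xii, .y7, .p9, .xii, .y4, .taui]⟩

theorem h908 : Hd F (g wAd) b908 := hdD (by decide +kernel)
theorem r908_0 : R9 F (g wAd) b908 [] 0 0 := .of (startD 0 1) (by decide +kernel)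
theorem r908_1 : R9 F (g wAd) b908 [] 0 1 := .of (startD 0 1) (by decide +kernel)
theorem r908_2 : R9 F (g wAd) b908 [] 0 2 := .of (startD 0 1) (by decide +kernel)
theorem r908_3 : R9 F (g wAd) b908 [] 1 0 := .of (startD 0 1) (by decide +kernel)
theorem r908_4 : R9 F (g wAd) b908 [] 1 1 := .of (startD 0 1) (by decide +kernel)
theorem r908_5 : R9 F (g wAd) b908 [] 1 2 := .of (startD 0 1) (by decide +kernel)
theorem r908_6 : R9 F (g wAd) b908 [] 2 0 := .of (startD 0 1) (by decide +kernel)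
theorem r908_7 : R9 F (g wAd) b908 [] 2 1 := .of (startD 0 2) (by decide +kernel)
theorem r908_8 : R9 F (g wAd) b908 [] 2 2 := .of (startD 0 1) (by decide +kernel)
theorem g908 : Gd F (g wAd) (1, d908) [] :=
  good9 ok h908 r908_0 r908_1 r908_2 r908_3 r908_4 r908_5 r908_6 r908_7 r908_8

def b909 : Wd := ⟨1, d909,
  [.z, .Z9, .Z6, .Z4, .Z3, .Z0, .X10, .X9, .X6, .X5, .X3, .X2, .X1, .X0, .y7, .y5, .y1, .p10, .hi, .p10, .hi, .p7,
   .hi, .p4, .hi, .p5, .hi, .p8, .hi, .p, .xii, .y2, .p10, .hi, .p8, .taui, .xii, .p, .xii, .hi, .y8, .xii, .y7, .y8,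
   .y10, .tau, .X0, .p2, .xii, .y6, .p7, .xii, .y7, .y10, .tau, .xii, .p4, .xii, .p10, .y7, .xii, .y9, .tau, .xii,
   .p9],
  [.z, .Z10, .Z9, .Z6, .Z2, .Z0, .X9, .X8, .X6, .X5, .X0, .y10, .y7, .y3, .y2, .hi, .p7, .hi, .p10, .hi, .p, .hi, .p5,
   .xii, .p10, .xii, .y5, .p9, .xii, .y4, .y6, .tau, .xii, .p8, .xii, .y1, .p4, .y7, .xii, .tau, .xii, .p7, .xii, .y5,
   .p8, .xii, .y3, .taui, .xii, .p4, .hi, .p5],
  [.Z9, .Z7, .Z5, .Z0, .X9, .X7, .X6, .X3, .X0, .y8, .y7, .y4, .y3, .y1, .p10, .hi, .p9, .hi, .p6, .hi, .p, .hi, .p5,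
   .hi, .p6, .xii, .p, .xii, .p, .xii, .y5, .taui, .y1, .xii, .p10, .xii, .y1, .y9, .p10, .xii, .y8, .tau, .xii, .y1,
   .p, .xii, .y4, .p, .xii, .y1, .y9, .taui, .X0, .p7, .xii, .y4, .p, .xii, .taui, .xii, .hi, .p6, .xii, .p3, .y8]⟩

theorem h909 : Hd F (g wAd) b909 := hdD (by decide +kernel)
theorem r909_0 : R9 F (g wAd) b909 [] 0 0 := .of (startD 0 2) (by decide +kernel)
theorem r909_1 : R9 F (g wAd) b909 [] 0 1 := .of (startD 0 1) (by decide +kernel)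
theorem r909_2 : R9 F (g wAd) b909 [] 0 2 := .of (startD 0 1) (by decide +kernel)
theorem r909_3 : R9 F (g wAd) b909 [] 1 0 := .of (startD 0 1) (by decide +kernel)
theorem r909_4 : R9 F (g wAd) b909 [] 1 1 := .of (startD 0 1) (by decide +kernel)
theorem r909_5 : R9 F (g wAd) b909 [] 1 2 := .of (startD 0 1) (by decide +kernel)
theorem r909_6 : R9 F (g wAd) b909 [] 2 0 := .of (startD 0 1) (by decide +kernel)
theorem r909_7 : R9 F (g wAd) b909 [] 2 1 := .of (startD 0 1) (by decide +kernel)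
theorem r909_8 : R9 F (g wAd) b909 [] 2 2 := .of (startD 0 1) (by decide +kernel)
theorem g909 : Gd F (g wAd) (1, d909) [] :=
  good9 ok h909 r909_0 r909_1 r909_2 r909_3 r909_4 r909_5 r909_6 r909_7 r909_8

theorem all : AllG F (g wAd) LD90 :=
  .cons g900 (.cons g901 (.cons g902 (.cons g903 (.cons g904 (.cons g905 (.cons g906 (.cons g907 (.cons g908 (.cons g909 (.nil))))))))))

end Cfsg.Agent.BX.No33.Bk.D90
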