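import Cfsg.Agent.BX.No33.Cheap
set_option linter.all false

/-!
# Tests, diagonal case, part 91 (helper5; generated)
-/

set_option autoImplicit false
set_option maxRecDepth 100000
set_option Elab.async false

namespace Cfsg.Agent.BX.No33.Bk.D91

open Cfsg.Agent.H819.U33 Cfsg.Agent.BX.No33.Front

def b910 : Wd := ⟨1, d910,
  [.z, .Z10, .Z8, .Z4, .Z3, .Z2, .Z1, .X10, .X6, .X1, .X0, .y10, .y7, .y5, .y4, .y3, .p, .hi, .p5, .hi, .p4, .hi, .p6,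
   .hi, .p3, .hi, .p8, .hi, .xii, .y2, .p3, .hi, .xii, .y2, .p10, .tau, .y1, .xii, .y1, .hi, .xii, .y6, .p10, .xii,
   .y4, .y10, .taui, .hi, .xii, .p6, .xii, .y7, .p2, .hi, .p, .tau, .xii, .hi, .p6, .xii, .p, .y7, .taui, .xii, .p5,
   .hi, .p2],
  [.z, .Z8, .Z7, .Z6, .Z2, .X10, .X9, .X6, .X5, .X4, .X3, .X2, .X1, .y10, .y9, .y8, .y7, .y4, .p4, .hi, .p6, .hi, .p4,
   .hi, .p4, .hi, .p4, .hi, .p2, .hi, .xii, .p10, .xii, .y8, .p10, .tau, .xii, .p, .xii, .y4, .y10, .hi, .xii, .y4,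
   .y7, .tau, .X0, .y1, .p2, .xii, .p7, .xii, .p10, .taui, .xii, .p, .xii, .y2, .p5, .xii, .y4, .y8, .tau],
  [.z, .Z10, .Z9, .Z6, .Z5, .Z3, .Z2, .X8, .X6, .X4, .X2, .X1, .y8, .y7, .y6, .y2, .hi, .p9, .hi, .p3, .hi, .p5, .hi,
   .p5, .hi, .p10, .xii, .p10, .xii, .y7, .p8, .xii, .y4, .taui, .y1, .xii, .p10, .xii, .y1, .p10, .xii, .y8, .y10,
   .tau, .X0, .p2, .xii, .p7, .xii, .p10, .hi, .p8, .taui, .xii, .p6, .xii, .p5, .y4, .hi, .p9, .taui, .xii, .y2, .p7]⟩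

theorem h910 : Hd F (g wAd) b910 := hdD (by decide +kernel)
theorem r910_0 : R9 F (g wAd) b910 [] 0 0 := .of (startD 0 1) (by decide +kernel)
theorem r910_1 : R9 F (g wAd) b910 [] 0 1 := .of (startD 0 1) (by decide +kernel)
theorem r910_2 : R9 F (g wAd) b910 [] 0 2 := .of (startD 0 1) (by decide +kernel)
theorem r910_3 : R9 F (g wAd) b910 [] 1 0 := .of (startD 0 1) (by decide +kernel)
theorem r910_4 : R9 F (g wAd) b910 [] 1 1 := .of (startD 0 1) (by decide +kernel)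
theorem r910_5 : R9 F (g wAd) b910 [] 1 2 := .of (startD 0 1) (by decide +kernel)
theorem r910_6 : R9 F (g wAd) b910 [] 2 0 := .of (startD 0 1) (by decide +kernel)
theorem r910_7 : R9 F (g wAd) b910 [] 2 1 := .of (startD 0 1) (by decide +kernel)
theorem r910_8 : R9 F (g wAd) b910 [] 2 2 := .of (startD 0 1) (by decide +kernel)
theorem g910 : Gd F (g wAd) (1, d910) [] :=
  good9 ok h910 r910_0 r910_1 r910_2 r910_3 r910_4 r910_5 r910_6 r910_7 r910_8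

def b911 : Wd := ⟨1, d911,
  [.Z6, .Z5, .Z4, .Z3, .Z0, .X9, .X8, .X1, .X0, .y9, .y8, .y7, .y1, .p8, .hi, .p8, .hi, .p, .hi, .p6, .hi, .p7, .hi,
   .p9, .hi, .p8, .hi, .xii, .p, .xii, .y2, .p4, .hi, .p5, .tau, .xii, .y2, .p, .xii, .y1, .hi, .xii, .y4, .y7, .tau,
   .X0, .xii, .p6, .xii, .y4, .y7, .p6, .xii, .p6, .tau, .xii, .p4, .xii, .y8, .p5, .y4, .xii, .y6, .taui, .xii, .p3,
   .xii],
  [.z, .Z9, .Z8, .Z2, .X10, .X8, .X7, .X6, .X4, .X3, .y10, .y8, .y7, .y6, .y5, .y4, .p4, .hi, .p8, .hi, .p, .hi, .p6,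
   .xii, .hi, .p8, .xii, .y2, .y9, .p10, .tau, .xii, .y6, .p, .xii, .y10, .p, .xii, .y1, .taui, .X0, .y1, .p2, .xii,
   .p5, .xii, .p9, .y6, .xii, .y2, .taui, .xii, .p2, .xii, .y10, .p4, .xii, .y6, .taui, .xii, .p7],
  [.z, .Z10, .Z9, .Z8, .Z6, .Z3, .Z2, .Z0, .X10, .X9, .X8, .X7, .X5, .X4, .X3, .X2, .X0, .y10, .y7, .y5, .y2, .y1,
   .p9, .hi, .p7, .hi, .p, .hi, .p3, .hi, .p10, .hi, .p3, .hi, .p, .hi, .xii, .y2, .hi, .p10, .hi, .p8, .tau, .xii,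
   .p, .xii, .y4, .hi, .xii, .y3, .taui, .X0, .p10, .xii, .y7, .p2, .xii, .y1, .hi, .p, .tau, .xii, .p9, .xii, .y7,
   .hi, .xii, .y3, .tau, .xii, .p6]⟩

theorem h911 : Hd F (g wAd) b911 := hdD (by decide +kernel)
theorem r911_0 : R9 F (g wAd) b911 [] 0 0 := .of (startD 0 1) (by decide +kernel)
theorem r911_1 : R9 F (g wAd) b911 [] 0 1 := .of (startD 0 1) (by decide +kernel)
theorem r911_2 : R9 F (g wAd) b911 [] 0 2 := .of (startD 0 2) (by decide +kernel)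
theorem r911_3 : R9 F (g wAd) b911 [] 1 0 := .of (startD 0 1) (by decide +kernel)
theorem r911_4 : R9 F (g wAd) b911 [] 1 1 := .of (startD 0 1) (by decide +kernel)
theorem r911_5 : R9 F (g wAd) b911 [] 1 2 := .of (startD 0 1) (by decide +kernel)
theorem r911_6 : R9 F (g wAd) b911 [] 2 0 := .of (startD 0 1) (by decide +kernel)
theorem r911_7 : R9 F (g wAd) b911 [] 2 1 := .of (startD 0 1) (by decide +kernel)
theorem r911_8 : R9 F (g wAd) b911 [] 2 2 := .of (startD 0 1) (by decide +kernel)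
theorem g911 : Gd F (g wAd) (1, d911) [] :=
  good9 ok h911 r911_0 r911_1 r911_2 r911_3 r911_4 r911_5 r911_6 r911_7 r911_8

def b912 : Wd := ⟨1, d912,
  [.Z10, .Z9, .Z5, .Z3, .Z2, .Z1, .X10, .X7, .X5, .X1, .X0, .y9, .y7, .y5, .y2, .y1, .hi, .p6, .hi, .p5, .hi, .p9,
   .hi, .p3, .hi, .p10, .xii, .y2, .p3, .hi, .p8, .hi, .p6, .tau, .xii, .p, .xii, .y1, .y10, .hi, .xii, .y4, .y7,
   .taui, .X0, .p7, .xii, .hi, .xii, .p3, .y8, .taui, .xii, .p7, .xii, .y5, .y10, .p9, .xii, .y5, .tau, .xii, .y2,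
   .hi, .xii, .y1],
  [.z, .Z10, .Z9, .Z7, .Z4, .Z2, .Z0, .X9, .X8, .X1, .X0, .y8, .y7, .y6, .y5, .y2, .p7, .hi, .p3, .hi, .p6, .hi, .p9,
   .hi, .p, .hi, .xii, .y2, .hi, .p8, .xii, .y3, .p2, .tau, .xii, .y6, .p3, .hi, .xii, .y3, .p10, .tau, .X0, .p2,
   .xii, .y6, .p5, .hi, .xii, .y6, .p6, .tau, .xii, .p5, .xii, .hi, .p7, .tau, .xii, .y2, .hi, .p7],
  [.Z9, .Z5, .Z1, .X9, .X5, .X3, .X0, .y10, .y9, .y8, .y7, .p3, .hi, .p3, .hi, .p9, .hi, .p7, .hi, .p3, .hi, .p8,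
   .xii, .y2, .p, .xii, .y3, .y10, .tau, .xii, .p, .xii, .y1, .y10, .hi, .xii, .y1, .y10, .tau, .X0, .p2, .xii, .y6,
   .p7, .xii, .y5, .p10, .hi, .p8, .taui, .xii, .p9, .xii, .y2, .p2, .y10, .hi, .p3, .tau, .xii, .y2, .p, .hi, .p]⟩

theorem h912 : Hd F (g wAd) b912 := hdD (by decide +kernel)
theorem r912_0 : R9 F (g wAd) b912 [] 0 0 := .of (startD 0 1) (by decide +kernel)
theorem r912_1 : R9 F (g wAd) b912 [] 0 1 := .of (startD 0 1) (by decide +kernel)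
theorem r912_2 : R9 F (g wAd) b912 [] 0 2 := .of (startD 0 1) (by decide +kernel)
theorem r912_3 : R9 F (g wAd) b912 [] 1 0 := .of (startD 0 1) (by decide +kernel)
theorem r912_4 : R9 F (g wAd) b912 [] 1 1 := .of (startD 0 1) (by decide +kernel)
theorem r912_5 : R9 F (g wAd) b912 [] 1 2 := .of (startD 0 1) (by decide +kernel)
theorem r912_6 : R9 F (g wAd) b912 [] 2 0 := .of (startD 0 1) (by decide +kernel)
theorem r912_7 : R9 F (g wAd) b912 [] 2 1 := .of (startD 0 1) (by decide +kernel)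
theorem r912_8 : R9 F (g wAd) b912 [] 2 2 := .of (startD 0 1) (by decide +kernel)
theorem g912 : Gd F (g wAd) (1, d912) [] :=
  good9 ok h912 r912_0 r912_1 r912_2 r912_3 r912_4 r912_5 r912_6 r912_7 r912_8

def b913 : Wd := ⟨1, d913,
  [.z, .Z10, .Z9, .Z1, .X10, .X9, .X5, .X4, .X1, .y10, .y9, .y2, .y1, .p8, .hi, .p5, .hi, .p7, .hi, .p6, .hi, .p8,
   .hi, .p4, .hi, .xii, .hi, .xii, .y6, .tau, .xii, .y1, .p, .xii, .p, .y7, .xii, .y4, .y7, .taui, .X0, .p10, .xii,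
   .p5, .xii, .y3, .y5, .hi, .p7, .taui, .xii, .p9, .xii, .y1, .y7, .p3, .xii, .y3, .taui, .xii, .y2, .p2],
  [.z, .Z10, .Z6, .Z2, .Z1, .X10, .X8, .X6, .X5, .X4, .X2, .y10, .y8, .y7, .y3, .y2, .y1, .hi, .p8, .hi, .p9, .hi,
   .p3, .hi, .p, .hi, .p4, .hi, .p6, .xii, .p10, .xii, .y8, .p10, .tau, .hi, .xii, .hi, .p6, .xii, .y9, .y10, .p,
   .taui, .xii, .p9, .xii, .p3, .y8, .xii, .y2, .taui, .xii, .y6, .hi, .p],
  [.Z9, .Z8, .Z6, .Z5, .Z4, .Z3, .Z1, .Z0, .X10, .X7, .X5, .X3, .X2, .y10, .y9, .y8, .y6, .y3, .y2, .p9, .hi, .p8,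
   .hi, .p3, .hi, .p5, .hi, .p10, .hi, .p4, .hi, .xii, .y2, .hi, .p8, .xii, .tau, .xii, .y1, .p, .xii, .y4, .p, .xii,
   .y4, .y7, .taui, .xii, .p7, .xii, .y1, .p5, .y7, .xii, .y2, .p4, .tau, .xii, .p4, .xii, .y6, .p10, .xii, .y2,
   .taui, .xii, .y2]⟩

theorem h913 : Hd F (g wAd) b913 := hdD (by decide +kernel)
theorem r913_0 : R9 F (g wAd) b913 [] 0 0 := .of (startD 0 1) (by decide +kernel)
theorem r913_1 : R9 F (g wAd) b913 [] 0 1 := .of (startD 0 1) (by decide +kernel)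
theorem r913_2 : R9 F (g wAd) b913 [] 0 2 := .of (startD 0 1) (by decide +kernel)
theorem r913_3 : R9 F (g wAd) b913 [] 1 0 := .of (startD 0 1) (by decide +kernel)
theorem r913_4 : R9 F (g wAd) b913 [] 1 1 := .of (startD 0 1) (by decide +kernel)
theorem r913_5 : R9 F (g wAd) b913 [] 1 2 := .of (startD 0 1) (by decide +kernel)
theorem r913_6 : R9 F (g wAd) b913 [] 2 0 := .of (startD 0 1) (by decide +kernel)
theorem r913_7 : R9 F (g wAd) b913 [] 2 1 := .of (startD 0 1) (by decide +kernel)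
theorem r913_8 : R9 F (g wAd) b913 [] 2 2 := .of (startD 0 1) (by decide +kernel)
theorem g913 : Gd F (g wAd) (1, d913) [] :=
  good9 ok h913 r913_0 r913_1 r913_2 r913_3 r913_4 r913_5 r913_6 r913_7 r913_8

def b914 : Wd := ⟨1, d914,
  [.Z8, .Z7, .Z6, .Z0, .X10, .X8, .X7, .X0, .y9, .y6, .y3, .y2, .p8, .hi, .p5, .hi, .p10, .hi, .p2, .hi, .p8, .xii,
   .p10, .xii, .y1, .p8, .xii, .y8, .taui, .xii, .y2, .p, .xii, .y1, .hi, .xii, .y4, .y5, .taui, .p7, .xii, .p9, .xii,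
   .hi, .y9, .p2, .y2, .tau, .xii, .p3, .xii, .y2, .p6, .xii, .y8, .y10, .tau, .xii, .p4],
  [.Z10, .Z8, .Z7, .Z6, .Z4, .Z3, .Z2, .Z1, .Z0, .X10, .X9, .X8, .X7, .X5, .X4, .X3, .X2, .X0, .y7, .y5, .y4, .y3,
   .y2, .p8, .hi, .p3, .hi, .p4, .hi, .p4, .xii, .y2, .p2, .hi, .xii, .tau, .xii, .p, .xii, .y3, .hi, .xii, .y4, .y5,
   .taui, .X0, .p8, .xii, .p4, .hi, .xii, .p5, .y1, .hi, .tau, .xii, .y2, .p4, .xii, .y1, .y3, .p8, .taui, .xii, .p2,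
   .hi],
  [.z, .Z7, .Z6, .Z5, .Z3, .Z2, .Z0, .X10, .X6, .y8, .y7, .y6, .y4, .y3, .y2, .y1, .hi, .p4, .hi, .p7, .hi, .p6, .hi,
   .p7, .hi, .p4, .xii, .y2, .hi, .xii, .p5, .hi, .p8, .tau, .xii, .y2, .p, .xii, .y1, .hi, .xii, .y3, .tau, .y1,
   .xii, .p5, .xii, .y8, .p5, .xii, .hi, .taui, .xii, .p6, .xii, .y1, .p, .xii, .y6, .y10, .tau, .xii, .y6, .hi, .p9]⟩

theorem h914 : Hd F (g wAd) b914 := hdD (by decide +kernel)
theorem r914_0 : R9 F (g wAd) b914 [] 0 0 := .of (startD 0 1) (by decide +kernel)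
theorem r914_1 : R9 F (g wAd) b914 [] 0 1 := .of (startD 0 1) (by decide +kernel)
theorem r914_2 : R9 F (g wAd) b914 [] 0 2 := .of (startD 0 1) (by decide +kernel)
theorem r914_3 : R9 F (g wAd) b914 [] 1 0 := .of (startD 0 1) (by decide +kernel)
theorem r914_4 : R9 F (g wAd) b914 [] 1 1 := .of (startD 0 2) (by decide +kernel)
theorem r914_5 : R9 F (g wAd) b914 [] 1 2 := .of (startD 0 1) (by decide +kernel)
theorem r914_6 : R9 F (g wAd) b914 [] 2 0 := .of (startD 0 1) (by decide +kernel)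
theorem r914_7 : R9 F (g wAd) b914 [] 2 1 := .of (startD 0 1) (by decide +kernel)
theorem r914_8 : R9 F (g wAd) b914 [] 2 2 := .of (startD 0 1) (by decide +kernel)
theorem g914 : Gd F (g wAd) (1, d914) [] :=
  good9 ok h914 r914_0 r914_1 r914_2 r914_3 r914_4 r914_5 r914_6 r914_7 r914_8

def b915 : Wd := ⟨1, d915,
  [.Z10, .Z9, .Z7, .Z6, .Z2, .Z1, .Z0, .X9, .X6, .X5, .X4, .X3, .X1, .y10, .y8, .y7, .y3, .y1, .hi, .p9, .hi, .p5,
   .hi, .p5, .hi, .p8, .hi, .p7, .hi, .p, .hi, .xii, .y2, .hi, .xii, .p4, .hi, .taui, .xii, .y6, .p, .xii, .p, .xii,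
   .y4, .y7, .tau, .p4, .xii, .p7, .xii, .p, .y2, .hi, .p10, .y3, .taui, .xii, .p4, .xii, .p2, .y4, .y6, .taui, .xii,
   .p7],
  [.z, .Z9, .Z8, .Z7, .Z6, .Z5, .Z2, .Z0, .X7, .X5, .X1, .X0, .y10, .y9, .y7, .y6, .y4, .p5, .hi, .p9, .hi, .p10, .hi,
   .p4, .hi, .p4, .hi, .p3, .xii, .taui, .xii, .p, .xii, .y4, .hi, .xii, .y4, .y7, .taui, .X0, .p5, .xii, .y8, .p,
   .xii, .hi, .p8, .y1, .tau, .xii, .y2, .p2, .xii, .y4, .p2, .hi, .p6, .tau, .xii, .p2, .hi],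
  [.Z9, .Z8, .Z4, .Z3, .Z2, .Z1, .X10, .X9, .X7, .X6, .X5, .X4, .X3, .X0, .y8, .y5, .y2, .hi, .p, .hi, .p10, .hi, .p6,
   .hi, .p6, .hi, .p10, .hi, .xii, .p3, .hi, .xii, .y1, .p10, .tau, .y1, .xii, .y2, .hi, .xii, .p10, .xii, .y4, .tau,
   .p4, .xii, .y6, .p7, .xii, .y1, .p2, .taui, .xii, .p3, .xii, .y3, .p2, .xii, .y9, .y10, .tau, .xii, .y7, .hi, .xii,
   .y2]⟩

theorem h915 : Hd F (g wAd) b915 := hdD (by decide +kernel)
theorem r915_0 : R9 F (g wAd) b915 [] 0 0 := .of (startD 0 1) (by decide +kernel)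
theorem r915_1 : R9 F (g wAd) b915 [] 0 1 := .of (startD 0 1) (by decide +kernel)
theorem r915_2 : R9 F (g wAd) b915 [] 0 2 := .of (startD 0 1) (by decide +kernel)
theorem r915_3 : R9 F (g wAd) b915 [] 1 0 := .of (startD 0 1) (by decide +kernel)
theorem r915_4 : R9 F (g wAd) b915 [] 1 1 := .of (startD 0 1) (by decide +kernel)
theorem r915_5 : R9 F (g wAd) b915 [] 1 2 := .of (startD 0 1) (by decide +kernel)
theorem r915_6 : R9 F (g wAd) b915 [] 2 0 := .of (startD 0 1) (by decide +kernel)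
theorem r915_7 : R9 F (g wAd) b915 [] 2 1 := .of (startD 0 1) (by decide +kernel)
theorem r915_8 : R9 F (g wAd) b915 [] 2 2 := .of (startD 0 1) (by decide +kernel)
theorem g915 : Gd F (g wAd) (1, d915) [] :=
  good9 ok h915 r915_0 r915_1 r915_2 r915_3 r915_4 r915_5 r915_6 r915_7 r915_8

def b916 : Wd := ⟨1, d916,
  [.z, .Z7, .Z6, .Z5, .Z3, .Z2, .Z1, .X9, .X7, .X6, .X5, .X4, .X1, .y10, .y8, .y7, .y6, .y4, .p7, .hi, .p9, .hi, .p6,
   .hi, .p6, .hi, .p4, .hi, .p7, .xii, .p10, .xii, .p9, .xii, .y4, .y6, .taui, .y1, .xii, .y2, .hi, .xii, .p10, .xii,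
   .taui, .xii, .y1, .p, .xii, .y4, .p, .xii, .y1, .y2, .tau, .y1, .p8, .xii, .p, .xii, .y4, .taui, .xii, .p4, .xii,
   .y3, .p5, .y9, .xii, .y2, .tau, .xii, .p5, .hi],
  [.Z9, .Z7, .X9, .X7, .X6, .X5, .X4, .X1, .X0, .y10, .y6, .y5, .y4, .y3, .y2, .y1, .hi, .p6, .hi, .p4, .hi, .p7, .hi,
   .p6, .hi, .p10, .hi, .xii, .p10, .xii, .y9, .taui, .xii, .p, .xii, .y2, .hi, .xii, .y5, .y10, .tau, .p10, .xii,
   .y10, .p9, .xii, .p3, .y6, .hi, .taui, .xii, .y2, .p4, .xii, .y4, .p5, .xii, .y3],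
  [.z, .Z10, .Z9, .Z7, .Z4, .Z2, .X10, .X9, .X7, .X2, .X0, .y9, .y6, .y4, .y3, .y2, .y1, .p7, .hi, .p6, .hi, .p10,
   .hi, .p9, .hi, .p10, .hi, .p2, .hi, .xii, .hi, .p8, .xii, .y3, .p10, .taui, .xii, .p, .xii, .y1, .hi, .xii, .y2,
   .y7, .tau, .p4, .xii, .p7, .xii, .y1, .p8, .y6, .xii, .tau, .xii, .p4, .xii, .y2, .p8, .xii, .y3, .y4, .tau, .xii,
   .hi, .p5]⟩

theorem h916 : Hd F (g wAd) b916 := hdD (by decide +kernel)
theorem r916_0 : R9 F (g wAd) b916 [] 0 0 := .of (startD 0 1) (by decide +kernel)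
theorem r916_1 : R9 F (g wAd) b916 [] 0 1 := .of (startD 0 1) (by decide +kernel)
theorem r916_2 : R9 F (g wAd) b916 [] 0 2 := .of (startD 0 1) (by decide +kernel)
theorem r916_3 : R9 F (g wAd) b916 [] 1 0 := .of (startD 0 1) (by decide +kernel)
theorem r916_4 : R9 F (g wAd) b916 [] 1 1 := .of (startD 0 2) (by decide +kernel)
theorem r916_5 : R9 F (g wAd) b916 [] 1 2 := .of (startD 0 1) (by decide +kernel)
theorem r916_6 : R9 F (g wAd) b916 [] 2 0 := .of (startD 0 1) (by decide +kernel)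
theorem r916_7 : R9 F (g wAd) b916 [] 2 1 := .of (startD 0 1) (by decide +kernel)
theorem r916_8 : R9 F (g wAd) b916 [] 2 2 := .of (startD 0 1) (by decide +kernel)
theorem g916 : Gd F (g wAd) (1, d916) [] :=
  good9 ok h916 r916_0 r916_1 r916_2 r916_3 r916_4 r916_5 r916_6 r916_7 r916_8

def b917 : Wd := ⟨1, d917,
  [.z, .Z10, .Z8, .Z5, .Z4, .Z1, .Z0, .X10, .X8, .X3, .X1, .y10, .y9, .y7, .y6, .y5, .y1, .p3, .hi, .p5, .hi, .p3,
   .hi, .p, .hi, .p, .hi, .p10, .hi, .xii, .hi, .p2, .hi, .taui, .xii, .p, .xii, .y3, .hi, .xii, .y4, .y6, .tau, .X0,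
   .p5, .xii, .y9, .p7, .xii, .y4, .y5, .hi, .p10, .tau, .xii, .p4, .xii, .p2, .hi, .y4, .p10, .tau, .xii, .y2, .hi,
   .p6],
  [.z, .Z10, .Z9, .Z8, .Z7, .Z6, .Z5, .Z3, .X7, .X6, .X5, .X2, .X1, .y10, .y9, .y3, .p10, .hi, .p3, .hi, .p10, .hi,
   .p2, .hi, .p6, .xii, .p10, .xii, .y5, .p2, .xii, .y5, .tau, .xii, .y1, .p, .xii, .p, .xii, .y3, .y9, .y10, .tau,
   .X0, .xii, .p4, .xii, .p8, .xii, .y2, .y3, .hi, .taui, .xii, .y2, .p5, .xii, .p5, .xii, .y9, .taui],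
  [.Z10, .Z8, .Z7, .Z4, .Z3, .Z1, .Z0, .X8, .X6, .X4, .X1, .X0, .y9, .y4, .y3, .p4, .hi, .p9, .hi, .p8, .hi, .p, .hi,
   .xii, .p, .xii, .p8, .y5, .xii, .y1, .tau, .y1, .xii, .p10, .xii, .y4, .p10, .xii, .y3, .y5, .taui, .X0, .p4, .xii,
   .y6, .p7, .xii, .y4, .p10, .hi, .p5, .taui, .xii, .p2, .xii, .y4, .p, .xii, .y4, .y8, .tau, .xii, .hi]⟩

theorem h917 : Hd F (g wAd) b917 := hdD (by decide +kernel)
theorem r917_0 : R9 F (g wAd) b917 [] 0 0 := .of (startD 0 1) (by decide +kernel)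
theorem r917_1 : R9 F (g wAd) b917 [] 0 1 := .of (startD 0 1) (by decide +kernel)
theorem r917_2 : R9 F (g wAd) b917 [] 0 2 := .of (startD 0 1) (by decide +kernel)
theorem r917_3 : R9 F (g wAd) b917 [] 1 0 := .of (startD 0 1) (by decide +kernel)
theorem r917_4 : R9 F (g wAd) b917 [] 1 1 := .of (startD 0 1) (by decide +kernel)
theorem r917_5 : R9 F (g wAd) b917 [] 1 2 := .of (startD 0 1) (by decide +kernel)
theorem r917_6 : R9 F (g wAd) b917 [] 2 0 := .of (startD 0 1) (by decide +kernel)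
theorem r917_7 : R9 F (g wAd) b917 [] 2 1 := .of (startD 0 1) (by decide +kernel)
theorem r917_8 : R9 F (g wAd) b917 [] 2 2 := .of (startD 0 1) (by decide +kernel)
theorem g917 : Gd F (g wAd) (1, d917) [] :=
  good9 ok h917 r917_0 r917_1 r917_2 r917_3 r917_4 r917_5 r917_6 r917_7 r917_8

def b918 : Wd := ⟨1, d918,
  [.Z9, .Z7, .X10, .X6, .X5, .X4, .X1, .X0, .y10, .y7, .y5, .y3, .y1, .hi, .p7, .hi, .p8, .hi, .p6, .hi, .p10, .hi,
   .p9, .hi, .xii, .p3, .hi, .xii, .y3, .y7, .taui, .y1, .xii, .y2, .hi, .xii, .y10, .p10, .xii, .y8, .tau, .xii, .p4,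
   .xii, .y6, .p9, .xii, .p3, .y9, .taui, .xii, .p7, .xii, .y2, .p7, .xii, .y7, .y8, .tau, .xii, .y7, .p10, .xii],
  [.Z9, .Z8, .Z5, .Z0, .X8, .X7, .X6, .X5, .X3, .X1, .y10, .y9, .y5, .y4, .y3, .y2, .p6, .hi, .p4, .hi, .p, .hi, .p6,
   .hi, .p3, .xii, .p10, .xii, .y2, .tau, .xii, .p, .xii, .y1, .y10, .hi, .xii, .y6, .tau, .X0, .xii, .p7, .xii, .y4,
   .p9, .xii, .p2, .taui, .xii, .y2, .p5, .xii, .p7, .xii, .y2],
  [.z, .Z9, .Z5, .Z4, .X9, .X7, .X6, .X0, .y9, .y8, .y5, .y4, .y2, .y1, .p10, .hi, .p9, .hi, .p5, .hi, .p4, .hi, .p6,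
   .hi, .p6, .xii, .y2, .p, .xii, .y2, .hi, .xii, .y5, .tau, .y1, .xii, .p10, .xii, .y1, .p10, .y9, .xii, .y4, .tau,
   .xii, .y1, .p, .xii, .p, .xii, .y5, .y10, .tau, .p8, .xii, .y4, .p4, .xii, .y1, .tau, .xii, .y2, .p8, .xii, .y3,
   .p4, .xii, .y4, .taui]⟩

theorem h918 : Hd F (g wAd) b918 := hdD (by decide +kernel)
theorem r918_0 : R9 F (g wAd) b918 [] 0 0 := .of (startD 0 1) (by decide +kernel)
theorem r918_1 : R9 F (g wAd) b918 [] 0 1 := .of (startD 0 1) (by decide +kernel)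
theorem r918_2 : R9 F (g wAd) b918 [] 0 2 := .of (startD 0 1) (by decide +kernel)
theorem r918_3 : R9 F (g wAd) b918 [] 1 0 := .of (startD 0 1) (by decide +kernel)
theorem r918_4 : R9 F (g wAd) b918 [] 1 1 := .of (startD 0 1) (by decide +kernel)
theorem r918_5 : R9 F (g wAd) b918 [] 1 2 := .of (startD 0 1) (by decide +kernel)
theorem r918_6 : R9 F (g wAd) b918 [] 2 0 := .of (startD 0 1) (by decide +kernel)
theorem r918_7 : R9 F (g wAd) b918 [] 2 1 := .of (startD 0 1) (by decide +kernel)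
theorem r918_8 : R9 F (g wAd) b918 [] 2 2 := .of (startD 0 1) (by decide +kernel)
theorem g918 : Gd F (g wAd) (1, d918) [] :=
  good9 ok h918 r918_0 r918_1 r918_2 r918_3 r918_4 r918_5 r918_6 r918_7 r918_8

def b919 : Wd := ⟨1, d919,
  [.z, .Z10, .Z6, .Z4, .Z2, .Z1, .X9, .X8, .X6, .X2, .X0, .y10, .y9, .y7, .y6, .y4, .p9, .hi, .p5, .hi, .p10, .hi,
   .p8, .hi, .p, .hi, .p10, .hi, .xii, .p10, .xii, .y6, .p5, .xii, .taui, .xii, .y1, .p, .xii, .p, .xii, .y4, .y7,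
   .taui, .p10, .xii, .p8, .xii, .y4, .y10, .tau, .xii, .p7, .xii, .y4, .y5, .p2, .taui, .xii, .p10, .hi, .p4],
  [.z, .Z8, .Z5, .Z4, .Z2, .X8, .X6, .X5, .X4, .X0, .y10, .y6, .y5, .y4, .y2, .p, .hi, .p5, .hi, .p10, .hi, .p3, .hi,
   .p10, .hi, .xii, .hi, .p8, .tau, .xii, .y1, .p, .xii, .p, .xii, .y6, .taui, .X0, .p4, .xii, .p5, .hi, .xii, .y3,
   .tau, .xii, .p4, .xii, .p8, .y4, .taui, .xii, .hi, .p3, .hi, .p10],
  [.z, .Z9, .Z8, .Z7, .Z6, .Z5, .Z1, .Z0, .X9, .X8, .X5, .X4, .X3, .X0, .y8, .y7, .y6, .y1, .p8, .hi, .p4, .hi, .p10,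
   .hi, .p8, .hi, .p4, .hi, .p10, .xii, .p, .xii, .y4, .p4, .xii, .tau, .xii, .p, .xii, .y3, .hi, .xii, .y5, .y9,
   .tau, .X0, .p4, .xii, .p2, .xii, .p4, .y5, .xii, .y8, .taui, .xii, .y2, .p4, .xii, .y10, .p8, .taui, .xii, .p2,
   .hi, .p8]⟩

theorem h919 : Hd F (g wAd) b919 := hdD (by decide +kernel)
theorem r919_0 : R9 F (g wAd) b919 [] 0 0 := .of (startD 0 1) (by decide +kernel)
theorem r919_1 : R9 F (g wAd) b919 [] 0 1 := .of (startD 0 1) (by decide +kernel)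
theorem r919_2 : R9 F (g wAd) b919 [] 0 2 := .of (startD 0 1) (by decide +kernel)
theorem r919_3 : R9 F (g wAd) b919 [] 1 0 := .of (startD 0 1) (by decide +kernel)
theorem r919_4 : R9 F (g wAd) b919 [] 1 1 := .of (startD 0 1) (by decide +kernel)
theorem r919_5 : R9 F (g wAd) b919 [] 1 2 := .of (startD 0 1) (by decide +kernel)
theorem r919_6 : R9 F (g wAd) b919 [] 2 0 := .of (startD 0 1) (by decide +kernel)
theorem r919_7 : R9 F (g wAd) b919 [] 2 1 := .of (startD 0 1) (by decide +kernel)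
theorem r919_8 : R9 F (g wAd) b919 [] 2 2 := .of (startD 0 1) (by decide +kernel)
theorem g919 : Gd F (g wAd) (1, d919) [] :=
  good9 ok h919 r919_0 r919_1 r919_2 r919_3 r919_4 r919_5 r919_6 r919_7 r919_8

theorem all : AllG F (g wAd) LD91 :=
  .cons g910 (.cons g911 (.cons g912 (.cons g913 (.cons g914 (.cons g915 (.cons g916 (.cons g917 (.cons g918 (.cons g919 (.nil))))))))))

end Cfsg.Agent.BX.No33.Bk.D91
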