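import Cfsg.Agent.BX.No33.Cheap
set_option linter.all false

/-!
# Tests, pure case, part 0 (helper5; generated)
-/

set_option autoImplicit false
set_option maxRecDepth 100000
set_option Elab.async false

namespace Cfsg.Agent.BX.No33.Bk.P0

open Cfsg.Agent.H819.U33 Cfsg.Agent.BX.No33.Front

def b0 : Wd := ⟨0, p0,
  [.z, .Z10, .X7, .X5, .X4, .X3, .X1, .y9, .y8, .y5, .y2, .y1, .p7, .hi, .p, .hi, .p4, .hi, .p3, .hi, .p3, .hi, .xii,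
   .y2, .p3, .hi, .xii, .y1, .p6, .taui, .xii, .y6, .p, .xii, .y10, .p, .xii, .y6, .tau, .X0, .p7, .xii, .p9, .y1,
   .xii, .taui, .xii, .p7, .xii, .y5, .p, .hi, .p8, .taui, .xii, .p, .hi],
  [.Z10, .Z9, .Z6, .Z5, .X9, .X7, .X6, .X5, .X4, .X3, .X1, .X0, .y10, .y5, .y2, .y1, .hi, .p9, .hi, .p6, .hi, .p7,
   .hi, .p7, .hi, .p4, .tau, .xii, .p, .xii, .y2, .hi, .xii, .y2, .y7, .tau, .X0, .p9, .xii, .y10, .hi, .p8, .xii,
   .hi, .p, .tau, .xii, .p7, .xii, .y9, .p7, .xii, .y10, .taui, .xii, .p9],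
  [.z, .Z8, .Z7, .Z5, .Z3, .Z2, .X10, .X5, .X4, .X3, .X2, .y9, .y7, .y6, .y5, .y2, .p4, .hi, .p10, .hi, .p7, .hi, .p,
   .hi, .p7, .hi, .p5, .hi, .xii, .p, .xii, .p4, .xii, .y4, .taui, .y1, .xii, .p10, .xii, .y2, .p10, .xii, .y2, .y4,
   .taui, .y1, .xii, .p7, .xii, .y7, .p3, .y1, .xii, .y8, .taui, .xii, .y2, .p8, .xii, .y6, .p2, .xii, .y8, .tau,
   .xii, .y2, .p6, .xii, .y3]⟩

theorem h0 : Hd F (g wAp) b0 := hdP (by decide +kernel)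
theorem r0_0 : R9 F (g wAp) b0 [] 0 0 := .of (startP 0 1) (by decide +kernel)
theorem r0_1 : R9 F (g wAp) b0 [] 0 1 := .of (startP 0 1) (by decide +kernel)
theorem r0_2 : R9 F (g wAp) b0 [] 0 2 := .of (startP 0 1) (by decide +kernel)
theorem r0_3 : R9 F (g wAp) b0 [] 1 0 := .of (startP 0 1) (by decide +kernel)
theorem r0_4 : R9 F (g wAp) b0 [] 1 1 := .of (startP 0 1) (by decide +kernel)
theorem r0_5 : R9 F (g wAp) b0 [] 1 2 := .of (startP 0 1) (by decide +kernel)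
theorem r0_6 : R9 F (g wAp) b0 [] 2 0 := .of (startP 0 1) (by decide +kernel)
theorem r0_7 : R9 F (g wAp) b0 [] 2 1 := .of (startP 0 1) (by decide +kernel)
theorem r0_8 : R9 F (g wAp) b0 [] 2 2 := .of (startP 0 1) (by decide +kernel)
theorem g0 : Gd F (g wAp) (0, p0) [] :=
  good9 ok h0 r0_0 r0_1 r0_2 r0_3 r0_4 r0_5 r0_6 r0_7 r0_8

def b1 : Wd := ⟨0, p1,
  [.Z5, .Z3, .Z2, .Z1, .X8, .X7, .X5, .X4, .X1, .y9, .y8, .y5, .y3, .p10, .hi, .p8, .hi, .p5, .hi, .p10, .hi, .p7,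
   .hi, .p, .xii, .y2, .p3, .hi, .taui, .xii, .y2, .p, .xii, .y1, .hi, .xii, .y4, .y6, .taui, .X0, .p10, .xii, .y4,
   .p10, .hi, .p10, .tau, .xii, .y2, .p5],
  [.z, .Z8, .Z7, .Z6, .Z4, .Z2, .X10, .X7, .X6, .X4, .X3, .X0, .y10, .y8, .y6, .y4, .y2, .p2, .hi, .p5, .hi, .p10,
   .hi, .p8, .hi, .p9, .hi, .xii, .y2, .hi, .xii, .p4, .hi, .tau, .y1, .xii, .p10, .xii, .y8, .p10, .xii, .y10, .taui,
   .y1, .p9, .xii, .p, .xii, .p2, .hi, .p9, .taui, .xii, .p7, .xii, .y2, .p9, .y2, .xii, .y7],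
  [.Z9, .Z8, .Z7, .Z6, .Z5, .Z4, .Z3, .Z1, .X10, .X8, .X7, .X4, .X2, .X1, .y10, .y8, .y7, .y6, .y3, .y2, .y1, .hi,
   .p8, .hi, .p, .hi, .p8, .hi, .p6, .hi, .p9, .xii, .p10, .xii, .y4, .p3, .hi, .tau, .y1, .xii, .p10, .xii, .p10,
   .y7, .xii, .y4, .y10, .taui, .X0, .y1, .p2, .xii, .p5, .xii, .hi, .p, .taui, .xii, .p7, .xii, .y10, .p2, .tau,
   .xii, .y2, .p10, .hi, .p8]⟩

theorem h1 : Hd F (g wAp) b1 := hdP (by decide +kernel)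
theorem r1_0 : R9 F (g wAp) b1 [] 0 0 := .of (startP 0 1) (by decide +kernel)
theorem r1_1 : R9 F (g wAp) b1 [] 0 1 := .of (startP 0 2) (by decide +kernel)
theorem r1_2 : R9 F (g wAp) b1 [] 0 2 := .of (startP 0 1) (by decide +kernel)
theorem r1_3 : R9 F (g wAp) b1 [] 1 0 := .of (startP 0 1) (by decide +kernel)
theorem r1_4 : R9 F (g wAp) b1 [] 1 1 := .of (startP 0 1) (by decide +kernel)
theorem r1_5 : R9 F (g wAp) b1 [] 1 2 := .of (startP 0 1) (by decide +kernel)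
theorem r1_6 : R9 F (g wAp) b1 [] 2 0 := .of (startP 0 1) (by decide +kernel)
theorem r1_7 : R9 F (g wAp) b1 [] 2 1 := .of (startP 0 1) (by decide +kernel)
theorem r1_8 : R9 F (g wAp) b1 [] 2 2 := .of (startP 0 1) (by decide +kernel)
theorem g1 : Gd F (g wAp) (0, p1) [] :=
  good9 ok h1 r1_0 r1_1 r1_2 r1_3 r1_4 r1_5 r1_6 r1_7 r1_8

def b2 : Wd := ⟨0, p2,
  [.Z8, .Z3, .Z1, .Z0, .X10, .X9, .X7, .X6, .X4, .y7, .y6, .y3, .y2, .y1, .hi, .p7, .hi, .p, .hi, .p5, .hi, .p4, .hi,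
   .p10, .taui, .xii, .y1, .p, .xii, .y4, .p, .xii, .y6, .y10, .tau, .y1, .xii, .y2, .p4, .xii, .p10, .y10, .xii, .y8,
   .taui, .xii, .p3, .xii, .y2, .hi, .p2, .hi, .tau, .xii, .y2, .p],
  [.z, .Z9, .Z7, .Z2, .X7, .X5, .X4, .X0, .y10, .y8, .y4, .y2, .y1, .hi, .p2, .hi, .p10, .hi, .p10, .hi, .p5, .hi, .p,
   .xii, .p, .xii, .y4, .p4, .xii, .y2, .tau, .X0, .hi, .xii, .y7, .hi, .p8, .xii, .y7, .y10, .p10, .taui, .xii, .p4,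
   .xii, .y4, .p2, .hi, .p7, .taui, .xii, .p2, .hi, .p10],
  [.Z10, .Z7, .Z4, .Z3, .Z2, .Z1, .Z0, .X9, .X6, .X4, .X3, .X1, .X0, .y10, .y9, .y8, .y7, .y1, .p7, .hi, .p, .hi, .p4,
   .hi, .p5, .hi, .p9, .xii, .p10, .xii, .y1, .p8, .xii, .y4, .tau, .y1, .xii, .p10, .xii, .y5, .p10, .xii, .y4,
   .taui, .xii, .y2, .p5, .xii, .y5, .p7, .xii, .y4, .y5, .y7, .taui, .xii, .p2, .xii, .y10, .p6, .xii, .y2, .y10,
   .taui, .xii, .p10, .xii, .y4]⟩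

theorem h2 : Hd F (g wAp) b2 := hdP (by decide +kernel)
theorem r2_0 : R9 F (g wAp) b2 [] 0 0 := .of (startP 0 1) (by decide +kernel)
theorem r2_1 : R9 F (g wAp) b2 [] 0 1 := .of (startP 0 1) (by decide +kernel)
theorem r2_2 : R9 F (g wAp) b2 [] 0 2 := .of (startP 0 1) (by decide +kernel)
theorem r2_3 : R9 F (g wAp) b2 [] 1 0 := .of (startP 0 1) (by decide +kernel)
theorem r2_4 : R9 F (g wAp) b2 [] 1 1 := .of (startP 0 1) (by decide +kernel)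
theorem r2_5 : R9 F (g wAp) b2 [] 1 2 := .of (startP 0 1) (by decide +kernel)
theorem r2_6 : R9 F (g wAp) b2 [] 2 0 := .of (startP 0 3) (by decide +kernel)
theorem r2_7 : R9 F (g wAp) b2 [] 2 1 := .of (startP 0 1) (by decide +kernel)
theorem r2_8 : R9 F (g wAp) b2 [] 2 2 := .of (startP 0 1) (by decide +kernel)
theorem g2 : Gd F (g wAp) (0, p2) [] :=
  good9 ok h2 r2_0 r2_1 r2_2 r2_3 r2_4 r2_5 r2_6 r2_7 r2_8

def b3 : Wd := ⟨0, p3,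
  [.Z9, .Z8, .Z5, .Z2, .X10, .X9, .X8, .X6, .X4, .X3, .X2, .X1, .X0, .y9, .y7, .y4, .y3, .p5, .hi, .p4, .hi, .p, .hi,
   .p6, .hi, .p7, .hi, .p3, .xii, .p10, .hi, .p8, .taui, .X0, .p7, .xii, .p7, .xii, .p4, .y5, .y8, .taui, .xii, .p7,
   .xii, .p, .y10, .hi],
  [.Z8, .Z7, .Z6, .Z5, .Z4, .X10, .X9, .X8, .X7, .X3, .y5, .y4, .y1, .p10, .hi, .p3, .hi, .p5, .hi, .p6, .hi, .p8,
   .xii, .hi, .p8, .hi, .p5, .hi, .taui, .y1, .xii, .p10, .xii, .y1, .y7, .p10, .xii, .y8, .tau, .xii, .p6, .xii, .p2,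
   .y8, .xii, .p2, .y5, .tau, .xii, .p9, .xii, .y9, .y10, .p3, .xii, .y1, .taui, .xii, .y7, .p],
  [.z, .Z6, .Z1, .X10, .X5, .X4, .X0, .y9, .y7, .y6, .y3, .y2, .p9, .hi, .p9, .hi, .p5, .hi, .p8, .hi, .p, .hi, .p5,
   .hi, .p8, .hi, .xii, .y2, .hi, .p8, .xii, .y7, .p2, .tau, .p10, .xii, .p7, .xii, .p9, .y8, .xii, .y6, .tau, .xii,
   .p7, .xii, .y6, .p3, .xii, .y5, .y8]⟩

theorem h3 : Hd F (g wAp) b3 := hdP (by decide +kernel)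
theorem r3_0 : R9 F (g wAp) b3 [] 0 0 := .of (startP 0 1) (by decide +kernel)
theorem r3_1 : R9 F (g wAp) b3 [] 0 1 := .of (startP 0 1) (by decide +kernel)
theorem r3_2 : R9 F (g wAp) b3 [] 0 2 := .of (startP 0 1) (by decide +kernel)
theorem r3_3 : R9 F (g wAp) b3 [] 1 0 := .of (startP 0 1) (by decide +kernel)
theorem r3_4 : R9 F (g wAp) b3 [] 1 1 := .of (startP 0 1) (by decide +kernel)
theorem r3_5 : R9 F (g wAp) b3 [] 1 2 := .of (startP 0 1) (by decide +kernel)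
theorem r3_6 : R9 F (g wAp) b3 [] 2 0 := .of (startP 0 1) (by decide +kernel)
theorem r3_7 : R9 F (g wAp) b3 [] 2 1 := .of (startP 0 1) (by decide +kernel)
theorem r3_8 : R9 F (g wAp) b3 [] 2 2 := .of (startP 0 1) (by decide +kernel)
theorem g3 : Gd F (g wAp) (0, p3) [] :=
  good9 ok h3 r3_0 r3_1 r3_2 r3_3 r3_4 r3_5 r3_6 r3_7 r3_8

def b4 : Wd := ⟨0, p4,
  [.z, .Z10, .Z9, .Z8, .Z3, .X8, .X4, .X3, .X2, .y10, .y9, .y8, .y7, .y6, .y5, .y3, .p, .hi, .p3, .hi, .p5, .hi, .p8,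
   .hi, .p7, .xii, .tau, .y1, .xii, .p10, .xii, .y1, .p10, .xii, .y9, .taui, .X0, .p7, .xii, .p7, .xii, .y10, .p,
   .y10, .hi, .p5, .taui, .xii, .y2, .p9, .xii, .p5, .xii, .y6, .y10, .taui, .xii, .p4, .hi, .p3],
  [.Z10, .Z9, .Z7, .Z6, .Z5, .Z4, .Z3, .Z1, .Z0, .X10, .X8, .X7, .X5, .X3, .X0, .y10, .y8, .y7, .y1, .p9, .hi, .p,
   .hi, .p3, .hi, .p4, .hi, .p6, .hi, .p7, .xii, .hi, .xii, .p10, .y9, .xii, .y8, .y10, .tau, .xii, .y1, .p3, .hi,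
   .xii, .y2, .p2, .hi, .taui, .hi, .xii, .p9, .xii, .p7, .y2, .y10, .hi, .tau, .xii, .p8, .xii, .y1, .y6],
  [.Z9, .Z7, .Z6, .Z5, .X9, .X8, .X7, .X5, .X3, .X1, .y6, .y5, .y2, .p8, .hi, .p3, .hi, .p10, .hi, .p4, .hi, .p4, .hi,
   .p6, .xii, .y2, .hi, .xii, .p5, .hi, .p8, .tau, .y1, .xii, .hi, .xii, .y6, .tau, .X0, .y1, .p2, .xii, .p, .xii,
   .taui, .xii, .p7, .xii, .p10, .y1, .hi, .p2, .hi]⟩

theorem h4 : Hd F (g wAp) b4 := hdP (by decide +kernel)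
theorem r4_0 : R9 F (g wAp) b4 [] 0 0 := .of (startP 0 1) (by decide +kernel)
theorem r4_1 : R9 F (g wAp) b4 [] 0 1 := .of (startP 0 1) (by decide +kernel)
theorem r4_2 : R9 F (g wAp) b4 [] 0 2 := .of (startP 0 2) (by decide +kernel)
theorem r4_3 : R9 F (g wAp) b4 [] 1 0 := .of (startP 0 1) (by decide +kernel)
theorem r4_4 : R9 F (g wAp) b4 [] 1 1 := .of (startP 0 1) (by decide +kernel)
theorem r4_5 : R9 F (g wAp) b4 [] 1 2 := .of (startP 0 1) (by decide +kernel)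
theorem r4_6 : R9 F (g wAp) b4 [] 2 0 := .of (startP 0 1) (by decide +kernel)
theorem r4_7 : R9 F (g wAp) b4 [] 2 1 := .of (startP 0 1) (by decide +kernel)
theorem r4_8 : R9 F (g wAp) b4 [] 2 2 := .of (startP 0 1) (by decide +kernel)
theorem g4 : Gd F (g wAp) (0, p4) [] :=
  good9 ok h4 r4_0 r4_1 r4_2 r4_3 r4_4 r4_5 r4_6 r4_7 r4_8

def b5 : Wd := ⟨0, p5,
  [.z, .Z10, .Z9, .Z8, .Z5, .X7, .X6, .X4, .y10, .y9, .y7, .y5, .y4, .y3, .y2, .hi, .p6, .hi, .p8, .hi, .p, .hi, .p7,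
   .hi, .p, .hi, .xii, .y2, .p, .xii, .y3, .y10, .taui, .y1, .xii, .y2, .hi, .xii, .y9, .p10, .xii, .y10, .taui, .y1,
   .p2, .xii, .hi, .xii, .y4, .p5, .hi, .p8, .taui, .xii, .p9, .xii, .y5, .p3, .xii, .y3, .y4, .tau, .xii, .y4, .hi,
   .xii],
  [.Z10, .Z9, .Z8, .Z6, .Z3, .X10, .X8, .X5, .X3, .y10, .y9, .y8, .y7, .y6, .y5, .y4, .y3, .y2, .p6, .hi, .p10, .hi,
   .p5, .hi, .p9, .xii, .hi, .p8, .xii, .y2, .y9, .p2, .taui, .xii, .p, .xii, .y1, .y6, .hi, .xii, .y4, .y5, .tau,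
   .X0, .p4, .xii, .p2, .hi, .xii, .y1, .p4, .taui, .xii, .p7, .xii, .y5, .y10, .p9, .hi, .tau, .xii, .y2, .p10, .hi],
  [.Z7, .Z6, .Z5, .Z4, .Z2, .Z1, .Z0, .X10, .X9, .X8, .X7, .X3, .y10, .y7, .y4, .y3, .y2, .y1, .p6, .hi, .p3, .hi,
   .p3, .hi, .p7, .hi, .p, .hi, .p3, .xii, .p, .xii, .y4, .p, .xii, .y3, .y10, .tau, .xii, .y1, .p, .xii, .p3, .y3,
   .hi, .tau, .p4, .xii, .y4, .p4, .xii, .y6, .taui, .xii, .p4, .xii, .y2, .y4, .p, .hi, .taui, .xii, .y2, .p]⟩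

theorem h5 : Hd F (g wAp) b5 := hdP (by decide +kernel)
theorem r5_0 : R9 F (g wAp) b5 [] 0 0 := .of (startP 0 1) (by decide +kernel)
theorem r5_1 : R9 F (g wAp) b5 [] 0 1 := .of (startP 0 1) (by decide +kernel)
theorem r5_2 : R9 F (g wAp) b5 [] 0 2 := .of (startP 0 1) (by decide +kernel)
theorem r5_3 : R9 F (g wAp) b5 [] 1 0 := .of (startP 0 1) (by decide +kernel)
theorem r5_4 : R9 F (g wAp) b5 [] 1 1 := .of (startP 0 1) (by decide +kernel)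
theorem r5_5 : R9 F (g wAp) b5 [] 1 2 := .of (startP 0 1) (by decide +kernel)
theorem r5_6 : R9 F (g wAp) b5 [] 2 0 := .of (startP 0 1) (by decide +kernel)
theorem r5_7 : R9 F (g wAp) b5 [] 2 1 := .of (startP 0 1) (by decide +kernel)
theorem r5_8 : R9 F (g wAp) b5 [] 2 2 := .of (startP 0 1) (by decide +kernel)
theorem g5 : Gd F (g wAp) (0, p5) [] :=
  good9 ok h5 r5_0 r5_1 r5_2 r5_3 r5_4 r5_5 r5_6 r5_7 r5_8

def b6 : Wd := ⟨0, p6,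
  [.Z10, .Z3, .Z2, .Z1, .Z0, .X10, .X5, .X4, .X1, .X0, .y9, .y8, .y7, .y2, .p9, .hi, .p6, .hi, .p9, .hi, .p4, .hi,
   .p8, .xii, .p, .xii, .y3, .p7, .xii, .y4, .taui, .y1, .xii, .p10, .xii, .y4, .p10, .xii, .y8, .taui, .X0, .xii,
   .hi, .xii, .y4, .p6, .xii, .y5, .p6, .tau, .xii, .p8, .xii, .p, .y2, .hi],
  [.Z10, .Z9, .Z8, .Z6, .Z5, .Z4, .Z3, .Z1, .Z0, .X8, .X4, .y10, .y9, .y7, .y6, .y5, .y2, .p9, .hi, .p4, .hi, .p4,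
   .hi, .p4, .hi, .p6, .hi, .p3, .xii, .p3, .hi, .xii, .y1, .y8, .p6, .taui, .xii, .y2, .p, .xii, .y2, .y4, .hi, .p10,
   .taui, .X0, .p5, .xii, .y8, .p, .xii, .y1, .taui, .xii, .p9, .xii, .y2],
  [.z, .Z10, .Z9, .Z7, .Z5, .Z3, .Z2, .Z1, .X10, .X8, .X6, .X5, .X4, .X3, .X1, .y9, .y6, .y4, .y1, .p9, .hi, .p4, .hi,
   .p5, .hi, .p9, .hi, .p3, .hi, .p2, .xii, .p10, .xii, .y10, .p6, .xii, .y3, .taui, .y1, .xii, .hi, .xii, .y7, .taui,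
   .X0, .p4, .xii, .p9, .xii, .y3, .y5, .p9, .taui, .xii, .p8, .xii, .p4, .y2, .xii, .y9, .y10, .tau, .xii, .p, .xii,
   .y6]⟩

theorem h6 : Hd F (g wAp) b6 := hdP (by decide +kernel)
theorem r6_0 : R9 F (g wAp) b6 [] 0 0 := .of (startP 0 1) (by decide +kernel)
theorem r6_1 : R9 F (g wAp) b6 [] 0 1 := .of (startP 0 1) (by decide +kernel)
theorem r6_2 : R9 F (g wAp) b6 [] 0 2 := .of (startP 0 1) (by decide +kernel)
theorem r6_3 : R9 F (g wAp) b6 [] 1 0 := .of (startP 0 1) (by decide +kernel)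
theorem r6_4 : R9 F (g wAp) b6 [] 1 1 := .of (startP 0 1) (by decide +kernel)
theorem r6_5 : R9 F (g wAp) b6 [] 1 2 := .of (startP 0 1) (by decide +kernel)
theorem r6_6 : R9 F (g wAp) b6 [] 2 0 := .of (startP 0 1) (by decide +kernel)
theorem r6_7 : R9 F (g wAp) b6 [] 2 1 := .of (startP 0 1) (by decide +kernel)
theorem r6_8 : R9 F (g wAp) b6 [] 2 2 := .of (startP 0 1) (by decide +kernel)
theorem g6 : Gd F (g wAp) (0, p6) [] :=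
  good9 ok h6 r6_0 r6_1 r6_2 r6_3 r6_4 r6_5 r6_6 r6_7 r6_8

def b7 : Wd := ⟨0, p7,
  [.Z10, .Z8, .Z6, .Z2, .X9, .X7, .X2, .X0, .y9, .y8, .y6, .y5, .y2, .p8, .hi, .p5, .hi, .p3, .hi, .p7, .hi, .p10,
   .hi, .p3, .hi, .xii, .p, .xii, .hi, .y7, .p10, .tau, .xii, .p, .xii, .y3, .y10, .hi, .xii, .y1, .taui, .X0, .p6,
   .xii, .p3, .xii, .y8, .p6, .xii, .y4, .tau, .xii, .p4, .hi, .xii, .y1, .y2, .y3, .tau, .xii, .y2, .hi, .p6],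
  [.Z8, .Z3, .Z1, .Z0, .X9, .X8, .X4, .X2, .X1, .X0, .y9, .y8, .y6, .y5, .y4, .y1, .p9, .hi, .p, .hi, .p7, .hi, .p5,
   .hi, .p3, .hi, .xii, .p, .xii, .y2, .p4, .tau, .y1, .xii, .p10, .xii, .y1, .y7, .p10, .xii, .y9, .taui, .X0, .xii,
   .p5, .xii, .p6, .y7, .y9, .xii, .y9, .tau, .xii, .y2, .hi, .xii, .p5, .xii, .y9, .taui],
  [.Z7, .Z4, .Z3, .Z2, .X10, .X7, .X4, .X3, .X2, .X1, .X0, .y9, .y8, .y6, .y5, .y4, .hi, .p7, .hi, .p8, .hi, .p5, .hi,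
   .p8, .hi, .p9, .hi, .xii, .p10, .xii, .p5, .y3, .tau, .xii, .y1, .p, .xii, .y10, .p, .xii, .y6, .taui, .X0, .p5,
   .xii, .p, .xii, .p3, .hi, .y10, .taui, .xii, .p4, .xii, .y1, .y6, .p10, .xii, .y6, .taui, .xii, .p9, .xii, .y5]⟩

theorem h7 : Hd F (g wAp) b7 := hdP (by decide +kernel)
theorem r7_0 : R9 F (g wAp) b7 [] 0 0 := .of (startP 0 1) (by decide +kernel)
theorem r7_1 : R9 F (g wAp) b7 [] 0 1 := .of (startP 0 1) (by decide +kernel)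
theorem r7_2 : R9 F (g wAp) b7 [] 0 2 := .of (startP 0 1) (by decide +kernel)
theorem r7_3 : R9 F (g wAp) b7 [] 1 0 := .of (startP 0 1) (by decide +kernel)
theorem r7_4 : R9 F (g wAp) b7 [] 1 1 := .of (startP 0 1) (by decide +kernel)
theorem r7_5 : R9 F (g wAp) b7 [] 1 2 := .of (startP 0 1) (by decide +kernel)
theorem r7_6 : R9 F (g wAp) b7 [] 2 0 := .of (startP 0 1) (by decide +kernel)
theorem r7_7 : R9 F (g wAp) b7 [] 2 1 := .of (startP 0 1) (by decide +kernel)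
theorem r7_8 : R9 F (g wAp) b7 [] 2 2 := .of (startP 0 1) (by decide +kernel)
theorem g7 : Gd F (g wAp) (0, p7) [] :=
  good9 ok h7 r7_0 r7_1 r7_2 r7_3 r7_4 r7_5 r7_6 r7_7 r7_8

def b8 : Wd := ⟨0, p8,
  [.Z10, .Z9, .Z7, .Z1, .Z0, .X8, .X6, .X3, .X2, .X0, .y10, .y9, .y6, .y2, .y1, .p4, .hi, .p4, .hi, .p6, .hi, .p3,
   .hi, .p, .xii, .hi, .xii, .y4, .p9, .xii, .y7, .tau, .xii, .y2, .p, .xii, .y3, .hi, .xii, .y6, .tau, .X0, .hi,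
   .xii, .p8, .xii, .y8, .p8, .y1, .hi, .taui, .xii, .p4, .xii, .y2, .p5, .y7, .xii, .tau, .xii, .p9],
  [.Z10, .Z7, .Z6, .Z4, .Z3, .Z2, .Z0, .X10, .X9, .X8, .X7, .X6, .X4, .X2, .X0, .y10, .y8, .y7, .y5, .y3, .y2, .y1,
   .p, .hi, .p10, .hi, .p4, .xii, .y2, .p10, .xii, .y9, .p5, .taui, .xii, .p, .xii, .y1, .hi, .xii, .y1, .y10, .taui,
   .X0, .xii, .hi, .xii, .y2, .p6, .xii, .y10, .tau, .xii, .p, .xii, .p4, .xii, .y4, .taui],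
  [.z, .Z10, .Z9, .Z8, .Z6, .Z2, .X9, .X8, .X6, .X5, .X3, .X0, .y7, .y6, .y5, .y4, .y2, .p10, .hi, .p, .hi, .p3, .hi,
   .p6, .hi, .p6, .hi, .p10, .xii, .hi, .xii, .y8, .p6, .xii, .y6, .taui, .xii, .y1, .p, .xii, .p, .y7, .xii, .y6,
   .taui, .hi, .xii, .p5, .xii, .hi, .y7, .xii, .y4, .taui, .xii, .p5, .xii, .p5, .y10, .xii, .y1, .tau, .xii, .p9]⟩

theorem h8 : Hd F (g wAp) b8 := hdP (by decide +kernel)
theorem r8_0 : R9 F (g wAp) b8 [] 0 0 := .of (startP 0 1) (by decide +kernel)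
theorem r8_1 : R9 F (g wAp) b8 [] 0 1 := .of (startP 0 1) (by decide +kernel)
theorem r8_2 : R9 F (g wAp) b8 [] 0 2 := .of (startP 0 1) (by decide +kernel)
theorem r8_3 : R9 F (g wAp) b8 [] 1 0 := .of (startP 0 1) (by decide +kernel)
theorem r8_4 : R9 F (g wAp) b8 [] 1 1 := .of (startP 0 1) (by decide +kernel)
theorem r8_5 : R9 F (g wAp) b8 [] 1 2 := .of (startP 0 1) (by decide +kernel)
theorem r8_6 : R9 F (g wAp) b8 [] 2 0 := .of (startP 0 1) (by decide +kernel)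
theorem r8_7 : R9 F (g wAp) b8 [] 2 1 := .of (startP 0 2) (by decide +kernel)
theorem r8_8 : R9 F (g wAp) b8 [] 2 2 := .of (startP 0 1) (by decide +kernel)
theorem g8 : Gd F (g wAp) (0, p8) [] :=
  good9 ok h8 r8_0 r8_1 r8_2 r8_3 r8_4 r8_5 r8_6 r8_7 r8_8

def b9 : Wd := ⟨0, p9,
  [.z, .Z9, .Z8, .Z7, .Z5, .Z3, .Z0, .X8, .X4, .X3, .X2, .y10, .y9, .y5, .p8, .hi, .p8, .hi, .p9, .hi, .p7, .hi, .p6,
   .hi, .p7, .xii, .y2, .p10, .xii, .y1, .y5, .tau, .xii, .y2, .p, .xii, .y4, .hi, .xii, .y4, .y6, .taui, .xii, .p5,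
   .xii, .y7, .p7, .xii, .y1, .p5, .tau, .xii, .p2, .xii, .y3, .p6, .xii, .y2, .taui, .xii, .y7, .p6],
  [.z, .Z9, .Z7, .Z6, .Z3, .Z2, .X6, .X2, .X1, .y10, .y9, .y8, .y4, .y3, .y1, .p4, .hi, .p9, .hi, .p6, .hi, .p4, .hi,
   .p10, .xii, .y2, .p3, .hi, .xii, .y9, .tau, .xii, .y6, .p, .xii, .y3, .y4, .hi, .p8, .taui, .X0, .p8, .xii, .y1,
   .y2, .p4, .xii, .y4, .tau, .xii, .y2, .p5, .xii, .p9, .xii, .taui, .xii, .p4, .hi, .p3],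
  [.z, .Z10, .Z9, .Z8, .Z4, .Z3, .X10, .X8, .X7, .X6, .X5, .X4, .X1, .X0, .y9, .y8, .y6, .y5, .y3, .y1, .p7, .hi, .p,
   .hi, .p7, .hi, .p10, .hi, .p10, .hi, .p10, .xii, .p10, .hi, .p8, .taui, .xii, .p, .xii, .y4, .hi, .xii, .y1, .y9,
   .tau, .X0, .p5, .xii, .y7, .p7, .xii, .p6, .y7, .taui, .xii, .y2, .p5, .xii, .y7, .p7, .tau, .xii, .p]⟩

theorem h9 : Hd F (g wAp) b9 := hdP (by decide +kernel)
theorem r9_0 : R9 F (g wAp) b9 [] 0 0 := .of (startP 0 1) (by decide +kernel)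
theorem r9_1 : R9 F (g wAp) b9 [] 0 1 := .of (startP 0 1) (by decide +kernel)
theorem r9_2 : R9 F (g wAp) b9 [] 0 2 := .of (startP 0 1) (by decide +kernel)
theorem r9_3 : R9 F (g wAp) b9 [] 1 0 := .of (startP 0 1) (by decide +kernel)
theorem r9_4 : R9 F (g wAp) b9 [] 1 1 := .of (startP 0 1) (by decide +kernel)
theorem r9_5 : R9 F (g wAp) b9 [] 1 2 := .of (startP 0 1) (by decide +kernel)
theorem r9_6 : R9 F (g wAp) b9 [] 2 0 := .of (startP 0 1) (by decide +kernel)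
theorem r9_7 : R9 F (g wAp) b9 [] 2 1 := .of (startP 0 1) (by decide +kernel)
theorem r9_8 : R9 F (g wAp) b9 [] 2 2 := .of (startP 0 1) (by decide +kernel)
theorem g9 : Gd F (g wAp) (0, p9) [] :=
  good9 ok h9 r9_0 r9_1 r9_2 r9_3 r9_4 r9_5 r9_6 r9_7 r9_8

theorem all : AllG F (g wAp) LP0 :=
  .cons g0 (.cons g1 (.cons g2 (.cons g3 (.cons g4 (.cons g5 (.cons g6 (.cons g7 (.cons g8 (.cons g9 (.nil))))))))))

end Cfsg.Agent.BX.No33.Bk.P0
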