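import Cfsg.Agent.BX.No33.Cheap
set_option linter.all false

/-!
# Tests, pure case, part 1 (helper5; generated)
-/

set_option autoImplicit false
set_option maxRecDepth 100000
set_option Elab.async false

namespace Cfsg.Agent.BX.No33.Bk.P1

open Cfsg.Agent.H819.U33 Cfsg.Agent.BX.No33.Front

def b10 : Wd := ⟨0, p10,
  [.Z9, .Z7, .Z6, .Z2, .Z1, .X8, .X6, .X4, .X0, .y9, .y8, .y6, .y5, .y3, .y1, .p4, .hi, .p6, .hi, .p10, .hi, .p2, .hi,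
   .p4, .hi, .p4, .xii, .p, .xii, .p9, .y7, .taui, .xii, .y1, .p, .xii, .y3, .p3, .hi, .taui, .hi, .xii, .y7, .p6,
   .xii, .taui, .xii, .y2, .p4, .xii, .p, .y8, .tau, .xii, .p7],
  [.Z10, .Z9, .Z8, .Z6, .Z5, .Z4, .Z3, .Z2, .Z0, .X8, .X6, .X5, .X4, .X2, .X1, .X0, .y8, .y7, .y6, .y3, .p7, .hi, .p3,
   .hi, .p5, .hi, .p8, .hi, .p8, .xii, .p10, .xii, .y1, .p4, .hi, .tau, .X0, .p8, .xii, .y1, .y2, .hi, .p6, .xii, .y1,
   .p9, .tau, .xii, .p5, .xii, .y2, .y7, .p5, .hi, .taui, .xii, .p8],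
  [.z, .Z10, .Z9, .Z6, .Z5, .Z4, .Z3, .Z2, .X8, .X6, .X5, .X3, .X2, .X0, .y9, .y7, .y5, .y4, .y2, .p10, .hi, .p7, .hi,
   .p5, .hi, .p7, .hi, .p, .hi, .p5, .hi, .p4, .hi, .xii, .hi, .xii, .p10, .y8, .xii, .tau, .xii, .y1, .p, .xii, .p,
   .xii, .y7, .y8, .tau, .p7, .xii, .p8, .y5, .xii, .y6, .p3, .hi, .p9, .taui, .xii, .p4, .xii, .y1, .y2, .p10, .taui,
   .xii, .p10, .hi, .p8]⟩

theorem h10 : Hd F (g wAp) b10 := hdP (by decide +kernel)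
theorem r10_0 : R9 F (g wAp) b10 [] 0 0 := .of (startP 0 1) (by decide +kernel)
theorem r10_1 : R9 F (g wAp) b10 [] 0 1 := .of (startP 0 1) (by decide +kernel)
theorem r10_2 : R9 F (g wAp) b10 [] 0 2 := .of (startP 0 1) (by decide +kernel)
theorem r10_3 : R9 F (g wAp) b10 [] 1 0 := .of (startP 0 1) (by decide +kernel)
theorem r10_4 : R9 F (g wAp) b10 [] 1 1 := .of (startP 0 1) (by decide +kernel)
theorem r10_5 : R9 F (g wAp) b10 [] 1 2 := .of (startP 0 1) (by decide +kernel)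
theorem r10_6 : R9 F (g wAp) b10 [] 2 0 := .of (startP 0 1) (by decide +kernel)
theorem r10_7 : R9 F (g wAp) b10 [] 2 1 := .of (startP 0 1) (by decide +kernel)
theorem r10_8 : R9 F (g wAp) b10 [] 2 2 := .of (startP 0 1) (by decide +kernel)
theorem g10 : Gd F (g wAp) (0, p10) [] :=
  good9 ok h10 r10_0 r10_1 r10_2 r10_3 r10_4 r10_5 r10_6 r10_7 r10_8

def b11 : Wd := ⟨0, p11,
  [.Z9, .Z8, .Z6, .Z4, .Z2, .X10, .X6, .X4, .X3, .X2, .X1, .y9, .y8, .y5, .y3, .y2, .hi, .p9, .hi, .p4, .hi, .p, .hi,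
   .p5, .hi, .p10, .hi, .p4, .xii, .p, .xii, .y10, .p9, .taui, .xii, .p, .xii, .hi, .y8, .xii, .y6, .tau, .xii, .p5,
   .xii, .p7, .y2, .xii, .p8, .y6, .tau, .xii, .p3, .xii, .y4, .p, .xii, .y8, .taui, .xii, .hi, .xii, .y4],
  [.Z10, .Z6, .Z5, .Z4, .Z2, .Z1, .Z0, .X9, .X8, .X7, .X4, .X3, .X2, .X1, .X0, .y10, .y8, .y7, .y5, .y3, .y2, .y1,
   .hi, .p9, .hi, .p6, .hi, .p8, .hi, .p3, .hi, .p6, .xii, .hi, .p8, .xii, .y4, .p2, .taui, .xii, .y1, .p, .xii, .p,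
   .xii, .y4, .y6, .tau, .p2, .xii, .p4, .xii, .p7, .y10, .tau, .xii, .p2, .xii, .y4, .hi, .p3, .hi],
  [.Z10, .Z7, .Z4, .Z1, .X10, .X6, .X5, .X4, .X2, .y10, .y8, .y4, .p8, .hi, .p8, .hi, .p5, .hi, .p7, .hi, .p10, .xii,
   .p3, .hi, .p8, .hi, .p6, .tau, .xii, .y1, .p, .xii, .y10, .p, .xii, .y5, .y10, .tau, .X0, .xii, .p2, .xii, .p7,
   .xii, .p6, .y3, .y7, .taui, .xii, .y2, .p9, .xii, .y1, .p3, .xii, .y1, .taui, .xii, .y7, .p, .xii]⟩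

theorem h11 : Hd F (g wAp) b11 := hdP (by decide +kernel)
theorem r11_0 : R9 F (g wAp) b11 [] 0 0 := .of (startP 0 1) (by decide +kernel)
theorem r11_1 : R9 F (g wAp) b11 [] 0 1 := .of (startP 0 1) (by decide +kernel)
theorem r11_2 : R9 F (g wAp) b11 [] 0 2 := .of (startP 0 1) (by decide +kernel)
theorem r11_3 : R9 F (g wAp) b11 [] 1 0 := .of (startP 0 1) (by decide +kernel)
theorem r11_4 : R9 F (g wAp) b11 [] 1 1 := .of (startP 0 1) (by decide +kernel)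
theorem r11_5 : R9 F (g wAp) b11 [] 1 2 := .of (startP 0 1) (by decide +kernel)
theorem r11_6 : R9 F (g wAp) b11 [] 2 0 := .of (startP 0 1) (by decide +kernel)
theorem r11_7 : R9 F (g wAp) b11 [] 2 1 := .of (startP 0 1) (by decide +kernel)
theorem r11_8 : R9 F (g wAp) b11 [] 2 2 := .of (startP 0 1) (by decide +kernel)
theorem g11 : Gd F (g wAp) (0, p11) [] :=
  good9 ok h11 r11_0 r11_1 r11_2 r11_3 r11_4 r11_5 r11_6 r11_7 r11_8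

def b12 : Wd := ⟨0, p12,
  [.Z10, .Z8, .Z7, .Z6, .Z1, .X10, .X9, .X8, .X6, .X5, .X4, .X3, .X1, .X0, .y10, .y9, .y8, .y2, .p10, .hi, .p9, .hi,
   .p8, .hi, .p3, .hi, .p9, .hi, .p7, .xii, .y2, .p3, .hi, .xii, .y1, .y6, .p6, .tau, .p9, .xii, .y7, .hi, .p8, .xii,
   .y6, .taui, .xii, .p8, .xii, .y3, .y5, .p7, .xii, .tau, .xii, .y2, .p],
  [.z, .Z9, .Z8, .Z6, .Z5, .Z3, .Z1, .X9, .X7, .X3, .X2, .X0, .y10, .y4, .y3, .y2, .p, .hi, .p4, .hi, .p3, .hi, .p5,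
   .hi, .p2, .xii, .y2, .hi, .p8, .hi, .p5, .hi, .taui, .xii, .p, .xii, .y1, .hi, .xii, .y1, .y2, .taui, .y1, .p7,
   .xii, .p5, .xii, .y4, .taui, .xii, .y2, .p6, .xii, .hi, .p5, .taui, .xii, .hi, .p6],
  [.Z8, .Z5, .Z4, .Z3, .Z2, .Z1, .Z0, .X9, .X6, .X5, .X3, .X2, .X0, .y10, .y8, .y3, .y2, .y1, .p5, .hi, .p5, .hi, .p4,
   .hi, .p8, .hi, .p8, .hi, .p9, .taui, .xii, .y6, .p, .xii, .y10, .p, .xii, .y1, .y2, .taui, .X0, .p5, .xii, .p10,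
   .y5, .xii, .y7, .p8, .tau, .xii, .p10, .xii, .p2, .xii, .y1, .y5, .tau]⟩

theorem h12 : Hd F (g wAp) b12 := hdP (by decide +kernel)
theorem r12_0 : R9 F (g wAp) b12 [] 0 0 := .of (startP 0 1) (by decide +kernel)
theorem r12_1 : R9 F (g wAp) b12 [] 0 1 := .of (startP 0 1) (by decide +kernel)
theorem r12_2 : R9 F (g wAp) b12 [] 0 2 := .of (startP 0 1) (by decide +kernel)
theorem r12_3 : R9 F (g wAp) b12 [] 1 0 := .of (startP 0 1) (by decide +kernel)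
theorem r12_4 : R9 F (g wAp) b12 [] 1 1 := .of (startP 0 1) (by decide +kernel)
theorem r12_5 : R9 F (g wAp) b12 [] 1 2 := .of (startP 0 1) (by decide +kernel)
theorem r12_6 : R9 F (g wAp) b12 [] 2 0 := .of (startP 0 1) (by decide +kernel)
theorem r12_7 : R9 F (g wAp) b12 [] 2 1 := .of (startP 0 1) (by decide +kernel)
theorem r12_8 : R9 F (g wAp) b12 [] 2 2 := .of (startP 0 1) (by decide +kernel)
theorem g12 : Gd F (g wAp) (0, p12) [] :=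
  good9 ok h12 r12_0 r12_1 r12_2 r12_3 r12_4 r12_5 r12_6 r12_7 r12_8

def b13 : Wd := ⟨0, p13,
  [.Z10, .Z9, .Z8, .Z0, .X9, .X8, .X6, .X5, .X0, .y9, .y8, .y6, .y4, .y3, .y1, .p8, .hi, .p7, .hi, .p6, .hi, .p2, .hi,
   .xii, .p10, .xii, .p2, .y1, .xii, .y5, .tau, .X0, .p10, .xii, .y4, .p, .hi, .xii, .y8, .p5, .hi, .tau, .xii, .p7,
   .xii, .p10, .y7, .hi, .p2, .tau, .xii, .y2, .hi, .p6],
  [.z, .Z10, .Z6, .Z5, .Z3, .Z2, .Z0, .X10, .X9, .X8, .X6, .X5, .X3, .X2, .y7, .y6, .y5, .y3, .y2, .y1, .p, .hi, .p7,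
   .hi, .p10, .hi, .p10, .hi, .p3, .hi, .p8, .hi, .xii, .p, .xii, .y10, .p4, .hi, .p8, .taui, .X0, .y1, .p4, .xii,
   .p9, .xii, .y6, .tau, .xii, .p9, .xii, .p, .y1, .hi, .p5, .taui, .xii, .y2, .p5, .hi, .p2],
  [.Z10, .Z8, .Z6, .Z4, .Z2, .Z1, .X10, .X9, .X4, .X3, .X1, .X0, .y10, .y9, .y6, .y3, .p3, .hi, .p5, .hi, .p10, .hi,
   .p7, .hi, .p7, .hi, .p9, .xii, .y2, .p3, .hi, .xii, .y2, .tau, .y1, .xii, .p10, .xii, .y4, .p10, .xii, .y2, .y8,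
   .tau, .X0, .xii, .p4, .xii, .y10, .p8, .xii, .y3, .y4, .p, .taui, .xii, .p6, .xii, .p2, .y6, .xii, .y4, .y6, .tau,
   .xii, .p, .xii, .y2]⟩

theorem h13 : Hd F (g wAp) b13 := hdP (by decide +kernel)
theorem r13_0 : R9 F (g wAp) b13 [] 0 0 := .of (startP 0 1) (by decide +kernel)
theorem r13_1 : R9 F (g wAp) b13 [] 0 1 := .of (startP 0 1) (by decide +kernel)
theorem r13_2 : R9 F (g wAp) b13 [] 0 2 := .of (startP 0 1) (by decide +kernel)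
theorem r13_3 : R9 F (g wAp) b13 [] 1 0 := .of (startP 0 1) (by decide +kernel)
theorem r13_4 : R9 F (g wAp) b13 [] 1 1 := .of (startP 0 1) (by decide +kernel)
theorem r13_5 : R9 F (g wAp) b13 [] 1 2 := .of (startP 0 1) (by decide +kernel)
theorem r13_6 : R9 F (g wAp) b13 [] 2 0 := .of (startP 0 1) (by decide +kernel)
theorem r13_7 : R9 F (g wAp) b13 [] 2 1 := .of (startP 0 1) (by decide +kernel)
theorem r13_8 : R9 F (g wAp) b13 [] 2 2 := .of (startP 0 1) (by decide +kernel)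
theorem g13 : Gd F (g wAp) (0, p13) [] :=
  good9 ok h13 r13_0 r13_1 r13_2 r13_3 r13_4 r13_5 r13_6 r13_7 r13_8

def b14 : Wd := ⟨0, p14,
  [.z, .Z3, .Z1, .X10, .X8, .X5, .X3, .X2, .y6, .y5, .y4, .y1, .p5, .hi, .p4, .hi, .p6, .hi, .p10, .hi, .p8, .hi, .p,
   .xii, .y2, .p10, .hi, .p6, .hi, .p2, .taui, .xii, .y6, .hi, .p8, .xii, .y3, .p10, .tau, .p9, .xii, .p, .xii, .p4,
   .y9, .taui, .xii, .p5, .xii, .hi, .xii, .y3, .y6, .taui],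
  [.z, .Z9, .Z7, .Z5, .Z4, .Z3, .Z2, .Z1, .Z0, .X6, .X4, .X3, .X0, .y8, .y5, .y3, .y1, .p2, .hi, .p4, .hi, .p7, .hi,
   .p10, .hi, .p5, .xii, .hi, .xii, .y6, .p5, .xii, .taui, .xii, .p, .xii, .y10, .p2, .hi, .taui, .y1, .hi, .xii, .p2,
   .xii, .p4, .y10, .tau, .xii, .hi, .p8, .xii, .p8, .y3],
  [.Z10, .Z6, .Z5, .Z1, .Z0, .X9, .X6, .X5, .X2, .X0, .y10, .y9, .y7, .y6, .y3, .y2, .y1, .hi, .p4, .hi, .p7, .hi,
   .p3, .hi, .p, .hi, .p2, .hi, .xii, .hi, .p4, .hi, .p4, .tau, .y1, .xii, .p10, .xii, .y1, .p10, .xii, .y8, .y10,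
   .taui, .X0, .y1, .xii, .p, .xii, .y1, .hi, .xii, .y4, .y6, .tau, .xii, .p6, .xii, .y7, .hi, .xii, .y8, .taui]⟩

theorem h14 : Hd F (g wAp) b14 := hdP (by decide +kernel)
theorem r14_0 : R9 F (g wAp) b14 [] 0 0 := .of (startP 0 1) (by decide +kernel)
theorem r14_1 : R9 F (g wAp) b14 [] 0 1 := .of (startP 0 1) (by decide +kernel)
theorem r14_2 : R9 F (g wAp) b14 [] 0 2 := .of (startP 0 1) (by decide +kernel)
theorem r14_3 : R9 F (g wAp) b14 [] 1 0 := .of (startP 0 1) (by decide +kernel)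
theorem r14_4 : R9 F (g wAp) b14 [] 1 1 := .of (startP 0 1) (by decide +kernel)
theorem r14_5 : R9 F (g wAp) b14 [] 1 2 := .of (startP 0 1) (by decide +kernel)
theorem r14_6 : R9 F (g wAp) b14 [] 2 0 := .of (startP 0 1) (by decide +kernel)
theorem r14_7 : R9 F (g wAp) b14 [] 2 1 := .of (startP 0 1) (by decide +kernel)
theorem r14_8 : R9 F (g wAp) b14 [] 2 2 := .of (startP 0 1) (by decide +kernel)
theorem g14 : Gd F (g wAp) (0, p14) [] :=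
  good9 ok h14 r14_0 r14_1 r14_2 r14_3 r14_4 r14_5 r14_6 r14_7 r14_8

def b15 : Wd := ⟨0, p15,
  [.Z9, .Z7, .Z5, .Z2, .X7, .X5, .X4, .X3, .X1, .y10, .y9, .y6, .y5, .y2, .hi, .p7, .hi, .p8, .hi, .p9, .hi, .p, .hi,
   .p, .hi, .tau, .y1, .xii, .p10, .xii, .y1, .y9, .p10, .xii, .y2, .taui, .xii, .p10, .xii, .y1, .y2, .p10, .xii,
   .y1, .y3, .taui, .xii, .hi, .p8, .xii, .p5, .y6],
  [.Z9, .Z8, .Z4, .Z3, .Z2, .Z1, .X7, .X5, .X4, .y10, .y7, .y4, .p5, .hi, .p8, .hi, .p8, .hi, .p5, .hi, .p, .hi, .p2,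
   .xii, .hi, .p8, .xii, .y2, .p10, .tau, .y1, .p7, .xii, .p, .xii, .hi, .p4, .y1, .tau, .xii, .p6, .xii, .y4, .y5,
   .hi, .xii, .y4, .taui],
  [.Z9, .Z5, .Z4, .Z2, .X10, .X9, .X8, .X7, .X5, .X4, .X3, .X2, .X0, .y9, .y7, .y5, .y3, .p3, .hi, .p10, .hi, .p4,
   .hi, .p6, .hi, .p5, .xii, .y2, .p10, .hi, .p6, .hi, .p2, .tau, .xii, .p, .xii, .y2, .y10, .hi, .xii, .y5, .tau,
   .X0, .xii, .p2, .xii, .y6, .hi, .xii, .p4, .tau, .xii, .p3, .xii, .p4, .xii, .y8, .y10, .tau]⟩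

theorem h15 : Hd F (g wAp) b15 := hdP (by decide +kernel)
theorem r15_0 : R9 F (g wAp) b15 [] 0 0 := .of (startP 0 1) (by decide +kernel)
theorem r15_1 : R9 F (g wAp) b15 [] 0 1 := .of (startP 0 1) (by decide +kernel)
theorem r15_2 : R9 F (g wAp) b15 [] 0 2 := .of (startP 0 1) (by decide +kernel)
theorem r15_3 : R9 F (g wAp) b15 [] 1 0 := .of (startP 0 1) (by decide +kernel)
theorem r15_4 : R9 F (g wAp) b15 [] 1 1 := .of (startP 0 1) (by decide +kernel)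
theorem r15_5 : R9 F (g wAp) b15 [] 1 2 := .of (startP 0 1) (by decide +kernel)
theorem r15_6 : R9 F (g wAp) b15 [] 2 0 := .of (startP 0 1) (by decide +kernel)
theorem r15_7 : R9 F (g wAp) b15 [] 2 1 := .of (startP 0 1) (by decide +kernel)
theorem r15_8 : R9 F (g wAp) b15 [] 2 2 := .of (startP 0 1) (by decide +kernel)
theorem g15 : Gd F (g wAp) (0, p15) [] :=
  good9 ok h15 r15_0 r15_1 r15_2 r15_3 r15_4 r15_5 r15_6 r15_7 r15_8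

def b16 : Wd := ⟨0, p16,
  [.Z9, .Z7, .Z3, .Z1, .X8, .X7, .X5, .X4, .X3, .y8, .y6, .y2, .y1, .p6, .hi, .p, .hi, .p7, .hi, .p10, .hi, .p, .xii,
   .hi, .p8, .xii, .y9, .tau, .xii, .y1, .p3, .hi, .xii, .y2, .p10, .tau, .p4, .xii, .p4, .xii, .p5, .taui, .xii, .p9,
   .xii, .y1, .y8, .hi, .xii, .y8, .taui],
  [.Z10, .Z9, .Z7, .Z1, .Z0, .X10, .X9, .X6, .X3, .X1, .X0, .y9, .y8, .y7, .y6, .y5, .y3, .y2, .p8, .hi, .p4, .hi,
   .p7, .hi, .p3, .hi, .p7, .hi, .p2, .xii, .hi, .xii, .p10, .y8, .taui, .p2, .xii, .p2, .hi, .xii, .y8, .p2, .taui,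
   .xii, .p6, .xii, .y2, .p4, .xii],
  [.z, .Z10, .Z7, .Z6, .Z4, .Z3, .Z0, .X10, .X8, .X6, .X5, .X2, .X0, .y8, .y6, .y5, .p9, .hi, .p10, .hi, .p5, .hi,
   .p10, .hi, .p7, .xii, .p5, .hi, .p5, .tau, .y1, .xii, .p10, .xii, .y1, .p10, .xii, .y4, .tau, .xii, .p2, .xii, .y1,
   .hi, .y7, .xii, .y10, .p2, .tau, .xii, .p9, .xii, .p8, .xii, .y6, .taui]⟩

theorem h16 : Hd F (g wAp) b16 := hdP (by decide +kernel)
theorem r16_0 : R9 F (g wAp) b16 [] 0 0 := .of (startP 0 1) (by decide +kernel)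
theorem r16_1 : R9 F (g wAp) b16 [] 0 1 := .of (startP 0 1) (by decide +kernel)
theorem r16_2 : R9 F (g wAp) b16 [] 0 2 := .of (startP 0 1) (by decide +kernel)
theorem r16_3 : R9 F (g wAp) b16 [] 1 0 := .of (startP 0 1) (by decide +kernel)
theorem r16_4 : R9 F (g wAp) b16 [] 1 1 := .of (startP 0 1) (by decide +kernel)
theorem r16_5 : R9 F (g wAp) b16 [] 1 2 := .of (startP 0 1) (by decide +kernel)
theorem r16_6 : R9 F (g wAp) b16 [] 2 0 := .of (startP 0 1) (by decide +kernel)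
theorem r16_7 : R9 F (g wAp) b16 [] 2 1 := .of (startP 0 2) (by decide +kernel)
theorem r16_8 : R9 F (g wAp) b16 [] 2 2 := .of (startP 0 2) (by decide +kernel)
theorem g16 : Gd F (g wAp) (0, p16) [] :=
  good9 ok h16 r16_0 r16_1 r16_2 r16_3 r16_4 r16_5 r16_6 r16_7 r16_8

def b17 : Wd := ⟨0, p17,
  [.Z9, .Z7, .Z5, .Z4, .Z1, .Z0, .X7, .X5, .X3, .X0, .y9, .y8, .y7, .y5, .y4, .p4, .hi, .p6, .hi, .p7, .hi, .p4, .hi,
   .p10, .xii, .p2, .hi, .tau, .xii, .y2, .p, .xii, .y2, .hi, .xii, .y5, .taui, .X0, .p8, .xii, .p3, .y8, .xii, .y5,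
   .hi, .p, .taui, .xii, .p7, .xii, .y1, .y2, .p10, .hi, .p8, .taui, .xii, .y2, .p10, .hi, .p4],
  [.Z10, .Z7, .Z3, .Z1, .Z0, .X5, .X3, .X0, .y10, .y7, .y6, .y5, .y4, .p3, .hi, .p9, .hi, .p10, .hi, .p3, .xii, .y2,
   .p10, .xii, .y2, .tau, .xii, .y6, .p, .xii, .y10, .p, .xii, .y1, .tau, .X0, .p6, .xii, .y2, .p8, .xii, .y5, .p9,
   .tau, .xii, .y2, .p7, .xii, .y1, .p3, .xii, .y6, .taui, .xii, .y7, .p6, .xii, .y8],
  [.Z10, .Z8, .Z7, .Z6, .Z5, .Z2, .X9, .X6, .X5, .X1, .y10, .y9, .y7, .y5, .y3, .y1, .hi, .p7, .hi, .p9, .hi, .p, .hi,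
   .p5, .hi, .p, .xii, .p2, .hi, .taui, .xii, .y1, .p, .xii, .y4, .p, .xii, .y5, .taui, .X0, .p10, .xii, .p5, .xii,
   .y5, .p4, .hi, .p6, .tau, .xii, .y2, .p4, .xii, .y1, .p2, .hi, .p, .tau, .xii, .y2, .p8]⟩

theorem h17 : Hd F (g wAp) b17 := hdP (by decide +kernel)
theorem r17_0 : R9 F (g wAp) b17 [] 0 0 := .of (startP 0 1) (by decide +kernel)
theorem r17_1 : R9 F (g wAp) b17 [] 0 1 := .of (startP 0 2) (by decide +kernel)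
theorem r17_2 : R9 F (g wAp) b17 [] 0 2 := .of (startP 0 1) (by decide +kernel)
theorem r17_3 : R9 F (g wAp) b17 [] 1 0 := .of (startP 0 1) (by decide +kernel)
theorem r17_4 : R9 F (g wAp) b17 [] 1 1 := .of (startP 0 1) (by decide +kernel)
theorem r17_5 : R9 F (g wAp) b17 [] 1 2 := .of (startP 0 1) (by decide +kernel)
theorem r17_6 : R9 F (g wAp) b17 [] 2 0 := .of (startP 0 1) (by decide +kernel)
theorem r17_7 : R9 F (g wAp) b17 [] 2 1 := .of (startP 0 1) (by decide +kernel)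
theorem r17_8 : R9 F (g wAp) b17 [] 2 2 := .of (startP 0 1) (by decide +kernel)
theorem g17 : Gd F (g wAp) (0, p17) [] :=
  good9 ok h17 r17_0 r17_1 r17_2 r17_3 r17_4 r17_5 r17_6 r17_7 r17_8

def b18 : Wd := ⟨0, p18,
  [.Z10, .Z9, .Z7, .Z5, .Z2, .Z1, .X10, .X8, .X6, .X5, .X4, .X3, .X2, .X0, .y10, .y8, .y7, .y3, .y1, .p, .hi, .p6,
   .hi, .p7, .hi, .p10, .hi, .p10, .hi, .p8, .xii, .p, .xii, .hi, .p4, .y2, .taui, .y1, .xii, .y2, .hi, .xii, .p10,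
   .xii, .y1, .y7, .tau, .X0, .p9, .xii, .y6, .p2, .xii, .p3, .taui, .xii, .y2, .p9, .xii, .y3, .p, .xii, .tau, .xii,
   .p4, .xii, .y1],
  [.Z8, .Z7, .Z6, .Z4, .Z3, .Z0, .X9, .X6, .X4, .X1, .y10, .y9, .y5, .y2, .y1, .p10, .hi, .p10, .hi, .p7, .hi, .p,
   .hi, .p10, .xii, .p5, .hi, .p5, .tau, .xii, .y2, .p, .xii, .y4, .hi, .xii, .y2, .y7, .taui, .X0, .p4, .xii, .y4,
   .p7, .xii, .hi, .p7, .y10, .tau, .xii, .p9, .xii, .y4, .p9, .xii, .y1, .y8, .taui],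
  [.Z0, .X7, .X5, .X0, .y9, .y8, .y7, .y2, .y1, .p2, .hi, .p4, .hi, .p8, .hi, .p4, .hi, .p10, .hi, .p10, .hi, .xii,
   .y2, .p10, .xii, .y1, .p9, .xii, .y5, .tau, .xii, .y6, .p3, .hi, .xii, .y1, .p2, .hi, .tau, .p7, .xii, .p5, .xii,
   .hi, .y7, .p7, .tau, .xii, .y2, .p7, .xii, .y5, .p9, .xii, .y5, .y9, .taui, .xii, .p7, .xii, .y8]⟩

theorem h18 : Hd F (g wAp) b18 := hdP (by decide +kernel)
theorem r18_0 : R9 F (g wAp) b18 [] 0 0 := .of (startP 0 1) (by decide +kernel)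
theorem r18_1 : R9 F (g wAp) b18 [] 0 1 := .of (startP 0 1) (by decide +kernel)
theorem r18_2 : R9 F (g wAp) b18 [] 0 2 := .of (startP 0 1) (by decide +kernel)
theorem r18_3 : R9 F (g wAp) b18 [] 1 0 := .of (startP 0 1) (by decide +kernel)
theorem r18_4 : R9 F (g wAp) b18 [] 1 1 := .of (startP 0 1) (by decide +kernel)
theorem r18_5 : R9 F (g wAp) b18 [] 1 2 := .of (startP 0 1) (by decide +kernel)
theorem r18_6 : R9 F (g wAp) b18 [] 2 0 := .of (startP 0 1) (by decide +kernel)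
theorem r18_7 : R9 F (g wAp) b18 [] 2 1 := .of (startP 0 1) (by decide +kernel)
theorem r18_8 : R9 F (g wAp) b18 [] 2 2 := .of (startP 0 1) (by decide +kernel)
theorem g18 : Gd F (g wAp) (0, p18) [] :=
  good9 ok h18 r18_0 r18_1 r18_2 r18_3 r18_4 r18_5 r18_6 r18_7 r18_8

def b19 : Wd := ⟨0, p19,
  [.Z9, .Z8, .Z6, .Z3, .Z0, .X9, .X5, .X4, .y10, .y9, .y8, .y7, .y6, .y5, .y4, .y2, .y1, .hi, .p4, .hi, .p5, .hi,
   .p10, .hi, .p3, .hi, .p6, .hi, .xii, .p5, .hi, .p5, .tau, .X0, .xii, .p4, .xii, .y3, .y7, .p5, .xii, .y3, .y9,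
   .y10, .taui, .xii, .y2, .p2, .hi, .xii, .y8, .p9],
  [.Z9, .Z8, .Z7, .Z5, .Z4, .Z2, .X10, .X6, .X5, .X4, .X2, .X0, .y9, .y8, .y6, .y5, .y4, .y3, .y1, .p6, .hi, .p10,
   .hi, .p3, .hi, .p7, .hi, .p7, .xii, .p, .xii, .p9, .y1, .xii, .taui, .xii, .y6, .p, .xii, .y1, .taui, .p7, .xii,
   .hi, .xii, .y7, .y8, .taui, .xii, .p7, .xii, .y5, .y9, .p9, .xii, .y2],
  [.z, .Z10, .Z9, .Z8, .Z3, .Z1, .X7, .X2, .X1, .y10, .y9, .y7, .y6, .y3, .y2, .y1, .hi, .p7, .hi, .p10, .hi, .p5,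
   .hi, .p7, .hi, .xii, .p10, .xii, .p5, .y3, .xii, .y9, .taui, .xii, .y1, .p, .xii, .p, .y7, .xii, .y4, .y5, .taui,
   .y1, .xii, .p6, .xii, .y2, .hi, .xii, .y3, .p8, .taui, .xii, .hi, .p7, .xii, .p4, .y8]⟩

theorem h19 : Hd F (g wAp) b19 := hdP (by decide +kernel)
theorem r19_0 : R9 F (g wAp) b19 [] 0 0 := .of (startP 0 1) (by decide +kernel)
theorem r19_1 : R9 F (g wAp) b19 [] 0 1 := .of (startP 0 1) (by decide +kernel)
theorem r19_2 : R9 F (g wAp) b19 [] 0 2 := .of (startP 0 1) (by decide +kernel)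
theorem r19_3 : R9 F (g wAp) b19 [] 1 0 := .of (startP 0 1) (by decide +kernel)
theorem r19_4 : R9 F (g wAp) b19 [] 1 1 := .of (startP 0 1) (by decide +kernel)
theorem r19_5 : R9 F (g wAp) b19 [] 1 2 := .of (startP 0 1) (by decide +kernel)
theorem r19_6 : R9 F (g wAp) b19 [] 2 0 := .of (startP 0 1) (by decide +kernel)
theorem r19_7 : R9 F (g wAp) b19 [] 2 1 := .of (startP 0 1) (by decide +kernel)
theorem r19_8 : R9 F (g wAp) b19 [] 2 2 := .of (startP 0 1) (by decide +kernel)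
theorem g19 : Gd F (g wAp) (0, p19) [] :=
  good9 ok h19 r19_0 r19_1 r19_2 r19_3 r19_4 r19_5 r19_6 r19_7 r19_8

theorem all : AllG F (g wAp) LP1 :=
  .cons g10 (.cons g11 (.cons g12 (.cons g13 (.cons g14 (.cons g15 (.cons g16 (.cons g17 (.cons g18 (.cons g19 (.nil))))))))))

end Cfsg.Agent.BX.No33.Bk.P1
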