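import Cfsg.Agent.BX.No33.Cheap
set_option linter.all false

/-!
# Tests, pure case, part 11 (helper5; generated)
-/

set_option autoImplicit false
set_option maxRecDepth 100000
set_option Elab.async false

namespace Cfsg.Agent.BX.No33.Bk.P11

open Cfsg.Agent.H819.U33 Cfsg.Agent.BX.No33.Front

def b110 : Wd := ⟨0, p110,
  [.z, .Z9, .Z1, .Z0, .X9, .X8, .X7, .X6, .X5, .X3, .X1, .X0, .y10, .y3, .p7, .hi, .p6, .hi, .p3, .hi, .p6, .hi, .p10,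
   .hi, .p, .xii, .p, .xii, .y6, .p7, .xii, .tau, .y1, .xii, .y2, .hi, .xii, .p10, .xii, .taui, .hi, .xii, .hi, .p8,
   .xii, .y3, .p7, .y5, .taui, .xii, .p4, .xii, .p5, .hi, .p10, .y7, .tau, .xii, .hi, .p10, .hi],
  [.Z10, .Z9, .Z6, .Z5, .Z2, .Z1, .Z0, .X10, .X9, .X8, .X7, .X5, .X4, .X3, .X0, .y9, .y5, .p7, .hi, .p3, .hi, .p4,
   .hi, .p6, .hi, .xii, .hi, .xii, .p5, .y7, .tau, .y1, .xii, .p10, .xii, .y1, .p10, .xii, .y1, .y6, .tau, .X0, .xii,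
   .y6, .p4, .xii, .p8, .y5, .xii, .y1, .y2, .y7, .taui, .xii, .p4, .xii, .y1, .p6, .xii, .y10],
  [.Z10, .Z9, .Z8, .Z5, .Z4, .Z2, .Z0, .X8, .X7, .X5, .X0, .y10, .y9, .y8, .y7, .y3, .y2, .hi, .p4, .hi, .p8, .hi,
   .p3, .hi, .p4, .hi, .p10, .hi, .xii, .p10, .xii, .y9, .tau, .y1, .xii, .y2, .hi, .xii, .y9, .p10, .xii, .y4, .taui,
   .y1, .xii, .p10, .xii, .y4, .p10, .xii, .y8, .tau, .p8, .xii, .y8, .p4, .xii, .y1, .tau, .xii, .y2, .p7, .xii, .y6,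
   .p, .taui, .xii, .y2, .p7]⟩

theorem h110 : Hd F (g wAp) b110 := hdP (by decide +kernel)
theorem r110_0 : R9 F (g wAp) b110 [] 0 0 := .of (startP 0 1) (by decide +kernel)
theorem r110_1 : R9 F (g wAp) b110 [] 0 1 := .of (startP 0 1) (by decide +kernel)
theorem r110_2 : R9 F (g wAp) b110 [] 0 2 := .of (startP 0 1) (by decide +kernel)
theorem r110_3 : R9 F (g wAp) b110 [] 1 0 := .of (startP 0 1) (by decide +kernel)
theorem r110_4 : R9 F (g wAp) b110 [] 1 1 := .of (startP 0 1) (by decide +kernel)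
theorem r110_5 : R9 F (g wAp) b110 [] 1 2 := .of (startP 0 1) (by decide +kernel)
theorem r110_6 : R9 F (g wAp) b110 [] 2 0 := .of (startP 0 1) (by decide +kernel)
theorem r110_7 : R9 F (g wAp) b110 [] 2 1 := .of (startP 0 1) (by decide +kernel)
theorem r110_8 : R9 F (g wAp) b110 [] 2 2 := .of (startP 0 1) (by decide +kernel)
theorem g110 : Gd F (g wAp) (0, p110) [] :=
  good9 ok h110 r110_0 r110_1 r110_2 r110_3 r110_4 r110_5 r110_6 r110_7 r110_8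

def b111 : Wd := ⟨0, p111,
  [.z, .Z9, .Z8, .Z4, .Z3, .Z0, .X8, .X5, .X4, .X2, .y5, .y4, .y3, .y2, .y1, .hi, .p8, .hi, .p10, .hi, .p3, .hi, .p6,
   .hi, .p10, .hi, .xii, .p10, .xii, .y6, .p2, .xii, .y5, .tau, .xii, .y1, .p, .xii, .p, .xii, .y5, .tau, .p10, .xii,
   .y8, .p8, .xii, .p2, .hi, .tau, .xii, .p4, .hi, .xii, .y1, .y2, .tau, .xii, .p7],
  [.Z10, .Z9, .Z4, .Z2, .X8, .X7, .X6, .X3, .X0, .y9, .y6, .y5, .y4, .y3, .y2, .p10, .hi, .p10, .hi, .p4, .hi, .p4,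
   .hi, .p6, .hi, .p6, .xii, .y2, .hi, .p10, .taui, .xii, .y1, .p, .xii, .p, .y7, .xii, .y5, .taui, .X0, .p6, .xii,
   .p5, .xii, .p3, .y9, .taui, .xii, .p9, .xii, .y7, .p, .y2, .taui, .xii, .p10, .hi, .p4],
  [.Z8, .Z6, .Z5, .Z4, .X5, .X4, .X1, .X0, .y10, .y7, .y5, .y4, .y3, .y2, .p3, .hi, .p6, .hi, .p8, .hi, .p8, .hi, .p9,
   .hi, .xii, .p, .xii, .y4, .p4, .xii, .y9, .taui, .xii, .y1, .p, .xii, .p, .xii, .y1, .tau, .p4, .xii, .p7, .xii,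
   .y1, .y8, .p5, .hi, .taui, .xii, .p6, .xii, .y5, .p2, .hi, .p9, .tau, .xii, .p10, .hi, .p10]⟩

theorem h111 : Hd F (g wAp) b111 := hdP (by decide +kernel)
theorem r111_0 : R9 F (g wAp) b111 [] 0 0 := .of (startP 0 1) (by decide +kernel)
theorem r111_1 : R9 F (g wAp) b111 [] 0 1 := .of (startP 0 1) (by decide +kernel)
theorem r111_2 : R9 F (g wAp) b111 [] 0 2 := .of (startP 0 2) (by decide +kernel)
theorem r111_3 : R9 F (g wAp) b111 [] 1 0 := .of (startP 0 1) (by decide +kernel)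
theorem r111_4 : R9 F (g wAp) b111 [] 1 1 := .of (startP 0 1) (by decide +kernel)
theorem r111_5 : R9 F (g wAp) b111 [] 1 2 := .of (startP 0 1) (by decide +kernel)
theorem r111_6 : R9 F (g wAp) b111 [] 2 0 := .of (startP 0 1) (by decide +kernel)
theorem r111_7 : R9 F (g wAp) b111 [] 2 1 := .of (startP 0 1) (by decide +kernel)
theorem r111_8 : R9 F (g wAp) b111 [] 2 2 := .of (startP 0 1) (by decide +kernel)
theorem g111 : Gd F (g wAp) (0, p111) [] :=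
  good9 ok h111 r111_0 r111_1 r111_2 r111_3 r111_4 r111_5 r111_6 r111_7 r111_8

def b112 : Wd := ⟨0, p112,
  [.Z9, .Z8, .Z7, .Z5, .Z3, .Z1, .X9, .X8, .X5, .X0, .y9, .y8, .y6, .y4, .y1, .p8, .hi, .p10, .hi, .p2, .hi, .p6, .hi,
   .p8, .hi, .p7, .hi, .xii, .p10, .hi, .p8, .tau, .p10, .xii, .y6, .hi, .xii, .p5, .taui, .X0, .y1, .p8, .xii, .y2,
   .p, .hi, .xii, .taui, .xii, .p6, .xii, .y6, .p10, .xii, .y3, .y9, .taui],
  [.z, .Z10, .Z8, .Z7, .Z6, .Z5, .Z4, .Z3, .Z1, .Z0, .X9, .X6, .X4, .X1, .y9, .y8, .y6, .y5, .y4, .y3, .y2, .y1, .p9,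
   .hi, .p7, .hi, .p3, .hi, .p10, .hi, .xii, .y2, .p3, .hi, .xii, .taui, .X0, .xii, .y2, .p4, .xii, .hi, .p8, .y10,
   .xii, .tau, .xii, .p9, .xii, .y4, .p8, .xii, .y3, .tau],
  [.Z10, .Z8, .Z7, .Z4, .Z2, .Z0, .X6, .X3, .X2, .y10, .y9, .y8, .y7, .y6, .y4, .y2, .y1, .p4, .hi, .p10, .hi, .p9,
   .hi, .p5, .hi, .p10, .hi, .p3, .hi, .xii, .p, .xii, .y1, .y10, .taui, .y1, .xii, .y1, .p10, .xii, .y4, .tau, .X0,
   .y1, .p2, .xii, .p, .xii, .y1, .y8, .tau, .xii, .p9, .xii, .y3, .hi, .xii, .y6, .y7, .taui]⟩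

theorem h112 : Hd F (g wAp) b112 := hdP (by decide +kernel)
theorem r112_0 : R9 F (g wAp) b112 [] 0 0 := .of (startP 0 1) (by decide +kernel)
theorem r112_1 : R9 F (g wAp) b112 [] 0 1 := .of (startP 0 1) (by decide +kernel)
theorem r112_2 : R9 F (g wAp) b112 [] 0 2 := .of (startP 0 1) (by decide +kernel)
theorem r112_3 : R9 F (g wAp) b112 [] 1 0 := .of (startP 0 1) (by decide +kernel)
theorem r112_4 : R9 F (g wAp) b112 [] 1 1 := .of (startP 0 1) (by decide +kernel)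
theorem r112_5 : R9 F (g wAp) b112 [] 1 2 := .of (startP 0 1) (by decide +kernel)
theorem r112_6 : R9 F (g wAp) b112 [] 2 0 := .of (startP 0 1) (by decide +kernel)
theorem r112_7 : R9 F (g wAp) b112 [] 2 1 := .of (startP 0 1) (by decide +kernel)
theorem r112_8 : R9 F (g wAp) b112 [] 2 2 := .of (startP 0 1) (by decide +kernel)
theorem g112 : Gd F (g wAp) (0, p112) [] :=
  good9 ok h112 r112_0 r112_1 r112_2 r112_3 r112_4 r112_5 r112_6 r112_7 r112_8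

def b113 : Wd := ⟨0, p113,
  [.z, .Z7, .Z3, .Z0, .X4, .X3, .X2, .X1, .y7, .y5, .y2, .y1, .hi, .p2, .hi, .p3, .hi, .p4, .hi, .p6, .hi, .p7, .xii,
   .y2, .p, .hi, .xii, .p4, .hi, .p10, .taui, .xii, .y2, .p, .xii, .y1, .hi, .xii, .y1, .y4, .tau, .X0, .xii, .y2,
   .p4, .xii, .p4, .y5, .xii, .y4, .y5, .tau, .xii, .p6, .xii, .y7, .p10, .xii, .y2, .taui],
  [.Z5, .Z2, .Z0, .X10, .X7, .X6, .X5, .X4, .X3, .X1, .X0, .y10, .y8, .y7, .y4, .y3, .y2, .y1, .p5, .hi, .p6, .hi,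
   .p9, .hi, .p4, .hi, .p10, .hi, .p2, .hi, .xii, .y2, .p10, .xii, .y10, .p3, .hi, .taui, .X0, .p7, .xii, .p7, .xii,
   .hi, .y9, .p, .y5, .tau, .xii, .p7, .xii, .y1, .y5, .p, .hi, .tau, .xii, .p4, .hi, .p2],
  [.Z10, .Z9, .Z6, .Z3, .Z2, .Z1, .Z0, .X5, .X4, .X3, .X2, .X1, .X0, .y10, .y6, .y3, .p10, .hi, .p, .hi, .p6, .hi,
   .p9, .hi, .p4, .xii, .y2, .hi, .p4, .hi, .p4, .taui, .xii, .p, .xii, .y2, .hi, .xii, .y3, .y4, .taui, .xii, .p,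
   .xii, .y2, .y10, .hi, .xii, .y5, .tau, .X0, .p10, .xii, .y7, .p5, .xii, .y7, .tau, .xii, .p4, .hi, .xii, .hi, .y8,
   .y9, .taui, .xii, .y2, .hi, .p8]⟩

theorem h113 : Hd F (g wAp) b113 := hdP (by decide +kernel)
theorem r113_0 : R9 F (g wAp) b113 [] 0 0 := .of (startP 0 1) (by decide +kernel)
theorem r113_1 : R9 F (g wAp) b113 [] 0 1 := .of (startP 0 1) (by decide +kernel)
theorem r113_2 : R9 F (g wAp) b113 [] 0 2 := .of (startP 0 1) (by decide +kernel)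
theorem r113_3 : R9 F (g wAp) b113 [] 1 0 := .of (startP 0 1) (by decide +kernel)
theorem r113_4 : R9 F (g wAp) b113 [] 1 1 := .of (startP 0 1) (by decide +kernel)
theorem r113_5 : R9 F (g wAp) b113 [] 1 2 := .of (startP 0 1) (by decide +kernel)
theorem r113_6 : R9 F (g wAp) b113 [] 2 0 := .of (startP 0 1) (by decide +kernel)
theorem r113_7 : R9 F (g wAp) b113 [] 2 1 := .of (startP 0 1) (by decide +kernel)
theorem r113_8 : R9 F (g wAp) b113 [] 2 2 := .of (startP 0 1) (by decide +kernel)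
theorem g113 : Gd F (g wAp) (0, p113) [] :=
  good9 ok h113 r113_0 r113_1 r113_2 r113_3 r113_4 r113_5 r113_6 r113_7 r113_8

def b114 : Wd := ⟨0, p114,
  [.z, .Z9, .Z7, .Z4, .X8, .X6, .X5, .X2, .X0, .y9, .y3, .y2, .y1, .p4, .hi, .p8, .hi, .p5, .hi, .p8, .hi, .p7, .hi,
   .p, .hi, .xii, .p10, .xii, .y9, .taui, .X0, .hi, .xii, .hi, .xii, .p8, .y8, .tau, .X0, .p4, .xii, .p9, .xii, .y9,
   .p5, .tau, .xii, .p5, .xii, .y5, .p2, .y7, .xii, .y4, .tau, .xii, .p, .xii, .y6],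
  [.z, .Z9, .Z8, .Z6, .Z4, .Z3, .Z0, .X10, .X9, .X5, .X4, .X3, .X2, .X1, .y10, .y5, .y2, .hi, .p9, .hi, .p10, .hi,
   .p6, .hi, .p10, .hi, .p9, .hi, .xii, .p2, .hi, .xii, .y4, .p3, .taui, .xii, .p, .xii, .y3, .hi, .xii, .y5, .tau,
   .X0, .y1, .xii, .y6, .p, .xii, .y4, .p9, .tau, .xii, .y2, .hi, .p6],
  [.z, .Z7, .Z5, .Z2, .Z0, .X10, .X9, .X8, .X7, .X6, .X4, .X3, .X1, .X0, .y9, .y8, .y7, .y6, .y5, .y4, .y3, .p3, .hi,
   .p4, .hi, .p8, .hi, .p4, .hi, .p8, .hi, .p, .hi, .xii, .p10, .xii, .y8, .p6, .xii, .y3, .tau, .y1, .xii, .y2, .hi,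
   .xii, .p10, .xii, .tau, .y1, .xii, .p3, .xii, .y8, .hi, .xii, .y1, .y5, .taui, .xii, .p5, .xii, .p4, .y2, .hi]⟩

theorem h114 : Hd F (g wAp) b114 := hdP (by decide +kernel)
theorem r114_0 : R9 F (g wAp) b114 [] 0 0 := .of (startP 0 1) (by decide +kernel)
theorem r114_1 : R9 F (g wAp) b114 [] 0 1 := .of (startP 0 1) (by decide +kernel)
theorem r114_2 : R9 F (g wAp) b114 [] 0 2 := .of (startP 0 1) (by decide +kernel)
theorem r114_3 : R9 F (g wAp) b114 [] 1 0 := .of (startP 0 1) (by decide +kernel)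
theorem r114_4 : R9 F (g wAp) b114 [] 1 1 := .of (startP 0 1) (by decide +kernel)
theorem r114_5 : R9 F (g wAp) b114 [] 1 2 := .of (startP 0 1) (by decide +kernel)
theorem r114_6 : R9 F (g wAp) b114 [] 2 0 := .of (startP 0 1) (by decide +kernel)
theorem r114_7 : R9 F (g wAp) b114 [] 2 1 := .of (startP 0 1) (by decide +kernel)
theorem r114_8 : R9 F (g wAp) b114 [] 2 2 := .of (startP 0 1) (by decide +kernel)
theorem g114 : Gd F (g wAp) (0, p114) [] :=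
  good9 ok h114 r114_0 r114_1 r114_2 r114_3 r114_4 r114_5 r114_6 r114_7 r114_8

def b115 : Wd := ⟨0, p115,
  [.Z10, .Z8, .Z7, .Z5, .Z3, .Z2, .X8, .X7, .X4, .X0, .y10, .y8, .y7, .y6, .y5, .y4, .y3, .y2, .p6, .hi, .p9, .hi,
   .p5, .hi, .p6, .hi, .p9, .tau, .y1, .xii, .y1, .hi, .xii, .y6, .p10, .xii, .y4, .taui, .X0, .p9, .xii, .y10, .p4,
   .xii, .y2, .p4, .xii, .y9, .tau, .xii, .y2, .p4, .xii, .y5, .p8, .xii, .y2, .tau, .xii, .y4, .p8],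
  [.z, .Z7, .Z6, .Z5, .Z3, .Z2, .Z1, .X10, .X9, .X6, .X3, .X2, .X1, .y9, .y8, .y7, .y6, .y5, .y4, .y3, .p4, .hi, .p5,
   .hi, .p10, .hi, .p, .hi, .p3, .hi, .p9, .hi, .xii, .tau, .xii, .y1, .p, .xii, .p, .y7, .xii, .y4, .y5, .taui, .xii,
   .p2, .xii, .y1, .y6, .p4, .xii, .y3, .y5, .taui, .xii, .p, .xii, .p4, .xii, .y1, .y8],
  [.Z9, .Z7, .Z6, .Z5, .Z4, .Z3, .Z1, .Z0, .X10, .X9, .X7, .X6, .X3, .y10, .y7, .y6, .y5, .y4, .y1, .p10, .hi, .p7,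
   .hi, .p10, .hi, .p7, .hi, .p4, .hi, .p6, .hi, .p2, .hi, .xii, .hi, .p8, .xii, .y4, .p2, .taui, .xii, .p, .xii, .y4,
   .y10, .hi, .xii, .y6, .taui, .xii, .p8, .xii, .y5, .p4, .y2, .xii, .y1, .y10, .taui, .xii, .p4, .xii, .p5, .xii,
   .y3, .y5, .taui, .xii, .p6]⟩

theorem h115 : Hd F (g wAp) b115 := hdP (by decide +kernel)
theorem r115_0 : R9 F (g wAp) b115 [] 0 0 := .of (startP 0 1) (by decide +kernel)
theorem r115_1 : R9 F (g wAp) b115 [] 0 1 := .of (startP 0 1) (by decide +kernel)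
theorem r115_2 : R9 F (g wAp) b115 [] 0 2 := .of (startP 0 1) (by decide +kernel)
theorem r115_3 : R9 F (g wAp) b115 [] 1 0 := .of (startP 0 1) (by decide +kernel)
theorem r115_4 : R9 F (g wAp) b115 [] 1 1 := .of (startP 0 1) (by decide +kernel)
theorem r115_5 : R9 F (g wAp) b115 [] 1 2 := .of (startP 0 1) (by decide +kernel)
theorem r115_6 : R9 F (g wAp) b115 [] 2 0 := .of (startP 0 1) (by decide +kernel)
theorem r115_7 : R9 F (g wAp) b115 [] 2 1 := .of (startP 0 1) (by decide +kernel)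
theorem r115_8 : R9 F (g wAp) b115 [] 2 2 := .of (startP 0 1) (by decide +kernel)
theorem g115 : Gd F (g wAp) (0, p115) [] :=
  good9 ok h115 r115_0 r115_1 r115_2 r115_3 r115_4 r115_5 r115_6 r115_7 r115_8

def b116 : Wd := ⟨0, p116,
  [.Z10, .Z9, .Z7, .Z6, .Z0, .X7, .X6, .X3, .X2, .y9, .y4, .hi, .p7, .hi, .p5, .hi, .p10, .hi, .p8, .hi, .p5, .hi,
   .xii, .y2, .p10, .xii, .y1, .p9, .xii, .y1, .taui, .y1, .xii, .p10, .xii, .y1, .p10, .xii, .y1, .y6, .taui, .X0,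
   .y1, .xii, .p2, .xii, .p2, .y10, .xii, .y10, .p9, .tau, .xii, .p5, .xii, .p2, .y3, .xii, .y4, .taui, .xii, .y7, .p],
  [.Z10, .Z7, .Z4, .Z1, .X10, .X6, .X5, .y9, .y6, .y5, .y4, .p4, .hi, .p9, .hi, .p3, .hi, .p, .hi, .p9, .xii, .y2,
   .hi, .p8, .xii, .taui, .y1, .xii, .p10, .xii, .y8, .p10, .xii, .y2, .y8, .tau, .p8, .xii, .y7, .hi, .p8, .xii, .y3,
   .p6, .tau, .xii, .p8, .xii, .y5, .p4, .taui, .xii, .y2, .p3],
  [.Z10, .Z8, .Z6, .Z5, .Z4, .Z2, .X5, .X4, .X3, .X0, .y9, .y7, .y4, .y3, .y2, .y1, .p4, .hi, .p4, .hi, .p3, .hi, .p7,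
   .hi, .p9, .xii, .p, .xii, .y3, .p7, .taui, .y1, .xii, .y2, .hi, .xii, .p10, .xii, .taui, .X0, .p7, .xii, .y2, .p3,
   .xii, .hi, .xii, .y1, .taui, .xii, .y2, .p5, .xii, .p7, .y5, .xii, .y4, .tau, .xii, .p5, .xii]⟩

theorem h116 : Hd F (g wAp) b116 := hdP (by decide +kernel)
theorem r116_0 : R9 F (g wAp) b116 [] 0 0 := .of (startP 0 1) (by decide +kernel)
theorem r116_1 : R9 F (g wAp) b116 [] 0 1 := .of (startP 0 1) (by decide +kernel)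
theorem r116_2 : R9 F (g wAp) b116 [] 0 2 := .of (startP 0 1) (by decide +kernel)
theorem r116_3 : R9 F (g wAp) b116 [] 1 0 := .of (startP 0 1) (by decide +kernel)
theorem r116_4 : R9 F (g wAp) b116 [] 1 1 := .of (startP 0 1) (by decide +kernel)
theorem r116_5 : R9 F (g wAp) b116 [] 1 2 := .of (startP 0 1) (by decide +kernel)
theorem r116_6 : R9 F (g wAp) b116 [] 2 0 := .of (startP 0 1) (by decide +kernel)
theorem r116_7 : R9 F (g wAp) b116 [] 2 1 := .of (startP 0 1) (by decide +kernel)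
theorem r116_8 : R9 F (g wAp) b116 [] 2 2 := .of (startP 0 1) (by decide +kernel)
theorem g116 : Gd F (g wAp) (0, p116) [] :=
  good9 ok h116 r116_0 r116_1 r116_2 r116_3 r116_4 r116_5 r116_6 r116_7 r116_8

def b117 : Wd := ⟨0, p117,
  [.z, .Z9, .Z8, .Z7, .Z6, .Z3, .Z1, .X10, .X9, .X8, .X7, .X3, .X0, .y10, .y7, .y5, .y4, .p7, .hi, .p6, .hi, .p6, .hi,
   .p, .hi, .p3, .hi, .p8, .hi, .xii, .p10, .xii, .y6, .p8, .taui, .xii, .y6, .p, .xii, .p, .xii, .y2, .y4, .y6, .tau,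
   .X0, .p7, .xii, .p7, .xii, .y2, .y7, .y10, .taui, .xii, .y2, .p4, .xii, .p5, .hi, .tau, .xii, .y2, .hi, .p10],
  [.Z9, .Z8, .Z7, .Z4, .Z1, .Z0, .X10, .X8, .X6, .X5, .X4, .X2, .X0, .y8, .y7, .y3, .y2, .p8, .hi, .p8, .hi, .p6, .hi,
   .p10, .hi, .p10, .hi, .p10, .xii, .hi, .xii, .y6, .p9, .xii, .y6, .taui, .p5, .xii, .y6, .p3, .hi, .xii, .y1, .p2,
   .tau, .xii, .p5, .xii, .y7, .p2, .y5, .tau, .xii, .hi, .p8],
  [.z, .Z10, .Z6, .Z5, .Z3, .Z1, .Z0, .X6, .X3, .X1, .X0, .y9, .y6, .y3, .y1, .p5, .hi, .p3, .hi, .p4, .hi, .p, .hi,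
   .p2, .xii, .y2, .p2, .hi, .tau, .xii, .p, .xii, .y2, .y10, .hi, .xii, .y4, .y5, .tau, .X0, .p8, .xii, .y2, .hi,
   .p8, .xii, .y5, .p6, .taui, .xii, .p7, .xii, .y7, .p3, .hi, .taui, .xii, .p7]⟩

theorem h117 : Hd F (g wAp) b117 := hdP (by decide +kernel)
theorem r117_0 : R9 F (g wAp) b117 [] 0 0 := .of (startP 0 1) (by decide +kernel)
theorem r117_1 : R9 F (g wAp) b117 [] 0 1 := .of (startP 0 1) (by decide +kernel)
theorem r117_2 : R9 F (g wAp) b117 [] 0 2 := .of (startP 0 1) (by decide +kernel)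
theorem r117_3 : R9 F (g wAp) b117 [] 1 0 := .of (startP 0 1) (by decide +kernel)
theorem r117_4 : R9 F (g wAp) b117 [] 1 1 := .of (startP 0 1) (by decide +kernel)
theorem r117_5 : R9 F (g wAp) b117 [] 1 2 := .of (startP 0 1) (by decide +kernel)
theorem r117_6 : R9 F (g wAp) b117 [] 2 0 := .of (startP 0 1) (by decide +kernel)
theorem r117_7 : R9 F (g wAp) b117 [] 2 1 := .of (startP 0 1) (by decide +kernel)
theorem r117_8 : R9 F (g wAp) b117 [] 2 2 := .of (startP 0 1) (by decide +kernel)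
theorem g117 : Gd F (g wAp) (0, p117) [] :=
  good9 ok h117 r117_0 r117_1 r117_2 r117_3 r117_4 r117_5 r117_6 r117_7 r117_8

def b118 : Wd := ⟨0, p118,
  [.z, .Z9, .Z8, .Z7, .Z4, .Z0, .X9, .X8, .X7, .X6, .X3, .X1, .X0, .y8, .y7, .y1, .p8, .hi, .p9, .hi, .p7, .hi, .p4,
   .hi, .p6, .hi, .p6, .xii, .hi, .p8, .hi, .p8, .tau, .xii, .p9, .xii, .y10, .p2, .xii, .y3, .y10, .taui, .xii, .p8,
   .xii, .y7, .p10, .y4, .tau, .xii, .y2, .hi, .p6],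
  [.z, .Z9, .Z7, .Z5, .X10, .X9, .X8, .X6, .X5, .X3, .X1, .y10, .y8, .y6, .y4, .y2, .p10, .hi, .p10, .hi, .p9, .hi,
   .p5, .hi, .p10, .hi, .p4, .hi, .p5, .hi, .xii, .p, .xii, .y1, .y10, .hi, .p8, .taui, .xii, .p, .xii, .y1, .y10,
   .hi, .xii, .y7, .tau, .p9, .xii, .p2, .y7, .xii, .y2, .p7, .tau, .xii, .p2, .hi, .xii, .p4, .y7],
  [.z, .Z9, .Z7, .Z6, .Z5, .Z3, .Z2, .X8, .X7, .X4, .X3, .X2, .X0, .y5, .y3, .hi, .p2, .hi, .p6, .hi, .p6, .hi, .p,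
   .hi, .p3, .hi, .xii, .p10, .xii, .y7, .p8, .xii, .y8, .tau, .xii, .p, .xii, .hi, .y8, .xii, .y1, .tau, .X0, .p8,
   .xii, .y6, .p4, .xii, .y8, .p5, .hi, .p9, .tau, .xii, .p10, .xii, .y1, .p3, .hi, .p10]⟩

theorem h118 : Hd F (g wAp) b118 := hdP (by decide +kernel)
theorem r118_0 : R9 F (g wAp) b118 [] 0 0 := .of (startP 0 1) (by decide +kernel)
theorem r118_1 : R9 F (g wAp) b118 [] 0 1 := .of (startP 0 1) (by decide +kernel)
theorem r118_2 : R9 F (g wAp) b118 [] 0 2 := .of (startP 0 2) (by decide +kernel)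
theorem r118_3 : R9 F (g wAp) b118 [] 1 0 := .of (startP 0 1) (by decide +kernel)
theorem r118_4 : R9 F (g wAp) b118 [] 1 1 := .of (startP 0 1) (by decide +kernel)
theorem r118_5 : R9 F (g wAp) b118 [] 1 2 := .of (startP 0 1) (by decide +kernel)
theorem r118_6 : R9 F (g wAp) b118 [] 2 0 := .of (startP 0 1) (by decide +kernel)
theorem r118_7 : R9 F (g wAp) b118 [] 2 1 := .of (startP 0 1) (by decide +kernel)
theorem r118_8 : R9 F (g wAp) b118 [] 2 2 := .of (startP 0 1) (by decide +kernel)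
theorem g118 : Gd F (g wAp) (0, p118) [] :=
  good9 ok h118 r118_0 r118_1 r118_2 r118_3 r118_4 r118_5 r118_6 r118_7 r118_8

def b119 : Wd := ⟨0, p119,
  [.z, .Z10, .Z5, .X9, .X7, .X6, .X4, .X3, .y10, .y9, .y6, .y4, .y3, .y2, .hi, .p10, .hi, .p9, .hi, .p9, .hi, .p8,
   .hi, .p9, .tau, .xii, .y1, .p, .xii, .y10, .p, .xii, .y5, .tau, .y1, .p5, .xii, .p9, .xii, .p3, .xii, .y2, .taui,
   .xii, .y2, .p9, .xii, .y2, .p6, .xii, .y4, .tau, .xii, .y6, .p8],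
  [.Z10, .Z6, .Z5, .Z4, .Z3, .Z2, .Z1, .Z0, .X10, .X8, .X2, .X0, .y10, .y9, .y6, .y4, .y2, .y1, .p6, .hi, .p4, .hi,
   .p4, .hi, .p4, .hi, .p8, .hi, .p6, .xii, .p3, .hi, .xii, .y2, .y8, .taui, .X0, .p7, .xii, .p5, .y7, .xii, .y9, .hi,
   .p, .taui, .xii, .p7, .xii, .p10, .y10, .xii, .y4, .taui, .xii, .y6, .p10, .xii],
  [.z, .Z9, .Z8, .Z7, .Z6, .Z5, .Z3, .Z0, .X10, .X9, .X8, .X6, .X5, .X4, .X2, .y10, .y9, .y8, .y7, .y6, .y5, .y2, .p8,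
   .hi, .p9, .hi, .p9, .hi, .p8, .hi, .p5, .hi, .p, .xii, .y2, .p3, .hi, .p8, .hi, .p6, .tau, .y1, .xii, .y1, .hi,
   .xii, .p10, .xii, .y4, .y10, .taui, .hi, .xii, .y7, .p6, .xii, .y2, .p5, .hi, .p4, .taui, .xii, .p5, .xii, .y2,
   .y9, .tau, .xii, .p8]⟩

theorem h119 : Hd F (g wAp) b119 := hdP (by decide +kernel)
theorem r119_0 : R9 F (g wAp) b119 [] 0 0 := .of (startP 0 1) (by decide +kernel)
theorem r119_1 : R9 F (g wAp) b119 [] 0 1 := .of (startP 0 1) (by decide +kernel)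
theorem r119_2 : R9 F (g wAp) b119 [] 0 2 := .of (startP 0 1) (by decide +kernel)
theorem r119_3 : R9 F (g wAp) b119 [] 1 0 := .of (startP 0 1) (by decide +kernel)
theorem r119_4 : R9 F (g wAp) b119 [] 1 1 := .of (startP 0 1) (by decide +kernel)
theorem r119_5 : R9 F (g wAp) b119 [] 1 2 := .of (startP 0 1) (by decide +kernel)
theorem r119_6 : R9 F (g wAp) b119 [] 2 0 := .of (startP 0 1) (by decide +kernel)
theorem r119_7 : R9 F (g wAp) b119 [] 2 1 := .of (startP 0 1) (by decide +kernel)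
theorem r119_8 : R9 F (g wAp) b119 [] 2 2 := .of (startP 0 1) (by decide +kernel)
theorem g119 : Gd F (g wAp) (0, p119) [] :=
  good9 ok h119 r119_0 r119_1 r119_2 r119_3 r119_4 r119_5 r119_6 r119_7 r119_8

theorem all : AllG F (g wAp) LP11 :=
  .cons g110 (.cons g111 (.cons g112 (.cons g113 (.cons g114 (.cons g115 (.cons g116 (.cons g117 (.cons g118 (.cons g119 (.nil))))))))))

end Cfsg.Agent.BX.No33.Bk.P11
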