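import Cfsg.Agent.BX.No33.Cheap
set_option linter.all false

/-!
# Tests, pure case, part 13 (helper5; generated)
-/

set_option autoImplicit false
set_option maxRecDepth 100000
set_option Elab.async false

namespace Cfsg.Agent.BX.No33.Bk.P13

open Cfsg.Agent.H819.U33 Cfsg.Agent.BX.No33.Front

def b130 : Wd := ⟨0, p130,
  [.z, .Z5, .Z3, .X10, .X8, .X7, .X5, .X4, .X1, .X0, .y10, .y9, .y8, .y7, .y2, .hi, .p7, .hi, .p6, .hi, .p3, .hi, .p2,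
   .hi, .xii, .p, .xii, .hi, .p4, .y9, .taui, .xii, .y6, .p, .xii, .y10, .p, .xii, .y4, .y6, .tau, .X0, .p2, .xii,
   .p4, .y8, .xii, .y4, .y8, .p2, .hi, .taui, .xii, .p8, .xii, .y3, .p4, .xii, .y2, .tau, .xii, .p],
  [.z, .Z10, .Z9, .Z6, .Z2, .Z1, .Z0, .X8, .X6, .X5, .X3, .X2, .X1, .X0, .y10, .y8, .y6, .y5, .y2, .y1, .p5, .hi, .p3,
   .hi, .p7, .hi, .p9, .hi, .xii, .y2, .hi, .p8, .xii, .y2, .p10, .taui, .X0, .xii, .p3, .xii, .hi, .xii, .hi, .tau,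
   .p9, .xii, .y6, .p10, .xii, .y3, .p6, .tau, .xii, .p5, .xii, .p8, .y2, .y7, .xii, .y1, .tau, .xii, .y2, .hi, .p],
  [.z, .Z10, .Z9, .Z8, .Z6, .Z5, .Z4, .X9, .X4, .y8, .y7, .y5, .y3, .p9, .hi, .p8, .hi, .p, .hi, .p4, .hi, .p7, .xii,
   .hi, .xii, .p2, .xii, .y5, .taui, .xii, .y1, .p, .xii, .p, .xii, .y6, .tau, .X0, .p5, .xii, .y9, .hi, .p7, .xii,
   .hi, .taui, .xii, .p7, .xii, .y1, .y9, .p5, .hi, .p2, .tau, .xii, .p2, .hi, .p]⟩

theorem h130 : Hd F (g wAp) b130 := hdP (by decide +kernel)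
theorem r130_0 : R9 F (g wAp) b130 [] 0 0 := .of (startP 0 2) (by decide +kernel)
theorem r130_1 : R9 F (g wAp) b130 [] 0 1 := .of (startP 0 1) (by decide +kernel)
theorem r130_2 : R9 F (g wAp) b130 [] 0 2 := .of (startP 0 1) (by decide +kernel)
theorem r130_3 : R9 F (g wAp) b130 [] 1 0 := .of (startP 0 1) (by decide +kernel)
theorem r130_4 : R9 F (g wAp) b130 [] 1 1 := .of (startP 0 1) (by decide +kernel)
theorem r130_5 : R9 F (g wAp) b130 [] 1 2 := .of (startP 0 1) (by decide +kernel)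
theorem r130_6 : R9 F (g wAp) b130 [] 2 0 := .of (startP 0 1) (by decide +kernel)
theorem r130_7 : R9 F (g wAp) b130 [] 2 1 := .of (startP 0 1) (by decide +kernel)
theorem r130_8 : R9 F (g wAp) b130 [] 2 2 := .of (startP 0 1) (by decide +kernel)
theorem g130 : Gd F (g wAp) (0, p130) [] :=
  good9 ok h130 r130_0 r130_1 r130_2 r130_3 r130_4 r130_5 r130_6 r130_7 r130_8

def b131 : Wd := ⟨0, p131,
  [.Z7, .Z5, .Z3, .Z2, .X10, .X8, .X4, .X2, .X0, .y10, .y5, .y2, .y1, .p2, .hi, .p6, .hi, .p5, .hi, .p3, .hi, .p3,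
   .hi, .xii, .y2, .hi, .xii, .p5, .xii, .y4, .taui, .xii, .p, .xii, .hi, .y8, .xii, .y3, .y4, .tau, .X0, .p8, .xii,
   .y7, .p4, .xii, .y6, .p, .tau, .xii, .y2, .p7, .xii, .y5, .p9, .xii, .y5, .y7, .taui, .xii, .p6, .xii],
  [.z, .Z10, .Z8, .Z7, .Z3, .Z1, .Z0, .X8, .X7, .X6, .X3, .X2, .X1, .y8, .y6, .y5, .y2, .p7, .hi, .p5, .hi, .p6, .hi,
   .p5, .xii, .p10, .xii, .y1, .y7, .p3, .hi, .taui, .y1, .xii, .y2, .hi, .xii, .y10, .p10, .xii, .y4, .taui, .X0,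
   .p7, .xii, .y4, .p8, .xii, .y5, .y7, .p9, .taui, .xii, .p7, .xii, .y2, .y7, .p3, .xii, .y3, .tau, .xii],
  [.Z6, .Z5, .Z1, .X10, .X6, .X5, .X4, .X3, .X2, .y10, .y8, .y7, .y5, .p8, .hi, .p3, .hi, .p3, .hi, .p, .hi, .p4, .hi,
   .p9, .xii, .p10, .tau, .xii, .p, .xii, .y3, .hi, .xii, .y7, .y8, .tau, .y1, .xii, .p9, .xii, .p9, .y1, .xii, .y7,
   .y8, .taui, .xii, .y2, .p4, .xii, .p4, .xii, .y7, .tau, .xii, .y4, .p10, .xii]⟩

theorem h131 : Hd F (g wAp) b131 := hdP (by decide +kernel)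
theorem r131_0 : R9 F (g wAp) b131 [] 0 0 := .of (startP 0 1) (by decide +kernel)
theorem r131_1 : R9 F (g wAp) b131 [] 0 1 := .of (startP 0 1) (by decide +kernel)
theorem r131_2 : R9 F (g wAp) b131 [] 0 2 := .of (startP 0 1) (by decide +kernel)
theorem r131_3 : R9 F (g wAp) b131 [] 1 0 := .of (startP 0 1) (by decide +kernel)
theorem r131_4 : R9 F (g wAp) b131 [] 1 1 := .of (startP 0 1) (by decide +kernel)
theorem r131_5 : R9 F (g wAp) b131 [] 1 2 := .of (startP 0 1) (by decide +kernel)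
theorem r131_6 : R9 F (g wAp) b131 [] 2 0 := .of (startP 0 1) (by decide +kernel)
theorem r131_7 : R9 F (g wAp) b131 [] 2 1 := .of (startP 0 1) (by decide +kernel)
theorem r131_8 : R9 F (g wAp) b131 [] 2 2 := .of (startP 0 1) (by decide +kernel)
theorem g131 : Gd F (g wAp) (0, p131) [] :=
  good9 ok h131 r131_0 r131_1 r131_2 r131_3 r131_4 r131_5 r131_6 r131_7 r131_8

def b132 : Wd := ⟨0, p132,
  [.z, .Z10, .Z9, .Z8, .Z2, .Z1, .X9, .X8, .X7, .X4, .X3, .X2, .y8, .y7, .y5, .y4, .hi, .p4, .hi, .p4, .hi, .p7, .hi,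
   .p4, .hi, .xii, .y2, .hi, .p4, .hi, .p4, .taui, .y1, .xii, .p10, .xii, .y1, .y7, .p10, .xii, .tau, .xii, .y1, .p,
   .xii, .y4, .p, .xii, .y4, .y7, .taui, .X0, .p5, .xii, .y3, .p10, .xii, .taui, .xii, .p8, .xii, .y1, .p4, .hi, .p10,
   .taui, .xii, .p3],
  [.z, .Z9, .Z7, .Z0, .X10, .X8, .X2, .y10, .y8, .y5, .hi, .p4, .hi, .p8, .hi, .p6, .hi, .p7, .hi, .p7, .hi, .p5, .hi,
   .xii, .p10, .xii, .y8, .p4, .hi, .taui, .xii, .y6, .p, .xii, .y10, .p, .xii, .y4, .y5, .tau, .p8, .xii, .p4, .xii,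
   .y8, .p2, .y3, .taui, .xii, .p4, .hi, .xii, .p7, .y1, .hi],
  [.Z10, .Z8, .Z6, .Z5, .Z4, .Z3, .Z2, .Z1, .Z0, .X9, .X7, .X4, .X2, .X1, .y8, .y5, .p8, .hi, .p7, .hi, .p8, .hi, .p5,
   .hi, .p7, .hi, .p6, .hi, .xii, .y2, .p, .xii, .p, .xii, .y7, .tau, .xii, .p, .xii, .y3, .y10, .hi, .xii, .y5,
   .taui, .p10, .xii, .p8, .xii, .y2, .y7, .tau, .xii, .p2, .xii, .y1, .p10, .xii, .y2, .taui, .xii, .p10]⟩

theorem h132 : Hd F (g wAp) b132 := hdP (by decide +kernel)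
theorem r132_0 : R9 F (g wAp) b132 [] 0 0 := .of (startP 0 1) (by decide +kernel)
theorem r132_1 : R9 F (g wAp) b132 [] 0 1 := .of (startP 0 1) (by decide +kernel)
theorem r132_2 : R9 F (g wAp) b132 [] 0 2 := .of (startP 0 1) (by decide +kernel)
theorem r132_3 : R9 F (g wAp) b132 [] 1 0 := .of (startP 0 1) (by decide +kernel)
theorem r132_4 : R9 F (g wAp) b132 [] 1 1 := .of (startP 0 1) (by decide +kernel)
theorem r132_5 : R9 F (g wAp) b132 [] 1 2 := .of (startP 0 1) (by decide +kernel)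
theorem r132_6 : R9 F (g wAp) b132 [] 2 0 := .of (startP 0 1) (by decide +kernel)
theorem r132_7 : R9 F (g wAp) b132 [] 2 1 := .of (startP 0 1) (by decide +kernel)
theorem r132_8 : R9 F (g wAp) b132 [] 2 2 := .of (startP 0 1) (by decide +kernel)
theorem g132 : Gd F (g wAp) (0, p132) [] :=
  good9 ok h132 r132_0 r132_1 r132_2 r132_3 r132_4 r132_5 r132_6 r132_7 r132_8

def b133 : Wd := ⟨0, p133,
  [.Z10, .Z7, .Z5, .Z2, .Z1, .X10, .X9, .X4, .X3, .X2, .X1, .y9, .y7, .y4, .y3, .p10, .hi, .p4, .hi, .p9, .hi, .p9,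
   .hi, .p4, .hi, .p8, .xii, .p, .xii, .y10, .p2, .hi, .taui, .xii, .p, .xii, .y2, .y10, .hi, .xii, .y4, .y7, .tau,
   .X0, .p8, .xii, .p8, .y2, .xii, .y1, .y2, .p4, .xii, .tau, .xii, .p8, .xii, .y3, .y9, .p4, .xii, .y9, .taui, .xii,
   .y7, .p4],
  [.Z9, .Z7, .Z6, .Z5, .Z4, .Z3, .Z1, .X9, .X8, .X6, .X5, .y4, .y2, .y1, .p10, .hi, .p6, .hi, .p, .hi, .p, .hi, .p,
   .xii, .y2, .p, .xii, .y3, .y10, .taui, .xii, .y6, .p, .xii, .p, .xii, .y2, .y6, .y10, .tau, .p9, .xii, .p3, .y7,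
   .xii, .hi, .y7, .p2, .taui, .xii, .p5, .xii, .y3, .y5, .p3, .tau, .xii, .hi, .p7],
  [.Z9, .Z8, .Z6, .Z5, .Z4, .Z2, .Z0, .X9, .X7, .X3, .X2, .y9, .y6, .y5, .p5, .hi, .p, .hi, .p6, .hi, .p3, .hi, .p7,
   .hi, .p5, .xii, .p10, .xii, .y6, .p8, .xii, .taui, .xii, .y6, .p, .xii, .y10, .p, .xii, .y7, .y10, .taui, .xii,
   .p8, .xii, .p4, .xii, .y6, .p8, .taui, .xii, .p7, .xii, .y2, .y4, .p8, .xii, .y4, .tau, .xii, .p10]⟩

theorem h133 : Hd F (g wAp) b133 := hdP (by decide +kernel)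
theorem r133_0 : R9 F (g wAp) b133 [9, 35, 76] 0 0 := .of (startP 0 1) (by decide +kernel)
theorem r133_1 : R9 F (g wAp) b133 [9, 35, 76] 0 1 := .of' (startP 0 2) (skip := [0]) (by decide +kernel) (by decide)
theorem r133_2 : R9 F (g wAp) b133 [9, 35, 76] 0 2 := .of (startP 0 1) (by decide +kernel)
theorem r133_3 : R9 F (g wAp) b133 [9, 35, 76] 1 0 := .of' (startP 0 1) (skip := [8]) (by decide +kernel) (by decide)
theorem r133_4 : R9 F (g wAp) b133 [9, 35, 76] 1 1 := .of (startP 0 1) (by decide +kernel)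
theorem r133_5 : R9 F (g wAp) b133 [9, 35, 76] 1 2 := .of (startP 0 1) (by decide +kernel)
theorem r133_6 : R9 F (g wAp) b133 [9, 35, 76] 2 0 := .of (startP 0 1) (by decide +kernel)
theorem r133_7 : R9 F (g wAp) b133 [9, 35, 76] 2 1 := .of (startP 0 1) (by decide +kernel)
theorem r133_8 : R9 F (g wAp) b133 [9, 35, 76] 2 2 := .of' (startP 0 1) (skip := [4]) (by decide +kernel) (by decide)
theorem g133 : Gd F (g wAp) (0, p133) [9, 35, 76] :=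
  good9 ok h133 r133_0 r133_1 r133_2 r133_3 r133_4 r133_5 r133_6 r133_7 r133_8

def b134 : Wd := ⟨0, p134,
  [.Z10, .Z9, .Z5, .Z1, .X8, .X6, .X4, .X3, .X2, .X1, .X0, .y8, .y7, .y6, .y4, .y3, .y2, .y1, .p10, .hi, .p4, .hi,
   .p8, .hi, .p9, .hi, .p8, .hi, .xii, .hi, .p8, .tau, .xii, .y1, .hi, .p8, .xii, .y1, .p2, .hi, .taui, .p6, .xii,
   .p10, .xii, .y1, .y5, .p7, .taui, .xii, .p5, .xii, .y6, .p9, .xii, .y4, .y10, .tau, .xii, .p4, .hi, .p3],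
  [.z, .Z9, .Z7, .Z6, .Z5, .Z1, .Z0, .X10, .X8, .X5, .X4, .X2, .X1, .X0, .y9, .y8, .y7, .y6, .y4, .y3, .y2, .y1, .p5,
   .hi, .p5, .hi, .p9, .hi, .p3, .hi, .p4, .hi, .p8, .taui, .y1, .xii, .y2, .hi, .xii, .p10, .xii, .y8, .taui, .X0,
   .p7, .xii, .y2, .hi, .p8, .xii, .p2, .y8, .tau, .xii, .p7, .xii, .y9, .p8, .xii, .y1, .taui, .xii, .p6],
  [.Z8, .Z6, .Z4, .Z2, .X7, .X5, .X4, .X3, .y10, .y6, .y1, .hi, .p8, .hi, .p, .hi, .p8, .hi, .p5, .hi, .p, .xii, .p3,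
   .hi, .xii, .y3, .y7, .taui, .xii, .p, .xii, .y4, .hi, .xii, .y7, .taui, .X0, .xii, .p7, .xii, .p8, .y9, .xii, .y2,
   .y3, .y4, .y7, .tau, .xii, .p2, .xii, .y4, .p2, .xii, .y1, .y2, .taui, .xii, .p3, .xii]⟩

theorem h134 : Hd F (g wAp) b134 := hdP (by decide +kernel)
theorem r134_0 : R9 F (g wAp) b134 [] 0 0 := .of (startP 0 1) (by decide +kernel)
theorem r134_1 : R9 F (g wAp) b134 [] 0 1 := .of (startP 0 1) (by decide +kernel)
theorem r134_2 : R9 F (g wAp) b134 [] 0 2 := .of (startP 0 1) (by decide +kernel)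
theorem r134_3 : R9 F (g wAp) b134 [] 1 0 := .of (startP 0 1) (by decide +kernel)
theorem r134_4 : R9 F (g wAp) b134 [] 1 1 := .of (startP 0 1) (by decide +kernel)
theorem r134_5 : R9 F (g wAp) b134 [] 1 2 := .of (startP 0 1) (by decide +kernel)
theorem r134_6 : R9 F (g wAp) b134 [] 2 0 := .of (startP 0 1) (by decide +kernel)
theorem r134_7 : R9 F (g wAp) b134 [] 2 1 := .of (startP 0 2) (by decide +kernel)
theorem r134_8 : R9 F (g wAp) b134 [] 2 2 := .of (startP 0 1) (by decide +kernel)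
theorem g134 : Gd F (g wAp) (0, p134) [] :=
  good9 ok h134 r134_0 r134_1 r134_2 r134_3 r134_4 r134_5 r134_6 r134_7 r134_8

def b135 : Wd := ⟨0, p135,
  [.z, .Z7, .Z6, .Z5, .Z1, .X5, .X4, .X3, .X2, .X0, .y8, .y4, .y3, .hi, .p7, .hi, .p10, .hi, .p7, .hi, .p3, .hi, .p7,
   .hi, .p8, .xii, .y2, .p10, .tau, .xii, .y1, .p, .xii, .y3, .y4, .tau, .hi, .xii, .p10, .xii, .y7, .tau, .xii, .p3,
   .xii, .y4, .hi, .xii, .y8, .y10, .taui],
  [.z, .Z8, .Z4, .Z2, .Z1, .Z0, .X10, .X9, .X8, .X6, .X4, .X3, .X1, .y10, .y5, .y1, .p6, .hi, .p6, .hi, .p6, .hi, .p3,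
   .hi, .p4, .hi, .taui, .xii, .p, .xii, .y1, .y6, .hi, .xii, .y5, .y10, .tau, .y1, .xii, .p9, .xii, .y2, .y10, .p9,
   .xii, .y8, .tau, .xii, .p9, .xii, .y8, .p3, .xii, .y3, .y10, .taui],
  [.z, .Z8, .Z6, .Z5, .Z2, .Z1, .X8, .X6, .X4, .X1, .y10, .y8, .y5, .y4, .y3, .p5, .hi, .p10, .hi, .p7, .hi, .p9, .hi,
   .p7, .hi, .p8, .xii, .y2, .hi, .p3, .hi, .p5, .tau, .xii, .p, .xii, .y1, .hi, .xii, .y1, .y2, .tau, .X0, .y1, .p7,
   .xii, .p5, .xii, .p4, .hi, .p2, .taui, .xii, .p5, .xii, .y4, .p, .xii, .taui]⟩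

theorem h135 : Hd F (g wAp) b135 := hdP (by decide +kernel)
theorem r135_0 : R9 F (g wAp) b135 [] 0 0 := .of (startP 0 1) (by decide +kernel)
theorem r135_1 : R9 F (g wAp) b135 [] 0 1 := .of (startP 0 1) (by decide +kernel)
theorem r135_2 : R9 F (g wAp) b135 [] 0 2 := .of (startP 0 1) (by decide +kernel)
theorem r135_3 : R9 F (g wAp) b135 [] 1 0 := .of (startP 0 1) (by decide +kernel)
theorem r135_4 : R9 F (g wAp) b135 [] 1 1 := .of (startP 0 1) (by decide +kernel)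
theorem r135_5 : R9 F (g wAp) b135 [] 1 2 := .of (startP 0 2) (by decide +kernel)
theorem r135_6 : R9 F (g wAp) b135 [] 2 0 := .of (startP 0 1) (by decide +kernel)
theorem r135_7 : R9 F (g wAp) b135 [] 2 1 := .of (startP 0 1) (by decide +kernel)
theorem r135_8 : R9 F (g wAp) b135 [] 2 2 := .of (startP 0 1) (by decide +kernel)
theorem g135 : Gd F (g wAp) (0, p135) [] :=
  good9 ok h135 r135_0 r135_1 r135_2 r135_3 r135_4 r135_5 r135_6 r135_7 r135_8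

def b136 : Wd := ⟨0, p136,
  [.z, .Z7, .Z5, .Z4, .X10, .X6, .X2, .X0, .y7, .y6, .y5, .y1, .p3, .hi, .p7, .hi, .p5, .hi, .p8, .hi, .p8, .hi, .p9,
   .xii, .p10, .xii, .y8, .p8, .tau, .xii, .p, .xii, .y4, .hi, .xii, .y2, .y7, .tau, .xii, .y2, .p3, .xii, .y2, .p10,
   .xii, .y1, .y9, .taui, .xii, .p6, .xii, .hi, .p7, .y10, .tau, .xii, .y2, .hi, .p6],
  [.z, .Z6, .Z5, .Z4, .Z3, .Z1, .Z0, .X7, .X3, .X2, .X1, .X0, .y8, .y6, .y5, .y3, .y2, .p, .xii, .y2, .p3, .hi, .xii,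
   .y3, .p10, .tau, .y1, .xii, .y2, .hi, .xii, .y10, .p10, .xii, .y10, .taui, .p7, .xii, .p7, .y9, .xii, .y9, .y10,
   .p4, .taui, .xii, .p8, .xii, .y5, .p4, .y1, .xii, .y7, .taui, .xii, .p5, .hi, .p8],
  [.z, .Z8, .Z7, .Z6, .Z4, .Z2, .Z0, .X10, .X8, .X6, .X3, .X2, .y7, .y6, .y4, .hi, .p2, .hi, .p6, .hi, .p4, .hi, .p10,
   .xii, .p10, .hi, .p6, .hi, .p2, .tau, .xii, .y2, .p, .xii, .y2, .hi, .xii, .y6, .taui, .X0, .xii, .y6, .hi, .xii,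
   .p5, .xii, .y4, .p7, .tau, .xii, .p4, .xii, .p5, .y4, .xii, .y1, .tau, .xii, .p, .xii, .y6]⟩

theorem h136 : Hd F (g wAp) b136 := hdP (by decide +kernel)
theorem r136_0 : R9 F (g wAp) b136 [] 0 0 := .of (startP 0 1) (by decide +kernel)
theorem r136_1 : R9 F (g wAp) b136 [] 0 1 := .of (startP 0 1) (by decide +kernel)
theorem r136_2 : R9 F (g wAp) b136 [] 0 2 := .of (startP 0 1) (by decide +kernel)
theorem r136_3 : R9 F (g wAp) b136 [] 1 0 := .of (startP 0 1) (by decide +kernel)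
theorem r136_4 : R9 F (g wAp) b136 [] 1 1 := .of (startP 0 1) (by decide +kernel)
theorem r136_5 : R9 F (g wAp) b136 [] 1 2 := .of (startP 0 1) (by decide +kernel)
theorem r136_6 : R9 F (g wAp) b136 [] 2 0 := .of (startP 0 1) (by decide +kernel)
theorem r136_7 : R9 F (g wAp) b136 [] 2 1 := .of (startP 0 1) (by decide +kernel)
theorem r136_8 : R9 F (g wAp) b136 [] 2 2 := .of (startP 0 1) (by decide +kernel)
theorem g136 : Gd F (g wAp) (0, p136) [] :=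
  good9 ok h136 r136_0 r136_1 r136_2 r136_3 r136_4 r136_5 r136_6 r136_7 r136_8

def b137 : Wd := ⟨0, p137,
  [.z, .Z7, .Z2, .Z0, .X10, .X9, .X1, .y9, .y8, .y5, .y4, .p, .hi, .p8, .hi, .p7, .hi, .p5, .hi, .p7, .hi, .p10, .hi,
   .xii, .y2, .p, .xii, .y3, .taui, .y1, .xii, .p10, .xii, .y2, .p10, .xii, .y2, .y8, .taui, .p7, .xii, .y6, .p5, .hi,
   .xii, .hi, .p6, .tau, .xii, .p5, .xii, .y8, .y9, .hi, .p10, .tau, .xii, .p],
  [.Z10, .Z9, .Z8, .Z7, .Z4, .Z2, .Z0, .X10, .X8, .y9, .y7, .y6, .y5, .p10, .hi, .p10, .hi, .p9, .hi, .p7, .hi, .p6,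
   .hi, .p8, .hi, .xii, .y2, .p10, .taui, .y1, .xii, .p10, .xii, .y1, .p10, .xii, .y2, .y10, .taui, .p7, .xii, .p5,
   .xii, .y9, .hi, .y4, .p6, .tau, .xii, .p4, .xii, .y6, .p6, .xii, .y10, .taui, .xii],
  [.Z8, .Z3, .Z2, .Z1, .X10, .X4, .X3, .X1, .y9, .y6, .y4, .y1, .hi, .p8, .hi, .p5, .hi, .p9, .hi, .p5, .hi, .p, .xii,
   .p10, .xii, .y1, .p8, .xii, .y8, .taui, .y1, .xii, .p10, .xii, .y5, .p10, .xii, .y4, .taui, .hi, .xii, .p8, .xii,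
   .y6, .p5, .y10, .hi, .p10, .taui, .xii, .p4, .xii, .y2, .p5, .xii, .y4, .y8, .tau, .xii, .p8]⟩

theorem h137 : Hd F (g wAp) b137 := hdP (by decide +kernel)
theorem r137_0 : R9 F (g wAp) b137 [] 0 0 := .of (startP 0 1) (by decide +kernel)
theorem r137_1 : R9 F (g wAp) b137 [] 0 1 := .of (startP 0 1) (by decide +kernel)
theorem r137_2 : R9 F (g wAp) b137 [] 0 2 := .of (startP 0 1) (by decide +kernel)
theorem r137_3 : R9 F (g wAp) b137 [] 1 0 := .of (startP 0 1) (by decide +kernel)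
theorem r137_4 : R9 F (g wAp) b137 [] 1 1 := .of (startP 0 1) (by decide +kernel)
theorem r137_5 : R9 F (g wAp) b137 [] 1 2 := .of (startP 0 1) (by decide +kernel)
theorem r137_6 : R9 F (g wAp) b137 [] 2 0 := .of (startP 0 1) (by decide +kernel)
theorem r137_7 : R9 F (g wAp) b137 [] 2 1 := .of (startP 0 1) (by decide +kernel)
theorem r137_8 : R9 F (g wAp) b137 [] 2 2 := .of (startP 0 1) (by decide +kernel)
theorem g137 : Gd F (g wAp) (0, p137) [] :=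
  good9 ok h137 r137_0 r137_1 r137_2 r137_3 r137_4 r137_5 r137_6 r137_7 r137_8

def b138 : Wd := ⟨0, p138,
  [.z, .Z9, .Z8, .Z7, .X9, .X6, .X4, .X3, .X1, .y7, .y5, .y4, .y3, .y1, .hi, .p7, .hi, .p9, .hi, .p4, .hi, .p10, .hi,
   .p8, .xii, .p, .xii, .y1, .hi, .xii, .y1, .taui, .xii, .p, .xii, .y1, .hi, .xii, .y3, .y8, .tau, .p4, .xii, .y2,
   .p4, .xii, .p5, .hi, .y10, .tau, .xii, .p4, .xii, .y2, .y8, .p3, .hi, .tau, .xii, .y2, .p8],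
  [.z, .Z8, .Z7, .Z6, .Z4, .Z1, .X9, .X7, .X6, .X4, .X2, .X0, .y10, .y9, .y8, .y7, .y5, .y4, .y2, .p9, .hi, .p6, .hi,
   .p4, .hi, .p10, .hi, .p7, .hi, .p8, .xii, .tau, .xii, .p, .xii, .y3, .y10, .hi, .xii, .y1, .tau, .p10, .xii, .y7,
   .p5, .xii, .y7, .y10, .p, .taui, .xii, .p7, .xii, .p8, .y1, .xii, .y4, .y5, .tau, .xii, .p, .hi],
  [.Z10, .Z9, .Z8, .Z7, .Z5, .Z4, .X10, .X8, .X6, .X5, .X4, .X3, .X1, .y10, .y9, .y8, .y6, .y4, .y3, .y2, .y1, .hi,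
   .p, .hi, .p10, .hi, .p10, .hi, .p4, .xii, .p, .xii, .y4, .p4, .tau, .xii, .y2, .p, .xii, .y1, .hi, .xii, .y4, .y5,
   .tau, .p8, .xii, .hi, .p6, .xii, .y8, .taui, .xii, .y2, .p7, .xii, .y4, .y9, .hi, .tau, .xii, .y2, .p]⟩

theorem h138 : Hd F (g wAp) b138 := hdP (by decide +kernel)
theorem r138_0 : R9 F (g wAp) b138 [] 0 0 := .of (startP 0 1) (by decide +kernel)
theorem r138_1 : R9 F (g wAp) b138 [] 0 1 := .of (startP 0 1) (by decide +kernel)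
theorem r138_2 : R9 F (g wAp) b138 [] 0 2 := .of (startP 0 2) (by decide +kernel)
theorem r138_3 : R9 F (g wAp) b138 [] 1 0 := .of (startP 0 1) (by decide +kernel)
theorem r138_4 : R9 F (g wAp) b138 [] 1 1 := .of (startP 0 1) (by decide +kernel)
theorem r138_5 : R9 F (g wAp) b138 [] 1 2 := .of (startP 0 2) (by decide +kernel)
theorem r138_6 : R9 F (g wAp) b138 [] 2 0 := .of (startP 0 1) (by decide +kernel)
theorem r138_7 : R9 F (g wAp) b138 [] 2 1 := .of (startP 0 2) (by decide +kernel)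
theorem r138_8 : R9 F (g wAp) b138 [] 2 2 := .of (startP 0 1) (by decide +kernel)
theorem g138 : Gd F (g wAp) (0, p138) [] :=
  good9 ok h138 r138_0 r138_1 r138_2 r138_3 r138_4 r138_5 r138_6 r138_7 r138_8

def b139 : Wd := ⟨0, p139,
  [.z, .Z9, .Z5, .Z1, .X9, .X8, .X4, .X3, .X2, .y10, .y8, .y7, .y6, .y5, .y4, .y3, .hi, .p9, .hi, .p6, .hi, .p4, .hi,
   .p8, .xii, .hi, .p8, .xii, .y9, .tau, .xii, .y6, .p, .xii, .p, .xii, .y7, .taui, .y1, .xii, .p9, .xii, .y8, .p5,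
   .xii, .y10, .p8, .taui, .xii, .p3, .xii, .y6, .p2, .xii, .y2, .taui, .xii, .hi, .p4],
  [.z, .Z8, .Z5, .Z3, .Z2, .Z1, .Z0, .X8, .X6, .X2, .X1, .X0, .y10, .y5, .y1, .p3, .hi, .p7, .hi, .p9, .hi, .p, .hi,
   .p5, .xii, .p10, .xii, .p5, .y5, .hi, .p8, .tau, .xii, .y2, .p, .xii, .y1, .hi, .xii, .y1, .y2, .taui, .p5, .xii,
   .y6, .p3, .hi, .xii, .y5, .p3, .taui, .xii, .y2, .p8, .xii, .y4, .p9, .tau, .xii, .p2],
  [.z, .Z8, .Z7, .Z5, .Z1, .Z0, .X9, .X8, .X7, .X4, .X2, .X0, .y7, .y6, .y5, .y3, .hi, .p2, .hi, .p10, .hi, .p4, .hi,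
   .p5, .hi, .p10, .hi, .xii, .p10, .xii, .y10, .p9, .xii, .y7, .tau, .xii, .p, .xii, .y4, .hi, .xii, .y4, .y5, .tau,
   .p4, .xii, .p7, .xii, .p10, .y5, .hi, .y7, .p, .taui, .xii, .p7, .xii, .p10, .y9, .hi, .p7, .tau, .xii, .p]⟩

theorem h139 : Hd F (g wAp) b139 := hdP (by decide +kernel)
theorem r139_0 : R9 F (g wAp) b139 [] 0 0 := .of (startP 0 1) (by decide +kernel)
theorem r139_1 : R9 F (g wAp) b139 [] 0 1 := .of (startP 0 1) (by decide +kernel)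
theorem r139_2 : R9 F (g wAp) b139 [] 0 2 := .of (startP 0 1) (by decide +kernel)
theorem r139_3 : R9 F (g wAp) b139 [] 1 0 := .of (startP 0 1) (by decide +kernel)
theorem r139_4 : R9 F (g wAp) b139 [] 1 1 := .of (startP 0 1) (by decide +kernel)
theorem r139_5 : R9 F (g wAp) b139 [] 1 2 := .of (startP 0 1) (by decide +kernel)
theorem r139_6 : R9 F (g wAp) b139 [] 2 0 := .of (startP 0 1) (by decide +kernel)
theorem r139_7 : R9 F (g wAp) b139 [] 2 1 := .of (startP 0 1) (by decide +kernel)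
theorem r139_8 : R9 F (g wAp) b139 [] 2 2 := .of (startP 0 1) (by decide +kernel)
theorem g139 : Gd F (g wAp) (0, p139) [] :=
  good9 ok h139 r139_0 r139_1 r139_2 r139_3 r139_4 r139_5 r139_6 r139_7 r139_8

theorem all : AllG F (g wAp) LP13 :=
  .cons g130 (.cons g131 (.cons g132 (.cons g133 (.cons g134 (.cons g135 (.cons g136 (.cons g137 (.cons g138 (.cons g139 (.nil))))))))))

end Cfsg.Agent.BX.No33.Bk.P13
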