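import Cfsg.Agent.BX.No33.Cheap
set_option linter.all false

/-!
# Tests, pure case, part 15 (helper5; generated)
-/

set_option autoImplicit false
set_option maxRecDepth 100000
set_option Elab.async false

namespace Cfsg.Agent.BX.No33.Bk.P15

open Cfsg.Agent.H819.U33 Cfsg.Agent.BX.No33.Front

def b150 : Wd := ⟨0, p150,
  [.Z10, .Z8, .Z6, .Z5, .Z3, .Z1, .X9, .X8, .X6, .X4, .y8, .y7, .y2, .hi, .p3, .hi, .p8, .hi, .p9, .hi, .p8, .hi, .p6,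
   .xii, .p, .xii, .y1, .y10, .tau, .p6, .xii, .p9, .xii, .hi, .p2, .y8, .tau, .xii, .p6, .xii, .p5, .y4, .hi, .p4],
  [.z, .Z10, .Z9, .Z8, .Z7, .Z5, .X10, .X7, .X6, .X4, .X3, .X1, .X0, .y9, .y5, .y4, .y3, .y1, .p2, .hi, .p8, .hi, .p6,
   .hi, .p7, .hi, .xii, .p10, .xii, .y7, .p4, .hi, .tau, .xii, .p, .xii, .hi, .y8, .xii, .y3, .tau, .p4, .xii, .y2,
   .p9, .xii, .p9, .y1, .tau, .xii, .p5, .xii, .p2, .y9, .xii, .y7, .tau, .xii, .p3],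
  [.Z10, .Z8, .Z5, .Z4, .Z3, .Z1, .X7, .X4, .X0, .y7, .y3, .y1, .p3, .hi, .p7, .hi, .p5, .hi, .p9, .hi, .p9, .hi, .p4,
   .hi, .xii, .p, .xii, .y6, .p3, .hi, .tau, .xii, .y2, .p, .xii, .y4, .hi, .xii, .y5, .y10, .taui, .X0, .p6, .xii,
   .p6, .xii, .p, .y2, .hi, .p6, .tau, .xii, .p8, .xii, .y1, .p2, .xii, .y3, .y7, .tau, .xii, .p8]⟩

theorem h150 : Hd F (g wAp) b150 := hdP (by decide +kernel)
theorem r150_0 : R9 F (g wAp) b150 [] 0 0 := .of (startP 0 1) (by decide +kernel)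
theorem r150_1 : R9 F (g wAp) b150 [] 0 1 := .of (startP 0 1) (by decide +kernel)
theorem r150_2 : R9 F (g wAp) b150 [] 0 2 := .of (startP 0 1) (by decide +kernel)
theorem r150_3 : R9 F (g wAp) b150 [] 1 0 := .of (startP 0 1) (by decide +kernel)
theorem r150_4 : R9 F (g wAp) b150 [] 1 1 := .of (startP 0 1) (by decide +kernel)
theorem r150_5 : R9 F (g wAp) b150 [] 1 2 := .of (startP 0 1) (by decide +kernel)
theorem r150_6 : R9 F (g wAp) b150 [] 2 0 := .of (startP 0 1) (by decide +kernel)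
theorem r150_7 : R9 F (g wAp) b150 [] 2 1 := .of (startP 0 1) (by decide +kernel)
theorem r150_8 : R9 F (g wAp) b150 [] 2 2 := .of (startP 0 1) (by decide +kernel)
theorem g150 : Gd F (g wAp) (0, p150) [] :=
  good9 ok h150 r150_0 r150_1 r150_2 r150_3 r150_4 r150_5 r150_6 r150_7 r150_8

def b151 : Wd := ⟨0, p151,
  [.Z10, .Z8, .Z5, .Z3, .Z1, .X10, .X9, .X7, .X5, .X3, .X1, .X0, .y10, .y6, .y5, .p8, .hi, .p6, .hi, .p7, .hi, .p10,
   .hi, .p3, .hi, .p3, .xii, .hi, .p10, .hi, .p8, .taui, .y1, .xii, .p10, .xii, .y8, .p10, .xii, .y10, .taui, .xii,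
   .y2, .p7, .xii, .p8, .xii, .p3, .y9, .tau, .xii, .p7, .xii, .y1, .y2, .p8, .xii, .y3, .y10],
  [.z, .Z10, .Z8, .Z7, .Z6, .Z4, .X10, .X9, .X6, .X5, .X4, .X3, .X2, .X1, .y8, .y7, .y6, .y5, .y2, .y1, .p5, .hi, .p9,
   .hi, .p4, .hi, .p7, .hi, .p8, .taui, .xii, .y6, .p, .xii, .p, .xii, .y7, .tau, .y1, .xii, .p3, .xii, .y1, .y3, .p7,
   .xii, .y1, .y2, .tau, .xii, .y2, .p9, .xii, .y7, .p, .xii, .y8, .tau, .xii, .p],
  [.z, .Z8, .Z6, .Z1, .Z0, .X8, .X7, .X6, .X4, .X3, .X2, .X0, .y9, .y7, .y6, .y5, .y4, .y3, .y2, .y1, .p7, .hi, .p3,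
   .hi, .p5, .hi, .p9, .hi, .p10, .xii, .p, .xii, .y3, .hi, .p8, .tau, .xii, .p, .xii, .y1, .hi, .xii, .y1, .tau, .X0,
   .xii, .y6, .p3, .xii, .y5, .p6, .xii, .y2, .y10, .tau, .xii, .p8, .xii, .p4, .xii, .y6, .y10, .tau, .xii, .p5, .hi,
   .p10]⟩

theorem h151 : Hd F (g wAp) b151 := hdP (by decide +kernel)
theorem r151_0 : R9 F (g wAp) b151 [] 0 0 := .of (startP 0 1) (by decide +kernel)
theorem r151_1 : R9 F (g wAp) b151 [] 0 1 := .of (startP 0 1) (by decide +kernel)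
theorem r151_2 : R9 F (g wAp) b151 [] 0 2 := .of (startP 0 1) (by decide +kernel)
theorem r151_3 : R9 F (g wAp) b151 [] 1 0 := .of (startP 0 1) (by decide +kernel)
theorem r151_4 : R9 F (g wAp) b151 [] 1 1 := .of (startP 0 1) (by decide +kernel)
theorem r151_5 : R9 F (g wAp) b151 [] 1 2 := .of (startP 0 1) (by decide +kernel)
theorem r151_6 : R9 F (g wAp) b151 [] 2 0 := .of (startP 0 1) (by decide +kernel)
theorem r151_7 : R9 F (g wAp) b151 [] 2 1 := .of (startP 0 1) (by decide +kernel)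
theorem r151_8 : R9 F (g wAp) b151 [] 2 2 := .of (startP 0 1) (by decide +kernel)
theorem g151 : Gd F (g wAp) (0, p151) [] :=
  good9 ok h151 r151_0 r151_1 r151_2 r151_3 r151_4 r151_5 r151_6 r151_7 r151_8

def b152 : Wd := ⟨0, p152,
  [.z, .Z1, .X9, .X7, .X6, .X5, .X3, .X1, .y9, .y8, .y7, .y5, .y4, .p3, .hi, .p8, .hi, .p, .hi, .p, .hi, .p, .xii,
   .p3, .hi, .taui, .xii, .p, .xii, .y2, .y10, .hi, .xii, .y4, .y7, .taui, .p10, .xii, .y10, .p6, .xii, .y3, .taui,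
   .xii, .p9, .xii, .y6, .p2, .hi, .p3, .taui, .xii, .p4, .hi, .p9],
  [.Z10, .Z8, .Z5, .Z4, .Z3, .Z2, .Z0, .X10, .X9, .X3, .X2, .X1, .X0, .y10, .y9, .y7, .y5, .y3, .y1, .hi, .p6, .hi,
   .p3, .hi, .p10, .hi, .p4, .hi, .p, .hi, .p3, .xii, .hi, .p8, .hi, .p8, .tau, .y1, .xii, .hi, .xii, .y6, .taui, .X0,
   .p8, .xii, .p4, .hi, .xii, .y5, .y7, .p3, .taui, .xii, .p7, .xii, .y4, .y10, .hi, .p10],
  [.Z8, .Z7, .Z1, .X8, .X7, .X2, .X0, .y10, .y8, .y7, .y6, .y4, .y2, .y1, .p7, .hi, .p8, .hi, .p5, .hi, .p10, .hi,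
   .p6, .hi, .p7, .hi, .xii, .p, .xii, .y4, .p, .xii, .y7, .taui, .xii, .p, .xii, .y1, .y10, .hi, .xii, .y1, .taui,
   .X0, .xii, .p4, .xii, .y6, .p8, .xii, .y3, .y4, .y7, .taui, .xii, .p2, .xii, .y10, .p, .xii, .y7, .taui, .xii, .p7,
   .xii]⟩

theorem h152 : Hd F (g wAp) b152 := hdP (by decide +kernel)
theorem r152_0 : R9 F (g wAp) b152 [] 0 0 := .of (startP 0 1) (by decide +kernel)
theorem r152_1 : R9 F (g wAp) b152 [] 0 1 := .of (startP 0 1) (by decide +kernel)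
theorem r152_2 : R9 F (g wAp) b152 [] 0 2 := .of (startP 0 1) (by decide +kernel)
theorem r152_3 : R9 F (g wAp) b152 [] 1 0 := .of (startP 0 1) (by decide +kernel)
theorem r152_4 : R9 F (g wAp) b152 [] 1 1 := .of (startP 0 1) (by decide +kernel)
theorem r152_5 : R9 F (g wAp) b152 [] 1 2 := .of (startP 0 1) (by decide +kernel)
theorem r152_6 : R9 F (g wAp) b152 [] 2 0 := .of (startP 0 1) (by decide +kernel)
theorem r152_7 : R9 F (g wAp) b152 [] 2 1 := .of (startP 0 1) (by decide +kernel)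
theorem r152_8 : R9 F (g wAp) b152 [] 2 2 := .of (startP 0 1) (by decide +kernel)
theorem g152 : Gd F (g wAp) (0, p152) [] :=
  good9 ok h152 r152_0 r152_1 r152_2 r152_3 r152_4 r152_5 r152_6 r152_7 r152_8

def b153 : Wd := ⟨0, p153,
  [.z, .Z9, .Z8, .Z7, .Z5, .Z0, .X9, .X7, .X6, .X5, .X4, .X3, .X2, .X0, .y9, .y1, .hi, .p6, .hi, .p, .hi, .p4, .hi,
   .p8, .hi, .p6, .xii, .p, .xii, .p7, .xii, .y4, .tau, .y1, .xii, .y2, .p10, .xii, .y1, .y5, .tau, .p5, .xii, .y8,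
   .hi, .xii, .y2, .p9, .tau, .xii, .p5, .xii, .y1, .p2, .xii, .y8, .tau, .xii, .p6],
  [.z, .Z10, .Z6, .Z2, .Z0, .X10, .X8, .X6, .X5, .X4, .X3, .X2, .X0, .y10, .y7, .y3, .y2, .hi, .p10, .hi, .p10, .hi,
   .p5, .hi, .p, .hi, .p3, .hi, .p9, .xii, .p10, .xii, .p8, .y7, .taui, .y1, .xii, .p10, .xii, .y5, .p10, .xii, .y10,
   .tau, .xii, .p7, .xii, .y7, .p9, .xii, .y8, .p9, .taui, .xii, .p8, .xii, .y7, .p2, .xii, .y10],
  [.z, .Z10, .Z9, .Z8, .Z5, .Z4, .Z2, .X9, .X7, .X6, .X4, .X2, .y8, .y7, .y3, .y2, .p7, .hi, .p7, .hi, .p6, .hi, .p,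
   .hi, .p5, .hi, .p3, .xii, .p10, .xii, .y7, .p8, .xii, .y8, .taui, .xii, .y6, .p, .xii, .p, .xii, .y5, .y10, .taui,
   .p9, .xii, .y6, .hi, .p8, .xii, .y9, .hi, .taui, .xii, .p3, .xii, .p2, .y3, .hi, .p4, .tau, .xii, .p, .hi]⟩

theorem h153 : Hd F (g wAp) b153 := hdP (by decide +kernel)
theorem r153_0 : R9 F (g wAp) b153 [] 0 0 := .of (startP 0 1) (by decide +kernel)
theorem r153_1 : R9 F (g wAp) b153 [] 0 1 := .of (startP 0 1) (by decide +kernel)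
theorem r153_2 : R9 F (g wAp) b153 [] 0 2 := .of (startP 0 1) (by decide +kernel)
theorem r153_3 : R9 F (g wAp) b153 [] 1 0 := .of (startP 0 1) (by decide +kernel)
theorem r153_4 : R9 F (g wAp) b153 [] 1 1 := .of (startP 0 1) (by decide +kernel)
theorem r153_5 : R9 F (g wAp) b153 [] 1 2 := .of (startP 0 1) (by decide +kernel)
theorem r153_6 : R9 F (g wAp) b153 [] 2 0 := .of (startP 0 2) (by decide +kernel)
theorem r153_7 : R9 F (g wAp) b153 [] 2 1 := .of (startP 0 1) (by decide +kernel)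
theorem r153_8 : R9 F (g wAp) b153 [] 2 2 := .of (startP 0 1) (by decide +kernel)
theorem g153 : Gd F (g wAp) (0, p153) [] :=
  good9 ok h153 r153_0 r153_1 r153_2 r153_3 r153_4 r153_5 r153_6 r153_7 r153_8

def b154 : Wd := ⟨0, p154,
  [.z, .Z4, .X10, .X8, .X7, .X5, .X4, .X3, .y10, .y4, .y2, .p10, .hi, .p5, .hi, .p9, .hi, .p5, .hi, .p7, .hi, .xii,
   .p, .xii, .y4, .hi, .xii, .y5, .tau, .y1, .xii, .p10, .xii, .y1, .p10, .y9, .xii, .tau, .p9, .xii, .y10, .p3, .xii,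
   .y9, .hi, .p9, .taui, .xii, .p4, .xii, .y1, .p4, .y10, .xii, .y3, .tau, .xii, .y2, .hi],
  [.z, .Z10, .Z7, .Z0, .X8, .y9, .y5, .y4, .p, .hi, .p8, .hi, .p, .hi, .p, .hi, .p4, .hi, .p10, .hi, .xii, .y2, .p2,
   .hi, .xii, .y5, .p3, .tau, .xii, .y2, .p, .xii, .y1, .hi, .xii, .y6, .y10, .taui, .xii, .p7, .xii, .y7, .p8, .xii,
   .p, .y3, .tau, .xii, .p10, .xii, .y1, .p10, .xii, .taui],
  [.Z10, .Z9, .Z7, .Z3, .Z2, .Z1, .X10, .X9, .X6, .X2, .y10, .y8, .y7, .y6, .y2, .hi, .p6, .hi, .p7, .hi, .p6, .hi,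
   .p6, .hi, .p7, .xii, .y2, .hi, .p8, .xii, .y9, .y10, .tau, .xii, .p, .xii, .y2, .hi, .xii, .y5, .y10, .taui, .X0,
   .y1, .p10, .xii, .p9, .xii, .y5, .p4, .taui, .xii, .p, .xii, .y2, .p4, .xii, .y9, .taui]⟩

theorem h154 : Hd F (g wAp) b154 := hdP (by decide +kernel)
theorem r154_0 : R9 F (g wAp) b154 [] 0 0 := .of (startP 0 1) (by decide +kernel)
theorem r154_1 : R9 F (g wAp) b154 [] 0 1 := .of (startP 0 1) (by decide +kernel)
theorem r154_2 : R9 F (g wAp) b154 [] 0 2 := .of (startP 0 1) (by decide +kernel)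
theorem r154_3 : R9 F (g wAp) b154 [] 1 0 := .of (startP 0 1) (by decide +kernel)
theorem r154_4 : R9 F (g wAp) b154 [] 1 1 := .of (startP 0 1) (by decide +kernel)
theorem r154_5 : R9 F (g wAp) b154 [] 1 2 := .of (startP 0 1) (by decide +kernel)
theorem r154_6 : R9 F (g wAp) b154 [] 2 0 := .of (startP 0 1) (by decide +kernel)
theorem r154_7 : R9 F (g wAp) b154 [] 2 1 := .of (startP 0 1) (by decide +kernel)
theorem r154_8 : R9 F (g wAp) b154 [] 2 2 := .of (startP 0 1) (by decide +kernel)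
theorem g154 : Gd F (g wAp) (0, p154) [] :=
  good9 ok h154 r154_0 r154_1 r154_2 r154_3 r154_4 r154_5 r154_6 r154_7 r154_8

def b155 : Wd := ⟨0, p155,
  [.Z9, .Z3, .Z2, .X9, .X8, .X7, .X4, .X3, .X2, .X1, .y10, .y7, .y6, .y3, .y2, .y1, .p6, .hi, .p7, .hi, .p7, .hi, .p5,
   .hi, .p9, .hi, .xii, .p3, .hi, .xii, .y8, .y9, .tau, .xii, .y6, .hi, .p8, .xii, .y3, .p10, .tau, .p7, .xii, .y6,
   .p5, .xii, .p2, .y8, .taui, .xii, .p6, .xii, .y6, .p10, .xii, .y3, .y9],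
  [.z, .Z10, .Z9, .Z8, .Z3, .X8, .X6, .X3, .X1, .X0, .y8, .y6, .y5, .p10, .hi, .p4, .hi, .p3, .hi, .p6, .hi, .p5, .hi,
   .p9, .xii, .p10, .hi, .p8, .taui, .xii, .p, .xii, .y3, .y10, .hi, .xii, .y5, .tau, .xii, .p10, .xii, .y2, .p10,
   .xii, .y5, .y7, .tau, .xii, .p, .hi, .xii, .p5, .y3],
  [.z, .Z7, .Z6, .Z5, .Z2, .X10, .X6, .X4, .X2, .X0, .y9, .y7, .p5, .hi, .p4, .hi, .p4, .hi, .p7, .hi, .p2, .hi, .xii,
   .y2, .hi, .p8, .hi, .p2, .taui, .xii, .p, .xii, .hi, .y8, .xii, .y7, .y10, .tau, .xii, .p5, .xii, .y8, .p, .xii,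
   .y10, .p4, .tau, .xii, .p9, .xii, .y1, .p8, .xii, .y3, .tau]⟩

theorem h155 : Hd F (g wAp) b155 := hdP (by decide +kernel)
theorem r155_0 : R9 F (g wAp) b155 [] 0 0 := .of (startP 0 1) (by decide +kernel)
theorem r155_1 : R9 F (g wAp) b155 [] 0 1 := .of (startP 0 1) (by decide +kernel)
theorem r155_2 : R9 F (g wAp) b155 [] 0 2 := .of (startP 0 1) (by decide +kernel)
theorem r155_3 : R9 F (g wAp) b155 [] 1 0 := .of (startP 0 1) (by decide +kernel)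
theorem r155_4 : R9 F (g wAp) b155 [] 1 1 := .of (startP 0 1) (by decide +kernel)
theorem r155_5 : R9 F (g wAp) b155 [] 1 2 := .of (startP 0 1) (by decide +kernel)
theorem r155_6 : R9 F (g wAp) b155 [] 2 0 := .of (startP 0 1) (by decide +kernel)
theorem r155_7 : R9 F (g wAp) b155 [] 2 1 := .of (startP 0 1) (by decide +kernel)
theorem r155_8 : R9 F (g wAp) b155 [] 2 2 := .of (startP 0 1) (by decide +kernel)
theorem g155 : Gd F (g wAp) (0, p155) [] :=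
  good9 ok h155 r155_0 r155_1 r155_2 r155_3 r155_4 r155_5 r155_6 r155_7 r155_8

def b156 : Wd := ⟨0, p156,
  [.Z9, .Z4, .Z3, .Z1, .Z0, .X10, .X9, .X6, .X3, .X1, .X0, .y9, .y6, .p8, .hi, .p4, .hi, .p8, .hi, .p8, .hi, .p, .hi,
   .p5, .xii, .p3, .hi, .xii, .p10, .y7, .taui, .xii, .p, .xii, .y2, .hi, .xii, .y4, .y5, .taui, .X0, .xii, .y2, .p5,
   .xii, .y10, .p7, .xii, .y4, .tau, .xii, .p4, .xii, .p2, .hi, .y4, .p5, .taui, .xii, .p4],
  [.z, .Z10, .Z9, .Z7, .Z6, .Z5, .Z4, .Z3, .Z2, .Z0, .X8, .X7, .X4, .X2, .X1, .y9, .y7, .y4, .y1, .p4, .hi, .p9, .hi,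
   .p8, .hi, .p2, .hi, .xii, .p5, .hi, .p5, .tau, .xii, .hi, .p8, .xii, .y9, .tau, .p2, .xii, .p7, .xii, .y5, .y9,
   .y10, .hi, .tau, .xii, .p7, .xii, .y10, .p7, .xii, .y1, .tau, .xii, .p3, .xii, .y6],
  [.z, .Z9, .Z8, .Z5, .Z4, .Z3, .Z0, .X9, .X8, .X7, .X6, .X5, .X4, .X0, .y10, .y9, .y8, .y5, .y2, .p9, .hi, .p8, .hi,
   .p4, .hi, .p7, .hi, .p5, .hi, .p9, .hi, .xii, .p, .xii, .y4, .p, .xii, .y6, .y10, .tau, .y1, .xii, .p10, .xii,
   .p10, .y7, .xii, .y4, .y10, .taui, .p9, .xii, .p5, .y2, .hi, .xii, .y4, .y8, .taui, .xii, .p2, .xii, .p4, .y3,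
   .xii, .y8, .tau, .xii, .p9]⟩

theorem h156 : Hd F (g wAp) b156 := hdP (by decide +kernel)
theorem r156_0 : R9 F (g wAp) b156 [] 0 0 := .of (startP 0 1) (by decide +kernel)
theorem r156_1 : R9 F (g wAp) b156 [] 0 1 := .of (startP 0 1) (by decide +kernel)
theorem r156_2 : R9 F (g wAp) b156 [] 0 2 := .of (startP 0 1) (by decide +kernel)
theorem r156_3 : R9 F (g wAp) b156 [] 1 0 := .of (startP 0 2) (by decide +kernel)
theorem r156_4 : R9 F (g wAp) b156 [] 1 1 := .of (startP 0 1) (by decide +kernel)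
theorem r156_5 : R9 F (g wAp) b156 [] 1 2 := .of (startP 0 1) (by decide +kernel)
theorem r156_6 : R9 F (g wAp) b156 [] 2 0 := .of (startP 0 1) (by decide +kernel)
theorem r156_7 : R9 F (g wAp) b156 [] 2 1 := .of (startP 0 1) (by decide +kernel)
theorem r156_8 : R9 F (g wAp) b156 [] 2 2 := .of (startP 0 1) (by decide +kernel)
theorem g156 : Gd F (g wAp) (0, p156) [] :=
  good9 ok h156 r156_0 r156_1 r156_2 r156_3 r156_4 r156_5 r156_6 r156_7 r156_8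

def b157 : Wd := ⟨0, p157,
  [.z, .Z10, .Z9, .Z4, .Z3, .X10, .X9, .X8, .X7, .X4, .X2, .X1, .y10, .y5, .y1, .p, .hi, .p5, .hi, .p8, .hi, .p7, .hi,
   .p, .hi, .p3, .xii, .p10, .hi, .p, .tau, .y1, .xii, .p10, .xii, .y1, .p10, .xii, .taui, .X0, .p7, .xii, .y4, .p3,
   .hi, .xii, .p6, .taui, .xii, .p4, .xii, .y1, .y5, .p4, .xii, .y2, .taui, .xii, .p2, .xii],
  [.z, .Z10, .Z4, .Z2, .Z1, .X3, .y10, .y9, .y8, .y7, .y5, .y4, .y3, .hi, .p5, .hi, .p3, .hi, .p, .hi, .p8, .hi, .p7,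
   .xii, .y2, .p, .xii, .y1, .tau, .y1, .xii, .p10, .xii, .y1, .p10, .xii, .y4, .taui, .xii, .p4, .xii, .y4, .y9, .p5,
   .xii, .y10, .tau, .xii, .p2, .xii, .p7, .taui, .xii, .p8],
  [.z, .Z6, .Z5, .Z3, .X8, .X6, .X0, .y10, .y9, .y4, .y3, .p9, .hi, .p6, .hi, .p4, .hi, .p4, .hi, .p5, .hi, .p4, .hi,
   .p3, .hi, .xii, .p, .hi, .xii, .y5, .tau, .xii, .p, .xii, .y1, .hi, .xii, .y5, .y8, .tau, .X0, .xii, .p4, .xii,
   .y3, .p4, .y5, .xii, .y8, .y10, .tau, .xii, .y2, .p9, .xii, .y10, .p3, .xii, .y1, .tau, .xii, .p2, .xii]⟩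

theorem h157 : Hd F (g wAp) b157 := hdP (by decide +kernel)
theorem r157_0 : R9 F (g wAp) b157 [] 0 0 := .of (startP 0 1) (by decide +kernel)
theorem r157_1 : R9 F (g wAp) b157 [] 0 1 := .of (startP 0 1) (by decide +kernel)
theorem r157_2 : R9 F (g wAp) b157 [] 0 2 := .of (startP 0 1) (by decide +kernel)
theorem r157_3 : R9 F (g wAp) b157 [] 1 0 := .of (startP 0 1) (by decide +kernel)
theorem r157_4 : R9 F (g wAp) b157 [] 1 1 := .of (startP 0 1) (by decide +kernel)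
theorem r157_5 : R9 F (g wAp) b157 [] 1 2 := .of (startP 0 1) (by decide +kernel)
theorem r157_6 : R9 F (g wAp) b157 [] 2 0 := .of (startP 0 1) (by decide +kernel)
theorem r157_7 : R9 F (g wAp) b157 [] 2 1 := .of (startP 0 1) (by decide +kernel)
theorem r157_8 : R9 F (g wAp) b157 [] 2 2 := .of (startP 0 1) (by decide +kernel)
theorem g157 : Gd F (g wAp) (0, p157) [] :=
  good9 ok h157 r157_0 r157_1 r157_2 r157_3 r157_4 r157_5 r157_6 r157_7 r157_8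

def b158 : Wd := ⟨0, p158,
  [.Z8, .Z7, .Z6, .Z0, .X8, .X7, .X6, .y10, .y8, .y6, .y3, .y2, .y1, .p2, .hi, .p, .hi, .p7, .hi, .p7, .hi, .p4, .hi,
   .p8, .hi, .xii, .hi, .xii, .y8, .p2, .xii, .y1, .taui, .xii, .y6, .p, .xii, .p, .xii, .y5, .y10, .taui, .X0, .hi,
   .xii, .p5, .xii, .y3, .p4, .y6, .taui, .xii, .y2, .p9, .xii, .y5, .p3, .xii, .y4, .taui, .xii, .y2, .p6],
  [.Z10, .Z8, .Z4, .Z2, .X10, .X9, .X8, .X7, .X5, .X3, .X1, .X0, .y7, .y6, .y5, .y2, .y1, .p7, .hi, .p7, .hi, .p7,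
   .hi, .p6, .hi, .p10, .hi, .p7, .hi, .xii, .p10, .xii, .y1, .y7, .p3, .hi, .tau, .xii, .y2, .p, .xii, .y2, .y10,
   .hi, .xii, .y7, .tau, .X0, .p7, .xii, .p8, .y5, .xii, .p8, .y3, .hi, .tau, .xii, .p5, .xii, .p9, .xii, .y7],
  [.z, .Z10, .Z8, .Z4, .Z1, .X10, .X5, .X2, .X1, .y10, .y9, .y8, .y6, .y4, .y2, .p6, .hi, .p4, .hi, .p, .hi, .p7, .hi,
   .p2, .xii, .y2, .p, .xii, .y1, .taui, .xii, .p, .xii, .hi, .y8, .xii, .y1, .y9, .taui, .X0, .p10, .xii, .p8, .xii,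
   .y8, .y9, .p5, .hi, .p9, .taui, .xii, .p7, .xii, .y2, .p3, .xii, .y6, .taui, .xii, .p7, .xii]⟩

theorem h158 : Hd F (g wAp) b158 := hdP (by decide +kernel)
theorem r158_0 : R9 F (g wAp) b158 [] 0 0 := .of (startP 0 1) (by decide +kernel)
theorem r158_1 : R9 F (g wAp) b158 [] 0 1 := .of (startP 0 1) (by decide +kernel)
theorem r158_2 : R9 F (g wAp) b158 [] 0 2 := .of (startP 0 1) (by decide +kernel)
theorem r158_3 : R9 F (g wAp) b158 [] 1 0 := .of (startP 0 1) (by decide +kernel)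
theorem r158_4 : R9 F (g wAp) b158 [] 1 1 := .of (startP 0 1) (by decide +kernel)
theorem r158_5 : R9 F (g wAp) b158 [] 1 2 := .of (startP 0 1) (by decide +kernel)
theorem r158_6 : R9 F (g wAp) b158 [] 2 0 := .of (startP 0 1) (by decide +kernel)
theorem r158_7 : R9 F (g wAp) b158 [] 2 1 := .of (startP 0 1) (by decide +kernel)
theorem r158_8 : R9 F (g wAp) b158 [] 2 2 := .of (startP 0 1) (by decide +kernel)
theorem g158 : Gd F (g wAp) (0, p158) [] :=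
  good9 ok h158 r158_0 r158_1 r158_2 r158_3 r158_4 r158_5 r158_6 r158_7 r158_8

def b159 : Wd := ⟨0, p159,
  [.Z10, .Z9, .Z8, .Z5, .Z3, .Z2, .X9, .X7, .X2, .X1, .X0, .y10, .y2, .p7, .hi, .p4, .hi, .p3, .hi, .p9, .hi, .p9,
   .hi, .p10, .hi, .xii, .p10, .xii, .p3, .hi, .y10, .tau, .y1, .xii, .p10, .xii, .y1, .p10, .xii, .y1, .y6, .taui,
   .X0, .p10, .xii, .y8, .p8, .xii, .y4, .y10, .taui, .xii, .p6, .xii, .y2, .y4, .p, .xii, .y1, .taui, .xii, .y6, .hi,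
   .p],
  [.Z9, .Z4, .Z3, .Z1, .Z0, .X8, .X5, .X4, .X2, .X1, .X0, .y8, .y7, .y6, .y1, .p10, .hi, .p4, .hi, .p6, .hi, .p, .hi,
   .p5, .xii, .hi, .p8, .xii, .y3, .p10, .tau, .xii, .p, .xii, .y2, .hi, .xii, .y4, .y5, .tau, .p7, .xii, .y4, .p8,
   .xii, .y8, .p4, .y5, .taui, .xii, .p7, .xii, .y1, .y6, .taui, .xii, .p],
  [.z, .Z10, .Z9, .Z5, .Z4, .Z2, .Z1, .X9, .X6, .X5, .X4, .y9, .y8, .y7, .y5, .y3, .y2, .y1, .p, .hi, .p4, .hi, .p,
   .hi, .p7, .hi, .p9, .hi, .xii, .p10, .xii, .y7, .p6, .xii, .y7, .y10, .tau, .X0, .xii, .p3, .xii, .hi, .xii, .y10,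
   .hi, .tau, .p6, .xii, .p5, .xii, .p4, .hi, .y8, .p3, .taui, .xii, .p5, .xii, .y4, .p2, .y10, .xii, .tau, .xii, .p8]⟩

theorem h159 : Hd F (g wAp) b159 := hdP (by decide +kernel)
theorem r159_0 : R9 F (g wAp) b159 [] 0 0 := .of (startP 0 1) (by decide +kernel)
theorem r159_1 : R9 F (g wAp) b159 [] 0 1 := .of (startP 0 1) (by decide +kernel)
theorem r159_2 : R9 F (g wAp) b159 [] 0 2 := .of (startP 0 1) (by decide +kernel)
theorem r159_3 : R9 F (g wAp) b159 [] 1 0 := .of (startP 0 1) (by decide +kernel)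
theorem r159_4 : R9 F (g wAp) b159 [] 1 1 := .of (startP 0 1) (by decide +kernel)
theorem r159_5 : R9 F (g wAp) b159 [] 1 2 := .of (startP 0 1) (by decide +kernel)
theorem r159_6 : R9 F (g wAp) b159 [] 2 0 := .of (startP 0 1) (by decide +kernel)
theorem r159_7 : R9 F (g wAp) b159 [] 2 1 := .of (startP 0 1) (by decide +kernel)
theorem r159_8 : R9 F (g wAp) b159 [] 2 2 := .of (startP 0 1) (by decide +kernel)
theorem g159 : Gd F (g wAp) (0, p159) [] :=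
  good9 ok h159 r159_0 r159_1 r159_2 r159_3 r159_4 r159_5 r159_6 r159_7 r159_8

theorem all : AllG F (g wAp) LP15 :=
  .cons g150 (.cons g151 (.cons g152 (.cons g153 (.cons g154 (.cons g155 (.cons g156 (.cons g157 (.cons g158 (.cons g159 (.nil))))))))))

end Cfsg.Agent.BX.No33.Bk.P15
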