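import Cfsg.Agent.BX.No33.Cheap
set_option linter.all false

/-!
# Tests, pure case, part 16 (helper5; generated)
-/

set_option autoImplicit false
set_option maxRecDepth 100000
set_option Elab.async false

namespace Cfsg.Agent.BX.No33.Bk.P16

open Cfsg.Agent.H819.U33 Cfsg.Agent.BX.No33.Front

def b160 : Wd := ⟨0, p160,
  [.Z10, .Z9, .Z8, .Z4, .Z3, .Z1, .X10, .X8, .X7, .X6, .X4, .y10, .y9, .y2, .hi, .p10, .hi, .p7, .hi, .p8, .hi, .p3,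
   .hi, .p4, .xii, .hi, .p3, .hi, .p5, .tau, .xii, .y2, .p, .xii, .y3, .hi, .xii, .y4, .y7, .tau, .X0, .p6, .xii, .hi,
   .p6, .xii, .y1, .y3, .taui, .xii, .y2, .p4, .xii, .y5, .p4, .xii, .y2, .taui, .xii, .hi, .p9],
  [.Z10, .Z8, .Z7, .Z6, .Z5, .Z4, .Z0, .X10, .X9, .X7, .X6, .X3, .y7, .y4, .y1, .p8, .hi, .p3, .hi, .p3, .hi, .p7,
   .hi, .p2, .hi, .xii, .p10, .xii, .p9, .xii, .y5, .taui, .xii, .y2, .p, .xii, .y4, .hi, .xii, .y4, .y6, .taui, .X0,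
   .xii, .y1, .p4, .xii, .p8, .xii, .y3, .y5, .taui, .xii, .y2, .p4, .xii, .y8, .p10, .xii, .y5, .tau],
  [.Z9, .Z8, .Z7, .Z3, .Z2, .Z0, .X10, .X8, .X6, .X4, .X1, .X0, .y10, .y8, .y5, .hi, .p3, .hi, .p10, .hi, .p2, .hi,
   .p10, .hi, .p4, .xii, .hi, .xii, .y6, .p5, .hi, .p8, .tau, .xii, .y6, .p, .xii, .p, .xii, .y2, .y4, .y6, .taui,
   .p5, .xii, .y8, .p7, .xii, .y1, .hi, .p8, .tau, .xii, .p2, .xii, .y5, .p6, .xii, .y1, .y8, .tau, .xii, .p5]⟩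

theorem h160 : Hd F (g wAp) b160 := hdP (by decide +kernel)
theorem r160_0 : R9 F (g wAp) b160 [] 0 0 := .of (startP 0 1) (by decide +kernel)
theorem r160_1 : R9 F (g wAp) b160 [] 0 1 := .of (startP 0 1) (by decide +kernel)
theorem r160_2 : R9 F (g wAp) b160 [] 0 2 := .of (startP 0 1) (by decide +kernel)
theorem r160_3 : R9 F (g wAp) b160 [] 1 0 := .of (startP 0 1) (by decide +kernel)
theorem r160_4 : R9 F (g wAp) b160 [] 1 1 := .of (startP 0 1) (by decide +kernel)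
theorem r160_5 : R9 F (g wAp) b160 [] 1 2 := .of (startP 0 1) (by decide +kernel)
theorem r160_6 : R9 F (g wAp) b160 [] 2 0 := .of (startP 0 1) (by decide +kernel)
theorem r160_7 : R9 F (g wAp) b160 [] 2 1 := .of (startP 0 1) (by decide +kernel)
theorem r160_8 : R9 F (g wAp) b160 [] 2 2 := .of (startP 0 1) (by decide +kernel)
theorem g160 : Gd F (g wAp) (0, p160) [] :=
  good9 ok h160 r160_0 r160_1 r160_2 r160_3 r160_4 r160_5 r160_6 r160_7 r160_8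

def b161 : Wd := ⟨0, p161,
  [.Z10, .Z7, .Z2, .Z1, .Z0, .X8, .X5, .X1, .X0, .y10, .y9, .y8, .y4, .y2, .hi, .p5, .hi, .p, .hi, .p3, .hi, .p10,
   .hi, .p9, .xii, .p10, .xii, .y4, .taui, .xii, .y1, .p, .xii, .p, .xii, .y3, .y4, .taui, .X0, .p6, .xii, .hi, .p6,
   .xii, .y8, .y9, .p3, .taui, .xii, .p8, .xii, .y3, .p8, .hi, .p2, .tau, .xii, .p, .hi],
  [.Z10, .Z9, .Z8, .Z7, .Z6, .Z5, .Z4, .Z2, .X7, .X6, .X5, .X2, .X1, .X0, .y10, .y9, .y8, .y7, .y4, .y3, .p10, .hi,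
   .p7, .hi, .p6, .hi, .p8, .hi, .p5, .hi, .xii, .p, .xii, .p2, .hi, .tau, .y1, .xii, .p10, .xii, .y1, .y7, .p10,
   .xii, .y10, .taui, .p10, .xii, .y10, .p9, .xii, .y7, .p2, .hi, .p4, .tau, .xii, .p5, .xii, .hi, .p7, .y10, .tau,
   .xii, .p7],
  [.z, .Z10, .Z7, .Z6, .Z5, .Z2, .Z1, .X9, .X7, .X4, .y6, .y5, .y3, .y2, .p10, .hi, .p4, .hi, .p9, .hi, .p, .hi, .p7,
   .hi, .xii, .p, .xii, .p4, .tau, .xii, .p, .xii, .y1, .hi, .xii, .y4, .y5, .taui, .hi, .xii, .p8, .xii, .p2, .y3,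
   .xii, .y8, .taui, .xii, .p6, .xii, .p5, .y8, .hi, .tau, .xii, .hi, .p6]⟩

theorem h161 : Hd F (g wAp) b161 := hdP (by decide +kernel)
theorem r161_0 : R9 F (g wAp) b161 [] 0 0 := .of (startP 0 1) (by decide +kernel)
theorem r161_1 : R9 F (g wAp) b161 [] 0 1 := .of (startP 0 1) (by decide +kernel)
theorem r161_2 : R9 F (g wAp) b161 [] 0 2 := .of (startP 0 1) (by decide +kernel)
theorem r161_3 : R9 F (g wAp) b161 [] 1 0 := .of (startP 0 1) (by decide +kernel)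
theorem r161_4 : R9 F (g wAp) b161 [] 1 1 := .of (startP 0 1) (by decide +kernel)
theorem r161_5 : R9 F (g wAp) b161 [] 1 2 := .of (startP 0 1) (by decide +kernel)
theorem r161_6 : R9 F (g wAp) b161 [] 2 0 := .of (startP 0 1) (by decide +kernel)
theorem r161_7 : R9 F (g wAp) b161 [] 2 1 := .of (startP 0 1) (by decide +kernel)
theorem r161_8 : R9 F (g wAp) b161 [] 2 2 := .of (startP 0 1) (by decide +kernel)
theorem g161 : Gd F (g wAp) (0, p161) [] :=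
  good9 ok h161 r161_0 r161_1 r161_2 r161_3 r161_4 r161_5 r161_6 r161_7 r161_8

def b162 : Wd := ⟨0, p162,
  [.z, .Z9, .Z8, .Z7, .Z6, .Z3, .Z2, .Z1, .X10, .X9, .X6, .X5, .X4, .X3, .X0, .y7, .y6, .hi, .p, .hi, .p7, .hi, .p8,
   .hi, .p6, .hi, .p8, .xii, .p10, .xii, .y9, .taui, .xii, .y6, .p, .xii, .y2, .p, .xii, .y1, .y2, .tau, .p4, .xii,
   .y2, .p4, .xii, .y1, .p4, .hi, .taui, .xii, .hi, .p7, .xii, .p2, .y3, .taui, .xii, .y2, .p7],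
  [.Z10, .Z9, .Z8, .Z2, .Z1, .Z0, .X5, .X3, .X2, .y9, .y8, .y7, .y6, .y5, .y3, .p7, .hi, .p8, .hi, .p5, .hi, .p5, .hi,
   .p6, .tau, .xii, .p, .xii, .y2, .y10, .hi, .xii, .y4, .y5, .tau, .X0, .p5, .xii, .p3, .hi, .y7, .xii, .y8, .p10,
   .taui, .xii, .p8, .xii, .y3, .p4, .hi, .p, .hi, .tau, .xii, .p3, .hi, .p2],
  [.z, .Z9, .Z7, .Z6, .Z5, .Z2, .X10, .X8, .X7, .X5, .X4, .X2, .X1, .X0, .y9, .y8, .y7, .y3, .hi, .p10, .hi, .p6, .hi,
   .p10, .hi, .p7, .xii, .p3, .hi, .xii, .y1, .y6, .tau, .y1, .xii, .p10, .xii, .y5, .p10, .xii, .y2, .y8, .taui,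
   .xii, .p, .xii, .hi, .y8, .xii, .y4, .y6, .tau, .X0, .p5, .xii, .p10, .xii, .y1, .taui, .xii, .p5, .xii, .y2, .y7,
   .p9, .xii, .y10, .tau, .xii, .p3, .xii, .y8]⟩

theorem h162 : Hd F (g wAp) b162 := hdP (by decide +kernel)
theorem r162_0 : R9 F (g wAp) b162 [] 0 0 := .of (startP 0 1) (by decide +kernel)
theorem r162_1 : R9 F (g wAp) b162 [] 0 1 := .of (startP 0 1) (by decide +kernel)
theorem r162_2 : R9 F (g wAp) b162 [] 0 2 := .of (startP 0 1) (by decide +kernel)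
theorem r162_3 : R9 F (g wAp) b162 [] 1 0 := .of (startP 0 1) (by decide +kernel)
theorem r162_4 : R9 F (g wAp) b162 [] 1 1 := .of (startP 0 1) (by decide +kernel)
theorem r162_5 : R9 F (g wAp) b162 [] 1 2 := .of (startP 0 1) (by decide +kernel)
theorem r162_6 : R9 F (g wAp) b162 [] 2 0 := .of (startP 0 1) (by decide +kernel)
theorem r162_7 : R9 F (g wAp) b162 [] 2 1 := .of (startP 0 1) (by decide +kernel)
theorem r162_8 : R9 F (g wAp) b162 [] 2 2 := .of (startP 0 1) (by decide +kernel)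
theorem g162 : Gd F (g wAp) (0, p162) [] :=
  good9 ok h162 r162_0 r162_1 r162_2 r162_3 r162_4 r162_5 r162_6 r162_7 r162_8

def b163 : Wd := ⟨0, p163,
  [.Z8, .Z5, .Z4, .Z1, .X10, .X8, .X5, .X2, .X0, .y10, .y9, .y5, .y4, .p10, .hi, .p3, .hi, .p8, .hi, .p, .hi, .p7,
   .hi, .p5, .xii, .p, .xii, .y6, .p4, .xii, .y2, .tau, .xii, .y1, .p, .xii, .y4, .p, .xii, .y7, .taui, .X0, .xii,
   .hi, .xii, .y9, .p8, .xii, .y1, .tau, .xii, .p9, .xii, .p9, .xii, .y1, .y7, .tau, .xii, .y2, .hi, .p7],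
  [.z, .Z9, .Z3, .Z0, .X10, .X7, .X6, .X5, .X4, .X3, .X2, .X1, .y9, .y8, .y6, .y5, .y4, .y3, .y2, .y1, .hi, .p9, .hi,
   .p6, .hi, .p3, .hi, .p3, .hi, .p10, .hi, .p9, .hi, .taui, .xii, .y2, .p, .xii, .y2, .hi, .xii, .y3, .y10, .taui,
   .X0, .xii, .p5, .xii, .p7, .xii, .y1, .y10, .p8, .taui, .xii, .p5, .xii, .y9, .hi, .xii, .y2, .taui],
  [.Z10, .Z9, .Z8, .Z6, .Z4, .Z3, .Z2, .Z1, .X10, .X8, .X7, .X4, .X1, .X0, .y10, .y7, .y6, .y4, .y2, .y1, .p2, .hi,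
   .p6, .hi, .p8, .hi, .p, .hi, .p3, .hi, .p, .hi, .xii, .p, .xii, .y6, .p3, .hi, .tau, .y1, .xii, .y2, .hi, .xii,
   .y7, .p10, .xii, .taui, .X0, .p4, .xii, .p4, .xii, .y7, .p10, .y6, .hi, .p8, .tau, .xii, .p4, .xii, .y3, .p8, .y3,
   .xii, .y2, .tau, .xii, .p7]⟩

theorem h163 : Hd F (g wAp) b163 := hdP (by decide +kernel)
theorem r163_0 : R9 F (g wAp) b163 [] 0 0 := .of (startP 0 1) (by decide +kernel)
theorem r163_1 : R9 F (g wAp) b163 [] 0 1 := .of (startP 0 1) (by decide +kernel)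
theorem r163_2 : R9 F (g wAp) b163 [] 0 2 := .of (startP 0 1) (by decide +kernel)
theorem r163_3 : R9 F (g wAp) b163 [] 1 0 := .of (startP 0 1) (by decide +kernel)
theorem r163_4 : R9 F (g wAp) b163 [] 1 1 := .of (startP 0 1) (by decide +kernel)
theorem r163_5 : R9 F (g wAp) b163 [] 1 2 := .of (startP 0 1) (by decide +kernel)
theorem r163_6 : R9 F (g wAp) b163 [] 2 0 := .of (startP 0 1) (by decide +kernel)
theorem r163_7 : R9 F (g wAp) b163 [] 2 1 := .of (startP 0 1) (by decide +kernel)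
theorem r163_8 : R9 F (g wAp) b163 [] 2 2 := .of (startP 0 1) (by decide +kernel)
theorem g163 : Gd F (g wAp) (0, p163) [] :=
  good9 ok h163 r163_0 r163_1 r163_2 r163_3 r163_4 r163_5 r163_6 r163_7 r163_8

def b164 : Wd := ⟨0, p164,
  [.z, .Z8, .Z5, .Z2, .Z1, .X9, .X7, .X6, .X5, .X4, .X3, .X2, .y10, .y7, .y1, .hi, .p5, .hi, .p4, .hi, .p6, .hi, .p4,
   .hi, .p8, .tau, .y1, .xii, .y6, .p10, .xii, .y8, .p10, .xii, .y4, .y8, .taui, .p6, .xii, .p3, .xii, .p2, .y5, .xii,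
   .y1, .taui, .xii, .p9, .xii, .y5, .p8, .xii, .y4, .y6],
  [.z, .Z7, .Z4, .Z3, .Z2, .Z1, .X8, .X4, .X2, .X1, .y10, .y9, .y8, .y7, .y4, .hi, .p7, .hi, .p10, .hi, .p6, .hi, .p8,
   .hi, .p5, .hi, .p4, .hi, .xii, .y2, .p2, .hi, .xii, .tau, .p9, .xii, .y3, .p, .xii, .p4, .y3, .taui, .xii, .p10,
   .xii, .y4, .p5],
  [.z, .Z6, .Z5, .Z4, .Z1, .Z0, .X8, .X7, .X5, .X3, .X1, .X0, .y10, .y9, .y7, .y5, .y4, .y3, .p2, .hi, .p10, .hi, .p3,
   .hi, .p6, .hi, .p, .hi, .p10, .xii, .y2, .p10, .tau, .y1, .xii, .p10, .xii, .y1, .y9, .p10, .xii, .y10, .tau, .xii,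
   .p10, .xii, .y4, .p10, .xii, .y1, .y6, .tau, .xii, .y2, .p7, .xii, .y2, .p10, .xii, .y7, .taui]⟩

theorem h164 : Hd F (g wAp) b164 := hdP (by decide +kernel)
theorem r164_0 : R9 F (g wAp) b164 [] 0 0 := .of (startP 0 1) (by decide +kernel)
theorem r164_1 : R9 F (g wAp) b164 [] 0 1 := .of (startP 0 1) (by decide +kernel)
theorem r164_2 : R9 F (g wAp) b164 [] 0 2 := .of (startP 0 1) (by decide +kernel)
theorem r164_3 : R9 F (g wAp) b164 [] 1 0 := .of (startP 0 1) (by decide +kernel)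
theorem r164_4 : R9 F (g wAp) b164 [] 1 1 := .of (startP 0 1) (by decide +kernel)
theorem r164_5 : R9 F (g wAp) b164 [] 1 2 := .of (startP 0 1) (by decide +kernel)
theorem r164_6 : R9 F (g wAp) b164 [] 2 0 := .of (startP 0 1) (by decide +kernel)
theorem r164_7 : R9 F (g wAp) b164 [] 2 1 := .of (startP 0 1) (by decide +kernel)
theorem r164_8 : R9 F (g wAp) b164 [] 2 2 := .of (startP 0 1) (by decide +kernel)
theorem g164 : Gd F (g wAp) (0, p164) [] :=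
  good9 ok h164 r164_0 r164_1 r164_2 r164_3 r164_4 r164_5 r164_6 r164_7 r164_8

def b165 : Wd := ⟨0, p165,
  [.Z10, .Z9, .Z5, .Z4, .Z1, .X10, .X9, .X6, .X5, .X3, .X1, .X0, .y10, .y9, .y8, .y5, .y2, .hi, .p7, .hi, .p7, .hi,
   .p6, .hi, .p, .xii, .p10, .xii, .y5, .p2, .xii, .y6, .tau, .xii, .p, .xii, .y2, .hi, .xii, .y3, .y10, .taui, .p6,
   .xii, .p8, .xii, .p3, .hi, .y7, .p2, .tau, .xii, .p6, .xii, .hi, .p3, .y3, .taui, .xii, .p],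
  [.z, .Z8, .Z7, .Z3, .Z1, .Z0, .X10, .X7, .X6, .X4, .X0, .y10, .y9, .p2, .hi, .p, .hi, .p5, .hi, .p7, .hi, .p5, .hi,
   .xii, .y2, .hi, .xii, .p9, .xii, .y5, .taui, .X0, .xii, .p9, .xii, .y2, .y8, .p, .xii, .y10, .taui, .xii, .p7,
   .xii, .y1, .y5, .p10, .hi, .p, .tau, .xii, .hi, .p7],
  [.z, .Z10, .Z7, .Z5, .Z3, .Z1, .Z0, .X10, .X8, .X7, .X4, .X3, .X2, .X1, .y8, .y6, .y5, .y3, .y2, .y1, .p10, .hi, .p,
   .hi, .p, .hi, .p7, .hi, .p3, .hi, .p7, .hi, .p5, .hi, .xii, .p, .xii, .y2, .hi, .xii, .y6, .tau, .xii, .y2, .p,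
   .xii, .y4, .hi, .xii, .y4, .y7, .taui, .xii, .y1, .hi, .xii, .y6, .p9, .xii, .y7, .taui, .xii, .y2, .p4, .xii, .y5,
   .p5, .xii, .y3, .taui, .xii, .y4, .p10, .xii, .y8]⟩

theorem h165 : Hd F (g wAp) b165 := hdP (by decide +kernel)
theorem r165_0 : R9 F (g wAp) b165 [] 0 0 := .of (startP 0 1) (by decide +kernel)
theorem r165_1 : R9 F (g wAp) b165 [] 0 1 := .of (startP 0 1) (by decide +kernel)
theorem r165_2 : R9 F (g wAp) b165 [] 0 2 := .of (startP 0 1) (by decide +kernel)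
theorem r165_3 : R9 F (g wAp) b165 [] 1 0 := .of (startP 0 2) (by decide +kernel)
theorem r165_4 : R9 F (g wAp) b165 [] 1 1 := .of (startP 0 1) (by decide +kernel)
theorem r165_5 : R9 F (g wAp) b165 [] 1 2 := .of (startP 0 1) (by decide +kernel)
theorem r165_6 : R9 F (g wAp) b165 [] 2 0 := .of (startP 0 1) (by decide +kernel)
theorem r165_7 : R9 F (g wAp) b165 [] 2 1 := .of (startP 0 1) (by decide +kernel)
theorem r165_8 : R9 F (g wAp) b165 [] 2 2 := .of (startP 0 1) (by decide +kernel)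
theorem g165 : Gd F (g wAp) (0, p165) [] :=
  good9 ok h165 r165_0 r165_1 r165_2 r165_3 r165_4 r165_5 r165_6 r165_7 r165_8

def b166 : Wd := ⟨0, p166,
  [.Z8, .Z7, .Z5, .Z2, .Z1, .X10, .X9, .X7, .X5, .X3, .X2, .y9, .y7, .y6, .y2, .p8, .hi, .p10, .hi, .p, .hi, .p, .hi,
   .p8, .hi, .p5, .xii, .y2, .taui, .y1, .xii, .y2, .hi, .xii, .p10, .xii, .y1, .y7, .taui, .p8, .xii, .y1, .p4, .xii,
   .y3, .p2, .y7, .hi, .p, .taui, .xii, .y2, .p4, .hi, .xii, .p7, .tau, .xii, .y2, .p8],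
  [.Z10, .Z4, .Z3, .Z2, .X7, .X5, .X3, .X2, .y10, .y7, .y6, .y5, .y4, .y3, .y2, .y1, .hi, .p2, .hi, .p8, .hi, .p5,
   .hi, .p7, .hi, .xii, .y2, .p, .xii, .p, .xii, .y1, .tau, .xii, .p, .xii, .y2, .y4, .hi, .p10, .taui, .p7, .xii,
   .p8, .xii, .y10, .p, .taui, .xii, .p5, .xii, .y3, .p5, .xii, .y7],
  [.z, .Z8, .Z7, .Z1, .X10, .X9, .X8, .X7, .X6, .X5, .X4, .X3, .X2, .y10, .y7, .y3, .y2, .y1, .hi, .p3, .hi, .p, .hi,
   .p5, .hi, .p5, .hi, .p6, .hi, .xii, .p, .xii, .y1, .y2, .hi, .p8, .tau, .xii, .p, .xii, .hi, .y8, .xii, .y5, .y9,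
   .taui, .X0, .xii, .hi, .xii, .y9, .p8, .xii, .y8, .p9, .tau, .xii, .p2, .xii, .y4, .p2, .xii, .y6, .taui, .xii,
   .y6, .p, .hi]⟩

theorem h166 : Hd F (g wAp) b166 := hdP (by decide +kernel)
theorem r166_0 : R9 F (g wAp) b166 [] 0 0 := .of (startP 0 1) (by decide +kernel)
theorem r166_1 : R9 F (g wAp) b166 [] 0 1 := .of (startP 0 1) (by decide +kernel)
theorem r166_2 : R9 F (g wAp) b166 [] 0 2 := .of (startP 0 2) (by decide +kernel)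
theorem r166_3 : R9 F (g wAp) b166 [] 1 0 := .of (startP 0 1) (by decide +kernel)
theorem r166_4 : R9 F (g wAp) b166 [] 1 1 := .of (startP 0 1) (by decide +kernel)
theorem r166_5 : R9 F (g wAp) b166 [] 1 2 := .of (startP 0 1) (by decide +kernel)
theorem r166_6 : R9 F (g wAp) b166 [] 2 0 := .of (startP 0 1) (by decide +kernel)
theorem r166_7 : R9 F (g wAp) b166 [] 2 1 := .of (startP 0 1) (by decide +kernel)
theorem r166_8 : R9 F (g wAp) b166 [] 2 2 := .of (startP 0 1) (by decide +kernel)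
theorem g166 : Gd F (g wAp) (0, p166) [] :=
  good9 ok h166 r166_0 r166_1 r166_2 r166_3 r166_4 r166_5 r166_6 r166_7 r166_8

def b167 : Wd := ⟨0, p167,
  [.Z10, .Z8, .Z7, .Z0, .X6, .X4, .X2, .X1, .X0, .y10, .y9, .y8, .y7, .y6, .y4, .y1, .p10, .hi, .p4, .hi, .p10, .hi,
   .p8, .hi, .p4, .hi, .p9, .hi, .xii, .hi, .p8, .xii, .y3, .y7, .p10, .tau, .y1, .xii, .y2, .hi, .xii, .p10, .xii,
   .y10, .taui, .X0, .xii, .p7, .xii, .y7, .p9, .y10, .xii, .y8, .p, .tau, .xii, .p7, .xii, .y1, .y7, .p8, .xii, .y5,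
   .taui, .xii, .p10],
  [.z, .Z9, .Z8, .Z7, .Z6, .Z3, .Z2, .Z1, .Z0, .X10, .X9, .X8, .X7, .X4, .X1, .X0, .y9, .y6, .y4, .y3, .y2, .p9, .hi,
   .p3, .hi, .p8, .hi, .p10, .hi, .p9, .hi, .p5, .xii, .p10, .hi, .p, .tau, .xii, .y6, .p, .xii, .y4, .p, .xii, .y1,
   .tau, .p7, .xii, .p7, .xii, .p10, .y8, .y9, .hi, .tau, .xii, .p3, .hi, .xii, .y2, .p6],
  [.Z10, .Z8, .Z7, .Z5, .Z4, .Z3, .Z2, .X10, .X7, .X5, .X4, .X3, .X0, .y9, .y7, .y5, .y3, .p9, .hi, .p, .hi, .p7, .hi,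
   .p, .hi, .p4, .hi, .xii, .p, .xii, .p2, .hi, .p5, .tau, .xii, .p, .xii, .y2, .hi, .xii, .y4, .y5, .taui, .X0, .y1,
   .xii, .p7, .xii, .y10, .p4, .xii, .y6, .y10, .tau, .xii, .p6, .xii, .p, .y10, .tau, .xii, .y2, .hi, .p8]⟩

theorem h167 : Hd F (g wAp) b167 := hdP (by decide +kernel)
theorem r167_0 : R9 F (g wAp) b167 [] 0 0 := .of (startP 0 1) (by decide +kernel)
theorem r167_1 : R9 F (g wAp) b167 [] 0 1 := .of (startP 0 1) (by decide +kernel)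
theorem r167_2 : R9 F (g wAp) b167 [] 0 2 := .of (startP 0 1) (by decide +kernel)
theorem r167_3 : R9 F (g wAp) b167 [] 1 0 := .of (startP 0 1) (by decide +kernel)
theorem r167_4 : R9 F (g wAp) b167 [] 1 1 := .of (startP 0 1) (by decide +kernel)
theorem r167_5 : R9 F (g wAp) b167 [] 1 2 := .of (startP 0 1) (by decide +kernel)
theorem r167_6 : R9 F (g wAp) b167 [] 2 0 := .of (startP 0 1) (by decide +kernel)
theorem r167_7 : R9 F (g wAp) b167 [] 2 1 := .of (startP 0 1) (by decide +kernel)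
theorem r167_8 : R9 F (g wAp) b167 [] 2 2 := .of (startP 0 1) (by decide +kernel)
theorem g167 : Gd F (g wAp) (0, p167) [] :=
  good9 ok h167 r167_0 r167_1 r167_2 r167_3 r167_4 r167_5 r167_6 r167_7 r167_8

def b168 : Wd := ⟨0, p168,
  [.Z6, .Z2, .Z1, .X10, .X9, .X8, .X3, .X1, .X0, .y8, .y7, .y1, .p2, .hi, .p8, .hi, .p9, .hi, .p6, .hi, .p, .hi, .p4,
   .xii, .p10, .xii, .y7, .p8, .xii, .y2, .tau, .xii, .p, .xii, .y4, .hi, .xii, .y5, .tau, .p10, .xii, .y10, .p6,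
   .xii, .y7, .p7, .tau, .xii, .p5, .xii, .p, .xii, .y1, .y6, .taui, .xii, .y6, .hi],
  [.Z10, .Z9, .Z5, .Z4, .Z3, .Z1, .Z0, .X10, .X9, .X6, .X5, .X4, .X3, .X2, .X1, .y10, .y8, .y7, .y4, .y2, .y1, .p10,
   .hi, .p5, .hi, .p10, .hi, .p10, .hi, .p9, .xii, .taui, .xii, .p, .xii, .y1, .y6, .hi, .xii, .y4, .y5, .taui, .X0,
   .p6, .xii, .p8, .xii, .p4, .hi, .y10, .p4, .taui, .xii, .p6, .xii, .y4, .y7, .p6, .xii, .y9, .taui, .xii, .y2, .p4,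
   .hi],
  [.Z10, .Z9, .Z7, .Z4, .X9, .X8, .X7, .X5, .X4, .X2, .X1, .y6, .y2, .y1, .p, .hi, .p8, .hi, .p5, .hi, .p3, .hi, .p10,
   .hi, .xii, .p, .xii, .p9, .y1, .xii, .y10, .taui, .y1, .xii, .p10, .xii, .y5, .p10, .xii, .y8, .tau, .X0, .p7,
   .xii, .p, .xii, .y5, .y10, .taui, .xii, .p7, .xii, .y1, .y10, .p3, .xii, .y8, .taui, .xii, .y8, .p6, .xii]⟩

theorem h168 : Hd F (g wAp) b168 := hdP (by decide +kernel)
theorem r168_0 : R9 F (g wAp) b168 [] 0 0 := .of (startP 0 1) (by decide +kernel)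
theorem r168_1 : R9 F (g wAp) b168 [] 0 1 := .of (startP 0 1) (by decide +kernel)
theorem r168_2 : R9 F (g wAp) b168 [] 0 2 := .of (startP 0 1) (by decide +kernel)
theorem r168_3 : R9 F (g wAp) b168 [] 1 0 := .of (startP 0 1) (by decide +kernel)
theorem r168_4 : R9 F (g wAp) b168 [] 1 1 := .of (startP 0 1) (by decide +kernel)
theorem r168_5 : R9 F (g wAp) b168 [] 1 2 := .of (startP 0 1) (by decide +kernel)
theorem r168_6 : R9 F (g wAp) b168 [] 2 0 := .of (startP 0 1) (by decide +kernel)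
theorem r168_7 : R9 F (g wAp) b168 [] 2 1 := .of (startP 0 1) (by decide +kernel)
theorem r168_8 : R9 F (g wAp) b168 [] 2 2 := .of (startP 0 1) (by decide +kernel)
theorem g168 : Gd F (g wAp) (0, p168) [] :=
  good9 ok h168 r168_0 r168_1 r168_2 r168_3 r168_4 r168_5 r168_6 r168_7 r168_8

def b169 : Wd := ⟨0, p169,
  [.Z9, .Z5, .Z0, .X10, .X9, .X8, .X3, .X1, .y10, .y9, .y8, .y7, .hi, .p3, .hi, .p3, .hi, .p5, .hi, .xii, .y2, .hi,
   .p8, .hi, .p2, .tau, .xii, .y2, .p, .xii, .y3, .y10, .hi, .xii, .y5, .tau, .X0, .p7, .xii, .y4, .p4, .xii, .p3,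
   .y1, .hi, .p4, .taui, .xii, .p6, .xii, .p2, .y1, .xii, .y2, .tau, .xii, .y4, .p8],
  [.z, .Z10, .Z7, .Z6, .Z5, .Z4, .Z2, .Z1, .Z0, .X5, .X4, .X2, .X0, .y9, .y7, .y6, .y3, .y2, .y1, .p10, .hi, .p4, .hi,
   .xii, .p, .xii, .hi, .p10, .y9, .tau, .xii, .y6, .p, .xii, .p, .xii, .y4, .y5, .taui, .y1, .xii, .y1, .p9, .xii,
   .y6, .p9, .xii, .y1, .y3, .y9, .taui, .xii, .p9, .xii, .p6, .xii, .y4, .y8, .taui, .xii, .y7, .p10, .xii],
  [.z, .Z9, .Z7, .Z5, .Z3, .Z2, .Z1, .X10, .X9, .X7, .X6, .X5, .X4, .X2, .X1, .y10, .y9, .y7, .y4, .y3, .y2, .y1, .p3,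
   .hi, .p3, .hi, .p7, .hi, .p7, .hi, .p, .xii, .y2, .p3, .hi, .xii, .p10, .y1, .tau, .y1, .xii, .p10, .xii, .y8,
   .p10, .xii, .y1, .y3, .tau, .xii, .p3, .xii, .p2, .xii, .y3, .y9, .y10, .tau, .xii, .p6, .xii, .y1, .p6, .xii, .y8,
   .taui, .xii, .y7, .p]⟩

theorem h169 : Hd F (g wAp) b169 := hdP (by decide +kernel)
theorem r169_0 : R9 F (g wAp) b169 [] 0 0 := .of (startP 0 1) (by decide +kernel)
theorem r169_1 : R9 F (g wAp) b169 [] 0 1 := .of (startP 0 1) (by decide +kernel)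
theorem r169_2 : R9 F (g wAp) b169 [] 0 2 := .of (startP 0 1) (by decide +kernel)
theorem r169_3 : R9 F (g wAp) b169 [] 1 0 := .of (startP 0 1) (by decide +kernel)
theorem r169_4 : R9 F (g wAp) b169 [] 1 1 := .of (startP 0 1) (by decide +kernel)
theorem r169_5 : R9 F (g wAp) b169 [] 1 2 := .of (startP 0 1) (by decide +kernel)
theorem r169_6 : R9 F (g wAp) b169 [] 2 0 := .of (startP 0 1) (by decide +kernel)
theorem r169_7 : R9 F (g wAp) b169 [] 2 1 := .of (startP 0 1) (by decide +kernel)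
theorem r169_8 : R9 F (g wAp) b169 [] 2 2 := .of (startP 0 1) (by decide +kernel)
theorem g169 : Gd F (g wAp) (0, p169) [] :=
  good9 ok h169 r169_0 r169_1 r169_2 r169_3 r169_4 r169_5 r169_6 r169_7 r169_8

theorem all : AllG F (g wAp) LP16 :=
  .cons g160 (.cons g161 (.cons g162 (.cons g163 (.cons g164 (.cons g165 (.cons g166 (.cons g167 (.cons g168 (.cons g169 (.nil))))))))))

end Cfsg.Agent.BX.No33.Bk.P16
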