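import Cfsg.Agent.BX.No33.Cheap
set_option linter.all false

/-!
# Tests, pure case, part 2 (helper5; generated)
-/

set_option autoImplicit false
set_option maxRecDepth 100000
set_option Elab.async false

namespace Cfsg.Agent.BX.No33.Bk.P2

open Cfsg.Agent.H819.U33 Cfsg.Agent.BX.No33.Front

def b20 : Wd := ⟨0, p20,
  [.z, .Z9, .Z7, .Z6, .Z1, .X8, .X7, .X6, .X5, .X4, .X2, .X1, .X0, .y9, .y8, .y7, .y3, .y1, .p4, .hi, .p4, .hi, .p8,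
   .hi, .p3, .hi, .p6, .hi, .xii, .p3, .hi, .xii, .y2, .y3, .p6, .taui, .xii, .p, .xii, .y1, .hi, .xii, .y3, .y8,
   .taui, .xii, .p, .xii, .y1, .y10, .hi, .xii, .y7, .taui, .p6, .xii, .p5, .xii, .tau, .xii, .p5, .hi, .p3, .xii,
   .taui, .xii, .hi, .p7],
  [.z, .Z10, .Z6, .Z5, .Z2, .Z1, .Z0, .X10, .X9, .X8, .X7, .X5, .X4, .X1, .y9, .y8, .y4, .y2, .y1, .hi, .p10, .hi,
   .p5, .hi, .p6, .hi, .p3, .hi, .p3, .hi, .p2, .xii, .p, .xii, .y3, .tau, .xii, .p, .xii, .y4, .hi, .xii, .y5, .y10,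
   .taui, .xii, .y2, .p2, .xii, .p7, .xii, .y7, .y10, .taui, .xii, .p2, .xii, .y5, .p6, .xii, .taui, .xii, .y6, .p],
  [.Z8, .Z5, .Z4, .X10, .X9, .X7, .X5, .X3, .y9, .y7, .y3, .y1, .p9, .hi, .p4, .hi, .p, .hi, .p, .hi, .p5, .hi, .p4,
   .xii, .p10, .xii, .y6, .p2, .xii, .y3, .y10, .taui, .xii, .p, .xii, .hi, .y8, .xii, .y2, .y4, .y7, .tau, .p4, .xii,
   .y4, .p, .xii, .y5, .hi, .p3, .taui, .xii, .y2, .p2, .xii, .p2, .xii, .y10]⟩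

theorem h20 : Hd F (g wAp) b20 := hdP (by decide +kernel)
theorem r20_0 : R9 F (g wAp) b20 [] 0 0 := .of (startP 0 1) (by decide +kernel)
theorem r20_1 : R9 F (g wAp) b20 [] 0 1 := .of (startP 0 1) (by decide +kernel)
theorem r20_2 : R9 F (g wAp) b20 [] 0 2 := .of (startP 0 1) (by decide +kernel)
theorem r20_3 : R9 F (g wAp) b20 [] 1 0 := .of (startP 0 1) (by decide +kernel)
theorem r20_4 : R9 F (g wAp) b20 [] 1 1 := .of (startP 0 1) (by decide +kernel)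
theorem r20_5 : R9 F (g wAp) b20 [] 1 2 := .of (startP 0 1) (by decide +kernel)
theorem r20_6 : R9 F (g wAp) b20 [] 2 0 := .of (startP 0 1) (by decide +kernel)
theorem r20_7 : R9 F (g wAp) b20 [] 2 1 := .of (startP 0 1) (by decide +kernel)
theorem r20_8 : R9 F (g wAp) b20 [] 2 2 := .of (startP 0 1) (by decide +kernel)
theorem g20 : Gd F (g wAp) (0, p20) [] :=
  good9 ok h20 r20_0 r20_1 r20_2 r20_3 r20_4 r20_5 r20_6 r20_7 r20_8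

def b21 : Wd := ⟨0, p21,
  [.Z9, .Z6, .Z4, .Z3, .Z2, .X5, .X4, .X3, .X2, .X1, .y10, .y9, .y7, .y6, .y5, .y3, .p9, .hi, .p4, .hi, .p10, .hi,
   .p10, .xii, .p10, .xii, .y6, .p3, .hi, .p5, .tau, .xii, .p, .xii, .y4, .hi, .xii, .y1, .y2, .y10, .tau, .X0, .p4,
   .xii, .y1, .p3, .hi, .xii, .p5, .tau, .xii, .y2, .p4, .xii, .p4, .y6, .xii, .y4, .taui, .xii, .p8],
  [.Z10, .Z9, .Z8, .Z7, .Z5, .Z3, .Z2, .Z1, .Z0, .X10, .X8, .X6, .X5, .X4, .X3, .X2, .X0, .y6, .p10, .hi, .p4, .hi,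
   .p6, .hi, .p8, .hi, .p10, .hi, .xii, .hi, .xii, .p2, .xii, .y5, .y10, .tau, .y1, .xii, .p10, .xii, .y4, .p10, .xii,
   .y8, .y9, .taui, .X0, .p10, .xii, .y7, .p5, .xii, .y2, .p9, .taui, .xii, .p9, .xii, .y5, .p2, .hi, .p10],
  [.Z8, .Z6, .Z3, .Z2, .Z0, .X10, .X8, .X7, .X3, .y10, .y9, .y7, .y6, .y5, .y3, .y2, .p4, .hi, .p3, .hi, .p10, .hi,
   .p10, .hi, .p7, .hi, .p8, .xii, .p, .xii, .y1, .hi, .xii, .y4, .y5, .tau, .xii, .p, .xii, .y2, .hi, .xii, .y7,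
   .tau, .p8, .xii, .p6, .y3, .xii, .hi, .xii, .y10, .taui, .xii, .p7, .xii, .y5, .y7, .p8, .xii, .y1, .tau, .xii,
   .y8, .p8]⟩

theorem h21 : Hd F (g wAp) b21 := hdP (by decide +kernel)
theorem r21_0 : R9 F (g wAp) b21 [] 0 0 := .of (startP 0 1) (by decide +kernel)
theorem r21_1 : R9 F (g wAp) b21 [] 0 1 := .of (startP 0 1) (by decide +kernel)
theorem r21_2 : R9 F (g wAp) b21 [] 0 2 := .of (startP 0 1) (by decide +kernel)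
theorem r21_3 : R9 F (g wAp) b21 [] 1 0 := .of (startP 0 1) (by decide +kernel)
theorem r21_4 : R9 F (g wAp) b21 [] 1 1 := .of (startP 0 1) (by decide +kernel)
theorem r21_5 : R9 F (g wAp) b21 [] 1 2 := .of (startP 0 1) (by decide +kernel)
theorem r21_6 : R9 F (g wAp) b21 [] 2 0 := .of (startP 0 1) (by decide +kernel)
theorem r21_7 : R9 F (g wAp) b21 [] 2 1 := .of (startP 0 1) (by decide +kernel)
theorem r21_8 : R9 F (g wAp) b21 [] 2 2 := .of (startP 0 1) (by decide +kernel)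
theorem g21 : Gd F (g wAp) (0, p21) [] :=
  good9 ok h21 r21_0 r21_1 r21_2 r21_3 r21_4 r21_5 r21_6 r21_7 r21_8

def b22 : Wd := ⟨0, p22,
  [.Z8, .Z5, .Z3, .Z0, .X9, .X8, .X7, .X6, .X5, .X4, .X3, .y10, .y9, .y8, .y6, .y5, .y1, .p, .hi, .p10, .hi, .p5, .hi,
   .p10, .hi, .p7, .xii, .p, .xii, .y6, .p7, .xii, .y4, .taui, .xii, .y1, .hi, .p8, .xii, .y3, .y7, .p10, .tau, .y1,
   .hi, .xii, .p9, .xii, .taui, .xii, .p3, .xii, .hi, .p8, .y3, .taui, .xii, .y2, .hi, .p10],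
  [.Z7, .Z5, .Z4, .Z3, .Z2, .Z1, .X9, .X7, .X4, .y6, .y4, .y1, .p4, .hi, .p5, .hi, .p7, .hi, .p, .hi, .p6, .xii, .p,
   .xii, .p9, .y1, .taui, .xii, .y6, .p, .xii, .p, .xii, .y7, .tau, .X0, .p9, .xii, .p, .y3, .xii, .y1, .y6, .taui,
   .xii, .p4, .xii, .y4, .y10, .p5, .xii, .taui, .xii, .p7],
  [.Z8, .Z6, .Z5, .Z4, .Z3, .Z2, .Z1, .Z0, .X8, .X7, .X6, .X3, .y9, .y6, .y4, .p10, .hi, .p6, .hi, .p3, .hi, .p7, .hi,
   .p9, .hi, .p, .hi, .p5, .hi, .xii, .p3, .hi, .xii, .y8, .p6, .taui, .y1, .xii, .p10, .xii, .y4, .p10, .xii, .y1,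
   .y3, .tau, .X0, .hi, .xii, .y7, .p5, .xii, .p4, .hi, .p8, .y8, .tau, .xii, .p6, .xii, .y3, .y4, .hi, .p6, .taui,
   .xii, .hi, .p7]⟩

theorem h22 : Hd F (g wAp) b22 := hdP (by decide +kernel)
theorem r22_0 : R9 F (g wAp) b22 [] 0 0 := .of (startP 0 2) (by decide +kernel)
theorem r22_1 : R9 F (g wAp) b22 [] 0 1 := .of (startP 0 1) (by decide +kernel)
theorem r22_2 : R9 F (g wAp) b22 [] 0 2 := .of (startP 0 1) (by decide +kernel)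
theorem r22_3 : R9 F (g wAp) b22 [] 1 0 := .of (startP 0 1) (by decide +kernel)
theorem r22_4 : R9 F (g wAp) b22 [] 1 1 := .of (startP 0 1) (by decide +kernel)
theorem r22_5 : R9 F (g wAp) b22 [] 1 2 := .of (startP 0 1) (by decide +kernel)
theorem r22_6 : R9 F (g wAp) b22 [] 2 0 := .of (startP 0 1) (by decide +kernel)
theorem r22_7 : R9 F (g wAp) b22 [] 2 1 := .of (startP 0 1) (by decide +kernel)
theorem r22_8 : R9 F (g wAp) b22 [] 2 2 := .of (startP 0 1) (by decide +kernel)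
theorem g22 : Gd F (g wAp) (0, p22) [] :=
  good9 ok h22 r22_0 r22_1 r22_2 r22_3 r22_4 r22_5 r22_6 r22_7 r22_8

def b23 : Wd := ⟨0, p23,
  [.z, .Z7, .Z3, .Z2, .Z1, .X9, .X8, .X6, .X5, .X4, .X3, .X0, .y9, .y5, .y4, .hi, .p7, .hi, .p10, .hi, .p10, .hi,
   .p10, .hi, .p2, .hi, .p5, .hi, .xii, .p10, .xii, .y5, .p10, .xii, .y2, .y8, .taui, .p4, .xii, .y6, .p4, .xii, .y3,
   .p2, .hi, .taui, .xii, .p2, .xii, .p2, .y9, .hi, .p6, .tau, .xii, .y2, .p7],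
  [.Z10, .Z9, .Z7, .Z5, .Z4, .Z3, .Z0, .X10, .X9, .X7, .X6, .X4, .X3, .y10, .y9, .y6, .y3, .y2, .p5, .hi, .p10, .hi,
   .p6, .hi, .p8, .hi, .p5, .hi, .p10, .xii, .hi, .p8, .hi, .p5, .hi, .taui, .xii, .y6, .p, .xii, .p, .xii, .y7, .y8,
   .y10, .taui, .p5, .xii, .p10, .xii, .p3, .hi, .y8, .p2, .taui, .xii, .p7, .xii, .y5, .p5, .y10, .xii, .y2, .taui],
  [.Z9, .Z7, .Z6, .Z3, .Z1, .X10, .X5, .X4, .y7, .y6, .y5, .y3, .y1, .p6, .hi, .p3, .hi, .p7, .hi, .p5, .hi, .p9, .hi,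
   .p7, .xii, .y2, .p2, .hi, .tau, .xii, .p, .xii, .hi, .y8, .xii, .y6, .taui, .X0, .p4, .xii, .y1, .p7, .xii, .y5,
   .y10, .p8, .tau, .xii, .p3, .xii, .p7, .y4, .xii, .y2, .taui]⟩

theorem h23 : Hd F (g wAp) b23 := hdP (by decide +kernel)
theorem r23_0 : R9 F (g wAp) b23 [] 0 0 := .of (startP 0 1) (by decide +kernel)
theorem r23_1 : R9 F (g wAp) b23 [] 0 1 := .of (startP 0 1) (by decide +kernel)
theorem r23_2 : R9 F (g wAp) b23 [] 0 2 := .of (startP 0 1) (by decide +kernel)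
theorem r23_3 : R9 F (g wAp) b23 [] 1 0 := .of (startP 0 1) (by decide +kernel)
theorem r23_4 : R9 F (g wAp) b23 [] 1 1 := .of (startP 0 1) (by decide +kernel)
theorem r23_5 : R9 F (g wAp) b23 [] 1 2 := .of (startP 0 1) (by decide +kernel)
theorem r23_6 : R9 F (g wAp) b23 [] 2 0 := .of (startP 0 1) (by decide +kernel)
theorem r23_7 : R9 F (g wAp) b23 [] 2 1 := .of (startP 0 1) (by decide +kernel)
theorem r23_8 : R9 F (g wAp) b23 [] 2 2 := .of (startP 0 1) (by decide +kernel)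
theorem g23 : Gd F (g wAp) (0, p23) [] :=
  good9 ok h23 r23_0 r23_1 r23_2 r23_3 r23_4 r23_5 r23_6 r23_7 r23_8

def b24 : Wd := ⟨0, p24,
  [.Z10, .Z4, .X4, .X0, .y5, .y3, .p10, .hi, .p4, .hi, .p9, .hi, .p3, .hi, .p9, .hi, .p4, .hi, .xii, .y2, .hi, .p8,
   .taui, .xii, .y2, .p, .xii, .y1, .hi, .xii, .y2, .y3, .taui, .xii, .p8, .xii, .y9, .hi, .xii, .y4, .p10, .taui,
   .xii, .p6, .xii, .y5, .p, .xii, .y1, .y9, .taui, .xii, .p6],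
  [.z, .Z10, .Z8, .Z7, .Z6, .Z5, .Z1, .Z0, .X5, .X3, .X1, .y10, .y9, .y8, .y3, .p5, .hi, .p7, .hi, .p5, .hi, .p5, .hi,
   .p5, .hi, .p8, .hi, .xii, .hi, .xii, .y8, .p2, .xii, .y7, .tau, .xii, .y1, .p, .xii, .p, .xii, .y3, .y9, .taui,
   .X0, .xii, .p2, .xii, .y1, .hi, .y10, .xii, .y2, .p9, .taui, .xii, .p8, .xii, .y8, .p9, .y5],
  [.Z10, .Z8, .Z7, .Z5, .Z2, .X8, .X5, .y10, .y9, .y5, .p10, .hi, .p7, .hi, .p7, .hi, .p5, .hi, .p6, .hi, .p2, .hi,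
   .xii, .p, .xii, .y6, .p4, .taui, .xii, .p, .xii, .hi, .y8, .xii, .y6, .taui, .p4, .xii, .p4, .xii, .hi, .y4, .p2,
   .tau, .xii, .p7, .xii, .p5, .hi, .p7, .y6, .tau, .xii, .hi, .p8, .hi]⟩

theorem h24 : Hd F (g wAp) b24 := hdP (by decide +kernel)
theorem r24_0 : R9 F (g wAp) b24 [] 0 0 := .of (startP 0 2) (by decide +kernel)
theorem r24_1 : R9 F (g wAp) b24 [] 0 1 := .of (startP 0 1) (by decide +kernel)
theorem r24_2 : R9 F (g wAp) b24 [] 0 2 := .of (startP 0 1) (by decide +kernel)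
theorem r24_3 : R9 F (g wAp) b24 [] 1 0 := .of (startP 0 1) (by decide +kernel)
theorem r24_4 : R9 F (g wAp) b24 [] 1 1 := .of (startP 0 1) (by decide +kernel)
theorem r24_5 : R9 F (g wAp) b24 [] 1 2 := .of (startP 0 1) (by decide +kernel)
theorem r24_6 : R9 F (g wAp) b24 [] 2 0 := .of (startP 0 1) (by decide +kernel)
theorem r24_7 : R9 F (g wAp) b24 [] 2 1 := .of (startP 0 1) (by decide +kernel)
theorem r24_8 : R9 F (g wAp) b24 [] 2 2 := .of (startP 0 1) (by decide +kernel)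
theorem g24 : Gd F (g wAp) (0, p24) [] :=
  good9 ok h24 r24_0 r24_1 r24_2 r24_3 r24_4 r24_5 r24_6 r24_7 r24_8

def b25 : Wd := ⟨0, p25,
  [.Z9, .Z8, .Z7, .Z2, .Z1, .Z0, .X10, .X5, .X4, .X3, .X1, .X0, .y10, .y7, .y2, .y1, .p3, .hi, .p, .hi, .p6, .hi, .p4,
   .hi, .p8, .hi, .xii, .hi, .xii, .p3, .hi, .p5, .taui, .xii, .y6, .p, .xii, .y10, .p, .xii, .y4, .y5, .tau, .X0,
   .p5, .xii, .p7, .y5, .xii, .y1, .y9, .hi, .tau, .xii, .p3, .xii, .y2, .p7, .xii, .y10, .taui, .xii, .p5, .hi],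
  [.Z10, .Z9, .Z8, .Z7, .Z4, .Z1, .Z0, .X9, .X8, .X7, .X6, .X3, .X2, .X1, .y9, .y8, .y7, .y6, .y4, .y3, .y2, .hi,
   .p10, .hi, .p2, .hi, .p7, .xii, .y2, .p10, .xii, .y9, .tau, .xii, .y6, .p, .xii, .p, .xii, .y6, .tau, .xii, .y1,
   .p8, .xii, .p4, .y9, .xii, .y4, .y5, .tau, .xii, .p9, .xii, .y4, .y7, .p2, .hi, .tau, .xii, .y2, .p4, .hi, .p9],
  [.z, .Z9, .Z8, .Z7, .Z1, .Z0, .X10, .X9, .X7, .X6, .X4, .X2, .X1, .X0, .y10, .y8, .y7, .y4, .y3, .y2, .y1, .p10,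
   .hi, .p6, .hi, .p8, .hi, .p8, .hi, .p10, .hi, .p, .hi, .xii, .y2, .p3, .hi, .xii, .p10, .y1, .tau, .xii, .y2, .p,
   .xii, .y1, .hi, .xii, .y6, .y10, .tau, .X0, .y1, .xii, .y2, .p5, .xii, .y6, .p5, .xii, .y8, .taui, .xii, .p9, .xii,
   .y2, .p6, .xii, .y2, .taui, .xii, .y2, .p5]⟩

theorem h25 : Hd F (g wAp) b25 := hdP (by decide +kernel)
theorem r25_0 : R9 F (g wAp) b25 [] 0 0 := .of (startP 0 1) (by decide +kernel)
theorem r25_1 : R9 F (g wAp) b25 [] 0 1 := .of (startP 0 1) (by decide +kernel)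
theorem r25_2 : R9 F (g wAp) b25 [] 0 2 := .of (startP 0 1) (by decide +kernel)
theorem r25_3 : R9 F (g wAp) b25 [] 1 0 := .of (startP 0 1) (by decide +kernel)
theorem r25_4 : R9 F (g wAp) b25 [] 1 1 := .of (startP 0 2) (by decide +kernel)
theorem r25_5 : R9 F (g wAp) b25 [] 1 2 := .of (startP 0 1) (by decide +kernel)
theorem r25_6 : R9 F (g wAp) b25 [] 2 0 := .of (startP 0 1) (by decide +kernel)
theorem r25_7 : R9 F (g wAp) b25 [] 2 1 := .of (startP 0 1) (by decide +kernel)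
theorem r25_8 : R9 F (g wAp) b25 [] 2 2 := .of (startP 0 1) (by decide +kernel)
theorem g25 : Gd F (g wAp) (0, p25) [] :=
  good9 ok h25 r25_0 r25_1 r25_2 r25_3 r25_4 r25_5 r25_6 r25_7 r25_8

def b26 : Wd := ⟨0, p26,
  [.z, .Z10, .Z9, .Z8, .Z6, .Z3, .X5, .X1, .y5, .y2, .y1, .p8, .hi, .p8, .hi, .p7, .hi, .p10, .hi, .p6, .xii, .p,
   .xii, .y6, .p9, .xii, .y10, .tau, .xii, .p, .xii, .y4, .y10, .hi, .xii, .y6, .taui, .p5, .xii, .p4, .y3, .xii, .y8,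
   .p8, .xii, .tau, .xii, .p4, .xii, .p3, .y3, .y5, .hi, .tau, .xii, .y2, .p7],
  [.z, .Z10, .Z8, .Z7, .Z6, .Z5, .Z2, .X9, .X6, .X5, .X3, .X1, .y5, .y4, .y3, .y2, .y1, .p, .hi, .p10, .hi, .p9, .xii,
   .p, .xii, .y6, .y10, .taui, .xii, .y2, .p, .xii, .y2, .hi, .xii, .y3, .taui, .X0, .p10, .xii, .y10, .p5, .xii, .p8,
   .y9, .hi, .tau, .xii, .p8, .xii, .y5, .p2, .xii, .taui, .xii, .y7, .p4, .hi],
  [.Z8, .Z7, .Z4, .Z3, .Z2, .Z1, .Z0, .X5, .X4, .X3, .X2, .X1, .X0, .y9, .y8, .y6, .y5, .y2, .p5, .hi, .p7, .hi, .p7,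
   .hi, .p6, .hi, .p9, .xii, .hi, .xii, .p5, .hi, .p5, .tau, .xii, .y6, .p, .hi, .xii, .y7, .tau, .p8, .xii, .y7,
   .p10, .xii, .y7, .p6, .taui, .xii, .p6, .xii, .p6, .y8, .xii, .y7, .taui, .xii, .y2, .p4, .hi]⟩

theorem h26 : Hd F (g wAp) b26 := hdP (by decide +kernel)
theorem r26_0 : R9 F (g wAp) b26 [] 0 0 := .of (startP 0 1) (by decide +kernel)
theorem r26_1 : R9 F (g wAp) b26 [] 0 1 := .of (startP 0 1) (by decide +kernel)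
theorem r26_2 : R9 F (g wAp) b26 [] 0 2 := .of (startP 0 1) (by decide +kernel)
theorem r26_3 : R9 F (g wAp) b26 [] 1 0 := .of (startP 0 1) (by decide +kernel)
theorem r26_4 : R9 F (g wAp) b26 [] 1 1 := .of (startP 0 1) (by decide +kernel)
theorem r26_5 : R9 F (g wAp) b26 [] 1 2 := .of (startP 0 2) (by decide +kernel)
theorem r26_6 : R9 F (g wAp) b26 [] 2 0 := .of (startP 0 1) (by decide +kernel)
theorem r26_7 : R9 F (g wAp) b26 [] 2 1 := .of (startP 0 1) (by decide +kernel)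
theorem r26_8 : R9 F (g wAp) b26 [] 2 2 := .of (startP 0 1) (by decide +kernel)
theorem g26 : Gd F (g wAp) (0, p26) [] :=
  good9 ok h26 r26_0 r26_1 r26_2 r26_3 r26_4 r26_5 r26_6 r26_7 r26_8

def b27 : Wd := ⟨0, p27,
  [.z, .Z9, .Z7, .Z4, .Z3, .X10, .X8, .X6, .X1, .X0, .y10, .y4, .y3, .y2, .p8, .hi, .p3, .hi, .p10, .hi, .p10, .hi,
   .p9, .hi, .p3, .hi, .xii, .p10, .xii, .y4, .p10, .xii, .taui, .y1, .xii, .p10, .xii, .y8, .p10, .xii, .y2, .taui,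
   .xii, .p10, .xii, .p5, .y6, .xii, .p6, .taui, .xii, .p8, .xii, .p, .y2, .hi],
  [.Z9, .Z7, .Z6, .Z1, .X9, .X7, .X6, .X2, .X1, .y9, .y8, .y3, .p3, .hi, .p5, .hi, .p7, .hi, .p4, .hi, .p5, .hi, .p9,
   .hi, .xii, .p10, .xii, .y1, .p10, .xii, .y3, .y7, .taui, .y1, .xii, .p10, .xii, .y5, .p10, .tau, .y1, .p9, .xii,
   .p, .xii, .y5, .taui, .xii, .p7, .xii, .y4, .y10, .p, .hi, .p2],
  [.z, .Z9, .Z8, .Z7, .Z4, .Z0, .X10, .X7, .X5, .X3, .X1, .y8, .y7, .y6, .y5, .y1, .hi, .p9, .hi, .p3, .hi, .p6, .hi,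
   .p, .hi, .p5, .hi, .p5, .xii, .p10, .xii, .p9, .xii, .y1, .y2, .tau, .X0, .hi, .xii, .hi, .xii, .p8, .y4, .tau,
   .p6, .xii, .p8, .xii, .p8, .tau, .xii, .p5, .xii, .p4, .y2, .hi]⟩

theorem h27 : Hd F (g wAp) b27 := hdP (by decide +kernel)
theorem r27_0 : R9 F (g wAp) b27 [] 0 0 := .of (startP 0 1) (by decide +kernel)
theorem r27_1 : R9 F (g wAp) b27 [] 0 1 := .of (startP 0 1) (by decide +kernel)
theorem r27_2 : R9 F (g wAp) b27 [] 0 2 := .of (startP 0 1) (by decide +kernel)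
theorem r27_3 : R9 F (g wAp) b27 [] 1 0 := .of (startP 0 1) (by decide +kernel)
theorem r27_4 : R9 F (g wAp) b27 [] 1 1 := .of (startP 0 1) (by decide +kernel)
theorem r27_5 : R9 F (g wAp) b27 [] 1 2 := .of (startP 0 1) (by decide +kernel)
theorem r27_6 : R9 F (g wAp) b27 [] 2 0 := .of (startP 0 1) (by decide +kernel)
theorem r27_7 : R9 F (g wAp) b27 [] 2 1 := .of (startP 0 1) (by decide +kernel)
theorem r27_8 : R9 F (g wAp) b27 [] 2 2 := .of (startP 0 1) (by decide +kernel)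
theorem g27 : Gd F (g wAp) (0, p27) [] :=
  good9 ok h27 r27_0 r27_1 r27_2 r27_3 r27_4 r27_5 r27_6 r27_7 r27_8

def b28 : Wd := ⟨0, p28,
  [.Z6, .Z0, .X9, .X6, .X5, .X4, .X3, .X1, .y9, .y7, .y6, .y5, .y2, .y1, .p, .hi, .p4, .hi, .p4, .hi, .p10, .hi, .p4,
   .hi, .p2, .xii, .p10, .xii, .y4, .p8, .tau, .xii, .p, .xii, .y1, .y6, .hi, .xii, .y5, .y10, .taui, .X0, .xii, .y2,
   .p2, .xii, .hi, .xii, .y3, .p6, .tau, .xii, .p4, .xii, .p8, .xii, .y2, .y4, .tau, .xii, .y2, .hi, .p6],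
  [.z, .Z10, .Z9, .Z8, .Z7, .Z6, .Z5, .Z4, .Z0, .X6, .X5, .X4, .X3, .X2, .y10, .y9, .y8, .y7, .y6, .y5, .y2, .p10,
   .hi, .p6, .hi, .p8, .hi, .p6, .hi, .p9, .xii, .y2, .p10, .tau, .xii, .y2, .p, .xii, .y2, .hi, .xii, .y3, .y10,
   .tau, .p5, .xii, .p7, .y9, .xii, .y1, .p10, .tau, .xii, .p5, .xii, .y4, .y9, .p9, .xii, .y7, .taui],
  [.z, .Z10, .Z8, .Z5, .Z2, .Z1, .Z0, .X8, .X5, .X4, .X3, .X1, .y10, .y8, .y7, .y4, .y2, .p7, .hi, .p4, .hi, .p5, .hi,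
   .p6, .hi, .p3, .hi, .xii, .p10, .xii, .y4, .p10, .xii, .y2, .y8, .taui, .xii, .p, .xii, .y2, .hi, .xii, .y5, .y9,
   .tau, .y1, .xii, .y1, .p4, .xii, .p6, .xii, .y1, .y10, .taui, .xii, .p7, .xii, .y1, .y9, .p8, .xii, .y6, .tau,
   .xii, .p6, .xii, .y4]⟩

theorem h28 : Hd F (g wAp) b28 := hdP (by decide +kernel)
theorem r28_0 : R9 F (g wAp) b28 [] 0 0 := .of (startP 0 1) (by decide +kernel)
theorem r28_1 : R9 F (g wAp) b28 [] 0 1 := .of (startP 0 1) (by decide +kernel)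
theorem r28_2 : R9 F (g wAp) b28 [] 0 2 := .of (startP 0 1) (by decide +kernel)
theorem r28_3 : R9 F (g wAp) b28 [] 1 0 := .of (startP 0 1) (by decide +kernel)
theorem r28_4 : R9 F (g wAp) b28 [] 1 1 := .of (startP 0 1) (by decide +kernel)
theorem r28_5 : R9 F (g wAp) b28 [] 1 2 := .of (startP 0 1) (by decide +kernel)
theorem r28_6 : R9 F (g wAp) b28 [] 2 0 := .of (startP 0 1) (by decide +kernel)
theorem r28_7 : R9 F (g wAp) b28 [] 2 1 := .of (startP 0 1) (by decide +kernel)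
theorem r28_8 : R9 F (g wAp) b28 [] 2 2 := .of (startP 0 1) (by decide +kernel)
theorem g28 : Gd F (g wAp) (0, p28) [] :=
  good9 ok h28 r28_0 r28_1 r28_2 r28_3 r28_4 r28_5 r28_6 r28_7 r28_8

def b29 : Wd := ⟨0, p29,
  [.Z9, .Z8, .Z4, .Z1, .X8, .X3, .X2, .X0, .y10, .y8, .y7, .y5, .y4, .y3, .y2, .y1, .p5, .hi, .p10, .hi, .p6, .hi,
   .p4, .hi, .p6, .tau, .xii, .y2, .p, .xii, .y2, .hi, .xii, .y7, .taui, .X0, .xii, .y1, .hi, .xii, .p10, .xii, .y2,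
   .y9, .tau, .xii, .p7, .xii, .y2, .p10, .xii, .y1, .y9],
  [.z, .Z10, .Z9, .Z8, .Z7, .Z6, .Z4, .X10, .X7, .X4, .X3, .X0, .y10, .y8, .y7, .y3, .y1, .p7, .hi, .p8, .hi, .p10,
   .hi, .p2, .hi, .p4, .hi, .p6, .xii, .y2, .p2, .hi, .taui, .xii, .p, .xii, .hi, .y8, .xii, .y6, .tau, .y1, .xii,
   .y6, .p, .xii, .y2, .p, .xii, .y1, .taui, .xii, .y2, .p, .hi, .xii, .p5, .hi],
  [.z, .Z8, .Z4, .Z1, .Z0, .X10, .X9, .X7, .X6, .X4, .X3, .X2, .X1, .X0, .y10, .y9, .y6, .y5, .y3, .y2, .y1, .hi, .p2,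
   .hi, .p, .hi, .p, .hi, .p8, .hi, .p4, .xii, .p2, .hi, .taui, .xii, .y6, .p, .xii, .y2, .p, .xii, .y1, .y2, .tau,
   .X0, .y1, .xii, .p, .xii, .y1, .hi, .xii, .y3, .y5, .taui, .xii, .p2, .hi, .xii, .y8, .p5]⟩

theorem h29 : Hd F (g wAp) b29 := hdP (by decide +kernel)
theorem r29_0 : R9 F (g wAp) b29 [] 0 0 := .of (startP 0 1) (by decide +kernel)
theorem r29_1 : R9 F (g wAp) b29 [] 0 1 := .of (startP 0 2) (by decide +kernel)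
theorem r29_2 : R9 F (g wAp) b29 [] 0 2 := .of (startP 0 1) (by decide +kernel)
theorem r29_3 : R9 F (g wAp) b29 [] 1 0 := .of (startP 0 1) (by decide +kernel)
theorem r29_4 : R9 F (g wAp) b29 [] 1 1 := .of (startP 0 1) (by decide +kernel)
theorem r29_5 : R9 F (g wAp) b29 [] 1 2 := .of (startP 0 1) (by decide +kernel)
theorem r29_6 : R9 F (g wAp) b29 [] 2 0 := .of (startP 0 1) (by decide +kernel)
theorem r29_7 : R9 F (g wAp) b29 [] 2 1 := .of (startP 0 2) (by decide +kernel)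
theorem r29_8 : R9 F (g wAp) b29 [] 2 2 := .of (startP 0 1) (by decide +kernel)
theorem g29 : Gd F (g wAp) (0, p29) [] :=
  good9 ok h29 r29_0 r29_1 r29_2 r29_3 r29_4 r29_5 r29_6 r29_7 r29_8

theorem all : AllG F (g wAp) LP2 :=
  .cons g20 (.cons g21 (.cons g22 (.cons g23 (.cons g24 (.cons g25 (.cons g26 (.cons g27 (.cons g28 (.cons g29 (.nil))))))))))

end Cfsg.Agent.BX.No33.Bk.P2
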