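import Cfsg.Agent.BX.No33.Cheap
set_option linter.all false

/-!
# Tests, pure case, part 23 (helper5; generated)
-/

set_option autoImplicit false
set_option maxRecDepth 100000
set_option Elab.async false

namespace Cfsg.Agent.BX.No33.Bk.P23

open Cfsg.Agent.H819.U33 Cfsg.Agent.BX.No33.Front

def b230 : Wd := ⟨0, p230,
  [.Z9, .Z7, .Z5, .Z3, .Z2, .Z0, .X9, .X8, .X3, .X1, .X0, .y9, .y8, .y6, .y3, .y2, .hi, .p2, .hi, .p4, .hi, .p, .hi,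
   .p7, .hi, .p, .xii, .hi, .p8, .xii, .hi, .p2, .tau, .y1, .xii, .y1, .hi, .xii, .p10, .xii, .y4, .tau, .X0, .y1,
   .xii, .p9, .xii, .p9, .y5, .xii, .y1, .y9, .taui, .xii, .p5, .xii, .y1, .p8, .xii, .y1, .tau, .xii],
  [.Z7, .Z4, .Z2, .Z1, .Z0, .X8, .X7, .X5, .X4, .X2, .X1, .X0, .y10, .y9, .y7, .y5, .y4, .p3, .hi, .p5, .hi, .p7, .hi,
   .p4, .hi, .p5, .hi, .p7, .xii, .p10, .xii, .y8, .p3, .hi, .tau, .xii, .y1, .p, .xii, .y4, .p, .xii, .y7, .tau, .X0,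
   .p5, .xii, .p7, .y7, .xii, .taui, .xii, .p7, .xii, .y2, .p9, .y9, .tau, .xii, .hi, .p7],
  [.z, .Z8, .Z6, .Z3, .Z2, .Z1, .Z0, .X10, .X8, .X7, .X6, .X2, .y3, .y1, .hi, .p4, .hi, .p7, .hi, .p6, .hi, .p8, .hi,
   .xii, .y2, .hi, .p8, .xii, .taui, .xii, .y1, .p, .xii, .p, .xii, .y1, .y4, .tau, .X0, .xii, .p7, .xii, .y2, .p5,
   .xii, .y1, .p2, .y5, .taui, .xii, .p5, .xii, .y3, .p5, .y1, .xii, .taui, .xii, .y4, .p7]⟩

theorem h230 : Hd F (g wAp) b230 := hdP (by decide +kernel)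
theorem r230_0 : R9 F (g wAp) b230 [] 0 0 := .of (startP 0 1) (by decide +kernel)
theorem r230_1 : R9 F (g wAp) b230 [] 0 1 := .of (startP 0 1) (by decide +kernel)
theorem r230_2 : R9 F (g wAp) b230 [] 0 2 := .of (startP 0 1) (by decide +kernel)
theorem r230_3 : R9 F (g wAp) b230 [] 1 0 := .of (startP 0 1) (by decide +kernel)
theorem r230_4 : R9 F (g wAp) b230 [] 1 1 := .of (startP 0 1) (by decide +kernel)
theorem r230_5 : R9 F (g wAp) b230 [] 1 2 := .of (startP 0 1) (by decide +kernel)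
theorem r230_6 : R9 F (g wAp) b230 [] 2 0 := .of (startP 0 1) (by decide +kernel)
theorem r230_7 : R9 F (g wAp) b230 [] 2 1 := .of (startP 0 1) (by decide +kernel)
theorem r230_8 : R9 F (g wAp) b230 [] 2 2 := .of (startP 0 1) (by decide +kernel)
theorem g230 : Gd F (g wAp) (0, p230) [] :=
  good9 ok h230 r230_0 r230_1 r230_2 r230_3 r230_4 r230_5 r230_6 r230_7 r230_8

def b231 : Wd := ⟨0, p231,
  [.z, .Z7, .Z6, .Z3, .Z0, .X8, .X7, .X5, .X1, .X0, .y9, .y8, .y7, .y6, .y5, .y4, .y2, .y1, .hi, .p, .hi, .p5, .hi,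
   .p8, .hi, .p6, .hi, .p2, .xii, .p2, .hi, .xii, .y1, .y5, .taui, .y1, .xii, .y1, .hi, .xii, .p10, .xii, .y2, .y4,
   .tau, .X0, .p8, .xii, .p4, .xii, .y4, .y8, .p8, .xii, .taui, .xii, .y2, .p7, .xii, .y10, .p, .hi, .p10, .tau, .xii,
   .p3],
  [.Z9, .Z7, .Z6, .Z5, .Z4, .Z2, .X10, .X7, .X4, .y6, .hi, .p9, .hi, .p5, .hi, .p8, .hi, .p8, .hi, .p, .hi, .p8, .xii,
   .p, .xii, .y3, .hi, .p4, .y9, .tau, .y1, .xii, .y1, .p10, .xii, .taui, .X0, .p10, .xii, .y8, .p10, .xii, .y4, .p8,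
   .taui, .xii, .p4, .xii, .p5, .xii, .y1, .taui, .xii, .y7],
  [.z, .Z10, .Z5, .Z2, .Z1, .X10, .X6, .X5, .X3, .X0, .y10, .y9, .y8, .y6, .y4, .y2, .y1, .p10, .hi, .p3, .hi, .p4,
   .hi, .p6, .hi, .p4, .hi, .p9, .hi, .xii, .p10, .xii, .y6, .p3, .hi, .p2, .tau, .xii, .y1, .p, .xii, .p, .xii, .y3,
   .y4, .tau, .X0, .p4, .xii, .p8, .xii, .y4, .p4, .hi, .taui, .xii, .p9, .xii, .y3, .p6, .xii, .y1, .taui, .xii, .y6,
   .p9]⟩

theorem h231 : Hd F (g wAp) b231 := hdP (by decide +kernel)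
theorem r231_0 : R9 F (g wAp) b231 [] 0 0 := .of (startP 0 1) (by decide +kernel)
theorem r231_1 : R9 F (g wAp) b231 [] 0 1 := .of (startP 0 1) (by decide +kernel)
theorem r231_2 : R9 F (g wAp) b231 [] 0 2 := .of (startP 0 1) (by decide +kernel)
theorem r231_3 : R9 F (g wAp) b231 [] 1 0 := .of (startP 0 1) (by decide +kernel)
theorem r231_4 : R9 F (g wAp) b231 [] 1 1 := .of (startP 0 1) (by decide +kernel)
theorem r231_5 : R9 F (g wAp) b231 [] 1 2 := .of (startP 0 1) (by decide +kernel)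
theorem r231_6 : R9 F (g wAp) b231 [] 2 0 := .of (startP 0 1) (by decide +kernel)
theorem r231_7 : R9 F (g wAp) b231 [] 2 1 := .of (startP 0 1) (by decide +kernel)
theorem r231_8 : R9 F (g wAp) b231 [] 2 2 := .of (startP 0 1) (by decide +kernel)
theorem g231 : Gd F (g wAp) (0, p231) [] :=
  good9 ok h231 r231_0 r231_1 r231_2 r231_3 r231_4 r231_5 r231_6 r231_7 r231_8

def b232 : Wd := ⟨0, p232,
  [.Z8, .Z6, .Z3, .X9, .X8, .X7, .X4, .X2, .X0, .y10, .y6, .y4, .y1, .hi, .p9, .hi, .p3, .hi, .p5, .hi, .p8, .hi, .p6,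
   .xii, .p, .xii, .y6, .p4, .hi, .p5, .tau, .y1, .xii, .y2, .hi, .xii, .p10, .xii, .taui, .X0, .p6, .xii, .y8, .hi,
   .p8, .xii, .y6, .p, .tau, .xii, .p8, .xii, .y3, .y5, .p4, .xii, .y8, .tau, .xii, .y7, .p7],
  [.z, .Z9, .Z7, .Z6, .Z4, .Z2, .Z0, .X10, .X9, .X8, .X7, .X5, .X3, .X1, .y9, .y6, .y4, .y3, .y1, .p9, .hi, .p, .hi,
   .p3, .hi, .p7, .hi, .p6, .hi, .p8, .xii, .hi, .xii, .p2, .y7, .xii, .y7, .taui, .xii, .p3, .hi, .xii, .y9, .tau,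
   .X0, .y1, .p6, .xii, .p10, .xii, .y7, .p8, .tau, .xii, .p6, .xii, .p2, .hi, .p2],
  [.Z10, .Z9, .Z7, .Z4, .Z1, .X8, .X5, .X4, .X3, .y10, .y3, .y2, .y1, .p9, .hi, .p3, .hi, .p5, .hi, .p3, .hi, .p, .hi,
   .p4, .hi, .xii, .y2, .p, .xii, .hi, .p10, .tau, .xii, .y6, .p, .xii, .y4, .p, .xii, .y6, .taui, .p7, .xii, .p4,
   .xii, .y8, .p3, .y3, .hi, .p6, .taui, .xii, .p8, .xii, .p4, .y5, .xii, .y7, .taui, .xii, .p5, .hi, .p]⟩

theorem h232 : Hd F (g wAp) b232 := hdP (by decide +kernel)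
theorem r232_0 : R9 F (g wAp) b232 [] 0 0 := .of (startP 0 1) (by decide +kernel)
theorem r232_1 : R9 F (g wAp) b232 [] 0 1 := .of (startP 0 1) (by decide +kernel)
theorem r232_2 : R9 F (g wAp) b232 [] 0 2 := .of (startP 0 1) (by decide +kernel)
theorem r232_3 : R9 F (g wAp) b232 [] 1 0 := .of (startP 0 1) (by decide +kernel)
theorem r232_4 : R9 F (g wAp) b232 [] 1 1 := .of (startP 0 1) (by decide +kernel)
theorem r232_5 : R9 F (g wAp) b232 [] 1 2 := .of (startP 0 1) (by decide +kernel)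
theorem r232_6 : R9 F (g wAp) b232 [] 2 0 := .of (startP 0 1) (by decide +kernel)
theorem r232_7 : R9 F (g wAp) b232 [] 2 1 := .of (startP 0 1) (by decide +kernel)
theorem r232_8 : R9 F (g wAp) b232 [] 2 2 := .of (startP 0 1) (by decide +kernel)
theorem g232 : Gd F (g wAp) (0, p232) [] :=
  good9 ok h232 r232_0 r232_1 r232_2 r232_3 r232_4 r232_5 r232_6 r232_7 r232_8

def b233 : Wd := ⟨0, p233,
  [.Z10, .Z1, .X10, .X7, .X4, .X2, .X0, .y8, .y7, .y6, .y5, .y4, .y3, .hi, .p10, .hi, .p9, .hi, .p9, .hi, .p9, .hi,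
   .p3, .xii, .y2, .hi, .xii, .p5, .taui, .y1, .xii, .y1, .hi, .xii, .p10, .xii, .y3, .y7, .tau, .p6, .xii, .y2, .p10,
   .xii, .p4, .tau, .xii, .y2, .p3, .xii, .y6, .p2, .xii, .y8, .tau, .xii, .y6, .p, .hi],
  [.z, .Z10, .Z9, .Z7, .Z3, .Z1, .X8, .X7, .X6, .X3, .X2, .y10, .y9, .hi, .p2, .hi, .p5, .hi, .p7, .hi, .p5, .hi, .p5,
   .xii, .p10, .xii, .y4, .tau, .xii, .p, .xii, .hi, .y8, .xii, .y1, .y9, .taui, .X0, .p4, .xii, .p7, .xii, .y10,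
   .p10, .hi, .p4, .y9, .taui, .xii, .p7, .xii, .y2, .p7, .xii, .y4, .taui, .xii, .p9],
  [.Z10, .Z8, .Z7, .Z4, .Z3, .Z2, .Z1, .X9, .X3, .y10, .y4, .y1, .p9, .hi, .p10, .hi, .p3, .hi, .p9, .xii, .p, .xii,
   .y1, .y4, .hi, .p8, .tau, .y1, .xii, .p10, .xii, .y8, .p10, .xii, .y2, .y8, .taui, .X0, .xii, .p6, .xii, .p2, .y9,
   .xii, .y1, .y9, .p9, .tau, .xii, .p9, .xii, .y1, .p5, .xii, .y1, .y7, .tau, .xii, .y7, .p5]⟩

theorem h233 : Hd F (g wAp) b233 := hdP (by decide +kernel)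
theorem r233_0 : R9 F (g wAp) b233 [] 0 0 := .of (startP 0 1) (by decide +kernel)
theorem r233_1 : R9 F (g wAp) b233 [] 0 1 := .of (startP 0 1) (by decide +kernel)
theorem r233_2 : R9 F (g wAp) b233 [] 0 2 := .of (startP 0 1) (by decide +kernel)
theorem r233_3 : R9 F (g wAp) b233 [] 1 0 := .of (startP 0 1) (by decide +kernel)
theorem r233_4 : R9 F (g wAp) b233 [] 1 1 := .of (startP 0 1) (by decide +kernel)
theorem r233_5 : R9 F (g wAp) b233 [] 1 2 := .of (startP 0 1) (by decide +kernel)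
theorem r233_6 : R9 F (g wAp) b233 [] 2 0 := .of (startP 0 1) (by decide +kernel)
theorem r233_7 : R9 F (g wAp) b233 [] 2 1 := .of (startP 0 1) (by decide +kernel)
theorem r233_8 : R9 F (g wAp) b233 [] 2 2 := .of (startP 0 1) (by decide +kernel)
theorem g233 : Gd F (g wAp) (0, p233) [] :=
  good9 ok h233 r233_0 r233_1 r233_2 r233_3 r233_4 r233_5 r233_6 r233_7 r233_8

def b234 : Wd := ⟨0, p234,
  [.z, .Z10, .Z7, .Z3, .Z1, .Z0, .X9, .X6, .X2, .y10, .y8, .y7, .y6, .y5, .y4, .hi, .p3, .hi, .p9, .hi, .p9, .hi, .p8,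
   .hi, .p, .xii, .y2, .p10, .taui, .p8, .xii, .y2, .p10, .xii, .y3, .tau, .xii, .p7, .xii, .p, .y10, .hi, .p6, .tau,
   .xii, .y2, .p5, .hi, .p9],
  [.Z10, .Z9, .Z5, .Z4, .X10, .X9, .X6, .X4, .y10, .y9, .y5, .y3, .p4, .hi, .p, .hi, .p, .hi, .p, .hi, .p7, .hi, .p6,
   .taui, .xii, .p, .xii, .y4, .y10, .hi, .xii, .y5, .y10, .tau, .X0, .p6, .xii, .p3, .hi, .xii, .y6, .p, .tau, .xii,
   .p5, .xii, .y4, .y6, .p5, .xii, .y7, .tau, .xii, .p],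
  [.z, .Z9, .Z8, .Z7, .Z6, .Z5, .Z2, .X9, .X8, .X6, .X5, .X3, .X1, .X0, .y10, .y9, .y7, .y5, .y4, .y3, .y2, .p7, .hi,
   .p3, .hi, .p4, .hi, .p8, .hi, .p6, .hi, .p6, .hi, .xii, .p, .xii, .y6, .p4, .taui, .xii, .y6, .p, .xii, .p, .xii,
   .y2, .y4, .y6, .tau, .X0, .y1, .xii, .p5, .xii, .y8, .y10, .p8, .xii, .y2, .taui, .xii, .p3, .xii, .y5, .p, .xii,
   .y10, .tau, .xii, .hi, .xii]⟩

theorem h234 : Hd F (g wAp) b234 := hdP (by decide +kernel)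
theorem r234_0 : R9 F (g wAp) b234 [] 0 0 := .of (startP 0 1) (by decide +kernel)
theorem r234_1 : R9 F (g wAp) b234 [] 0 1 := .of (startP 0 1) (by decide +kernel)
theorem r234_2 : R9 F (g wAp) b234 [] 0 2 := .of (startP 0 1) (by decide +kernel)
theorem r234_3 : R9 F (g wAp) b234 [] 1 0 := .of (startP 0 1) (by decide +kernel)
theorem r234_4 : R9 F (g wAp) b234 [] 1 1 := .of (startP 0 1) (by decide +kernel)
theorem r234_5 : R9 F (g wAp) b234 [] 1 2 := .of (startP 0 1) (by decide +kernel)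
theorem r234_6 : R9 F (g wAp) b234 [] 2 0 := .of (startP 0 1) (by decide +kernel)
theorem r234_7 : R9 F (g wAp) b234 [] 2 1 := .of (startP 0 1) (by decide +kernel)
theorem r234_8 : R9 F (g wAp) b234 [] 2 2 := .of (startP 0 1) (by decide +kernel)
theorem g234 : Gd F (g wAp) (0, p234) [] :=
  good9 ok h234 r234_0 r234_1 r234_2 r234_3 r234_4 r234_5 r234_6 r234_7 r234_8

def b235 : Wd := ⟨0, p235,
  [.z, .Z5, .Z1, .Z0, .X10, .X9, .X6, .X4, .X3, .X2, .X1, .X0, .y10, .y9, .y8, .y6, .y5, .y4, .y3, .y2, .p3, .hi, .p3,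
   .hi, .p7, .hi, .p10, .hi, .p3, .hi, .p2, .xii, .y2, .p10, .taui, .xii, .p, .xii, .y2, .y4, .hi, .p10, .tau, .X0,
   .p5, .xii, .y5, .p, .xii, .y1, .y3, .taui, .xii, .p6, .xii, .y2, .p4, .xii, .y4, .tau],
  [.z, .Z10, .Z7, .Z5, .Z4, .Z0, .X10, .X9, .X8, .X4, .X1, .X0, .y8, .y6, .y3, .y2, .y1, .p10, .hi, .p5, .hi, .p3,
   .hi, .p7, .hi, .p7, .hi, .p8, .xii, .p3, .hi, .xii, .p10, .y7, .tau, .X0, .hi, .xii, .p2, .xii, .y5, .p2, .xii,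
   .y10, .taui, .xii, .y2, .p6, .xii, .y7, .p7, .xii, .y9],
  [.Z9, .Z8, .Z6, .Z5, .Z1, .Z0, .X10, .X9, .X8, .X7, .X5, .X4, .X2, .X1, .y5, .y3, .p3, .hi, .p10, .hi, .p2, .hi,
   .p7, .hi, .p6, .xii, .hi, .xii, .y4, .p9, .xii, .y1, .y9, .taui, .y1, .xii, .y1, .hi, .xii, .y6, .p10, .taui, .p4,
   .xii, .y1, .p5, .hi, .xii, .y7, .tau, .xii, .p3, .xii, .y3, .p4, .xii, .y2, .tau]⟩

theorem h235 : Hd F (g wAp) b235 := hdP (by decide +kernel)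
theorem r235_0 : R9 F (g wAp) b235 [] 0 0 := .of (startP 0 1) (by decide +kernel)
theorem r235_1 : R9 F (g wAp) b235 [] 0 1 := .of (startP 0 1) (by decide +kernel)
theorem r235_2 : R9 F (g wAp) b235 [] 0 2 := .of (startP 0 1) (by decide +kernel)
theorem r235_3 : R9 F (g wAp) b235 [] 1 0 := .of (startP 0 1) (by decide +kernel)
theorem r235_4 : R9 F (g wAp) b235 [] 1 1 := .of (startP 0 1) (by decide +kernel)
theorem r235_5 : R9 F (g wAp) b235 [] 1 2 := .of (startP 0 1) (by decide +kernel)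
theorem r235_6 : R9 F (g wAp) b235 [] 2 0 := .of (startP 0 1) (by decide +kernel)
theorem r235_7 : R9 F (g wAp) b235 [] 2 1 := .of (startP 0 1) (by decide +kernel)
theorem r235_8 : R9 F (g wAp) b235 [] 2 2 := .of (startP 0 1) (by decide +kernel)
theorem g235 : Gd F (g wAp) (0, p235) [] :=
  good9 ok h235 r235_0 r235_1 r235_2 r235_3 r235_4 r235_5 r235_6 r235_7 r235_8

def b236 : Wd := ⟨0, p236,
  [.Z10, .Z7, .Z6, .Z3, .Z0, .X10, .X8, .X7, .X6, .X0, .y10, .y9, .y4, .y2, .y1, .hi, .p8, .hi, .p9, .hi, .p7, .hi,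
   .p6, .hi, .xii, .y2, .p10, .xii, .y8, .p3, .hi, .taui, .xii, .y6, .p, .hi, .xii, .y1, .p3, .hi, .taui, .p9, .xii,
   .y3, .p, .xii, .y5, .y10, .taui, .xii, .y2, .p9, .xii, .y8, .hi, .p8, .tau, .xii, .hi, .p8, .hi],
  [.Z9, .Z8, .Z4, .Z2, .Z1, .Z0, .X8, .X7, .X6, .X5, .X4, .X3, .X1, .X0, .y8, .y4, .hi, .p3, .hi, .p, .hi, .p5, .hi,
   .p8, .hi, .p2, .tau, .xii, .p, .xii, .y1, .y6, .hi, .xii, .y5, .taui, .X0, .xii, .y2, .p10, .xii, .y10, .p9, .xii,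
   .y9, .p3, .taui, .xii, .y2, .p2, .xii, .y7, .p, .taui, .xii, .hi, .p8, .hi],
  [.z, .Z5, .Z4, .Z2, .Z0, .X10, .X9, .X8, .X7, .X6, .X5, .X4, .X1, .y9, .y8, .y5, .y4, .y3, .p7, .hi, .p9, .hi, .p4,
   .hi, .p4, .hi, .p6, .hi, .p, .xii, .p10, .xii, .p9, .xii, .y4, .y6, .tau, .xii, .p, .xii, .y2, .y10, .hi, .xii,
   .y6, .taui, .y1, .xii, .p9, .xii, .y1, .y6, .p9, .xii, .y4, .y5, .y8, .taui, .xii, .p5, .xii, .hi, .p10, .hi, .y5,
   .tau, .xii, .y2, .hi, .p6]⟩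

theorem h236 : Hd F (g wAp) b236 := hdP (by decide +kernel)
theorem r236_0 : R9 F (g wAp) b236 [] 0 0 := .of (startP 0 1) (by decide +kernel)
theorem r236_1 : R9 F (g wAp) b236 [] 0 1 := .of (startP 0 1) (by decide +kernel)
theorem r236_2 : R9 F (g wAp) b236 [] 0 2 := .of (startP 0 1) (by decide +kernel)
theorem r236_3 : R9 F (g wAp) b236 [] 1 0 := .of (startP 0 1) (by decide +kernel)
theorem r236_4 : R9 F (g wAp) b236 [] 1 1 := .of (startP 0 1) (by decide +kernel)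
theorem r236_5 : R9 F (g wAp) b236 [] 1 2 := .of (startP 0 1) (by decide +kernel)
theorem r236_6 : R9 F (g wAp) b236 [] 2 0 := .of (startP 0 1) (by decide +kernel)
theorem r236_7 : R9 F (g wAp) b236 [] 2 1 := .of (startP 0 1) (by decide +kernel)
theorem r236_8 : R9 F (g wAp) b236 [] 2 2 := .of (startP 0 1) (by decide +kernel)
theorem g236 : Gd F (g wAp) (0, p236) [] :=
  good9 ok h236 r236_0 r236_1 r236_2 r236_3 r236_4 r236_5 r236_6 r236_7 r236_8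

def b237 : Wd := ⟨0, p237,
  [.Z10, .Z9, .Z7, .Z4, .Z2, .X10, .X9, .X8, .X5, .X4, .X3, .X0, .y9, .y8, .y6, .y4, .p5, .hi, .p6, .hi, .p10, .hi,
   .p7, .hi, .p, .xii, .hi, .xii, .p5, .y7, .xii, .y9, .taui, .X0, .xii, .p4, .xii, .y4, .y10, .p7, .xii, .y4, .y5,
   .y9, .taui, .xii, .p4, .xii, .y4, .y10, .p, .tau, .xii, .y2, .p8],
  [.Z10, .Z9, .Z7, .Z3, .Z2, .X10, .X8, .X5, .X3, .y10, .y8, .y7, .y6, .y5, .p10, .hi, .p8, .hi, .p, .hi, .p7, .hi,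
   .p9, .hi, .p9, .hi, .p3, .xii, .p, .xii, .y2, .p4, .tau, .p8, .xii, .y1, .y2, .p4, .xii, .y4, .p2, .hi, .tau, .xii,
   .p7, .xii, .y4, .p5, .hi, .p5, .taui, .xii, .y2, .p, .hi, .p],
  [.z, .Z10, .Z9, .Z7, .Z6, .Z4, .Z3, .Z2, .Z1, .Z0, .X9, .X4, .X3, .X0, .y9, .y8, .y7, .y5, .y1, .p10, .hi, .p7, .hi,
   .p6, .hi, .p7, .hi, .p6, .hi, .xii, .p10, .xii, .y5, .p10, .xii, .y8, .tau, .xii, .p, .xii, .hi, .y8, .xii, .y1,
   .y9, .tau, .xii, .p8, .xii, .y3, .y7, .p4, .xii, .y9, .tau, .xii, .p4, .xii, .y3, .y5, .p5, .xii, .y7, .tau, .xii,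
   .y6, .p5, .hi]⟩

theorem h237 : Hd F (g wAp) b237 := hdP (by decide +kernel)
theorem r237_0 : R9 F (g wAp) b237 [] 0 0 := .of (startP 0 1) (by decide +kernel)
theorem r237_1 : R9 F (g wAp) b237 [] 0 1 := .of (startP 0 1) (by decide +kernel)
theorem r237_2 : R9 F (g wAp) b237 [] 0 2 := .of (startP 0 1) (by decide +kernel)
theorem r237_3 : R9 F (g wAp) b237 [] 1 0 := .of (startP 0 1) (by decide +kernel)
theorem r237_4 : R9 F (g wAp) b237 [] 1 1 := .of (startP 0 1) (by decide +kernel)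
theorem r237_5 : R9 F (g wAp) b237 [] 1 2 := .of (startP 0 1) (by decide +kernel)
theorem r237_6 : R9 F (g wAp) b237 [] 2 0 := .of (startP 0 1) (by decide +kernel)
theorem r237_7 : R9 F (g wAp) b237 [] 2 1 := .of (startP 0 1) (by decide +kernel)
theorem r237_8 : R9 F (g wAp) b237 [] 2 2 := .of (startP 0 1) (by decide +kernel)
theorem g237 : Gd F (g wAp) (0, p237) [] :=
  good9 ok h237 r237_0 r237_1 r237_2 r237_3 r237_4 r237_5 r237_6 r237_7 r237_8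

def b238 : Wd := ⟨0, p238,
  [.Z10, .Z9, .Z8, .Z6, .Z4, .Z3, .X10, .X9, .X8, .X7, .X6, .X5, .X1, .y10, .y9, .y8, .y6, .y5, .y2, .y1, .hi, .p2,
   .hi, .p5, .hi, .p7, .hi, .p5, .hi, .p5, .xii, .y2, .hi, .p8, .xii, .y4, .p10, .tau, .y1, .xii, .y1, .hi, .xii,
   .p10, .xii, .y1, .y6, .taui, .p10, .xii, .y8, .p4, .xii, .y5, .p10, .xii, .taui, .xii, .p4, .xii, .y1, .y2, .p8,
   .xii, .taui, .xii, .p7, .xii],
  [.Z6, .Z4, .Z3, .Z1, .X9, .X8, .X7, .X6, .X5, .X4, .X3, .X2, .y10, .y8, .y4, .p8, .hi, .p3, .hi, .p6, .hi, .p10,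
   .hi, .p2, .hi, .p4, .hi, .taui, .xii, .p, .xii, .y1, .hi, .xii, .y1, .y9, .tau, .X0, .xii, .p7, .xii, .y9, .p9,
   .y5, .xii, .y4, .y5, .taui, .xii, .p9, .xii, .p3, .y2, .xii, .y5, .taui, .xii, .p10, .hi],
  [.z, .Z10, .Z9, .Z8, .Z7, .Z6, .Z5, .Z4, .Z2, .Z1, .X6, .X5, .X4, .y2, .p8, .hi, .p6, .hi, .p5, .hi, .p, .hi, .p4,
   .hi, .p, .hi, .xii, .p10, .xii, .p6, .xii, .y7, .y8, .taui, .xii, .p, .xii, .y2, .hi, .xii, .y7, .y10, .tau, .X0,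
   .xii, .p3, .xii, .y1, .p2, .y8, .xii, .y6, .p7, .tau, .xii, .p8, .xii, .y8, .p4, .xii, .y8, .taui, .xii, .p8]⟩

theorem h238 : Hd F (g wAp) b238 := hdP (by decide +kernel)
theorem r238_0 : R9 F (g wAp) b238 [] 0 0 := .of (startP 0 1) (by decide +kernel)
theorem r238_1 : R9 F (g wAp) b238 [] 0 1 := .of (startP 0 1) (by decide +kernel)
theorem r238_2 : R9 F (g wAp) b238 [] 0 2 := .of (startP 0 1) (by decide +kernel)
theorem r238_3 : R9 F (g wAp) b238 [] 1 0 := .of (startP 0 1) (by decide +kernel)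
theorem r238_4 : R9 F (g wAp) b238 [] 1 1 := .of (startP 0 1) (by decide +kernel)
theorem r238_5 : R9 F (g wAp) b238 [] 1 2 := .of (startP 0 1) (by decide +kernel)
theorem r238_6 : R9 F (g wAp) b238 [] 2 0 := .of (startP 0 1) (by decide +kernel)
theorem r238_7 : R9 F (g wAp) b238 [] 2 1 := .of (startP 0 1) (by decide +kernel)
theorem r238_8 : R9 F (g wAp) b238 [] 2 2 := .of (startP 0 1) (by decide +kernel)
theorem g238 : Gd F (g wAp) (0, p238) [] :=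
  good9 ok h238 r238_0 r238_1 r238_2 r238_3 r238_4 r238_5 r238_6 r238_7 r238_8

def b239 : Wd := ⟨0, p239,
  [.Z10, .Z8, .Z7, .Z4, .X8, .X6, .X5, .X2, .X1, .X0, .y10, .y6, .y5, .y3, .y1, .p10, .hi, .p7, .hi, .p7, .hi, .p9,
   .hi, .p5, .hi, .p7, .xii, .p, .xii, .y2, .y4, .hi, .p10, .taui, .xii, .p, .xii, .y3, .y10, .hi, .xii, .y3, .tau,
   .X0, .p10, .xii, .p8, .xii, .y1, .y2, .y7, .p4, .tau, .xii, .hi, .p6, .xii, .p9, .y3, .taui, .xii, .p, .hi, .p4],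
  [.Z10, .Z8, .Z6, .Z5, .Z2, .X10, .X9, .X8, .X3, .y7, .y6, .y5, .y3, .p9, .hi, .p6, .hi, .p5, .hi, .p3, .hi, .p5,
   .hi, .p, .xii, .y2, .p3, .hi, .xii, .y3, .p6, .tau, .xii, .y2, .p, .xii, .y4, .hi, .xii, .y5, .taui, .p9, .xii,
   .y3, .p3, .tau, .xii, .y2, .p6, .xii, .y1],
  [.Z10, .Z9, .Z8, .Z7, .Z6, .Z5, .Z4, .Z3, .Z0, .X9, .X6, .X5, .X4, .X3, .X0, .y10, .y6, .y3, .y1, .p7, .hi, .p10,
   .hi, .p6, .hi, .p10, .hi, .p6, .hi, .p3, .hi, .xii, .p, .xii, .y1, .hi, .p8, .y9, .taui, .y1, .xii, .y2, .hi, .xii,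
   .p10, .xii, .y4, .tau, .p6, .xii, .y2, .p6, .xii, .y9, .p9, .tau, .xii, .p2, .xii, .p2, .hi, .p10, .taui, .xii,
   .p2, .hi]⟩

theorem h239 : Hd F (g wAp) b239 := hdP (by decide +kernel)
theorem r239_0 : R9 F (g wAp) b239 [14] 0 0 := .of (startP 0 1) (by decide +kernel)
theorem r239_1 : R9 F (g wAp) b239 [14] 0 1 := .of' (startP 0 1) (skip := [5]) (by decide +kernel) (by decide)
theorem r239_2 : R9 F (g wAp) b239 [14] 0 2 := .of (startP 0 1) (by decide +kernel)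
theorem r239_3 : R9 F (g wAp) b239 [14] 1 0 := .of (startP 0 1) (by decide +kernel)
theorem r239_4 : R9 F (g wAp) b239 [14] 1 1 := .of (startP 0 1) (by decide +kernel)
theorem r239_5 : R9 F (g wAp) b239 [14] 1 2 := .of (startP 0 1) (by decide +kernel)
theorem r239_6 : R9 F (g wAp) b239 [14] 2 0 := .of (startP 0 1) (by decide +kernel)
theorem r239_7 : R9 F (g wAp) b239 [14] 2 1 := .of (startP 0 1) (by decide +kernel)
theorem r239_8 : R9 F (g wAp) b239 [14] 2 2 := .of (startP 0 1) (by decide +kernel)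
theorem g239 : Gd F (g wAp) (0, p239) [14] :=
  good9 ok h239 r239_0 r239_1 r239_2 r239_3 r239_4 r239_5 r239_6 r239_7 r239_8

theorem all : AllG F (g wAp) LP23 :=
  .cons g230 (.cons g231 (.cons g232 (.cons g233 (.cons g234 (.cons g235 (.cons g236 (.cons g237 (.cons g238 (.cons g239 (.nil))))))))))

end Cfsg.Agent.BX.No33.Bk.P23
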