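import Cfsg.Agent.BX.No33.Cheap
set_option linter.all false

/-!
# Tests, pure case, part 24 (helper5; generated)
-/

set_option autoImplicit false
set_option maxRecDepth 100000
set_option Elab.async false

namespace Cfsg.Agent.BX.No33.Bk.P24

open Cfsg.Agent.H819.U33 Cfsg.Agent.BX.No33.Front

def b240 : Wd := ⟨0, p240,
  [.Z7, .Z6, .Z5, .Z1, .Z0, .X10, .X7, .X6, .X5, .X4, .y9, .y6, .y4, .y3, .y2, .y1, .p7, .hi, .p10, .hi, .p9, .hi,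
   .p10, .hi, .p, .hi, .p2, .xii, .p, .xii, .p4, .xii, .y4, .taui, .xii, .y6, .p, .xii, .y3, .hi, .p8, .tau, .X0,
   .p10, .xii, .p9, .xii, .p5, .y1, .y9, .taui, .xii, .p7, .xii, .y4, .p, .hi, .p9, .taui, .xii, .y2, .p, .hi],
  [.z, .Z10, .Z7, .Z5, .Z1, .X9, .X6, .X4, .X3, .X1, .X0, .y9, .y8, .y5, .y3, .p8, .hi, .p8, .hi, .p9, .hi, .p3, .hi,
   .p5, .hi, .p10, .xii, .hi, .p8, .xii, .p2, .taui, .X0, .y1, .p6, .xii, .p, .xii, .y6, .hi, .p4, .tau, .p7, .xii,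
   .y4, .p7, .xii, .y8, .taui, .xii, .p5, .xii, .y2, .p8, .y3, .xii, .tau, .xii, .y2, .hi, .p8],
  [.z, .Z9, .Z8, .Z5, .X10, .X8, .y8, .y6, .y4, .y1, .p10, .hi, .p5, .hi, .p10, .hi, .p9, .hi, .p6, .hi, .p9, .hi,
   .xii, .p10, .xii, .y4, .p3, .hi, .taui, .X0, .p7, .xii, .p, .hi, .xii, .y7, .p3, .taui, .X0, .p7, .xii, .p7, .xii,
   .p3, .y10, .tau, .xii, .y2, .p5, .xii, .p5, .y10, .xii, .tau, .xii, .y6, .p2, .xii]⟩

theorem h240 : Hd F (g wAp) b240 := hdP (by decide +kernel)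
theorem r240_0 : R9 F (g wAp) b240 [] 0 0 := .of (startP 0 1) (by decide +kernel)
theorem r240_1 : R9 F (g wAp) b240 [] 0 1 := .of (startP 0 1) (by decide +kernel)
theorem r240_2 : R9 F (g wAp) b240 [] 0 2 := .of (startP 0 1) (by decide +kernel)
theorem r240_3 : R9 F (g wAp) b240 [] 1 0 := .of (startP 0 1) (by decide +kernel)
theorem r240_4 : R9 F (g wAp) b240 [] 1 1 := .of (startP 0 1) (by decide +kernel)
theorem r240_5 : R9 F (g wAp) b240 [] 1 2 := .of (startP 0 1) (by decide +kernel)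
theorem r240_6 : R9 F (g wAp) b240 [] 2 0 := .of (startP 0 1) (by decide +kernel)
theorem r240_7 : R9 F (g wAp) b240 [] 2 1 := .of (startP 0 2) (by decide +kernel)
theorem r240_8 : R9 F (g wAp) b240 [] 2 2 := .of (startP 0 1) (by decide +kernel)
theorem g240 : Gd F (g wAp) (0, p240) [] :=
  good9 ok h240 r240_0 r240_1 r240_2 r240_3 r240_4 r240_5 r240_6 r240_7 r240_8

def b241 : Wd := ⟨0, p241,
  [.z, .Z9, .Z3, .Z2, .Z1, .X5, .X4, .X2, .X1, .X0, .y8, .y6, .y5, .y3, .hi, .p5, .hi, .p7, .hi, .p5, .hi, .p5, .hi,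
   .p9, .hi, .xii, .p2, .hi, .xii, .y4, .p10, .tau, .xii, .p, .xii, .y2, .y10, .hi, .xii, .y4, .y7, .taui, .X0, .p2,
   .xii, .p5, .xii, .y2, .hi, .p8, .tau, .xii, .p9, .xii, .y1, .p9, .xii, .y2, .y10, .tau, .xii, .y4, .p7],
  [.z, .Z10, .Z9, .Z6, .Z5, .Z2, .Z0, .X9, .X7, .X5, .X4, .X3, .X1, .X0, .y8, .y4, .y3, .p7, .hi, .p8, .hi, .p10, .hi,
   .p9, .hi, .p9, .xii, .p, .xii, .y10, .p7, .xii, .y2, .tau, .y1, .p8, .xii, .hi, .p8, .xii, .y7, .y10, .tau, .xii,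
   .y2, .p9, .xii, .y5, .p5, .xii, .y7, .tau, .xii, .y4, .p6],
  [.Z10, .Z6, .Z5, .Z4, .Z1, .X5, .X4, .X0, .y10, .y9, .y8, .y7, .y2, .hi, .p7, .hi, .p10, .hi, .p5, .hi, .p8, .hi,
   .p3, .hi, .p7, .xii, .hi, .xii, .y8, .p2, .xii, .y1, .tau, .xii, .y1, .p, .xii, .p, .xii, .y5, .y10, .tau, .p7,
   .xii, .y4, .p5, .xii, .p4, .y8, .tau, .xii, .p2, .xii, .y7, .p, .xii, .y7, .y10, .taui, .xii, .p7, .xii, .y7]⟩

theorem h241 : Hd F (g wAp) b241 := hdP (by decide +kernel)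
theorem r241_0 : R9 F (g wAp) b241 [] 0 0 := .of (startP 0 1) (by decide +kernel)
theorem r241_1 : R9 F (g wAp) b241 [] 0 1 := .of (startP 0 1) (by decide +kernel)
theorem r241_2 : R9 F (g wAp) b241 [] 0 2 := .of (startP 0 1) (by decide +kernel)
theorem r241_3 : R9 F (g wAp) b241 [] 1 0 := .of (startP 0 2) (by decide +kernel)
theorem r241_4 : R9 F (g wAp) b241 [] 1 1 := .of (startP 0 1) (by decide +kernel)
theorem r241_5 : R9 F (g wAp) b241 [] 1 2 := .of (startP 0 1) (by decide +kernel)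
theorem r241_6 : R9 F (g wAp) b241 [] 2 0 := .of (startP 0 1) (by decide +kernel)
theorem r241_7 : R9 F (g wAp) b241 [] 2 1 := .of (startP 0 1) (by decide +kernel)
theorem r241_8 : R9 F (g wAp) b241 [] 2 2 := .of (startP 0 1) (by decide +kernel)
theorem g241 : Gd F (g wAp) (0, p241) [] :=
  good9 ok h241 r241_0 r241_1 r241_2 r241_3 r241_4 r241_5 r241_6 r241_7 r241_8

def b242 : Wd := ⟨0, p242,
  [.Z10, .Z8, .Z4, .Z1, .Z0, .X1, .X0, .y10, .y9, .y8, .y6, .y5, .y4, .y3, .y1, .p10, .hi, .p4, .hi, .p10, .hi, .p8,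
   .hi, .p4, .hi, .p5, .hi, .p3, .xii, .p10, .xii, .y6, .p10, .xii, .y4, .taui, .xii, .p3, .xii, .p10, .y10, .xii,
   .y2],
  [.Z9, .Z8, .Z7, .Z6, .Z3, .Z1, .X10, .X5, .X2, .y9, .y8, .y7, .y6, .y4, .y3, .y1, .p, .hi, .p5, .hi, .p4, .hi, .p,
   .hi, .p9, .xii, .hi, .p10, .tau, .xii, .p, .xii, .y4, .y10, .hi, .xii, .y6, .taui, .X0, .xii, .y2, .hi, .xii, .p10,
   .xii, .y8, .y9, .taui, .xii, .p, .hi, .xii, .p5, .hi],
  [.z, .Z8, .Z7, .Z6, .Z5, .Z4, .Z3, .Z1, .Z0, .X7, .X6, .X4, .X3, .X2, .y9, .y6, .y4, .y3, .p8, .hi, .p, .hi, .p8,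
   .hi, .p5, .hi, .p, .hi, .xii, .hi, .p8, .xii, .y2, .y9, .p2, .taui, .X0, .p4, .xii, .p10, .xii, .y6, .p3, .hi, .p5,
   .tau, .X0, .hi, .xii, .hi, .p8, .xii, .y2, .y3, .taui, .xii, .p6, .xii, .y7, .p10, .xii, .y4, .tau]⟩

theorem h242 : Hd F (g wAp) b242 := hdP (by decide +kernel)
theorem r242_0 : R9 F (g wAp) b242 [] 0 0 := .of (startP 0 1) (by decide +kernel)
theorem r242_1 : R9 F (g wAp) b242 [] 0 1 := .of (startP 0 1) (by decide +kernel)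
theorem r242_2 : R9 F (g wAp) b242 [] 0 2 := .of (startP 0 1) (by decide +kernel)
theorem r242_3 : R9 F (g wAp) b242 [] 1 0 := .of (startP 0 1) (by decide +kernel)
theorem r242_4 : R9 F (g wAp) b242 [] 1 1 := .of (startP 0 1) (by decide +kernel)
theorem r242_5 : R9 F (g wAp) b242 [] 1 2 := .of (startP 0 1) (by decide +kernel)
theorem r242_6 : R9 F (g wAp) b242 [] 2 0 := .of (startP 0 1) (by decide +kernel)
theorem r242_7 : R9 F (g wAp) b242 [] 2 1 := .of (startP 0 1) (by decide +kernel)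
theorem r242_8 : R9 F (g wAp) b242 [] 2 2 := .of (startP 0 1) (by decide +kernel)
theorem g242 : Gd F (g wAp) (0, p242) [] :=
  good9 ok h242 r242_0 r242_1 r242_2 r242_3 r242_4 r242_5 r242_6 r242_7 r242_8

def b243 : Wd := ⟨0, p243,
  [.Z9, .Z7, .Z6, .Z4, .Z2, .X9, .X6, .X5, .X4, .X2, .X1, .X0, .y9, .y7, .y6, .y5, .y4, .y3, .y2, .hi, .p10, .hi, .p5,
   .hi, .p5, .hi, .p9, .hi, .p5, .xii, .p, .xii, .p9, .y1, .taui, .xii, .y2, .p, .xii, .y2, .hi, .xii, .y7, .tau, .X0,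
   .xii, .y2, .hi, .xii, .p8, .xii, .y5, .y8, .p9, .taui, .xii, .p6, .xii, .hi, .p2, .y1, .taui, .xii, .hi, .p8],
  [.z, .Z10, .Z9, .Z4, .Z3, .Z2, .Z1, .X8, .X7, .X6, .X5, .X3, .X2, .X0, .y9, .y8, .y6, .y5, .y3, .y2, .p8, .hi, .p7,
   .hi, .p3, .hi, .p10, .hi, .p10, .hi, .p7, .xii, .y2, .hi, .xii, .p10, .xii, .tau, .xii, .y6, .p, .xii, .p, .xii,
   .y6, .y10, .tau, .y1, .p7, .xii, .p5, .xii, .y1, .y8, .y9, .taui, .xii, .p4, .xii, .p4, .y5, .xii, .y6],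
  [.Z9, .Z8, .Z6, .Z5, .Z4, .Z2, .Z1, .X7, .X5, .X3, .X1, .y9, .y7, .y6, .y5, .y3, .y2, .p4, .hi, .p10, .hi, .p8, .hi,
   .p3, .hi, .p6, .hi, .p7, .xii, .p10, .xii, .y7, .p3, .hi, .p5, .tau, .y1, .xii, .y1, .hi, .xii, .y6, .p10, .xii,
   .y10, .tau, .X0, .p7, .xii, .p9, .xii, .y1, .y5, .hi, .p9, .tau, .xii, .p7, .xii, .y5, .y10, .p7, .taui, .xii, .p,
   .hi, .p4]⟩

theorem h243 : Hd F (g wAp) b243 := hdP (by decide +kernel)
theorem r243_0 : R9 F (g wAp) b243 [] 0 0 := .of (startP 0 1) (by decide +kernel)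
theorem r243_1 : R9 F (g wAp) b243 [] 0 1 := .of (startP 0 1) (by decide +kernel)
theorem r243_2 : R9 F (g wAp) b243 [] 0 2 := .of (startP 0 1) (by decide +kernel)
theorem r243_3 : R9 F (g wAp) b243 [] 1 0 := .of (startP 0 1) (by decide +kernel)
theorem r243_4 : R9 F (g wAp) b243 [] 1 1 := .of (startP 0 1) (by decide +kernel)
theorem r243_5 : R9 F (g wAp) b243 [] 1 2 := .of (startP 0 1) (by decide +kernel)
theorem r243_6 : R9 F (g wAp) b243 [] 2 0 := .of (startP 0 1) (by decide +kernel)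
theorem r243_7 : R9 F (g wAp) b243 [] 2 1 := .of (startP 0 1) (by decide +kernel)
theorem r243_8 : R9 F (g wAp) b243 [] 2 2 := .of (startP 0 1) (by decide +kernel)
theorem g243 : Gd F (g wAp) (0, p243) [] :=
  good9 ok h243 r243_0 r243_1 r243_2 r243_3 r243_4 r243_5 r243_6 r243_7 r243_8

def b244 : Wd := ⟨0, p244,
  [.Z9, .Z5, .Z3, .Z2, .X7, .X3, .X1, .y9, .y8, .y6, .y5, .y2, .y1, .p5, .hi, .p, .hi, .p8, .hi, .p8, .hi, .p, .hi,
   .p3, .xii, .hi, .xii, .p3, .y4, .hi, .tau, .y1, .xii, .p10, .xii, .y1, .y7, .p10, .xii, .y4, .tau, .X0, .p4, .xii,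
   .y2, .p, .xii, .y1, .y2, .taui, .xii, .p9, .xii, .y1, .hi, .y5, .p10, .tau, .xii, .y2, .p2],
  [.z, .Z10, .Z9, .Z4, .Z3, .Z1, .Z0, .X5, .X4, .X2, .X1, .X0, .y10, .y9, .y6, .y4, .p8, .hi, .p9, .hi, .p4, .hi, .p8,
   .hi, .p5, .xii, .p3, .hi, .xii, .y3, .y9, .p10, .tau, .y1, .xii, .p10, .xii, .y4, .p10, .xii, .y4, .y9, .taui, .X0,
   .xii, .y2, .p6, .xii, .y7, .p2, .xii, .y3, .y9, .taui, .xii, .p2, .xii, .y4, .p10, .xii, .y3, .taui],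
  [.z, .Z10, .Z9, .Z5, .Z4, .Z2, .X9, .X7, .X4, .X3, .X2, .X0, .y10, .y9, .y8, .y4, .y2, .p9, .hi, .p6, .hi, .p3, .hi,
   .p5, .hi, .p, .hi, .xii, .p10, .xii, .p9, .y6, .xii, .y5, .taui, .xii, .y6, .p, .xii, .y10, .p, .xii, .y1, .y4,
   .taui, .p9, .xii, .p4, .y8, .xii, .p9, .y7, .xii, .taui, .xii, .p7, .xii, .p9, .xii, .y2, .y5, .tau, .xii, .y7,
   .p2]⟩

theorem h244 : Hd F (g wAp) b244 := hdP (by decide +kernel)
theorem r244_0 : R9 F (g wAp) b244 [] 0 0 := .of (startP 0 1) (by decide +kernel)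
theorem r244_1 : R9 F (g wAp) b244 [] 0 1 := .of (startP 0 1) (by decide +kernel)
theorem r244_2 : R9 F (g wAp) b244 [] 0 2 := .of (startP 0 1) (by decide +kernel)
theorem r244_3 : R9 F (g wAp) b244 [] 1 0 := .of (startP 0 1) (by decide +kernel)
theorem r244_4 : R9 F (g wAp) b244 [] 1 1 := .of (startP 0 1) (by decide +kernel)
theorem r244_5 : R9 F (g wAp) b244 [] 1 2 := .of (startP 0 1) (by decide +kernel)
theorem r244_6 : R9 F (g wAp) b244 [] 2 0 := .of (startP 0 1) (by decide +kernel)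
theorem r244_7 : R9 F (g wAp) b244 [] 2 1 := .of (startP 0 1) (by decide +kernel)
theorem r244_8 : R9 F (g wAp) b244 [] 2 2 := .of (startP 0 1) (by decide +kernel)
theorem g244 : Gd F (g wAp) (0, p244) [] :=
  good9 ok h244 r244_0 r244_1 r244_2 r244_3 r244_4 r244_5 r244_6 r244_7 r244_8

def b245 : Wd := ⟨0, p245,
  [.Z8, .Z7, .Z6, .Z4, .Z1, .Z0, .X9, .X8, .X4, .X3, .X2, .y9, .y8, .y5, .y3, .p5, .hi, .p8, .hi, .p, .hi, .p7, .hi,
   .p5, .hi, .p8, .hi, .xii, .y2, .p10, .xii, .y5, .p5, .tau, .y1, .xii, .p10, .xii, .y5, .p10, .xii, .y9, .taui, .p7,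
   .xii, .hi, .xii, .y7, .y8, .p6, .taui, .xii, .p4, .xii, .y5, .y8, .p5, .xii, .tau, .xii, .y2, .p2],
  [.z, .Z10, .Z6, .Z5, .Z4, .Z3, .Z2, .Z1, .Z0, .X10, .X8, .X6, .X5, .X2, .X1, .y7, .y5, .y4, .y1, .hi, .p7, .hi, .p6,
   .hi, .p6, .hi, .p4, .hi, .p10, .hi, .p5, .xii, .p, .xii, .y6, .p4, .taui, .xii, .y6, .p, .xii, .p, .xii, .y4, .y7,
   .y8, .taui, .X0, .p10, .xii, .p2, .xii, .p2, .y6, .xii, .y10, .tau, .xii, .p5, .xii, .y6, .hi, .p5, .taui, .xii,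
   .hi, .p6],
  [.z, .Z5, .Z4, .Z2, .Z1, .X10, .X7, .X5, .X4, .X2, .X0, .y7, .y5, .y4, .p6, .hi, .p8, .hi, .p9, .hi, .p, .hi, .p2,
   .xii, .hi, .p2, .hi, .taui, .xii, .p, .xii, .y3, .y10, .hi, .xii, .y4, .y5, .tau, .p5, .xii, .p7, .xii, .y4, .y10,
   .p6, .taui, .xii, .p9, .xii, .y9, .p3, .xii, .y10, .tau, .xii, .y2, .p4]⟩

theorem h245 : Hd F (g wAp) b245 := hdP (by decide +kernel)
theorem r245_0 : R9 F (g wAp) b245 [] 0 0 := .of (startP 0 1) (by decide +kernel)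
theorem r245_1 : R9 F (g wAp) b245 [] 0 1 := .of (startP 0 1) (by decide +kernel)
theorem r245_2 : R9 F (g wAp) b245 [] 0 2 := .of (startP 0 1) (by decide +kernel)
theorem r245_3 : R9 F (g wAp) b245 [] 1 0 := .of (startP 0 1) (by decide +kernel)
theorem r245_4 : R9 F (g wAp) b245 [] 1 1 := .of (startP 0 1) (by decide +kernel)
theorem r245_5 : R9 F (g wAp) b245 [] 1 2 := .of (startP 0 1) (by decide +kernel)
theorem r245_6 : R9 F (g wAp) b245 [] 2 0 := .of (startP 0 1) (by decide +kernel)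
theorem r245_7 : R9 F (g wAp) b245 [] 2 1 := .of (startP 0 1) (by decide +kernel)
theorem r245_8 : R9 F (g wAp) b245 [] 2 2 := .of (startP 0 1) (by decide +kernel)
theorem g245 : Gd F (g wAp) (0, p245) [] :=
  good9 ok h245 r245_0 r245_1 r245_2 r245_3 r245_4 r245_5 r245_6 r245_7 r245_8

def b246 : Wd := ⟨0, p246,
  [.Z10, .Z6, .Z3, .X9, .X8, .X5, .X3, .X0, .y10, .y9, .y8, .y5, .y4, .y3, .p3, .hi, .p3, .hi, .p9, .hi, .p9, .hi, .p,
   .hi, .p3, .xii, .p, .hi, .xii, .p5, .hi, .p5, .tau, .xii, .y6, .p, .xii, .hi, .p8, .y3, .tau, .p5, .xii, .y6, .p7,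
   .xii, .y4, .tau, .xii, .p2, .xii, .p10, .y1, .taui, .xii, .y2, .p3, .hi, .p8],
  [.Z10, .Z9, .Z6, .Z3, .Z1, .X10, .X9, .X8, .X7, .X5, .X3, .X2, .y9, .y7, .y6, .y4, .hi, .p10, .hi, .p6, .hi, .p8,
   .hi, .p10, .hi, .p10, .xii, .y2, .p10, .hi, .p, .tau, .xii, .y6, .p, .xii, .p, .xii, .y4, .y7, .tau, .p4, .xii,
   .y1, .p4, .xii, .y8, .hi, .p6, .tau, .xii, .p10, .xii, .y4, .p10, .xii, .y4, .tau],
  [.z, .Z10, .Z9, .Z8, .Z7, .Z5, .Z4, .Z3, .X10, .X7, .X6, .X5, .X1, .X0, .y9, .y5, .y4, .p7, .hi, .p6, .hi, .p10,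
   .hi, .p7, .hi, .p9, .hi, .p, .hi, .xii, .p, .xii, .p7, .xii, .tau, .y1, .xii, .p10, .xii, .y1, .p10, .xii, .y1,
   .y3, .taui, .X0, .y1, .xii, .y1, .p5, .xii, .p2, .y9, .xii, .y8, .tau, .xii, .p4, .xii, .y1, .y10, .p8, .xii, .y5,
   .taui, .xii, .p5]⟩

theorem h246 : Hd F (g wAp) b246 := hdP (by decide +kernel)
theorem r246_0 : R9 F (g wAp) b246 [] 0 0 := .of (startP 0 1) (by decide +kernel)
theorem r246_1 : R9 F (g wAp) b246 [] 0 1 := .of (startP 0 1) (by decide +kernel)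
theorem r246_2 : R9 F (g wAp) b246 [] 0 2 := .of (startP 0 1) (by decide +kernel)
theorem r246_3 : R9 F (g wAp) b246 [] 1 0 := .of (startP 0 1) (by decide +kernel)
theorem r246_4 : R9 F (g wAp) b246 [] 1 1 := .of (startP 0 1) (by decide +kernel)
theorem r246_5 : R9 F (g wAp) b246 [] 1 2 := .of (startP 0 1) (by decide +kernel)
theorem r246_6 : R9 F (g wAp) b246 [] 2 0 := .of (startP 0 1) (by decide +kernel)
theorem r246_7 : R9 F (g wAp) b246 [] 2 1 := .of (startP 0 1) (by decide +kernel)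
theorem r246_8 : R9 F (g wAp) b246 [] 2 2 := .of (startP 0 1) (by decide +kernel)
theorem g246 : Gd F (g wAp) (0, p246) [] :=
  good9 ok h246 r246_0 r246_1 r246_2 r246_3 r246_4 r246_5 r246_6 r246_7 r246_8

def b247 : Wd := ⟨0, p247,
  [.Z9, .Z4, .Z2, .Z1, .Z0, .X10, .X7, .X5, .X1, .X0, .y10, .y9, .y8, .y7, .y5, .y4, .y2, .y1, .hi, .p10, .hi, .p9,
   .hi, .p3, .hi, .p6, .hi, .p3, .xii, .y2, .hi, .p10, .hi, .p8, .tau, .y1, .xii, .y1, .hi, .xii, .p10, .xii, .y1,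
   .y6, .taui, .xii, .y6, .p7, .xii, .p8, .y1, .xii, .y2, .y10, .tau, .xii, .p6, .xii, .y2, .y3, .p6, .xii, .y2, .tau,
   .xii, .y7, .p2],
  [.z, .Z9, .Z7, .Z6, .Z3, .Z1, .Z0, .X8, .X7, .X4, .X2, .y6, .y1, .p, .hi, .p8, .hi, .p5, .hi, .p, .hi, .p2, .hi,
   .xii, .p, .hi, .xii, .p5, .hi, .y8, .p5, .taui, .X0, .p9, .xii, .y3, .p3, .xii, .y4, .p, .taui, .xii, .p5, .xii,
   .y4, .p, .xii, .y3, .tau, .xii, .hi, .p8],
  [.z, .Z8, .Z5, .Z4, .Z1, .X9, .X7, .X5, .X3, .X1, .X0, .y9, .y6, .y2, .p6, .hi, .p3, .hi, .p4, .hi, .p10, .hi, .p,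
   .hi, .p6, .hi, .xii, .y2, .p, .xii, .y6, .tau, .xii, .y6, .p, .xii, .p, .xii, .y6, .y10, .taui, .y1, .xii, .p10,
   .xii, .y2, .p10, .xii, .y10, .tau, .p9, .xii, .hi, .xii, .y9, .tau, .xii, .p6, .xii, .y5, .hi, .p5, .hi, .tau,
   .xii, .y2, .p, .hi]⟩

theorem h247 : Hd F (g wAp) b247 := hdP (by decide +kernel)
theorem r247_0 : R9 F (g wAp) b247 [] 0 0 := .of (startP 0 1) (by decide +kernel)
theorem r247_1 : R9 F (g wAp) b247 [] 0 1 := .of (startP 0 1) (by decide +kernel)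
theorem r247_2 : R9 F (g wAp) b247 [] 0 2 := .of (startP 0 1) (by decide +kernel)
theorem r247_3 : R9 F (g wAp) b247 [] 1 0 := .of (startP 0 1) (by decide +kernel)
theorem r247_4 : R9 F (g wAp) b247 [] 1 1 := .of (startP 0 1) (by decide +kernel)
theorem r247_5 : R9 F (g wAp) b247 [] 1 2 := .of (startP 0 1) (by decide +kernel)
theorem r247_6 : R9 F (g wAp) b247 [] 2 0 := .of (startP 0 1) (by decide +kernel)
theorem r247_7 : R9 F (g wAp) b247 [] 2 1 := .of (startP 0 1) (by decide +kernel)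
theorem r247_8 : R9 F (g wAp) b247 [] 2 2 := .of (startP 0 1) (by decide +kernel)
theorem g247 : Gd F (g wAp) (0, p247) [] :=
  good9 ok h247 r247_0 r247_1 r247_2 r247_3 r247_4 r247_5 r247_6 r247_7 r247_8

def b248 : Wd := ⟨0, p248,
  [.z, .Z9, .Z8, .Z6, .Z2, .X9, .X8, .X7, .X6, .X3, .X2, .X1, .X0, .y10, .y9, .y8, .y7, .y4, .y1, .p8, .hi, .p, .hi,
   .p5, .hi, .p8, .hi, .p2, .hi, .xii, .p, .xii, .p9, .y7, .taui, .xii, .y1, .p, .xii, .y3, .p3, .hi, .taui, .hi,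
   .xii, .y7, .p6, .xii, .taui, .xii, .y2, .p4, .xii, .p, .y8, .tau, .xii, .p7],
  [.Z7, .Z5, .Z4, .Z3, .Z1, .Z0, .X10, .X8, .X7, .X5, .X3, .X2, .y7, .y6, .y4, .y3, .y2, .y1, .p3, .hi, .p6, .hi, .p9,
   .hi, .p8, .hi, .p9, .xii, .y2, .p, .xii, .p8, .xii, .y2, .y7, .tau, .y1, .xii, .p10, .xii, .y4, .p10, .xii, .y2,
   .taui, .X0, .hi, .xii, .p10, .xii, .y4, .p3, .hi, .p7, .taui, .xii, .p2, .xii, .y4, .p7, .xii, .y6, .tau],
  [.z, .Z10, .Z6, .Z5, .Z4, .Z2, .Z1, .X10, .X6, .X4, .X3, .y9, .y6, .y5, .y4, .y3, .y2, .p4, .hi, .p8, .hi, .p6, .hi,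
   .p5, .hi, .p6, .hi, .xii, .p10, .xii, .y4, .p10, .xii, .y2, .taui, .xii, .y1, .p, .xii, .p, .xii, .y2, .y3, .taui,
   .y1, .xii, .p5, .xii, .y6, .p5, .y10, .xii, .y9, .taui, .xii, .p7, .xii, .p9, .xii, .y2, .y4, .y10, .taui, .xii,
   .p4]⟩

theorem h248 : Hd F (g wAp) b248 := hdP (by decide +kernel)
theorem r248_0 : R9 F (g wAp) b248 [] 0 0 := .of (startP 0 1) (by decide +kernel)
theorem r248_1 : R9 F (g wAp) b248 [] 0 1 := .of (startP 0 2) (by decide +kernel)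
theorem r248_2 : R9 F (g wAp) b248 [] 0 2 := .of (startP 0 1) (by decide +kernel)
theorem r248_3 : R9 F (g wAp) b248 [] 1 0 := .of (startP 0 1) (by decide +kernel)
theorem r248_4 : R9 F (g wAp) b248 [] 1 1 := .of (startP 0 1) (by decide +kernel)
theorem r248_5 : R9 F (g wAp) b248 [] 1 2 := .of (startP 0 1) (by decide +kernel)
theorem r248_6 : R9 F (g wAp) b248 [] 2 0 := .of (startP 0 1) (by decide +kernel)
theorem r248_7 : R9 F (g wAp) b248 [] 2 1 := .of (startP 0 1) (by decide +kernel)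
theorem r248_8 : R9 F (g wAp) b248 [] 2 2 := .of (startP 0 1) (by decide +kernel)
theorem g248 : Gd F (g wAp) (0, p248) [] :=
  good9 ok h248 r248_0 r248_1 r248_2 r248_3 r248_4 r248_5 r248_6 r248_7 r248_8

def b249 : Wd := ⟨0, p249,
  [.Z9, .Z8, .Z5, .Z2, .Z1, .X8, .X4, .X2, .X1, .y10, .y8, .y7, .y5, .y2, .p10, .hi, .p5, .hi, .p4, .hi, .p8, .hi,
   .p10, .hi, .p6, .hi, .p5, .xii, .p5, .hi, .p8, .hi, .tau, .xii, .p, .xii, .y4, .hi, .xii, .y7, .y8, .tau, .p2,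
   .xii, .p7, .xii, .p6, .taui, .xii, .p5, .xii, .y1, .y6, .p9, .xii, .y5, .taui, .xii, .p10],
  [.Z9, .Z8, .Z0, .X7, .X5, .X4, .X3, .X1, .y6, .y3, .p6, .hi, .p4, .hi, .p, .hi, .p6, .hi, .p3, .hi, .p6, .xii, .y2,
   .p10, .xii, .y9, .p5, .xii, .tau, .xii, .y2, .p, .xii, .y1, .hi, .xii, .y5, .tau, .X0, .p7, .xii, .p9, .xii, .y1,
   .y5, .p9, .taui, .xii, .y2, .p5, .xii, .p, .hi, .p8],
  [.z, .Z9, .Z8, .Z7, .Z6, .Z0, .X10, .X7, .X5, .X3, .X2, .X1, .y10, .y7, .y6, .y4, .y2, .y1, .hi, .p7, .hi, .p8, .hi,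
   .p7, .hi, .p9, .hi, .p8, .hi, .xii, .y2, .p2, .hi, .xii, .y5, .p3, .tau, .xii, .y6, .p, .xii, .p, .xii, .y6, .tau,
   .p7, .xii, .p8, .xii, .y4, .y5, .p5, .hi, .p5, .taui, .xii, .p4, .xii, .p6, .y8, .xii, .y10, .taui, .xii, .y4, .p]⟩

theorem h249 : Hd F (g wAp) b249 := hdP (by decide +kernel)
theorem r249_0 : R9 F (g wAp) b249 [] 0 0 := .of (startP 0 1) (by decide +kernel)
theorem r249_1 : R9 F (g wAp) b249 [] 0 1 := .of (startP 0 1) (by decide +kernel)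
theorem r249_2 : R9 F (g wAp) b249 [] 0 2 := .of (startP 0 1) (by decide +kernel)
theorem r249_3 : R9 F (g wAp) b249 [] 1 0 := .of (startP 0 1) (by decide +kernel)
theorem r249_4 : R9 F (g wAp) b249 [] 1 1 := .of (startP 0 1) (by decide +kernel)
theorem r249_5 : R9 F (g wAp) b249 [] 1 2 := .of (startP 0 1) (by decide +kernel)
theorem r249_6 : R9 F (g wAp) b249 [] 2 0 := .of (startP 0 1) (by decide +kernel)
theorem r249_7 : R9 F (g wAp) b249 [] 2 1 := .of (startP 0 1) (by decide +kernel)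
theorem r249_8 : R9 F (g wAp) b249 [] 2 2 := .of (startP 0 1) (by decide +kernel)
theorem g249 : Gd F (g wAp) (0, p249) [] :=
  good9 ok h249 r249_0 r249_1 r249_2 r249_3 r249_4 r249_5 r249_6 r249_7 r249_8

theorem all : AllG F (g wAp) LP24 :=
  .cons g240 (.cons g241 (.cons g242 (.cons g243 (.cons g244 (.cons g245 (.cons g246 (.cons g247 (.cons g248 (.cons g249 (.nil))))))))))

end Cfsg.Agent.BX.No33.Bk.P24
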