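import Cfsg.Agent.BX.No33.Cheap
set_option linter.all false

/-!
# Tests, pure case, part 25 (helper5; generated)
-/

set_option autoImplicit false
set_option maxRecDepth 100000
set_option Elab.async false

namespace Cfsg.Agent.BX.No33.Bk.P25

open Cfsg.Agent.H819.U33 Cfsg.Agent.BX.No33.Front

def b250 : Wd := ⟨0, p250,
  [.Z10, .Z3, .Z1, .Z0, .X10, .X8, .X7, .X6, .X5, .X2, .X1, .X0, .y10, .y8, .y6, .y5, .y4, .y3, .y1, .hi, .p, .hi,
   .p4, .hi, .p4, .hi, .p3, .hi, .p, .hi, .p7, .xii, .p2, .hi, .p3, .hi, .tau, .y1, .xii, .y2, .hi, .xii, .y7, .p10,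
   .xii, .y10, .tau, .X0, .p4, .xii, .y1, .p4, .xii, .y8, .taui, .xii, .p7, .xii, .hi, .y10, .xii, .y2, .tau, .xii,
   .y2, .p, .hi],
  [.z, .Z9, .Z5, .Z4, .Z1, .Z0, .X10, .X9, .X2, .X1, .X0, .y8, .y7, .y6, .y5, .y3, .y2, .p8, .hi, .p9, .hi, .p9, .hi,
   .p9, .hi, .p4, .hi, .p5, .xii, .tau, .xii, .p, .xii, .y1, .hi, .xii, .y1, .y10, .taui, .xii, .p2, .xii, .y2, .p,
   .y4, .xii, .y10, .tau, .xii, .p3, .xii, .p, .y10, .xii, .y7, .y10, .taui, .xii, .p7],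
  [.z, .Z9, .Z6, .Z4, .Z3, .Z2, .Z0, .X9, .X8, .X5, .X3, .X0, .y10, .y9, .y8, .y5, .y2, .p9, .hi, .p6, .hi, .p3, .hi,
   .p3, .hi, .p6, .hi, .p4, .hi, .p7, .hi, .xii, .p10, .xii, .y5, .p10, .xii, .y8, .y10, .tau, .xii, .p, .xii, .y1,
   .hi, .xii, .y2, .y7, .taui, .p10, .xii, .p9, .xii, .y6, .p2, .y10, .taui, .xii, .p4, .xii, .y5, .p4, .xii, .y9,
   .taui]⟩

theorem h250 : Hd F (g wAp) b250 := hdP (by decide +kernel)
theorem r250_0 : R9 F (g wAp) b250 [] 0 0 := .of (startP 0 1) (by decide +kernel)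
theorem r250_1 : R9 F (g wAp) b250 [] 0 1 := .of (startP 0 1) (by decide +kernel)
theorem r250_2 : R9 F (g wAp) b250 [] 0 2 := .of (startP 0 1) (by decide +kernel)
theorem r250_3 : R9 F (g wAp) b250 [] 1 0 := .of (startP 0 1) (by decide +kernel)
theorem r250_4 : R9 F (g wAp) b250 [] 1 1 := .of (startP 0 1) (by decide +kernel)
theorem r250_5 : R9 F (g wAp) b250 [] 1 2 := .of (startP 0 1) (by decide +kernel)
theorem r250_6 : R9 F (g wAp) b250 [] 2 0 := .of (startP 0 1) (by decide +kernel)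
theorem r250_7 : R9 F (g wAp) b250 [] 2 1 := .of (startP 0 1) (by decide +kernel)
theorem r250_8 : R9 F (g wAp) b250 [] 2 2 := .of (startP 0 1) (by decide +kernel)
theorem g250 : Gd F (g wAp) (0, p250) [] :=
  good9 ok h250 r250_0 r250_1 r250_2 r250_3 r250_4 r250_5 r250_6 r250_7 r250_8

def b251 : Wd := ⟨0, p251,
  [.z, .Z7, .Z5, .Z2, .X7, .X5, .X2, .y10, .y8, .y3, .p10, .hi, .p2, .hi, .p3, .hi, .p3, .hi, .p4, .hi, .p10, .xii,
   .y2, .p, .xii, .y1, .y2, .tau, .y1, .xii, .p10, .xii, .y8, .p10, .xii, .y8, .y10, .tau, .p8, .xii, .y8, .p, .xii,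
   .y1, .y6, .hi, .tau, .xii, .p5, .xii, .y8, .p5, .xii, .y2, .taui, .xii, .p10, .xii, .y10],
  [.Z8, .Z7, .Z6, .Z5, .Z1, .Z0, .X10, .X8, .X1, .y9, .y8, .y6, .y2, .y1, .p3, .hi, .p5, .hi, .p3, .hi, .p7, .hi, .p8,
   .tau, .xii, .y1, .p, .xii, .y10, .p, .xii, .y6, .taui, .xii, .p, .xii, .hi, .y8, .xii, .y2, .y7, .y10, .tau, .p5,
   .xii, .p, .y7, .xii, .taui, .xii, .p10, .xii, .y9, .p6, .xii],
  [.z, .Z10, .Z6, .Z5, .Z3, .Z1, .Z0, .X10, .X7, .X4, .X3, .X2, .X1, .y8, .y3, .y2, .p9, .hi, .p8, .hi, .p3, .hi,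
   .p10, .hi, .p10, .hi, .p5, .xii, .p, .xii, .y3, .y10, .tau, .y1, .xii, .y6, .p10, .xii, .y8, .p10, .xii, .y2, .y4,
   .taui, .y1, .xii, .p, .xii, .hi, .y7, .xii, .y3, .y6, .tau, .xii, .p2, .xii, .p, .y10, .xii, .y4, .tau, .xii, .hi,
   .p10]⟩

theorem h251 : Hd F (g wAp) b251 := hdP (by decide +kernel)
theorem r251_0 : R9 F (g wAp) b251 [] 0 0 := .of (startP 0 1) (by decide +kernel)
theorem r251_1 : R9 F (g wAp) b251 [] 0 1 := .of (startP 0 1) (by decide +kernel)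
theorem r251_2 : R9 F (g wAp) b251 [] 0 2 := .of (startP 0 1) (by decide +kernel)
theorem r251_3 : R9 F (g wAp) b251 [] 1 0 := .of (startP 0 1) (by decide +kernel)
theorem r251_4 : R9 F (g wAp) b251 [] 1 1 := .of (startP 0 1) (by decide +kernel)
theorem r251_5 : R9 F (g wAp) b251 [] 1 2 := .of (startP 0 1) (by decide +kernel)
theorem r251_6 : R9 F (g wAp) b251 [] 2 0 := .of (startP 0 1) (by decide +kernel)
theorem r251_7 : R9 F (g wAp) b251 [] 2 1 := .of (startP 0 1) (by decide +kernel)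
theorem r251_8 : R9 F (g wAp) b251 [] 2 2 := .of (startP 0 1) (by decide +kernel)
theorem g251 : Gd F (g wAp) (0, p251) [] :=
  good9 ok h251 r251_0 r251_1 r251_2 r251_3 r251_4 r251_5 r251_6 r251_7 r251_8

def b252 : Wd := ⟨0, p252,
  [.Z9, .Z8, .Z5, .Z2, .Z1, .Z0, .X6, .X4, .X3, .y10, .y9, .y5, .y4, .y1, .p4, .hi, .p9, .hi, .p6, .hi, .p4, .hi, .p5,
   .hi, .p6, .xii, .p10, .hi, .p8, .tau, .xii, .p, .hi, .xii, .y9, .p10, .tau, .p8, .xii, .y6, .p10, .xii, .y8, .tau,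
   .xii, .p6, .xii, .y4, .y5, .taui, .xii, .p10, .hi, .p9],
  [.Z10, .Z8, .Z5, .Z4, .Z3, .X8, .X6, .X4, .y10, .y9, .y8, .y7, .p7, .hi, .p5, .hi, .p3, .hi, .p9, .hi, .p8, .hi,
   .p4, .hi, .xii, .y2, .hi, .p10, .hi, .p8, .taui, .y1, .xii, .y6, .p10, .xii, .y8, .p10, .xii, .y2, .y4, .taui, .p4,
   .xii, .p7, .xii, .y8, .p, .taui],
  [.z, .Z4, .Z3, .Z0, .X8, .X7, .X5, .X4, .X3, .X2, .X0, .y10, .y9, .y8, .y5, .y4, .y3, .y2, .y1, .p6, .hi, .p8, .hi,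
   .p10, .hi, .p7, .hi, .p3, .hi, .p2, .xii, .y2, .p2, .hi, .p3, .hi, .taui, .xii, .p, .xii, .y3, .hi, .xii, .y2, .y7,
   .taui, .p2, .xii, .p4, .xii, .p2, .hi, .p7, .y4, .taui, .xii, .p7, .xii, .p8, .y8, .xii, .y4, .y9, .taui]⟩

theorem h252 : Hd F (g wAp) b252 := hdP (by decide +kernel)
theorem r252_0 : R9 F (g wAp) b252 [25, 43, 61] 0 0 := .of (startP 0 1) (by decide +kernel)
theorem r252_1 : R9 F (g wAp) b252 [25, 43, 61] 0 1 := .of (startP 0 1) (by decide +kernel)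
theorem r252_2 : R9 F (g wAp) b252 [25, 43, 61] 0 2 := .of' (startP 0 1) (skip := [7]) (by decide +kernel) (by decide)
theorem r252_3 : R9 F (g wAp) b252 [25, 43, 61] 1 0 := .of (startP 0 1) (by decide +kernel)
theorem r252_4 : R9 F (g wAp) b252 [25, 43, 61] 1 1 := .of' (startP 0 1) (skip := [7]) (by decide +kernel) (by decide)
theorem r252_5 : R9 F (g wAp) b252 [25, 43, 61] 1 2 := .of (startP 0 1) (by decide +kernel)
theorem r252_6 : R9 F (g wAp) b252 [25, 43, 61] 2 0 := .of' (startP 0 1) (skip := [7]) (by decide +kernel) (by decide)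
theorem r252_7 : R9 F (g wAp) b252 [25, 43, 61] 2 1 := .of (startP 0 1) (by decide +kernel)
theorem r252_8 : R9 F (g wAp) b252 [25, 43, 61] 2 2 := .of (startP 0 1) (by decide +kernel)
theorem g252 : Gd F (g wAp) (0, p252) [25, 43, 61] :=
  good9 ok h252 r252_0 r252_1 r252_2 r252_3 r252_4 r252_5 r252_6 r252_7 r252_8

def b253 : Wd := ⟨0, p253,
  [.Z9, .Z6, .Z5, .Z1, .X10, .X8, .X7, .X6, .X2, .X0, .y10, .y6, .y1, .p3, .hi, .p10, .hi, .p9, .hi, .p4, .hi, .p6,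
   .hi, .xii, .p10, .xii, .y1, .y2, .p6, .xii, .y7, .tau, .y1, .xii, .p10, .xii, .y4, .p10, .xii, .y2, .taui, .X0,
   .p9, .xii, .p8, .xii, .y5, .p4, .y4, .xii, .tau, .xii, .y2, .p4, .xii, .p3, .hi, .p6, .taui, .xii, .p8],
  [.Z10, .Z8, .Z6, .Z5, .Z3, .Z0, .X8, .X5, .X3, .y9, .y5, .y4, .y2, .y1, .hi, .p2, .hi, .p6, .hi, .p3, .hi, .p5, .hi,
   .p4, .xii, .hi, .xii, .y4, .p9, .xii, .y1, .tau, .X0, .p7, .xii, .p10, .xii, .p5, .y7, .taui, .p9, .xii, .p2, .y7,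
   .xii, .p9, .y9, .tau, .xii, .p7, .xii, .y10, .p7, .xii, .y3, .y4, .taui, .xii, .y6, .p],
  [.Z9, .Z8, .Z7, .Z6, .Z4, .X8, .X7, .X6, .X5, .X2, .X1, .X0, .y9, .y7, .y6, .y4, .y1, .p5, .hi, .p, .hi, .p6, .hi,
   .p9, .hi, .p3, .hi, .p3, .xii, .p, .xii, .hi, .y7, .p8, .taui, .xii, .y1, .p, .xii, .p, .xii, .y4, .y7, .taui, .p8,
   .xii, .hi, .y5, .p8, .xii, .y3, .p4, .taui, .xii, .y2, .p6, .xii, .y3, .p, .xii, .y1, .y6, .taui, .xii, .p7]⟩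

theorem h253 : Hd F (g wAp) b253 := hdP (by decide +kernel)
theorem r253_0 : R9 F (g wAp) b253 [] 0 0 := .of (startP 0 1) (by decide +kernel)
theorem r253_1 : R9 F (g wAp) b253 [] 0 1 := .of (startP 0 1) (by decide +kernel)
theorem r253_2 : R9 F (g wAp) b253 [] 0 2 := .of (startP 0 1) (by decide +kernel)
theorem r253_3 : R9 F (g wAp) b253 [] 1 0 := .of (startP 0 1) (by decide +kernel)
theorem r253_4 : R9 F (g wAp) b253 [] 1 1 := .of (startP 0 1) (by decide +kernel)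
theorem r253_5 : R9 F (g wAp) b253 [] 1 2 := .of (startP 0 1) (by decide +kernel)
theorem r253_6 : R9 F (g wAp) b253 [] 2 0 := .of (startP 0 1) (by decide +kernel)
theorem r253_7 : R9 F (g wAp) b253 [] 2 1 := .of (startP 0 1) (by decide +kernel)
theorem r253_8 : R9 F (g wAp) b253 [] 2 2 := .of (startP 0 1) (by decide +kernel)
theorem g253 : Gd F (g wAp) (0, p253) [] :=
  good9 ok h253 r253_0 r253_1 r253_2 r253_3 r253_4 r253_5 r253_6 r253_7 r253_8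

def b254 : Wd := ⟨0, p254,
  [.Z10, .Z7, .Z6, .Z3, .Z1, .X10, .X9, .X7, .X6, .X0, .y6, .y5, .y4, .y3, .y2, .y1, .hi, .p8, .hi, .p5, .hi, .p4,
   .hi, .p7, .hi, .p4, .xii, .hi, .xii, .p10, .xii, .y2, .y9, .taui, .y1, .xii, .y1, .hi, .xii, .p10, .hi, .p8, .taui,
   .X0, .p5, .xii, .p3, .y2, .hi, .taui, .xii, .y2, .p5, .xii, .p7, .y5],
  [.Z9, .Z8, .Z7, .Z6, .Z5, .Z4, .Z2, .Z1, .X10, .X7, .X6, .X5, .X4, .X3, .X2, .X1, .y10, .y9, .y8, .y5, .hi, .p9,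
   .hi, .p5, .hi, .p10, .hi, .p7, .hi, .p8, .hi, .p, .hi, .xii, .y2, .p10, .tau, .xii, .p, .xii, .y1, .hi, .xii, .y3,
   .y10, .tau, .X0, .p8, .xii, .y7, .hi, .p8, .xii, .y7, .y10, .tau, .xii, .y2, .p4, .xii, .p10, .hi, .p5, .taui,
   .xii, .p2],
  [.z, .Z8, .Z7, .Z4, .Z3, .Z2, .Z0, .X10, .X7, .X6, .X5, .X3, .X1, .X0, .y10, .y7, .y6, .y3, .y1, .p10, .hi, .p8,
   .hi, .p5, .hi, .p9, .hi, .p9, .hi, .p6, .xii, .hi, .xii, .p9, .y4, .xii, .y1, .tau, .xii, .y1, .p, .xii, .y2, .p,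
   .xii, .y3, .y4, .tau, .X0, .y1, .p8, .xii, .p, .xii, .hi, .p4, .y7, .tau, .xii, .y2, .p7, .xii, .y4, .p9, .xii,
   .y5, .tau, .xii, .hi]⟩

theorem h254 : Hd F (g wAp) b254 := hdP (by decide +kernel)
theorem r254_0 : R9 F (g wAp) b254 [0, 53, 67] 0 0 := .of' (startP 0 1) (skip := [0]) (by decide +kernel) (by decide)
theorem r254_1 : R9 F (g wAp) b254 [0, 53, 67] 0 1 := .of (startP 0 1) (by decide +kernel)
theorem r254_2 : R9 F (g wAp) b254 [0, 53, 67] 0 2 := .of (startP 0 1) (by decide +kernel)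
theorem r254_3 : R9 F (g wAp) b254 [0, 53, 67] 1 0 := .of (startP 0 1) (by decide +kernel)
theorem r254_4 : R9 F (g wAp) b254 [0, 53, 67] 1 1 := .of (startP 0 2) (by decide +kernel)
theorem r254_5 : R9 F (g wAp) b254 [0, 53, 67] 1 2 := .of' (startP 0 1) (skip := [8]) (by decide +kernel) (by decide)
theorem r254_6 : R9 F (g wAp) b254 [0, 53, 67] 2 0 := .of (startP 0 1) (by decide +kernel)
theorem r254_7 : R9 F (g wAp) b254 [0, 53, 67] 2 1 := .of' (startP 0 1) (skip := [4]) (by decide +kernel) (by decide)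
theorem r254_8 : R9 F (g wAp) b254 [0, 53, 67] 2 2 := .of (startP 0 1) (by decide +kernel)
theorem g254 : Gd F (g wAp) (0, p254) [0, 53, 67] :=
  good9 ok h254 r254_0 r254_1 r254_2 r254_3 r254_4 r254_5 r254_6 r254_7 r254_8

def b255 : Wd := ⟨0, p255,
  [.Z10, .Z4, .Z3, .Z2, .Z1, .X9, .X8, .X7, .X4, .X3, .X0, .y6, .y3, .y1, .p6, .hi, .p7, .hi, .p9, .hi, .p3, .hi, .p9,
   .xii, .y2, .p3, .hi, .p8, .hi, .p6, .tau, .y1, .xii, .hi, .xii, .y5, .tau, .p9, .xii, .y3, .y9, .p, .xii, .y10,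
   .tau, .xii, .p9, .xii, .y6, .hi, .xii, .y3, .y9],
  [.z, .Z9, .Z8, .Z6, .Z3, .Z2, .Z1, .Z0, .X10, .X9, .X8, .X7, .X6, .X0, .y10, .y8, .y6, .y5, .y4, .p10, .hi, .p7,
   .hi, .p7, .hi, .p10, .hi, .p9, .hi, .p, .hi, .xii, .p5, .hi, .p5, .tau, .X0, .xii, .y2, .hi, .xii, .y9, .p10, .xii,
   .y2, .taui, .xii, .y2, .p6],
  [.z, .Z9, .Z8, .Z7, .Z6, .Z5, .Z4, .Z0, .X6, .X2, .X1, .X0, .y8, .y6, .y4, .y1, .hi, .p8, .hi, .p6, .hi, .p3, .hi,
   .p9, .hi, .p5, .hi, .p2, .hi, .xii, .y2, .hi, .xii, .p5, .hi, .p8, .taui, .X0, .p4, .xii, .p10, .xii, .p8, .y3,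
   .tau, .X0, .p9, .xii, .p10, .xii, .y1, .y9, .taui, .xii, .p2, .hi, .xii, .y5, .y7, .p5, .hi]⟩

theorem h255 : Hd F (g wAp) b255 := hdP (by decide +kernel)
theorem r255_0 : R9 F (g wAp) b255 [6] 0 0 := .of' (startP 0 1) (skip := [6]) (by decide +kernel) (by decide)
theorem r255_1 : R9 F (g wAp) b255 [6] 0 1 := .of (startP 0 1) (by decide +kernel)
theorem r255_2 : R9 F (g wAp) b255 [6] 0 2 := .of (startP 0 1) (by decide +kernel)
theorem r255_3 : R9 F (g wAp) b255 [6] 1 0 := .of (startP 0 1) (by decide +kernel)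
theorem r255_4 : R9 F (g wAp) b255 [6] 1 1 := .of (startP 0 1) (by decide +kernel)
theorem r255_5 : R9 F (g wAp) b255 [6] 1 2 := .of (startP 0 1) (by decide +kernel)
theorem r255_6 : R9 F (g wAp) b255 [6] 2 0 := .of (startP 0 1) (by decide +kernel)
theorem r255_7 : R9 F (g wAp) b255 [6] 2 1 := .of (startP 0 1) (by decide +kernel)
theorem r255_8 : R9 F (g wAp) b255 [6] 2 2 := .of (startP 0 1) (by decide +kernel)
theorem g255 : Gd F (g wAp) (0, p255) [6] :=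
  good9 ok h255 r255_0 r255_1 r255_2 r255_3 r255_4 r255_5 r255_6 r255_7 r255_8

def b256 : Wd := ⟨0, p256,
  [.z, .Z7, .Z6, .Z3, .Z2, .X9, .X8, .X6, .y5, .y2, .p10, .hi, .p6, .hi, .p6, .hi, .p6, .hi, .p2, .hi, .xii, .p, .xii,
   .y6, .p4, .tau, .xii, .p, .xii, .hi, .y8, .xii, .y7, .y10, .tau, .p8, .xii, .y7, .p4, .xii, .y3, .p2, .taui, .xii,
   .p8, .xii, .y9, .p8, .hi, .tau, .xii, .y2, .hi, .p2],
  [.Z10, .Z8, .Z7, .Z5, .Z3, .Z2, .Z1, .X9, .X7, .X5, .X1, .X0, .y9, .y4, .y3, .y2, .p, .hi, .p10, .hi, .p7, .hi, .p3,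
   .hi, .p10, .hi, .p7, .hi, .xii, .y2, .p, .xii, .y6, .taui, .xii, .y1, .p, .xii, .y4, .p, .xii, .y6, .y10, .tau,
   .X0, .xii, .y2, .p7, .xii, .p8, .xii, .y2, .y7, .taui, .xii, .y2, .p5, .xii, .y5, .p2, .xii, .y2],
  [.z, .Z10, .Z8, .Z5, .Z4, .Z3, .Z2, .Z1, .X8, .X6, .X5, .X3, .X2, .X0, .y10, .y9, .y7, .y4, .y1, .p10, .hi, .p6,
   .hi, .p6, .hi, .p6, .hi, .p4, .hi, .p4, .xii, .p2, .hi, .p3, .hi, .taui, .xii, .y1, .p, .xii, .p, .xii, .y7, .y8,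
   .tau, .X0, .xii, .p8, .xii, .y9, .p3, .xii, .y8, .y9, .taui, .xii, .y2, .p6, .xii, .y7, .p, .xii, .y4, .tau, .xii,
   .p9]⟩

theorem h256 : Hd F (g wAp) b256 := hdP (by decide +kernel)
theorem r256_0 : R9 F (g wAp) b256 [67] 0 0 := .of (startP 0 1) (by decide +kernel)
theorem r256_1 : R9 F (g wAp) b256 [67] 0 1 := .of (startP 0 1) (by decide +kernel)
theorem r256_2 : R9 F (g wAp) b256 [67] 0 2 := .of (startP 0 1) (by decide +kernel)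
theorem r256_3 : R9 F (g wAp) b256 [67] 1 0 := .of (startP 0 1) (by decide +kernel)
theorem r256_4 : R9 F (g wAp) b256 [67] 1 1 := .of (startP 0 1) (by decide +kernel)
theorem r256_5 : R9 F (g wAp) b256 [67] 1 2 := .of (startP 0 1) (by decide +kernel)
theorem r256_6 : R9 F (g wAp) b256 [67] 2 0 := .of (startP 0 1) (by decide +kernel)
theorem r256_7 : R9 F (g wAp) b256 [67] 2 1 := .of' (startP 0 1) (skip := [4]) (by decide +kernel) (by decide)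
theorem r256_8 : R9 F (g wAp) b256 [67] 2 2 := .of (startP 0 1) (by decide +kernel)
theorem g256 : Gd F (g wAp) (0, p256) [67] :=
  good9 ok h256 r256_0 r256_1 r256_2 r256_3 r256_4 r256_5 r256_6 r256_7 r256_8

def b257 : Wd := ⟨0, p257,
  [.Z8, .Z5, .Z3, .Z2, .Z1, .X10, .X9, .X7, .X6, .X4, .X3, .X2, .X0, .y10, .y9, .y4, .hi, .p, .hi, .p7, .hi, .p5, .hi,
   .p7, .xii, .y2, .p3, .hi, .xii, .y1, .y3, .taui, .xii, .y6, .hi, .p8, .xii, .y1, .p10, .taui, .p7, .xii, .p7, .xii,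
   .y10, .p6, .taui, .xii, .p6, .xii, .y2, .p7, .xii, .y2, .tau],
  [.z, .Z7, .Z5, .Z3, .Z1, .X9, .X8, .X5, .X3, .X2, .X0, .y9, .y7, .y6, .y5, .y1, .p10, .hi, .p8, .hi, .p9, .hi, .p10,
   .hi, .p5, .xii, .hi, .p8, .xii, .y9, .y10, .p2, .tau, .y1, .xii, .p5, .xii, .p6, .xii, .y3, .p3, .tau, .xii, .p6,
   .xii, .y6, .p10, .xii, .y1],
  [.Z7, .Z5, .Z3, .Z2, .Z0, .X9, .X8, .X5, .X4, .X3, .y10, .y2, .p10, .hi, .p, .hi, .p8, .hi, .p5, .hi, .p3, .hi, .p6,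
   .hi, .p3, .xii, .p10, .xii, .y8, .tau, .xii, .y2, .p3, .xii, .p2, .y5, .xii, .y3, .taui, .xii, .p9, .xii, .y8, .p8,
   .xii, .y1, .y8, .taui]⟩

theorem h257 : Hd F (g wAp) b257 := hdP (by decide +kernel)
theorem r257_0 : R9 F (g wAp) b257 [] 0 0 := .of (startP 0 1) (by decide +kernel)
theorem r257_1 : R9 F (g wAp) b257 [] 0 1 := .of (startP 0 1) (by decide +kernel)
theorem r257_2 : R9 F (g wAp) b257 [] 0 2 := .of (startP 0 1) (by decide +kernel)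
theorem r257_3 : R9 F (g wAp) b257 [] 1 0 := .of (startP 0 1) (by decide +kernel)
theorem r257_4 : R9 F (g wAp) b257 [] 1 1 := .of (startP 0 1) (by decide +kernel)
theorem r257_5 : R9 F (g wAp) b257 [] 1 2 := .of (startP 0 1) (by decide +kernel)
theorem r257_6 : R9 F (g wAp) b257 [] 2 0 := .of (startP 0 1) (by decide +kernel)
theorem r257_7 : R9 F (g wAp) b257 [] 2 1 := .of (startP 0 1) (by decide +kernel)
theorem r257_8 : R9 F (g wAp) b257 [] 2 2 := .of (startP 0 1) (by decide +kernel)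
theorem g257 : Gd F (g wAp) (0, p257) [] :=
  good9 ok h257 r257_0 r257_1 r257_2 r257_3 r257_4 r257_5 r257_6 r257_7 r257_8

def b258 : Wd := ⟨0, p258,
  [.X10, .X8, .X6, .X4, .X3, .X1, .X0, .y10, .y9, .y8, .y7, .y5, .y4, .p8, .hi, .p8, .hi, .p7, .hi, .p8, .hi, .p4,
   .hi, .p9, .xii, .p10, .xii, .p8, .y7, .taui, .xii, .y2, .p, .xii, .y1, .hi, .xii, .y6, .y10, .tau, .X0, .p10, .xii,
   .y10, .p9, .xii, .y3, .p7, .tau, .xii, .y2, .p4, .xii, .p10, .hi, .p6, .y1, .tau, .xii, .y2, .p5, .hi, .p9],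
  [.Z10, .Z9, .Z8, .Z2, .Z1, .X10, .X9, .X6, .X3, .X2, .y8, .y7, .y1, .hi, .p, .hi, .p, .hi, .p4, .hi, .p4, .hi, .p8,
   .hi, .p5, .xii, .hi, .p8, .xii, .y9, .y10, .tau, .xii, .p, .xii, .hi, .y8, .xii, .y3, .y10, .tau, .X0, .p8, .xii,
   .y7, .p2, .hi, .xii, .p, .taui, .xii, .y2, .p4, .xii, .p10, .xii, .y1, .tau],
  [.z, .Z10, .Z8, .Z7, .Z6, .Z5, .Z4, .X9, .X7, .X6, .X5, .X4, .X2, .y8, .y6, .y3, .y2, .y1, .hi, .p, .hi, .p4, .hi,
   .p6, .hi, .p4, .hi, .p10, .hi, .p10, .xii, .y2, .hi, .p8, .xii, .y4, .p10, .tau, .y1, .xii, .p10, .xii, .y8, .p10,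
   .xii, .tau, .p9, .xii, .p3, .y3, .xii, .p3, .taui, .xii, .p5, .xii, .p2, .y5, .xii, .y3, .tau]⟩

theorem h258 : Hd F (g wAp) b258 := hdP (by decide +kernel)
theorem r258_0 : R9 F (g wAp) b258 [] 0 0 := .of (startP 0 1) (by decide +kernel)
theorem r258_1 : R9 F (g wAp) b258 [] 0 1 := .of (startP 0 1) (by decide +kernel)
theorem r258_2 : R9 F (g wAp) b258 [] 0 2 := .of (startP 0 1) (by decide +kernel)
theorem r258_3 : R9 F (g wAp) b258 [] 1 0 := .of (startP 0 1) (by decide +kernel)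
theorem r258_4 : R9 F (g wAp) b258 [] 1 1 := .of (startP 0 1) (by decide +kernel)
theorem r258_5 : R9 F (g wAp) b258 [] 1 2 := .of (startP 0 1) (by decide +kernel)
theorem r258_6 : R9 F (g wAp) b258 [] 2 0 := .of (startP 0 1) (by decide +kernel)
theorem r258_7 : R9 F (g wAp) b258 [] 2 1 := .of (startP 0 1) (by decide +kernel)
theorem r258_8 : R9 F (g wAp) b258 [] 2 2 := .of (startP 0 1) (by decide +kernel)
theorem g258 : Gd F (g wAp) (0, p258) [] :=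
  good9 ok h258 r258_0 r258_1 r258_2 r258_3 r258_4 r258_5 r258_6 r258_7 r258_8

def b259 : Wd := ⟨0, p259,
  [.z, .Z10, .Z7, .Z5, .Z3, .Z1, .X9, .X8, .X6, .X3, .X2, .X1, .y10, .y9, .y8, .y7, .y6, .y3, .y2, .y1, .p4, .hi, .p6,
   .hi, .p4, .hi, .p5, .hi, .p2, .xii, .y2, .p10, .hi, .p2, .hi, .p10, .taui, .xii, .p3, .hi, .xii, .y9, .p, .hi,
   .p10, .taui, .p9, .xii, .y10, .p, .xii, .p9, .taui, .xii, .p6, .xii, .y5, .p7, .xii, .y1, .taui],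
  [.z, .Z9, .Z8, .Z7, .Z3, .X9, .X5, .X2, .y8, .y7, .y4, .y2, .p7, .hi, .p8, .hi, .p6, .hi, .p4, .hi, .p8, .xii, .y2,
   .p3, .hi, .xii, .y1, .p10, .tau, .X0, .p6, .xii, .hi, .p8, .xii, .y1, .y7, .p, .tau, .xii, .p, .xii, .y6, .p4],
  [.z, .Z7, .Z4, .Z3, .Z1, .Z0, .X10, .X8, .X7, .X6, .X0, .y10, .y8, .y7, .y6, .y5, .y4, .y3, .p10, .hi, .p2, .hi,
   .p10, .hi, .p7, .hi, .p8, .hi, .p5, .xii, .hi, .p8, .hi, .p2, .taui, .y1, .xii, .p10, .xii, .y4, .p10, .xii, .y3,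
   .y7, .tau, .X0, .y1, .p9, .xii, .p4, .xii, .y1, .y10, .p4, .xii, .tau, .xii, .p3, .hi, .xii, .y7, .p]⟩

theorem h259 : Hd F (g wAp) b259 := hdP (by decide +kernel)
theorem r259_0 : R9 F (g wAp) b259 [] 0 0 := .of (startP 0 1) (by decide +kernel)
theorem r259_1 : R9 F (g wAp) b259 [] 0 1 := .of (startP 0 1) (by decide +kernel)
theorem r259_2 : R9 F (g wAp) b259 [] 0 2 := .of (startP 0 1) (by decide +kernel)
theorem r259_3 : R9 F (g wAp) b259 [] 1 0 := .of (startP 0 1) (by decide +kernel)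
theorem r259_4 : R9 F (g wAp) b259 [] 1 1 := .of (startP 0 1) (by decide +kernel)
theorem r259_5 : R9 F (g wAp) b259 [] 1 2 := .of (startP 0 1) (by decide +kernel)
theorem r259_6 : R9 F (g wAp) b259 [] 2 0 := .of (startP 0 1) (by decide +kernel)
theorem r259_7 : R9 F (g wAp) b259 [] 2 1 := .of (startP 0 1) (by decide +kernel)
theorem r259_8 : R9 F (g wAp) b259 [] 2 2 := .of (startP 0 1) (by decide +kernel)
theorem g259 : Gd F (g wAp) (0, p259) [] :=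
  good9 ok h259 r259_0 r259_1 r259_2 r259_3 r259_4 r259_5 r259_6 r259_7 r259_8

theorem all : AllG F (g wAp) LP25 :=
  .cons g250 (.cons g251 (.cons g252 (.cons g253 (.cons g254 (.cons g255 (.cons g256 (.cons g257 (.cons g258 (.cons g259 (.nil))))))))))

end Cfsg.Agent.BX.No33.Bk.P25
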