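import Cfsg.Agent.BX.No33.Cheap
set_option linter.all false

/-!
# Tests, pure case, part 27 (helper5; generated)
-/

set_option autoImplicit false
set_option maxRecDepth 100000
set_option Elab.async false

namespace Cfsg.Agent.BX.No33.Bk.P27

open Cfsg.Agent.H819.U33 Cfsg.Agent.BX.No33.Front

def b270 : Wd := ⟨0, p270,
  [.Z10, .Z9, .Z8, .Z6, .Z4, .X10, .X9, .X8, .X6, .y9, .y7, .y5, .y4, .y2, .p9, .hi, .p, .hi, .p5, .hi, .p, .hi, .p5,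
   .hi, .p2, .xii, .p10, .xii, .p9, .y6, .xii, .y6, .tau, .y1, .xii, .p10, .xii, .y8, .p10, .xii, .y4, .y8, .taui,
   .p5, .xii, .y6, .p, .xii, .y4, .y8, .taui, .xii, .p4, .xii, .y1, .hi, .y7, .p9, .taui, .xii, .p10, .hi, .p8],
  [.Z7, .Z6, .Z5, .Z4, .Z3, .Z1, .Z0, .X4, .X3, .X2, .y10, .y7, .p7, .hi, .p3, .hi, .p, .hi, .p4, .hi, .p5, .xii, .p,
   .xii, .y3, .hi, .p8, .tau, .xii, .p, .xii, .y2, .hi, .xii, .y7, .y10, .tau, .X0, .xii, .p9, .xii, .p3, .y3, .xii,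
   .y9, .p2, .taui, .xii, .p9, .xii, .p9, .y4, .xii, .y8, .y10, .taui, .xii, .p6],
  [.Z10, .Z6, .Z0, .X9, .X5, .X4, .X3, .X2, .X1, .X0, .y9, .y8, .y5, .p7, .hi, .p5, .hi, .p9, .hi, .p6, .hi, .p3, .hi,
   .p8, .hi, .xii, .hi, .p8, .xii, .y3, .y9, .p10, .taui, .y1, .xii, .p10, .xii, .p10, .y7, .xii, .tau, .X0, .p5,
   .xii, .p10, .xii, .p7, .y5, .tau, .xii, .p2, .hi, .xii, .p9, .y6]⟩

theorem h270 : Hd F (g wAp) b270 := hdP (by decide +kernel)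
theorem r270_0 : R9 F (g wAp) b270 [] 0 0 := .of (startP 0 1) (by decide +kernel)
theorem r270_1 : R9 F (g wAp) b270 [] 0 1 := .of (startP 0 1) (by decide +kernel)
theorem r270_2 : R9 F (g wAp) b270 [] 0 2 := .of (startP 0 1) (by decide +kernel)
theorem r270_3 : R9 F (g wAp) b270 [] 1 0 := .of (startP 0 1) (by decide +kernel)
theorem r270_4 : R9 F (g wAp) b270 [] 1 1 := .of (startP 0 1) (by decide +kernel)
theorem r270_5 : R9 F (g wAp) b270 [] 1 2 := .of (startP 0 1) (by decide +kernel)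
theorem r270_6 : R9 F (g wAp) b270 [] 2 0 := .of (startP 0 1) (by decide +kernel)
theorem r270_7 : R9 F (g wAp) b270 [] 2 1 := .of (startP 0 1) (by decide +kernel)
theorem r270_8 : R9 F (g wAp) b270 [] 2 2 := .of (startP 0 1) (by decide +kernel)
theorem g270 : Gd F (g wAp) (0, p270) [] :=
  good9 ok h270 r270_0 r270_1 r270_2 r270_3 r270_4 r270_5 r270_6 r270_7 r270_8

def b271 : Wd := ⟨0, p271,
  [.Z10, .Z7, .Z5, .Z3, .Z1, .Z0, .X8, .X7, .X6, .X3, .X0, .y9, .y7, .y6, .y5, .y2, .p, .hi, .p10, .hi, .p8, .hi, .p5,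
   .hi, .p3, .xii, .y2, .p5, .hi, .p5, .taui, .y1, .xii, .y1, .p2, .hi, .xii, .taui, .X0, .p5, .xii, .y8, .p, .xii,
   .p3, .hi, .taui, .xii, .p7, .xii, .y7, .y10, .hi, .p9, .tau, .xii, .y2, .p, .hi],
  [.Z6, .Z4, .X10, .X5, .X4, .X3, .X1, .y9, .y8, .y4, .y3, .y1, .p, .hi, .p7, .hi, .p7, .hi, .p4, .hi, .p8, .hi, .p9,
   .xii, .p3, .hi, .xii, .y3, .y5, .tau, .xii, .y1, .p, .xii, .y4, .p, .xii, .y1, .y10, .taui, .p9, .xii, .y2, .hi,
   .xii, .p2, .xii, .y4, .tau, .xii, .y2, .p9, .xii, .p9, .y4, .xii, .taui, .xii, .y4, .p7],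
  [.Z5, .Z4, .Z3, .Z1, .Z0, .X9, .X5, .X3, .X1, .X0, .y10, .y9, .y6, .y5, .y3, .p7, .hi, .p8, .hi, .p, .hi, .p5, .hi,
   .p10, .xii, .p, .xii, .hi, .y8, .p8, .tau, .y1, .xii, .p10, .xii, .p10, .hi, .p8, .y5, .taui, .X0, .p8, .xii, .p,
   .y2, .xii, .y10, .p3, .tau, .xii, .p9, .xii, .y1, .p6, .xii, .y6]⟩

theorem h271 : Hd F (g wAp) b271 := hdP (by decide +kernel)
theorem r271_0 : R9 F (g wAp) b271 [19, 52, 76] 0 0 := .of (startP 0 1) (by decide +kernel)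
theorem r271_1 : R9 F (g wAp) b271 [19, 52, 76] 0 1 := .of (startP 0 1) (by decide +kernel)
theorem r271_2 : R9 F (g wAp) b271 [19, 52, 76] 0 2 := .of' (startP 0 1) (skip := [1]) (by decide +kernel) (by decide)
theorem r271_3 : R9 F (g wAp) b271 [19, 52, 76] 1 0 := .of (startP 0 1) (by decide +kernel)
theorem r271_4 : R9 F (g wAp) b271 [19, 52, 76] 1 1 := .of (startP 0 1) (by decide +kernel)
theorem r271_5 : R9 F (g wAp) b271 [19, 52, 76] 1 2 := .of' (startP 0 1) (skip := [7]) (by decide +kernel) (by decide)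
theorem r271_6 : R9 F (g wAp) b271 [19, 52, 76] 2 0 := .of (startP 0 1) (by decide +kernel)
theorem r271_7 : R9 F (g wAp) b271 [19, 52, 76] 2 1 := .of (startP 0 1) (by decide +kernel)
theorem r271_8 : R9 F (g wAp) b271 [19, 52, 76] 2 2 := .of' (startP 0 1) (skip := [4]) (by decide +kernel) (by decide)
theorem g271 : Gd F (g wAp) (0, p271) [19, 52, 76] :=
  good9 ok h271 r271_0 r271_1 r271_2 r271_3 r271_4 r271_5 r271_6 r271_7 r271_8

def b272 : Wd := ⟨0, p272,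
  [.z, .Z9, .Z8, .Z7, .Z3, .Z1, .X9, .X8, .X7, .X4, .X2, .X1, .y10, .y7, .y6, .y4, .p5, .hi, .p3, .hi, .p10, .hi, .p6,
   .hi, .p, .hi, .p5, .hi, .xii, .hi, .p2, .hi, .tau, .y1, .xii, .p10, .xii, .y4, .p10, .xii, .y2, .y8, .taui, .X0,
   .p4, .xii, .p3, .hi, .xii, .y4, .y9, .p, .tau, .xii, .p8, .xii, .y1, .p2, .y8, .xii, .y8, .tau, .xii, .p, .xii,
   .y8],
  [.Z10, .Z9, .Z6, .Z5, .Z4, .Z3, .Z1, .Z0, .X8, .X6, .X5, .X1, .y8, .y3, .p4, .hi, .p9, .hi, .p10, .hi, .p6, .hi,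
   .p4, .xii, .p2, .hi, .xii, .y8, .p10, .tau, .y1, .xii, .p10, .xii, .y2, .p10, .xii, .y2, .y10, .tau, .xii, .y2,
   .p4, .xii, .y3, .p8, .xii, .p2, .y4, .taui, .xii, .p10, .xii, .y9, .p10, .xii, .y7, .y10, .tau],
  [.z, .Z9, .Z8, .Z5, .Z4, .Z2, .X9, .X5, .X2, .y9, .y8, .y4, .y3, .p10, .hi, .p7, .hi, .p9, .hi, .p8, .hi, .p7, .hi,
   .xii, .p, .xii, .y6, .tau, .xii, .p, .xii, .y4, .hi, .xii, .y4, .y5, .tau, .y1, .xii, .p3, .xii, .p7, .y2, .xii,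
   .hi, .taui, .xii, .p8, .xii, .y9, .p7, .y5, .taui, .xii, .y2, .hi, .p6]⟩

theorem h272 : Hd F (g wAp) b272 := hdP (by decide +kernel)
theorem r272_0 : R9 F (g wAp) b272 [] 0 0 := .of (startP 0 1) (by decide +kernel)
theorem r272_1 : R9 F (g wAp) b272 [] 0 1 := .of (startP 0 1) (by decide +kernel)
theorem r272_2 : R9 F (g wAp) b272 [] 0 2 := .of (startP 0 1) (by decide +kernel)
theorem r272_3 : R9 F (g wAp) b272 [] 1 0 := .of (startP 0 1) (by decide +kernel)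
theorem r272_4 : R9 F (g wAp) b272 [] 1 1 := .of (startP 0 1) (by decide +kernel)
theorem r272_5 : R9 F (g wAp) b272 [] 1 2 := .of (startP 0 1) (by decide +kernel)
theorem r272_6 : R9 F (g wAp) b272 [] 2 0 := .of (startP 0 1) (by decide +kernel)
theorem r272_7 : R9 F (g wAp) b272 [] 2 1 := .of (startP 0 1) (by decide +kernel)
theorem r272_8 : R9 F (g wAp) b272 [] 2 2 := .of (startP 0 1) (by decide +kernel)
theorem g272 : Gd F (g wAp) (0, p272) [] :=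
  good9 ok h272 r272_0 r272_1 r272_2 r272_3 r272_4 r272_5 r272_6 r272_7 r272_8

def b273 : Wd := ⟨0, p273,
  [.z, .Z9, .Z8, .Z7, .Z5, .Z3, .X4, .X1, .X0, .y10, .y8, .y5, .y2, .p4, .hi, .p4, .hi, .p8, .hi, .p8, .hi, .p2, .hi,
   .xii, .y2, .p, .xii, .y3, .y10, .taui, .xii, .y6, .p, .xii, .y6, .tau, .p7, .xii, .p4, .xii, .y5, .p9, .tau, .xii,
   .p8, .xii, .y2, .y9, .p2, .xii, .y7, .y8, .tau],
  [.Z9, .Z6, .Z4, .Z3, .Z1, .Z0, .X10, .X5, .X3, .X0, .y10, .y7, .y6, .y2, .hi, .p6, .hi, .p5, .hi, .p7, .hi, .p4,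
   .xii, .y2, .p3, .hi, .xii, .y9, .tau, .xii, .y1, .p, .xii, .p, .xii, .y3, .y4, .taui, .X0, .p6, .xii, .p9, .xii,
   .y5, .hi, .p9, .tau, .xii, .p7, .xii, .y5, .p9, .y5, .xii, .y9, .taui, .xii, .y6, .p8],
  [.Z10, .Z8, .Z7, .Z5, .Z4, .X10, .X8, .X7, .X6, .X5, .X0, .y10, .y9, .y5, .y4, .y2, .p2, .hi, .p3, .hi, .p7, .hi,
   .p8, .hi, .p2, .xii, .y2, .hi, .xii, .p4, .hi, .taui, .xii, .y1, .p, .xii, .p, .xii, .y4, .y5, .tau, .xii, .p4,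
   .xii, .y8, .p4, .y9, .xii, .y4, .p7, .tau, .xii, .p9, .xii, .y4, .y9, .p, .xii, .taui, .xii, .y2, .p8]⟩

theorem h273 : Hd F (g wAp) b273 := hdP (by decide +kernel)
theorem r273_0 : R9 F (g wAp) b273 [] 0 0 := .of (startP 0 1) (by decide +kernel)
theorem r273_1 : R9 F (g wAp) b273 [] 0 1 := .of (startP 0 1) (by decide +kernel)
theorem r273_2 : R9 F (g wAp) b273 [] 0 2 := .of (startP 0 1) (by decide +kernel)
theorem r273_3 : R9 F (g wAp) b273 [] 1 0 := .of (startP 0 1) (by decide +kernel)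
theorem r273_4 : R9 F (g wAp) b273 [] 1 1 := .of (startP 0 1) (by decide +kernel)
theorem r273_5 : R9 F (g wAp) b273 [] 1 2 := .of (startP 0 1) (by decide +kernel)
theorem r273_6 : R9 F (g wAp) b273 [] 2 0 := .of (startP 0 1) (by decide +kernel)
theorem r273_7 : R9 F (g wAp) b273 [] 2 1 := .of (startP 0 1) (by decide +kernel)
theorem r273_8 : R9 F (g wAp) b273 [] 2 2 := .of (startP 0 1) (by decide +kernel)
theorem g273 : Gd F (g wAp) (0, p273) [] :=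
  good9 ok h273 r273_0 r273_1 r273_2 r273_3 r273_4 r273_5 r273_6 r273_7 r273_8

def b274 : Wd := ⟨0, p274,
  [.z, .Z6, .Z3, .Z1, .Z0, .X9, .X8, .X6, .X5, .X3, .X1, .X0, .y10, .y9, .y7, .y6, .y5, .y3, .y2, .y1, .p7, .hi, .p7,
   .hi, .p, .hi, .p8, .hi, .p2, .hi, .xii, .p, .xii, .y3, .p7, .xii, .y4, .tau, .y1, .xii, .y2, .hi, .xii, .p10, .xii,
   .y4, .taui, .X0, .p8, .xii, .p4, .xii, .p8, .y2, .y4, .tau, .xii, .p8, .xii, .y2, .y4, .p2, .xii, .y3, .tau, .xii,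
   .y2, .p6],
  [.Z10, .Z9, .Z6, .Z4, .Z3, .Z2, .X9, .X6, .X5, .y5, .y3, .y2, .hi, .p7, .hi, .p5, .hi, .p9, .hi, .p, .hi, .tau,
   .xii, .p, .xii, .y1, .hi, .xii, .y1, .y2, .taui, .X0, .p8, .xii, .y1, .p, .hi, .xii, .y4, .y5, .p7, .tau, .xii,
   .p9, .xii, .p2, .hi, .y8, .taui, .xii, .p5, .hi, .p9],
  [.Z10, .Z2, .X10, .X9, .X6, .X4, .X3, .X2, .X1, .y8, .y7, .y3, .y1, .hi, .p10, .hi, .p5, .hi, .p3, .hi, .p9, .hi,
   .p6, .hi, .xii, .p, .xii, .p4, .xii, .y8, .tau, .xii, .p, .xii, .p2, .hi, .xii, .taui, .X0, .xii, .hi, .xii, .p8,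
   .xii, .y7, .p10, .y7, .tau, .xii, .p6, .xii, .p2, .y5, .xii, .y1, .y2, .tau, .xii, .hi, .p9]⟩

theorem h274 : Hd F (g wAp) b274 := hdP (by decide +kernel)
theorem r274_0 : R9 F (g wAp) b274 [] 0 0 := .of (startP 0 1) (by decide +kernel)
theorem r274_1 : R9 F (g wAp) b274 [] 0 1 := .of (startP 0 1) (by decide +kernel)
theorem r274_2 : R9 F (g wAp) b274 [] 0 2 := .of (startP 0 1) (by decide +kernel)
theorem r274_3 : R9 F (g wAp) b274 [] 1 0 := .of (startP 0 1) (by decide +kernel)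
theorem r274_4 : R9 F (g wAp) b274 [] 1 1 := .of (startP 0 1) (by decide +kernel)
theorem r274_5 : R9 F (g wAp) b274 [] 1 2 := .of (startP 0 1) (by decide +kernel)
theorem r274_6 : R9 F (g wAp) b274 [] 2 0 := .of (startP 0 1) (by decide +kernel)
theorem r274_7 : R9 F (g wAp) b274 [] 2 1 := .of (startP 0 1) (by decide +kernel)
theorem r274_8 : R9 F (g wAp) b274 [] 2 2 := .of (startP 0 1) (by decide +kernel)
theorem g274 : Gd F (g wAp) (0, p274) [] :=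
  good9 ok h274 r274_0 r274_1 r274_2 r274_3 r274_4 r274_5 r274_6 r274_7 r274_8

def b275 : Wd := ⟨0, p275,
  [.z, .Z10, .Z7, .Z5, .Z3, .Z1, .X10, .X8, .X7, .X2, .X0, .y10, .y9, .y8, .y7, .y5, .y3, .y2, .y1, .hi, .p7, .hi,
   .p4, .hi, .p3, .hi, .p, .xii, .hi, .p2, .hi, .taui, .y1, .xii, .p10, .xii, .y2, .p10, .xii, .y8, .taui, .X0, .p7,
   .xii, .p8, .xii, .y8, .p5, .y4, .taui, .xii, .p10, .hi, .p6, .xii, .p9, .tau, .xii, .y2, .p],
  [.z, .Z6, .Z5, .Z4, .Z3, .Z2, .X10, .X6, .X5, .X4, .X3, .X2, .y7, .y6, .y4, .y2, .y1, .p7, .hi, .p9, .hi, .p10, .hi,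
   .p8, .hi, .p6, .hi, .p10, .hi, .xii, .y2, .p10, .xii, .y8, .p3, .hi, .tau, .xii, .p, .xii, .y4, .hi, .xii, .y5,
   .y10, .taui, .p8, .xii, .p2, .hi, .xii, .p4, .y10, .taui, .xii, .p3, .xii, .y6, .p10, .xii, .tau],
  [.z, .Z9, .Z5, .Z4, .Z3, .Z1, .X8, .X6, .X5, .X3, .y10, .y9, .y6, .y5, .y4, .hi, .p3, .hi, .p4, .hi, .p4, .hi, .p8,
   .hi, .p4, .hi, .p2, .hi, .xii, .y2, .hi, .p8, .xii, .taui, .xii, .y2, .p, .xii, .y2, .hi, .xii, .y6, .taui, .X0,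
   .xii, .p4, .xii, .p4, .y1, .y5, .xii, .y6, .p4, .tau, .xii, .hi, .p6, .xii, .hi, .p9, .y8, .taui, .xii, .y2, .hi,
   .p6]⟩

theorem h275 : Hd F (g wAp) b275 := hdP (by decide +kernel)
theorem r275_0 : R9 F (g wAp) b275 [] 0 0 := .of (startP 0 1) (by decide +kernel)
theorem r275_1 : R9 F (g wAp) b275 [] 0 1 := .of (startP 0 1) (by decide +kernel)
theorem r275_2 : R9 F (g wAp) b275 [] 0 2 := .of (startP 0 1) (by decide +kernel)
theorem r275_3 : R9 F (g wAp) b275 [] 1 0 := .of (startP 0 1) (by decide +kernel)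
theorem r275_4 : R9 F (g wAp) b275 [] 1 1 := .of (startP 0 1) (by decide +kernel)
theorem r275_5 : R9 F (g wAp) b275 [] 1 2 := .of (startP 0 1) (by decide +kernel)
theorem r275_6 : R9 F (g wAp) b275 [] 2 0 := .of (startP 0 1) (by decide +kernel)
theorem r275_7 : R9 F (g wAp) b275 [] 2 1 := .of (startP 0 1) (by decide +kernel)
theorem r275_8 : R9 F (g wAp) b275 [] 2 2 := .of (startP 0 1) (by decide +kernel)
theorem g275 : Gd F (g wAp) (0, p275) [] :=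
  good9 ok h275 r275_0 r275_1 r275_2 r275_3 r275_4 r275_5 r275_6 r275_7 r275_8

def b276 : Wd := ⟨0, p276,
  [.Z10, .Z9, .Z8, .Z7, .Z2, .Z1, .Z0, .X9, .X5, .X0, .y10, .y8, .y5, .y3, .p3, .hi, .p7, .hi, .p9, .hi, .p, .hi, .p9,
   .xii, .p3, .hi, .xii, .y2, .taui, .xii, .hi, .p8, .xii, .y2, .y9, .taui, .X0, .p6, .xii, .p6, .xii, .y5, .p7, .tau,
   .xii, .y2, .p9, .xii, .y4, .p5, .xii, .y7, .taui, .xii, .p, .xii, .y6],
  [.z, .Z10, .Z3, .Z2, .X10, .X6, .X4, .X3, .X1, .X0, .y10, .y9, .y6, .y5, .y3, .y2, .hi, .p10, .hi, .p7, .hi, .p4,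
   .hi, .p5, .hi, .p10, .hi, .p3, .xii, .p, .xii, .p2, .hi, .p5, .taui, .xii, .y1, .p, .xii, .hi, .y7, .p8, .taui,
   .p8, .xii, .p, .xii, .y6, .p, .taui, .xii, .p7, .xii, .y7, .p5, .xii, .y1, .y2],
  [.z, .Z10, .Z7, .Z6, .Z5, .Z2, .Z0, .X10, .X9, .X2, .y10, .y9, .y8, .y6, .y4, .y3, .y2, .y1, .hi, .p3, .hi, .p6,
   .hi, .p10, .hi, .p3, .xii, .p, .xii, .y3, .p4, .xii, .y9, .taui, .xii, .y1, .p, .xii, .y4, .p, .xii, .y4, .y7,
   .taui, .X0, .xii, .p5, .xii, .p2, .y10, .hi, .xii, .y10, .taui, .xii, .p10, .hi, .p6, .xii, .y2, .hi]⟩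

theorem h276 : Hd F (g wAp) b276 := hdP (by decide +kernel)
theorem r276_0 : R9 F (g wAp) b276 [] 0 0 := .of (startP 0 1) (by decide +kernel)
theorem r276_1 : R9 F (g wAp) b276 [] 0 1 := .of (startP 0 1) (by decide +kernel)
theorem r276_2 : R9 F (g wAp) b276 [] 0 2 := .of (startP 0 1) (by decide +kernel)
theorem r276_3 : R9 F (g wAp) b276 [] 1 0 := .of (startP 0 1) (by decide +kernel)
theorem r276_4 : R9 F (g wAp) b276 [] 1 1 := .of (startP 0 1) (by decide +kernel)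
theorem r276_5 : R9 F (g wAp) b276 [] 1 2 := .of (startP 0 1) (by decide +kernel)
theorem r276_6 : R9 F (g wAp) b276 [] 2 0 := .of (startP 0 1) (by decide +kernel)
theorem r276_7 : R9 F (g wAp) b276 [] 2 1 := .of (startP 0 1) (by decide +kernel)
theorem r276_8 : R9 F (g wAp) b276 [] 2 2 := .of (startP 0 1) (by decide +kernel)
theorem g276 : Gd F (g wAp) (0, p276) [] :=
  good9 ok h276 r276_0 r276_1 r276_2 r276_3 r276_4 r276_5 r276_6 r276_7 r276_8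

def b277 : Wd := ⟨0, p277,
  [.z, .Z9, .Z7, .Z5, .Z3, .Z0, .X10, .X8, .X7, .X6, .X5, .X2, .X0, .y8, .y7, .y3, .y1, .p7, .hi, .p4, .hi, .p7, .hi,
   .p, .hi, .p4, .hi, .p4, .xii, .p10, .xii, .y8, .p10, .xii, .y3, .y7, .taui, .y1, .xii, .p10, .xii, .y1, .p10, .xii,
   .y8, .taui, .X0, .p7, .xii, .y4, .p4, .xii, .p9, .y7, .taui, .xii, .p9, .xii, .p, .y1, .hi, .p7, .taui, .xii, .y2,
   .p],
  [.Z9, .Z8, .Z7, .Z6, .Z5, .Z2, .Z1, .X10, .X8, .X6, .X5, .X4, .X0, .y9, .y3, .y1, .p6, .hi, .p8, .hi, .p7, .hi, .p9,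
   .hi, .p3, .hi, .xii, .y2, .p10, .xii, .y1, .p9, .xii, .y7, .tau, .y1, .xii, .p10, .xii, .y5, .p10, .xii, .y9, .y10,
   .taui, .X0, .p7, .xii, .y2, .p9, .xii, .y5, .p6, .tau, .xii, .p9, .xii, .y1, .y9, .hi, .xii, .y8],
  [.Z9, .Z8, .Z3, .X9, .X7, .X5, .X2, .X1, .X0, .y10, .y9, .y7, .y6, .y5, .y4, .y2, .p8, .hi, .p9, .hi, .p, .hi, .p7,
   .hi, .p7, .hi, .p7, .hi, .p6, .xii, .p, .xii, .y10, .p4, .xii, .y8, .tau, .xii, .p, .xii, .y1, .hi, .xii, .y7, .y8,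
   .taui, .X0, .p2, .xii, .p5, .hi, .xii, .p4, .y2, .taui, .xii, .hi, .p8, .xii, .y4]⟩

theorem h277 : Hd F (g wAp) b277 := hdP (by decide +kernel)
theorem r277_0 : R9 F (g wAp) b277 [] 0 0 := .of (startP 0 1) (by decide +kernel)
theorem r277_1 : R9 F (g wAp) b277 [] 0 1 := .of (startP 0 1) (by decide +kernel)
theorem r277_2 : R9 F (g wAp) b277 [] 0 2 := .of (startP 0 1) (by decide +kernel)
theorem r277_3 : R9 F (g wAp) b277 [] 1 0 := .of (startP 0 1) (by decide +kernel)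
theorem r277_4 : R9 F (g wAp) b277 [] 1 1 := .of (startP 0 1) (by decide +kernel)
theorem r277_5 : R9 F (g wAp) b277 [] 1 2 := .of (startP 0 1) (by decide +kernel)
theorem r277_6 : R9 F (g wAp) b277 [] 2 0 := .of (startP 0 1) (by decide +kernel)
theorem r277_7 : R9 F (g wAp) b277 [] 2 1 := .of (startP 0 1) (by decide +kernel)
theorem r277_8 : R9 F (g wAp) b277 [] 2 2 := .of (startP 0 1) (by decide +kernel)
theorem g277 : Gd F (g wAp) (0, p277) [] :=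
  good9 ok h277 r277_0 r277_1 r277_2 r277_3 r277_4 r277_5 r277_6 r277_7 r277_8

def b278 : Wd := ⟨0, p278,
  [.Z8, .Z6, .Z2, .Z1, .Z0, .X7, .X6, .X4, .X3, .X2, .X1, .X0, .y10, .y9, .y8, .y6, .y4, .y1, .p7, .hi, .p4, .hi, .p8,
   .hi, .p4, .hi, .p10, .hi, .p8, .hi, .tau, .xii, .y6, .p, .xii, .y2, .p, .xii, .y1, .taui, .xii, .y2, .hi, .xii,
   .y8, .p10, .xii, .y7, .taui, .xii, .p, .xii, .y1, .y4, .hi, .p3],
  [.Z10, .Z8, .Z3, .Z1, .Z0, .X9, .X7, .X5, .X4, .X1, .y10, .y9, .y7, .y6, .y5, .y3, .y2, .p2, .hi, .p3, .hi, .p9,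
   .hi, .p6, .hi, .p7, .hi, .xii, .p2, .hi, .xii, .y1, .y5, .taui, .y1, .xii, .p10, .xii, .y1, .y7, .p10, .tau, .p2,
   .xii, .y6, .hi, .xii, .taui, .xii, .hi, .xii, .y6, .p5],
  [.Z10, .Z7, .Z5, .Z3, .Z2, .Z0, .X10, .X9, .X7, .X6, .X5, .X2, .X1, .X0, .y10, .y9, .y6, .y4, .y3, .p3, .hi, .p8,
   .hi, .p6, .hi, .xii, .y2, .p10, .hi, .p, .tau, .y1, .xii, .p10, .xii, .y1, .p10, .xii, .y1, .y5, .tau, .xii, .y2,
   .p6, .xii, .p10, .xii, .y2, .y3, .taui, .xii, .y2, .p2, .hi, .xii, .y6, .p9]⟩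

theorem h278 : Hd F (g wAp) b278 := hdP (by decide +kernel)
theorem r278_0 : R9 F (g wAp) b278 [] 0 0 := .of (startP 0 1) (by decide +kernel)
theorem r278_1 : R9 F (g wAp) b278 [] 0 1 := .of (startP 0 1) (by decide +kernel)
theorem r278_2 : R9 F (g wAp) b278 [] 0 2 := .of (startP 0 1) (by decide +kernel)
theorem r278_3 : R9 F (g wAp) b278 [] 1 0 := .of (startP 0 1) (by decide +kernel)
theorem r278_4 : R9 F (g wAp) b278 [] 1 1 := .of (startP 0 1) (by decide +kernel)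
theorem r278_5 : R9 F (g wAp) b278 [] 1 2 := .of (startP 0 1) (by decide +kernel)
theorem r278_6 : R9 F (g wAp) b278 [] 2 0 := .of (startP 0 1) (by decide +kernel)
theorem r278_7 : R9 F (g wAp) b278 [] 2 1 := .of (startP 0 2) (by decide +kernel)
theorem r278_8 : R9 F (g wAp) b278 [] 2 2 := .of (startP 0 1) (by decide +kernel)
theorem g278 : Gd F (g wAp) (0, p278) [] :=
  good9 ok h278 r278_0 r278_1 r278_2 r278_3 r278_4 r278_5 r278_6 r278_7 r278_8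

def b279 : Wd := ⟨0, p279,
  [.z, .Z8, .Z7, .Z2, .Z1, .X9, .X7, .X6, .X5, .X4, .X3, .X2, .y10, .y9, .y7, .y5, .y4, .y3, .y2, .p3, .hi, .p, .xii,
   .p, .xii, .y3, .y4, .tau, .y1, .xii, .p10, .xii, .p10, .y7, .tau, .X0, .y1, .p4, .xii, .p9, .xii, .tau, .xii, .p3,
   .xii, .p7, .xii, .y3, .y9, .tau],
  [.z, .Z10, .Z7, .Z5, .Z3, .X10, .X7, .X5, .X2, .X1, .y10, .y8, .y5, .y4, .p3, .hi, .p8, .hi, .p4, .hi, .p8, .hi,
   .p3, .hi, .p2, .hi, .xii, .y2, .hi, .p10, .tau, .y1, .xii, .p10, .xii, .y1, .p10, .xii, .y8, .y10, .taui, .X0, .y1,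
   .xii, .p, .xii, .y6, .hi, .xii, .taui, .xii, .p10, .xii, .y8, .p6],
  [.z, .Z9, .Z8, .Z7, .Z4, .Z3, .Z0, .X9, .X4, .X3, .X1, .X0, .y7, .y5, .y2, .y1, .hi, .p5, .hi, .p8, .hi, .p10, .hi,
   .p5, .hi, .p3, .hi, .p7, .hi, .xii, .y2, .hi, .p8, .hi, .p5, .hi, .taui, .xii, .p, .xii, .y4, .y10, .hi, .xii, .y7,
   .y10, .tau, .X0, .xii, .p3, .xii, .y7, .p10, .xii, .y1, .y7, .taui, .xii, .p, .xii, .y10, .p2, .hi]⟩

theorem h279 : Hd F (g wAp) b279 := hdP (by decide +kernel)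
theorem r279_0 : R9 F (g wAp) b279 [] 0 0 := .of (startP 0 1) (by decide +kernel)
theorem r279_1 : R9 F (g wAp) b279 [] 0 1 := .of (startP 0 1) (by decide +kernel)
theorem r279_2 : R9 F (g wAp) b279 [] 0 2 := .of (startP 0 1) (by decide +kernel)
theorem r279_3 : R9 F (g wAp) b279 [] 1 0 := .of (startP 0 1) (by decide +kernel)
theorem r279_4 : R9 F (g wAp) b279 [] 1 1 := .of (startP 0 1) (by decide +kernel)
theorem r279_5 : R9 F (g wAp) b279 [] 1 2 := .of (startP 0 1) (by decide +kernel)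
theorem r279_6 : R9 F (g wAp) b279 [] 2 0 := .of (startP 0 1) (by decide +kernel)
theorem r279_7 : R9 F (g wAp) b279 [] 2 1 := .of (startP 0 1) (by decide +kernel)
theorem r279_8 : R9 F (g wAp) b279 [] 2 2 := .of (startP 0 1) (by decide +kernel)
theorem g279 : Gd F (g wAp) (0, p279) [] :=
  good9 ok h279 r279_0 r279_1 r279_2 r279_3 r279_4 r279_5 r279_6 r279_7 r279_8

theorem all : AllG F (g wAp) LP27 :=
  .cons g270 (.cons g271 (.cons g272 (.cons g273 (.cons g274 (.cons g275 (.cons g276 (.cons g277 (.cons g278 (.cons g279 (.nil))))))))))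

end Cfsg.Agent.BX.No33.Bk.P27
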