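import Cfsg.Agent.BX.No33.Cheap
set_option linter.all false

/-!
# Tests, pure case, part 29 (helper5; generated)
-/

set_option autoImplicit false
set_option maxRecDepth 100000
set_option Elab.async false

namespace Cfsg.Agent.BX.No33.Bk.P29

open Cfsg.Agent.H819.U33 Cfsg.Agent.BX.No33.Front

def b290 : Wd := ⟨0, p290,
  [.Z9, .Z8, .Z7, .X9, .X7, .X6, .X3, .X0, .y10, .y9, .y7, .y6, .y2, .hi, .p9, .hi, .p10, .hi, .p9, .hi, .p6, .hi,
   .p4, .xii, .y2, .p, .xii, .y1, .hi, .xii, .y5, .tau, .xii, .y1, .p, .xii, .y3, .y10, .tau, .X0, .p6, .xii, .p9,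
   .xii, .p3, .y6, .hi, .taui, .xii, .p9, .xii, .p, .xii, .y1, .tau, .xii, .y4, .hi, .p2],
  [.z, .Z10, .Z8, .Z7, .Z4, .Z2, .X9, .X8, .X7, .X3, .X2, .X1, .X0, .y8, .y7, .y6, .y2, .hi, .p2, .hi, .p, .hi, .p,
   .hi, .p, .xii, .p2, .hi, .xii, .y8, .taui, .xii, .y6, .p, .xii, .p, .xii, .y5, .y8, .taui, .X0, .p8, .xii, .y7, .p,
   .xii, .y1, .hi, .p10, .tau, .xii, .y2, .p4, .xii, .y5, .p9, .xii, .y10, .tau, .xii, .hi],
  [.Z9, .Z7, .Z5, .Z4, .Z2, .X10, .X9, .X8, .X6, .X5, .X4, .X3, .X2, .X1, .X0, .y10, .y9, .y8, .y7, .y3, .y2, .y1,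
   .p9, .hi, .p9, .hi, .p10, .hi, .p4, .hi, .p6, .hi, .p8, .xii, .p3, .hi, .xii, .y3, .y7, .p6, .taui, .y1, .xii,
   .p10, .xii, .y8, .p10, .xii, .y1, .y7, .tau, .xii, .y2, .p8, .xii, .y5, .p4, .xii, .y4, .y8, .tau, .xii, .p5, .xii,
   .p, .y10, .xii, .y4]⟩

theorem h290 : Hd F (g wAp) b290 := hdP (by decide +kernel)
theorem r290_0 : R9 F (g wAp) b290 [] 0 0 := .of (startP 0 1) (by decide +kernel)
theorem r290_1 : R9 F (g wAp) b290 [] 0 1 := .of (startP 0 1) (by decide +kernel)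
theorem r290_2 : R9 F (g wAp) b290 [] 0 2 := .of (startP 0 1) (by decide +kernel)
theorem r290_3 : R9 F (g wAp) b290 [] 1 0 := .of (startP 0 1) (by decide +kernel)
theorem r290_4 : R9 F (g wAp) b290 [] 1 1 := .of (startP 0 1) (by decide +kernel)
theorem r290_5 : R9 F (g wAp) b290 [] 1 2 := .of (startP 0 1) (by decide +kernel)
theorem r290_6 : R9 F (g wAp) b290 [] 2 0 := .of (startP 0 1) (by decide +kernel)
theorem r290_7 : R9 F (g wAp) b290 [] 2 1 := .of (startP 0 1) (by decide +kernel)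
theorem r290_8 : R9 F (g wAp) b290 [] 2 2 := .of (startP 0 1) (by decide +kernel)
theorem g290 : Gd F (g wAp) (0, p290) [] :=
  good9 ok h290 r290_0 r290_1 r290_2 r290_3 r290_4 r290_5 r290_6 r290_7 r290_8

def b291 : Wd := ⟨0, p291,
  [.Z8, .Z7, .Z2, .Z1, .Z0, .X6, .X4, .X3, .X1, .y6, .y5, .y2, .p10, .hi, .p5, .hi, .p10, .hi, .p10, .hi, .p5, .hi,
   .p4, .tau, .xii, .y2, .p, .xii, .y2, .hi, .xii, .y7, .taui, .X0, .xii, .y1, .hi, .xii, .p10, .xii, .y2, .y9, .tau,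
   .xii, .p7, .xii, .y2, .p10, .xii, .y1, .y9],
  [.z, .Z10, .Z9, .Z8, .Z7, .Z6, .Z4, .Z0, .X9, .X6, .X4, .X3, .X2, .X0, .y8, .y5, .y4, .y3, .y1, .p5, .hi, .p7, .hi,
   .p, .hi, .p6, .hi, .p6, .xii, .y2, .p10, .xii, .y10, .tau, .p8, .xii, .y7, .p, .xii, .p, .xii, .y7, .taui, .xii,
   .p7, .xii, .y2, .p10, .xii, .y9, .tau],
  [.Z6, .Z3, .Z0, .X10, .X9, .X8, .X2, .X0, .y9, .y2, .y1, .p4, .hi, .p6, .hi, .p4, .hi, .p7, .hi, .p8, .xii, .y2,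
   .hi, .p8, .hi, .p5, .hi, .taui, .xii, .p, .xii, .y1, .y10, .hi, .xii, .y3, .taui, .X0, .xii, .p2, .xii, .y9, .p,
   .xii, .p4, .y5, .taui, .xii, .p9, .xii, .y2, .y9, .p8, .xii, .y4, .tau]⟩

theorem h291 : Hd F (g wAp) b291 := hdP (by decide +kernel)
theorem r291_0 : R9 F (g wAp) b291 [] 0 0 := .of (startP 0 1) (by decide +kernel)
theorem r291_1 : R9 F (g wAp) b291 [] 0 1 := .of (startP 0 1) (by decide +kernel)
theorem r291_2 : R9 F (g wAp) b291 [] 0 2 := .of (startP 0 1) (by decide +kernel)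
theorem r291_3 : R9 F (g wAp) b291 [] 1 0 := .of (startP 0 1) (by decide +kernel)
theorem r291_4 : R9 F (g wAp) b291 [] 1 1 := .of (startP 0 2) (by decide +kernel)
theorem r291_5 : R9 F (g wAp) b291 [] 1 2 := .of (startP 0 1) (by decide +kernel)
theorem r291_6 : R9 F (g wAp) b291 [] 2 0 := .of (startP 0 1) (by decide +kernel)
theorem r291_7 : R9 F (g wAp) b291 [] 2 1 := .of (startP 0 1) (by decide +kernel)
theorem r291_8 : R9 F (g wAp) b291 [] 2 2 := .of (startP 0 1) (by decide +kernel)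
theorem g291 : Gd F (g wAp) (0, p291) [] :=
  good9 ok h291 r291_0 r291_1 r291_2 r291_3 r291_4 r291_5 r291_6 r291_7 r291_8

def b292 : Wd := ⟨0, p292,
  [.z, .Z8, .Z4, .Z2, .X10, .X7, .X6, .X5, .X4, .X1, .X0, .y10, .y8, .y7, .y5, .y3, .y1, .hi, .p5, .hi, .p3, .hi, .p,
   .hi, .p8, .hi, .p6, .xii, .hi, .p8, .xii, .y2, .taui, .xii, .p3, .hi, .xii, .y9, .tau, .X0, .p4, .xii, .p7, .xii,
   .y1, .p5, .taui, .xii, .p9, .xii, .p5, .y9, .xii, .y1, .y7, .taui, .xii, .p, .xii, .y6],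
  [.Z9, .Z7, .Z6, .Z5, .Z4, .Z3, .X10, .X9, .X3, .X0, .y9, .y8, .y5, .y3, .y1, .hi, .p5, .hi, .p3, .hi, .p9, .hi, .p6,
   .hi, .p10, .xii, .hi, .xii, .y6, .p5, .xii, .tau, .xii, .y1, .p, .xii, .y6, .taui, .p6, .xii, .p5, .xii, .y2, .p4,
   .tau, .xii, .p5, .xii, .p6, .y1],
  [.z, .Z9, .Z7, .Z6, .Z3, .Z2, .Z1, .X10, .X8, .X5, .X4, .X3, .X2, .X1, .X0, .y10, .y9, .y7, .y6, .y1, .p3, .hi, .p7,
   .hi, .p4, .hi, .p9, .hi, .xii, .p, .xii, .p3, .y1, .hi, .tau, .xii, .y2, .hi, .p8, .xii, .taui, .p5, .xii, .y6,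
   .hi, .xii, .y9, .p8, .tau, .xii, .y2, .p4, .xii, .y4, .p10, .hi]⟩

theorem h292 : Hd F (g wAp) b292 := hdP (by decide +kernel)
theorem r292_0 : R9 F (g wAp) b292 [] 0 0 := .of (startP 0 1) (by decide +kernel)
theorem r292_1 : R9 F (g wAp) b292 [] 0 1 := .of (startP 0 1) (by decide +kernel)
theorem r292_2 : R9 F (g wAp) b292 [] 0 2 := .of (startP 0 1) (by decide +kernel)
theorem r292_3 : R9 F (g wAp) b292 [] 1 0 := .of (startP 0 1) (by decide +kernel)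
theorem r292_4 : R9 F (g wAp) b292 [] 1 1 := .of (startP 0 1) (by decide +kernel)
theorem r292_5 : R9 F (g wAp) b292 [] 1 2 := .of (startP 0 1) (by decide +kernel)
theorem r292_6 : R9 F (g wAp) b292 [] 2 0 := .of (startP 0 1) (by decide +kernel)
theorem r292_7 : R9 F (g wAp) b292 [] 2 1 := .of (startP 0 1) (by decide +kernel)
theorem r292_8 : R9 F (g wAp) b292 [] 2 2 := .of (startP 0 1) (by decide +kernel)
theorem g292 : Gd F (g wAp) (0, p292) [] :=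
  good9 ok h292 r292_0 r292_1 r292_2 r292_3 r292_4 r292_5 r292_6 r292_7 r292_8

def b293 : Wd := ⟨0, p293,
  [.z, .Z9, .Z8, .Z3, .Z2, .Z1, .Z0, .X10, .X8, .X6, .X5, .X4, .X3, .X1, .X0, .y10, .y9, .y7, .p8, .hi, .p3, .hi, .p7,
   .hi, .p7, .hi, .p8, .hi, .p, .xii, .p, .xii, .y6, .tau, .y1, .xii, .y2, .p10, .xii, .y1, .y5, .taui, .hi, .xii,
   .p8, .xii, .y4, .tau, .xii, .hi, .p8, .hi, .p8, .hi],
  [.z, .Z10, .Z9, .Z8, .Z7, .Z6, .Z2, .Z1, .Z0, .X10, .X9, .X7, .X6, .X4, .X3, .X1, .y10, .y8, .y6, .y5, .y3, .y2,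
   .y1, .p, .hi, .p3, .hi, .p4, .hi, .p8, .hi, .p, .hi, .p3, .hi, .xii, .y2, .taui, .xii, .y6, .p, .xii, .p, .xii,
   .y2, .y3, .tau, .X0, .y1, .xii, .y1, .p6, .xii, .p, .xii, .y2, .taui, .xii, .y2, .p10, .xii],
  [.z, .Z10, .Z9, .Z7, .Z4, .Z3, .X10, .X6, .X3, .X2, .y10, .y9, .y8, .y7, .y6, .y3, .y2, .y1, .p5, .hi, .p9, .hi,
   .p10, .hi, .p, .hi, .p3, .hi, .p4, .hi, .xii, .p10, .xii, .y10, .taui, .y1, .xii, .hi, .xii, .y1, .y2, .tau, .X0,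
   .y1, .p2, .xii, .p, .xii, .y3, .y10, .tau, .xii, .y2, .hi, .p8, .xii, .p6]⟩

theorem h293 : Hd F (g wAp) b293 := hdP (by decide +kernel)
theorem r293_0 : R9 F (g wAp) b293 [6, 13, 20] 0 0 := .of' (startP 0 1) (skip := [6]) (by decide +kernel) (by decide)
theorem r293_1 : R9 F (g wAp) b293 [6, 13, 20] 0 1 := .of' (startP 0 1) (skip := [4]) (by decide +kernel) (by decide)
theorem r293_2 : R9 F (g wAp) b293 [6, 13, 20] 0 2 := .of' (startP 0 1) (skip := [2]) (by decide +kernel) (by decide)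
theorem r293_3 : R9 F (g wAp) b293 [6, 13, 20] 1 0 := .of (startP 0 1) (by decide +kernel)
theorem r293_4 : R9 F (g wAp) b293 [6, 13, 20] 1 1 := .of (startP 0 1) (by decide +kernel)
theorem r293_5 : R9 F (g wAp) b293 [6, 13, 20] 1 2 := .of (startP 0 1) (by decide +kernel)
theorem r293_6 : R9 F (g wAp) b293 [6, 13, 20] 2 0 := .of (startP 0 1) (by decide +kernel)
theorem r293_7 : R9 F (g wAp) b293 [6, 13, 20] 2 1 := .of (startP 0 1) (by decide +kernel)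
theorem r293_8 : R9 F (g wAp) b293 [6, 13, 20] 2 2 := .of (startP 0 1) (by decide +kernel)
theorem g293 : Gd F (g wAp) (0, p293) [6, 13, 20] :=
  good9 ok h293 r293_0 r293_1 r293_2 r293_3 r293_4 r293_5 r293_6 r293_7 r293_8

def b294 : Wd := ⟨0, p294,
  [.Z9, .Z8, .Z7, .Z6, .Z5, .Z3, .X10, .X7, .X5, .X4, .X3, .X2, .X1, .X0, .y9, .y8, .y6, .y1, .p3, .hi, .p5, .hi, .p3,
   .hi, .p6, .hi, .p4, .hi, .taui, .xii, .y1, .p, .xii, .p, .xii, .y4, .y6, .tau, .xii, .p2, .xii, .y1, .y7, .hi,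
   .xii, .y10, .p5, .tau, .xii, .p7, .xii, .hi, .y7, .tau, .xii, .y2, .p7],
  [.z, .Z10, .Z5, .Z4, .Z2, .X10, .X8, .X7, .X3, .y8, .y7, .y6, .y3, .p5, .hi, .p3, .hi, .p3, .hi, .p7, .hi, .p, .hi,
   .p10, .xii, .y2, .p5, .hi, .p5, .taui, .X0, .p9, .xii, .hi, .p8, .xii, .y9, .p7, .y9, .taui, .xii, .p2, .xii, .y7,
   .p4, .xii, .y8, .tau],
  [.Z10, .Z7, .Z6, .Z5, .Z3, .X8, .X4, .X1, .X0, .y10, .y6, .y5, .y2, .hi, .p5, .hi, .p8, .hi, .p7, .hi, .p7, .hi,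
   .p3, .hi, .p3, .xii, .p10, .hi, .p, .taui, .xii, .p, .xii, .y3, .y10, .hi, .xii, .y1, .taui, .xii, .y1, .hi, .xii,
   .y8, .p10, .xii, .y4, .tau, .xii, .y2, .hi, .p8, .xii, .y3, .p5]⟩

theorem h294 : Hd F (g wAp) b294 := hdP (by decide +kernel)
theorem r294_0 : R9 F (g wAp) b294 [10, 12, 17, 32, 38, 68, 74] 0 0 := .of (startP 0 1) (by decide +kernel)
theorem r294_1 : R9 F (g wAp) b294 [10, 12, 17, 32, 38, 68, 74] 0 1 := .of' (startP 0 1) (skip := [1, 3, 8]) (by decide +kernel) (by decide)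
theorem r294_2 : R9 F (g wAp) b294 [10, 12, 17, 32, 38, 68, 74] 0 2 := .of (startP 0 1) (by decide +kernel)
theorem r294_3 : R9 F (g wAp) b294 [10, 12, 17, 32, 38, 68, 74] 1 0 := .of' (startP 0 1) (skip := [5]) (by decide +kernel) (by decide)
theorem r294_4 : R9 F (g wAp) b294 [10, 12, 17, 32, 38, 68, 74] 1 1 := .of' (startP 0 1) (skip := [2]) (by decide +kernel) (by decide)
theorem r294_5 : R9 F (g wAp) b294 [10, 12, 17, 32, 38, 68, 74] 1 2 := .of (startP 0 1) (by decide +kernel)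
theorem r294_6 : R9 F (g wAp) b294 [10, 12, 17, 32, 38, 68, 74] 2 0 := .of (startP 0 1) (by decide +kernel)
theorem r294_7 : R9 F (g wAp) b294 [10, 12, 17, 32, 38, 68, 74] 2 1 := .of' (startP 0 1) (skip := [5]) (by decide +kernel) (by decide)
theorem r294_8 : R9 F (g wAp) b294 [10, 12, 17, 32, 38, 68, 74] 2 2 := .of' (startP 0 1) (skip := [2]) (by decide +kernel) (by decide)
theorem g294 : Gd F (g wAp) (0, p294) [10, 12, 17, 32, 38, 68, 74] :=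
  good9 ok h294 r294_0 r294_1 r294_2 r294_3 r294_4 r294_5 r294_6 r294_7 r294_8

def b295 : Wd := ⟨1, p295,
  [.Z9, .Z5, .Z2, .Z0, .X10, .X9, .X6, .X5, .X2, .X1, .X0, .y7, .y2, .y1, .p8, .hi, .p10, .hi, .p7, .hi, .p10, .hi,
   .p4, .hi, .taui, .xii, .p, .xii, .hi, .y8, .xii, .y1, .y4, .taui, .y1, .xii, .p3, .xii, .hi, .y9, .xii, .y1, .y6,
   .tau, .xii, .p4, .xii, .y5, .p6, .xii, .y1, .y9, .tau, .xii, .p, .xii, .y6],
  [.z, .Z9, .Z5, .Z3, .Z0, .X10, .X8, .X7, .X5, .X4, .X2, .X1, .y6, .y4, .y2, .y1, .p3, .hi, .p7, .hi, .p4, .hi, .p6,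
   .hi, .p6, .xii, .p10, .xii, .p9, .xii, .y5, .tau, .xii, .y2, .p, .xii, .y6, .hi, .p10, .taui, .p8, .xii, .p, .xii,
   .y10, .tau, .xii, .p9, .xii, .p3, .xii, .y2, .y6],
  [.z, .Z7, .Z5, .Z4, .Z3, .Z0, .X9, .X5, .X3, .X1, .y10, .y9, .y8, .y7, .y6, .y5, .y4, .y2, .p10, .hi, .p8, .hi, .p8,
   .hi, .p9, .hi, .p9, .hi, .p6, .hi, .p2, .hi, .xii, .p, .xii, .y3, .p7, .xii, .y2, .taui, .y1, .xii, .hi, .xii, .y1,
   .tau, .p4, .xii, .y2, .p9, .xii, .p10, .tau, .xii, .p4, .xii, .y5, .p8, .xii, .y5, .y8]⟩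

theorem h295 : Hd F (g wAp) b295 := hdP (by decide +kernel)
theorem r295_0 : R9 F (g wAp) b295 [] 0 0 := .of (startP 0 1) (by decide +kernel)
theorem r295_1 : R9 F (g wAp) b295 [] 0 1 := .of (startP 0 2) (by decide +kernel)
theorem r295_2 : R9 F (g wAp) b295 [] 0 2 := .of (startP 0 1) (by decide +kernel)
theorem r295_3 : R9 F (g wAp) b295 [] 1 0 := .of (startP 0 1) (by decide +kernel)
theorem r295_4 : R9 F (g wAp) b295 [] 1 1 := .of (startP 0 1) (by decide +kernel)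
theorem r295_5 : R9 F (g wAp) b295 [] 1 2 := .of (startP 0 1) (by decide +kernel)
theorem r295_6 : R9 F (g wAp) b295 [] 2 0 := .of (startP 0 1) (by decide +kernel)
theorem r295_7 : R9 F (g wAp) b295 [] 2 1 := .of (startP 0 1) (by decide +kernel)
theorem r295_8 : R9 F (g wAp) b295 [] 2 2 := .of (startP 0 1) (by decide +kernel)
theorem g295 : Gd F (g wAp) (1, p295) [] :=
  good9 ok h295 r295_0 r295_1 r295_2 r295_3 r295_4 r295_5 r295_6 r295_7 r295_8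

def b296 : Wd := ⟨1, p296,
  [.Z10, .Z8, .Z6, .Z3, .Z1, .X10, .X8, .X6, .X4, .X3, .X0, .y9, .y8, .y7, .y5, .y4, .y3, .y2, .p9, .hi, .p3, .hi,
   .p7, .hi, .p6, .hi, .p6, .xii, .hi, .xii, .p6, .xii, .y6, .tau, .y1, .xii, .p10, .xii, .y1, .p10, .xii, .y1, .y6,
   .tau, .xii, .p9, .xii, .y6, .p3, .y10, .xii, .y3, .p, .tau, .xii, .p9, .xii, .y6, .p2, .hi, .p7, .tau, .xii, .y2,
   .p2],
  [.Z10, .Z8, .Z2, .Z0, .X10, .X7, .X5, .X3, .X1, .y7, .y2, .p9, .hi, .p9, .hi, .p8, .hi, .p4, .hi, .p7, .hi, .xii,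
   .y2, .hi, .p8, .xii, .y6, .p2, .taui, .X0, .p9, .xii, .p, .xii, .p4, .hi, .p4, .y8, .tau, .xii, .y2, .p9, .xii,
   .y9, .p6, .xii, .y8, .taui, .xii, .p4, .hi, .p6],
  [.z, .Z10, .Z9, .Z8, .Z4, .Z2, .Z0, .X9, .X7, .X6, .X5, .X1, .y10, .y9, .y8, .y6, .y5, .y1, .p7, .hi, .p8, .hi, .p5,
   .hi, .p5, .hi, .p5, .hi, .p4, .hi, .xii, .p10, .xii, .y1, .p5, .hi, .p5, .taui, .xii, .p, .xii, .y1, .hi, .xii,
   .y3, .taui, .p7, .xii, .y6, .p9, .xii, .p3, .y8, .hi, .taui, .xii, .p5, .xii, .y3, .y5, .hi, .p4, .tau, .xii, .hi,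
   .p10]⟩

theorem h296 : Hd F (g wAp) b296 := hdP (by decide +kernel)
theorem r296_0 : R9 F (g wAp) b296 [] 0 0 := .of (startP 0 1) (by decide +kernel)
theorem r296_1 : R9 F (g wAp) b296 [] 0 1 := .of (startP 0 1) (by decide +kernel)
theorem r296_2 : R9 F (g wAp) b296 [] 0 2 := .of (startP 0 1) (by decide +kernel)
theorem r296_3 : R9 F (g wAp) b296 [] 1 0 := .of (startP 0 1) (by decide +kernel)
theorem r296_4 : R9 F (g wAp) b296 [] 1 1 := .of (startP 0 1) (by decide +kernel)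
theorem r296_5 : R9 F (g wAp) b296 [] 1 2 := .of (startP 0 1) (by decide +kernel)
theorem r296_6 : R9 F (g wAp) b296 [] 2 0 := .of (startP 0 1) (by decide +kernel)
theorem r296_7 : R9 F (g wAp) b296 [] 2 1 := .of (startP 0 1) (by decide +kernel)
theorem r296_8 : R9 F (g wAp) b296 [] 2 2 := .of (startP 0 1) (by decide +kernel)
theorem g296 : Gd F (g wAp) (1, p296) [] :=
  good9 ok h296 r296_0 r296_1 r296_2 r296_3 r296_4 r296_5 r296_6 r296_7 r296_8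

def b297 : Wd := ⟨1, p297,
  [.Z9, .Z8, .Z7, .Z5, .Z4, .Z3, .Z1, .X10, .X9, .X8, .X5, .X4, .X1, .y7, .y3, .p4, .hi, .p3, .hi, .p3, .hi, .p5, .hi,
   .p2, .xii, .p10, .hi, .p8, .taui, .xii, .y6, .p, .hi, .xii, .y7, .p3, .hi, .tau, .p9, .xii, .p10, .y10, .tau, .xii,
   .y2, .p2, .hi, .p6],
  [.z, .Z8, .Z7, .Z5, .Z4, .Z2, .Z0, .X10, .X8, .X7, .X5, .X4, .X2, .X0, .y9, .y7, .y6, .y5, .y1, .p7, .hi, .p9, .hi,
   .p3, .hi, .p6, .hi, .p4, .hi, .xii, .p3, .hi, .tau, .y1, .xii, .p10, .xii, .y1, .y7, .p10, .xii, .y4, .y9, .tau,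
   .X0, .xii, .y2, .hi, .xii, .y9, .p10, .xii, .y1, .y7, .tau, .xii, .p5, .xii, .y4, .hi, .y10, .xii, .y7],
  [.Z10, .Z0, .X10, .X7, .X5, .X3, .X1, .X0, .y10, .y8, .y6, .y5, .y3, .y2, .y1, .hi, .p6, .hi, .p10, .hi, .p6, .hi,
   .p9, .hi, .p5, .hi, .xii, .hi, .p8, .tau, .y1, .xii, .p10, .xii, .y5, .p10, .xii, .taui, .X0, .xii, .y1, .hi, .xii,
   .p10, .xii, .y3, .tau, .xii, .p9, .xii, .hi, .y9, .xii, .y9]⟩

theorem h297 : Hd F (g wAp) b297 := hdP (by decide +kernel)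
theorem r297_0 : R9 F (g wAp) b297 [] 0 0 := .of (startP 0 1) (by decide +kernel)
theorem r297_1 : R9 F (g wAp) b297 [] 0 1 := .of (startP 0 1) (by decide +kernel)
theorem r297_2 : R9 F (g wAp) b297 [] 0 2 := .of (startP 0 1) (by decide +kernel)
theorem r297_3 : R9 F (g wAp) b297 [] 1 0 := .of (startP 0 1) (by decide +kernel)
theorem r297_4 : R9 F (g wAp) b297 [] 1 1 := .of (startP 0 1) (by decide +kernel)
theorem r297_5 : R9 F (g wAp) b297 [] 1 2 := .of (startP 0 1) (by decide +kernel)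
theorem r297_6 : R9 F (g wAp) b297 [] 2 0 := .of (startP 0 2) (by decide +kernel)
theorem r297_7 : R9 F (g wAp) b297 [] 2 1 := .of (startP 0 1) (by decide +kernel)
theorem r297_8 : R9 F (g wAp) b297 [] 2 2 := .of (startP 0 1) (by decide +kernel)
theorem g297 : Gd F (g wAp) (1, p297) [] :=
  good9 ok h297 r297_0 r297_1 r297_2 r297_3 r297_4 r297_5 r297_6 r297_7 r297_8

def b298 : Wd := ⟨1, p298,
  [.Z9, .Z8, .Z6, .Z5, .Z1, .X10, .X6, .X3, .X1, .X0, .y9, .y8, .y3, .y1, .p6, .hi, .p6, .hi, .p5, .hi, .p6, .hi, .p8,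
   .hi, .p2, .xii, .hi, .p8, .xii, .taui, .X0, .p2, .xii, .p9, .xii, .y8, .tau, .xii, .p4, .xii, .y1, .y10, .hi, .p2,
   .taui, .xii, .y2, .p5, .hi, .p2],
  [.z, .Z7, .Z5, .Z4, .Z2, .Z1, .X10, .X9, .X8, .X7, .X4, .X0, .y10, .y7, .y6, .y5, .y3, .y2, .p9, .hi, .p9, .hi, .p7,
   .hi, .p10, .hi, .p4, .hi, .p, .xii, .hi, .xii, .p10, .y8, .xii, .y9, .tau, .xii, .p, .xii, .hi, .y8, .xii, .y5,
   .y9, .y10, .taui, .X0, .p5, .xii, .y8, .p7, .xii, .y7, .hi, .p, .taui, .xii, .p7, .xii, .y4, .y5, .hi, .p10],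
  [.Z10, .Z8, .Z6, .Z3, .Z0, .X8, .X7, .X4, .X1, .X0, .y10, .y8, .y7, .y6, .y5, .y1, .hi, .p6, .hi, .p, .hi, .p, .hi,
   .p5, .hi, .p9, .xii, .y2, .p, .xii, .p5, .xii, .y7, .y10, .tau, .y1, .xii, .p10, .xii, .y5, .p10, .xii, .y9, .y10,
   .taui, .p10, .xii, .p10, .xii, .y5, .p9, .taui, .xii, .p3, .xii, .y2, .p7, .xii, .y2, .tau, .xii, .p10]⟩

theorem h298 : Hd F (g wAp) b298 := hdP (by decide +kernel)
theorem r298_0 : R9 F (g wAp) b298 [] 0 0 := .of (startP 0 1) (by decide +kernel)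
theorem r298_1 : R9 F (g wAp) b298 [] 0 1 := .of (startP 0 1) (by decide +kernel)
theorem r298_2 : R9 F (g wAp) b298 [] 0 2 := .of (startP 0 1) (by decide +kernel)
theorem r298_3 : R9 F (g wAp) b298 [] 1 0 := .of (startP 0 1) (by decide +kernel)
theorem r298_4 : R9 F (g wAp) b298 [] 1 1 := .of (startP 0 1) (by decide +kernel)
theorem r298_5 : R9 F (g wAp) b298 [] 1 2 := .of (startP 0 1) (by decide +kernel)
theorem r298_6 : R9 F (g wAp) b298 [] 2 0 := .of (startP 0 1) (by decide +kernel)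
theorem r298_7 : R9 F (g wAp) b298 [] 2 1 := .of (startP 0 1) (by decide +kernel)
theorem r298_8 : R9 F (g wAp) b298 [] 2 2 := .of (startP 0 1) (by decide +kernel)
theorem g298 : Gd F (g wAp) (1, p298) [] :=
  good9 ok h298 r298_0 r298_1 r298_2 r298_3 r298_4 r298_5 r298_6 r298_7 r298_8

def b299 : Wd := ⟨1, p299,
  [.Z10, .Z9, .Z7, .Z4, .Z0, .X10, .X9, .X8, .X2, .y2, .p5, .hi, .p6, .hi, .p7, .hi, .p, .hi, .p8, .hi, .p3, .xii,
   .p10, .xii, .y9, .p6, .xii, .y7, .taui, .xii, .y2, .p, .xii, .y2, .hi, .xii, .y5, .taui, .p5, .xii, .p7, .xii, .p7,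
   .hi, .y4, .taui, .xii, .y2, .p2, .xii, .y7, .p4, .tau, .xii, .p, .hi, .p],
  [.z, .Z9, .Z6, .Z5, .Z2, .Z0, .X7, .X6, .X4, .X1, .p8, .hi, .p7, .hi, .p4, .hi, .p8, .hi, .p10, .hi, .p2, .hi, .xii,
   .y2, .p3, .hi, .taui, .y1, .xii, .p10, .xii, .y1, .y7, .p10, .xii, .y4, .y9, .tau, .xii, .p3, .xii, .y7, .p2, .xii,
   .y4, .p, .tau, .xii, .p9, .xii, .y1, .y4, .hi, .xii],
  [.Z9, .Z8, .Z7, .Z4, .Z2, .Z1, .Z0, .X9, .X8, .X6, .X5, .X4, .X3, .X2, .X1, .X0, .y10, .y9, .y8, .y7, .y6, .y4, .y2,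
   .p9, .hi, .p9, .hi, .p, .hi, .p3, .hi, .p9, .hi, .p3, .xii, .p10, .xii, .p9, .xii, .y1, .y10, .taui, .y1, .xii,
   .p10, .xii, .y5, .p10, .hi, .p8, .tau, .y1, .p7, .xii, .p, .xii, .y10, .hi, .p5, .taui, .xii, .p9, .xii, .y7, .p6,
   .xii, .y1, .y9, .tau, .xii, .p6, .xii]⟩

theorem h299 : Hd F (g wAp) b299 := hdP (by decide +kernel)
theorem r299_0 : R9 F (g wAp) b299 [] 0 0 := .of (startP 0 1) (by decide +kernel)
theorem r299_1 : R9 F (g wAp) b299 [] 0 1 := .of (startP 0 2) (by decide +kernel)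
theorem r299_2 : R9 F (g wAp) b299 [] 0 2 := .of (startP 0 1) (by decide +kernel)
theorem r299_3 : R9 F (g wAp) b299 [] 1 0 := .of (startP 0 1) (by decide +kernel)
theorem r299_4 : R9 F (g wAp) b299 [] 1 1 := .of (startP 0 1) (by decide +kernel)
theorem r299_5 : R9 F (g wAp) b299 [] 1 2 := .of (startP 0 1) (by decide +kernel)
theorem r299_6 : R9 F (g wAp) b299 [] 2 0 := .of (startP 0 1) (by decide +kernel)
theorem r299_7 : R9 F (g wAp) b299 [] 2 1 := .of (startP 0 1) (by decide +kernel)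
theorem r299_8 : R9 F (g wAp) b299 [] 2 2 := .of (startP 0 1) (by decide +kernel)
theorem g299 : Gd F (g wAp) (1, p299) [] :=
  good9 ok h299 r299_0 r299_1 r299_2 r299_3 r299_4 r299_5 r299_6 r299_7 r299_8

theorem all : AllG F (g wAp) LP29 :=
  .cons g290 (.cons g291 (.cons g292 (.cons g293 (.cons g294 (.cons g295 (.cons g296 (.cons g297 (.cons g298 (.cons g299 (.nil))))))))))

end Cfsg.Agent.BX.No33.Bk.P29
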