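import Cfsg.Agent.BX.No33.Cheap
set_option linter.all false

/-!
# Tests, pure case, part 4 (helper5; generated)
-/

set_option autoImplicit false
set_option maxRecDepth 100000
set_option Elab.async false

namespace Cfsg.Agent.BX.No33.Bk.P4

open Cfsg.Agent.H819.U33 Cfsg.Agent.BX.No33.Front

def b40 : Wd := ⟨0, p40,
  [.Z10, .Z6, .Z1, .X9, .X8, .X7, .X3, .X1, .y9, .y7, .y4, .y2, .y1, .p10, .hi, .p10, .hi, .p8, .hi, .p, .hi, .p4,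
   .hi, .p8, .xii, .p, .xii, .y2, .hi, .xii, .y3, .y4, .taui, .y1, .xii, .y1, .hi, .xii, .p10, .xii, .y4, .taui, .X0,
   .p5, .xii, .p7, .y7, .xii, .y5, .p9, .xii, .taui, .xii, .p5, .xii, .y1, .y8, .p5, .tau, .xii, .y2, .p, .hi, .p4],
  [.Z5, .Z0, .X3, .X1, .y9, .y1, .hi, .p8, .hi, .p8, .hi, .p5, .hi, .p4, .hi, .xii, .p, .xii, .y1, .y10, .tau, .xii,
   .y6, .p, .xii, .p, .xii, .y7, .y8, .y10, .tau, .X0, .y1, .xii, .y6, .p9, .xii, .y4, .y9, .p6, .xii, .y6, .tau,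
   .xii, .p9, .xii, .p8, .y4, .xii, .y7, .tau, .xii, .p4],
  [.z, .Z10, .Z9, .Z8, .Z6, .Z4, .Z3, .Z2, .Z1, .Z0, .X10, .X9, .X8, .X7, .X5, .X4, .X1, .X0, .y9, .y5, .y4, .y2, .p6,
   .hi, .p9, .hi, .p8, .hi, .p5, .hi, .p7, .xii, .hi, .xii, .p6, .xii, .y4, .y7, .taui, .y1, .xii, .p10, .xii, .y5,
   .p10, .xii, .y2, .y4, .tau, .y1, .xii, .p5, .xii, .p8, .y8, .y10, .xii, .y2, .y4, .taui, .xii, .hi, .p5, .xii, .y2,
   .p6, .tau, .xii, .hi, .p7]⟩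

theorem h40 : Hd F (g wAp) b40 := hdP (by decide +kernel)
theorem r40_0 : R9 F (g wAp) b40 [] 0 0 := .of (startP 0 1) (by decide +kernel)
theorem r40_1 : R9 F (g wAp) b40 [] 0 1 := .of (startP 0 1) (by decide +kernel)
theorem r40_2 : R9 F (g wAp) b40 [] 0 2 := .of (startP 0 1) (by decide +kernel)
theorem r40_3 : R9 F (g wAp) b40 [] 1 0 := .of (startP 0 1) (by decide +kernel)
theorem r40_4 : R9 F (g wAp) b40 [] 1 1 := .of (startP 0 1) (by decide +kernel)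
theorem r40_5 : R9 F (g wAp) b40 [] 1 2 := .of (startP 0 1) (by decide +kernel)
theorem r40_6 : R9 F (g wAp) b40 [] 2 0 := .of (startP 0 1) (by decide +kernel)
theorem r40_7 : R9 F (g wAp) b40 [] 2 1 := .of (startP 0 1) (by decide +kernel)
theorem r40_8 : R9 F (g wAp) b40 [] 2 2 := .of (startP 0 1) (by decide +kernel)
theorem g40 : Gd F (g wAp) (0, p40) [] :=
  good9 ok h40 r40_0 r40_1 r40_2 r40_3 r40_4 r40_5 r40_6 r40_7 r40_8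

def b41 : Wd := ⟨0, p41,
  [.Z10, .Z9, .Z8, .Z7, .Z2, .X10, .X9, .X8, .X5, .X3, .X1, .X0, .y6, .y4, .y2, .p9, .hi, .p8, .hi, .p6, .hi, .p5,
   .hi, .p6, .hi, .p10, .xii, .y2, .hi, .p10, .hi, .p8, .tau, .xii, .y6, .hi, .p8, .xii, .y2, .p10, .tau, .X0, .p10,
   .xii, .y4, .p10, .xii, .y3, .y7, .tau, .xii, .p5, .xii, .p6, .y1],
  [.Z10, .Z9, .Z5, .Z4, .Z3, .Z2, .X8, .X4, .X3, .X2, .X1, .y8, .y7, .y3, .y2, .y1, .p4, .hi, .p5, .hi, .p3, .hi, .p7,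
   .hi, .p4, .hi, .p4, .hi, .xii, .y2, .p2, .hi, .xii, .y6, .p3, .tau, .xii, .y6, .hi, .p8, .xii, .y4, .p10, .tau,
   .p10, .xii, .y2, .p10, .xii, .y1, .p8, .tau, .xii, .p8, .xii, .p10, .y1],
  [.Z10, .Z7, .Z5, .Z4, .Z3, .Z2, .Z0, .X10, .X6, .X5, .X4, .X2, .X0, .y10, .y8, .y7, .y2, .p8, .hi, .p9, .hi, .p5,
   .hi, .p7, .hi, .p3, .hi, .p10, .hi, .p9, .xii, .p, .xii, .p8, .y4, .xii, .y5, .tau, .y1, .xii, .p10, .xii, .y1,
   .p10, .xii, .y2, .y10, .taui, .X0, .xii, .y6, .p5, .xii, .hi, .y10, .xii, .p6, .tau, .xii, .y2, .p6, .xii, .p6,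
   .xii, .y4, .y10, .tau, .xii, .p, .xii, .y6]⟩

theorem h41 : Hd F (g wAp) b41 := hdP (by decide +kernel)
theorem r41_0 : R9 F (g wAp) b41 [] 0 0 := .of (startP 0 1) (by decide +kernel)
theorem r41_1 : R9 F (g wAp) b41 [] 0 1 := .of (startP 0 1) (by decide +kernel)
theorem r41_2 : R9 F (g wAp) b41 [] 0 2 := .of (startP 0 1) (by decide +kernel)
theorem r41_3 : R9 F (g wAp) b41 [] 1 0 := .of (startP 0 1) (by decide +kernel)
theorem r41_4 : R9 F (g wAp) b41 [] 1 1 := .of (startP 0 1) (by decide +kernel)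
theorem r41_5 : R9 F (g wAp) b41 [] 1 2 := .of (startP 0 1) (by decide +kernel)
theorem r41_6 : R9 F (g wAp) b41 [] 2 0 := .of (startP 0 1) (by decide +kernel)
theorem r41_7 : R9 F (g wAp) b41 [] 2 1 := .of (startP 0 1) (by decide +kernel)
theorem r41_8 : R9 F (g wAp) b41 [] 2 2 := .of (startP 0 1) (by decide +kernel)
theorem g41 : Gd F (g wAp) (0, p41) [] :=
  good9 ok h41 r41_0 r41_1 r41_2 r41_3 r41_4 r41_5 r41_6 r41_7 r41_8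

def b42 : Wd := ⟨0, p42,
  [.z, .Z10, .Z8, .Z7, .Z4, .X10, .X9, .X7, .X5, .X1, .X0, .y9, .y4, .y3, .p6, .hi, .p3, .hi, .p5, .hi, .p9, .hi, .p8,
   .xii, .y2, .p2, .hi, .xii, .y5, .p3, .taui, .xii, .p, .xii, .y2, .hi, .xii, .y5, .tau, .p5, .xii, .p9, .y9, .xii,
   .y8, .p3, .xii, .y5, .taui, .xii, .p9, .xii, .y5, .p3, .y4, .xii, .y8, .tau, .xii, .y4, .hi, .p4],
  [.z, .Z9, .Z8, .Z0, .X9, .X6, .X4, .X3, .y8, .y6, .y4, .p7, .hi, .p4, .hi, .p3, .hi, .p9, .hi, .p9, .hi, .p10, .hi,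
   .xii, .y2, .p, .xii, .y3, .y4, .tau, .y1, .xii, .p10, .xii, .y1, .p10, .xii, .y9, .tau, .p4, .xii, .p7, .xii, .y7,
   .y10, .p7, .tau, .xii, .p2, .xii, .y7, .p10, .xii, .y8, .tau, .xii, .y7, .p8],
  [.z, .Z10, .Z7, .Z6, .Z5, .Z1, .Z0, .X1, .X0, .y8, .y6, .y3, .y2, .hi, .p7, .hi, .p7, .hi, .p7, .hi, .p, .hi, .p3,
   .xii, .y2, .hi, .xii, .p5, .tau, .y1, .xii, .p10, .xii, .y5, .p10, .xii, .y2, .taui, .p4, .xii, .y6, .p5, .xii,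
   .y1, .y8, .p8, .taui, .xii, .p6, .xii, .p4, .y6, .xii, .y4, .taui, .xii, .y6, .p8]⟩

theorem h42 : Hd F (g wAp) b42 := hdP (by decide +kernel)
theorem r42_0 : R9 F (g wAp) b42 [] 0 0 := .of (startP 0 1) (by decide +kernel)
theorem r42_1 : R9 F (g wAp) b42 [] 0 1 := .of (startP 0 1) (by decide +kernel)
theorem r42_2 : R9 F (g wAp) b42 [] 0 2 := .of (startP 0 1) (by decide +kernel)
theorem r42_3 : R9 F (g wAp) b42 [] 1 0 := .of (startP 0 1) (by decide +kernel)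
theorem r42_4 : R9 F (g wAp) b42 [] 1 1 := .of (startP 0 1) (by decide +kernel)
theorem r42_5 : R9 F (g wAp) b42 [] 1 2 := .of (startP 0 1) (by decide +kernel)
theorem r42_6 : R9 F (g wAp) b42 [] 2 0 := .of (startP 0 1) (by decide +kernel)
theorem r42_7 : R9 F (g wAp) b42 [] 2 1 := .of (startP 0 1) (by decide +kernel)
theorem r42_8 : R9 F (g wAp) b42 [] 2 2 := .of (startP 0 1) (by decide +kernel)
theorem g42 : Gd F (g wAp) (0, p42) [] :=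
  good9 ok h42 r42_0 r42_1 r42_2 r42_3 r42_4 r42_5 r42_6 r42_7 r42_8

def b43 : Wd := ⟨0, p43,
  [.Z10, .Z8, .Z0, .X8, .X7, .X6, .X5, .X4, .X3, .y8, .y6, .y5, .y4, .y3, .p9, .hi, .p10, .hi, .p7, .hi, .p9, .hi,
   .p10, .hi, .p2, .xii, .p, .xii, .y3, .p7, .xii, .tau, .y1, .xii, .p10, .xii, .y1, .p10, .xii, .y4, .y8, .taui, .hi,
   .xii, .p6, .xii, .y7, .p2, .hi, .p4, .tau, .xii, .p7, .xii, .y1, .y2, .p8, .xii, .tau, .xii, .y2, .p4],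
  [.z, .Z10, .Z9, .Z8, .Z7, .Z6, .Z4, .Z2, .X9, .X5, .X4, .X2, .X1, .X0, .y9, .y7, .y5, .y4, .hi, .p6, .hi, .p4, .hi,
   .p, .hi, .p, .hi, .p5, .hi, .p3, .xii, .p10, .xii, .y1, .y5, .taui, .xii, .p4, .xii, .y3, .p9, .y6, .xii, .y5,
   .tau, .xii, .p5, .xii, .y1, .y7, .p2, .xii, .y5, .taui, .xii, .y4],
  [.z, .Z9, .Z6, .Z3, .Z1, .X10, .X9, .X7, .X6, .X3, .X2, .X1, .X0, .y10, .y7, .y6, .y4, .y1, .p8, .hi, .p, .hi, .p4,
   .hi, .p, .hi, .p, .hi, .p2, .hi, .xii, .p, .xii, .y3, .p4, .xii, .taui, .xii, .y2, .p, .xii, .y2, .hi, .xii, .y4,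
   .y7, .tau, .xii, .p9, .xii, .p3, .y8, .xii, .y1, .y8, .taui, .xii, .y2, .p5, .xii, .y2, .p2, .xii, .y10, .tau,
   .xii, .p, .xii, .y6]⟩

theorem h43 : Hd F (g wAp) b43 := hdP (by decide +kernel)
theorem r43_0 : R9 F (g wAp) b43 [] 0 0 := .of (startP 0 1) (by decide +kernel)
theorem r43_1 : R9 F (g wAp) b43 [] 0 1 := .of (startP 0 1) (by decide +kernel)
theorem r43_2 : R9 F (g wAp) b43 [] 0 2 := .of (startP 0 1) (by decide +kernel)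
theorem r43_3 : R9 F (g wAp) b43 [] 1 0 := .of (startP 0 1) (by decide +kernel)
theorem r43_4 : R9 F (g wAp) b43 [] 1 1 := .of (startP 0 1) (by decide +kernel)
theorem r43_5 : R9 F (g wAp) b43 [] 1 2 := .of (startP 0 1) (by decide +kernel)
theorem r43_6 : R9 F (g wAp) b43 [] 2 0 := .of (startP 0 1) (by decide +kernel)
theorem r43_7 : R9 F (g wAp) b43 [] 2 1 := .of (startP 0 1) (by decide +kernel)
theorem r43_8 : R9 F (g wAp) b43 [] 2 2 := .of (startP 0 1) (by decide +kernel)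
theorem g43 : Gd F (g wAp) (0, p43) [] :=
  good9 ok h43 r43_0 r43_1 r43_2 r43_3 r43_4 r43_5 r43_6 r43_7 r43_8

def b44 : Wd := ⟨0, p44,
  [.z, .Z9, .Z7, .Z5, .Z4, .Z1, .X7, .X6, .X4, .X2, .X1, .X0, .y10, .y9, .y6, .y4, .y3, .y2, .hi, .p4, .hi, .p3, .hi,
   .p, .hi, .p5, .hi, .p10, .hi, .p5, .xii, .hi, .xii, .p5, .hi, .p5, .taui, .xii, .y2, .p, .xii, .y1, .hi, .xii, .y4,
   .y5, .tau, .X0, .p6, .xii, .p5, .xii, .y7, .p9, .y9, .tau, .xii, .y2, .p8, .xii, .y7, .p8, .taui, .xii, .y2, .p5,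
   .hi, .p2],
  [.z, .Z10, .Z9, .Z6, .Z5, .Z3, .Z1, .X8, .X7, .X5, .X4, .X3, .X2, .y9, .y5, .y4, .y3, .y1, .p3, .hi, .p7, .hi, .p5,
   .hi, .p7, .hi, .p9, .hi, .xii, .p, .xii, .hi, .p4, .y9, .tau, .xii, .p, .xii, .y4, .hi, .xii, .y1, .y2, .taui,
   .xii, .p5, .xii, .y1, .y7, .p7, .xii, .y1, .taui, .xii, .p9, .xii, .y5, .hi, .p, .y4],
  [.z, .Z9, .Z7, .Z4, .Z3, .Z2, .X9, .X8, .X6, .X5, .X3, .y10, .y9, .y7, .y6, .y4, .y3, .y2, .p10, .hi, .p4, .hi, .p3,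
   .hi, .p7, .hi, .p5, .xii, .p, .xii, .y1, .y2, .hi, .p8, .tau, .y1, .xii, .y2, .hi, .xii, .y7, .p10, .xii, .y4,
   .tau, .xii, .p, .xii, .y1, .hi, .xii, .y3, .taui, .X0, .p9, .xii, .hi, .y10, .xii, .tau, .xii, .p5, .xii, .y5, .y8,
   .p7, .taui, .xii, .y2, .p3, .hi, .p8]⟩

theorem h44 : Hd F (g wAp) b44 := hdP (by decide +kernel)
theorem r44_0 : R9 F (g wAp) b44 [] 0 0 := .of (startP 0 1) (by decide +kernel)
theorem r44_1 : R9 F (g wAp) b44 [] 0 1 := .of (startP 0 1) (by decide +kernel)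
theorem r44_2 : R9 F (g wAp) b44 [] 0 2 := .of (startP 0 1) (by decide +kernel)
theorem r44_3 : R9 F (g wAp) b44 [] 1 0 := .of (startP 0 1) (by decide +kernel)
theorem r44_4 : R9 F (g wAp) b44 [] 1 1 := .of (startP 0 1) (by decide +kernel)
theorem r44_5 : R9 F (g wAp) b44 [] 1 2 := .of (startP 0 1) (by decide +kernel)
theorem r44_6 : R9 F (g wAp) b44 [] 2 0 := .of (startP 0 1) (by decide +kernel)
theorem r44_7 : R9 F (g wAp) b44 [] 2 1 := .of (startP 0 1) (by decide +kernel)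
theorem r44_8 : R9 F (g wAp) b44 [] 2 2 := .of (startP 0 1) (by decide +kernel)
theorem g44 : Gd F (g wAp) (0, p44) [] :=
  good9 ok h44 r44_0 r44_1 r44_2 r44_3 r44_4 r44_5 r44_6 r44_7 r44_8

def b45 : Wd := ⟨0, p45,
  [.Z8, .Z4, .Z0, .X10, .X9, .X6, .X0, .y9, .y8, .y4, .hi, .p9, .hi, .p3, .hi, .p4, .hi, .p6, .hi, .p3, .hi, .p10,
   .xii, .p5, .hi, .p5, .taui, .xii, .p, .xii, .hi, .y8, .xii, .y7, .y10, .taui, .X0, .y1, .xii, .y2, .p5, .xii, .y4,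
   .p8, .xii, .y4, .y9, .taui, .xii, .p6, .xii, .p4, .xii, .y6, .y9, .taui, .xii, .p8],
  [.z, .Z10, .Z7, .Z6, .Z5, .Z3, .Z2, .Z0, .X6, .X1, .X0, .y9, .y8, .y3, .y2, .y1, .p8, .hi, .p, .hi, .p4, .hi, .p4,
   .hi, .p7, .hi, .p9, .xii, .y2, .p10, .hi, .p, .taui, .xii, .p, .xii, .y2, .hi, .xii, .y4, .y7, .tau, .p7, .xii,
   .p4, .xii, .y8, .p4, .y9, .xii, .taui, .xii, .p7, .xii, .y2, .p7, .xii, .y1, .taui],
  [.z, .Z10, .Z9, .Z6, .Z4, .Z3, .X8, .X4, .X1, .X0, .y9, .y6, .y4, .y2, .p3, .hi, .p7, .hi, .p8, .hi, .p4, .hi, .p7,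
   .hi, .p9, .hi, .xii, .y2, .p5, .hi, .p8, .hi, .tau, .y1, .xii, .y6, .p10, .xii, .y8, .p10, .xii, .y2, .y10, .tau,
   .X0, .p10, .xii, .y2, .p2, .xii, .y2, .p10, .xii, .y3, .tau, .xii, .p7, .xii, .p5, .xii, .y3, .y10, .taui, .xii,
   .p8, .xii]⟩

theorem h45 : Hd F (g wAp) b45 := hdP (by decide +kernel)
theorem r45_0 : R9 F (g wAp) b45 [] 0 0 := .of (startP 0 1) (by decide +kernel)
theorem r45_1 : R9 F (g wAp) b45 [] 0 1 := .of (startP 0 1) (by decide +kernel)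
theorem r45_2 : R9 F (g wAp) b45 [] 0 2 := .of (startP 0 1) (by decide +kernel)
theorem r45_3 : R9 F (g wAp) b45 [] 1 0 := .of (startP 0 1) (by decide +kernel)
theorem r45_4 : R9 F (g wAp) b45 [] 1 1 := .of (startP 0 1) (by decide +kernel)
theorem r45_5 : R9 F (g wAp) b45 [] 1 2 := .of (startP 0 1) (by decide +kernel)
theorem r45_6 : R9 F (g wAp) b45 [] 2 0 := .of (startP 0 1) (by decide +kernel)
theorem r45_7 : R9 F (g wAp) b45 [] 2 1 := .of (startP 0 1) (by decide +kernel)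
theorem r45_8 : R9 F (g wAp) b45 [] 2 2 := .of (startP 0 1) (by decide +kernel)
theorem g45 : Gd F (g wAp) (0, p45) [] :=
  good9 ok h45 r45_0 r45_1 r45_2 r45_3 r45_4 r45_5 r45_6 r45_7 r45_8

def b46 : Wd := ⟨0, p46,
  [.Z10, .Z9, .Z5, .Z4, .Z3, .Z1, .X10, .X7, .X5, .X2, .X1, .y8, .y6, .y2, .y1, .p8, .hi, .p9, .hi, .p7, .hi, .p5,
   .hi, .p6, .hi, .p7, .xii, .hi, .p8, .hi, .p8, .tau, .X0, .y1, .p6, .xii, .p, .xii, .y10, .hi, .p4, .taui, .X0, .p8,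
   .xii, .y5, .p10, .xii, .p6, .taui, .xii, .p6, .xii, .y5, .p7, .xii, .y1, .y4],
  [.z, .Z10, .Z8, .Z5, .Z4, .Z0, .X8, .X7, .X6, .X5, .X2, .X0, .y7, .y4, .p7, .hi, .p4, .hi, .p10, .hi, .p3, .hi, .p5,
   .hi, .p10, .hi, .xii, .p, .xii, .y3, .y4, .tau, .xii, .y6, .p, .xii, .y1, .taui, .hi, .xii, .y7, .p10, .xii, .y10,
   .tau, .xii, .p2, .hi, .xii, .y5, .y7, .p5, .hi],
  [.Z8, .Z7, .Z5, .Z4, .Z1, .Z0, .X7, .X6, .X5, .X2, .X1, .X0, .y9, .y8, .y7, .y6, .y5, .y4, .y3, .y2, .p4, .hi, .p8,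
   .hi, .p7, .hi, .p6, .hi, .p3, .hi, .p2, .xii, .p10, .tau, .y1, .xii, .p10, .xii, .y1, .p10, .xii, .y1, .y3, .taui,
   .X0, .xii, .p9, .xii, .y10, .p, .y3, .xii, .p4, .taui, .xii, .p9, .xii, .y1, .p8, .xii, .y3, .y10, .tau]⟩

theorem h46 : Hd F (g wAp) b46 := hdP (by decide +kernel)
theorem r46_0 : R9 F (g wAp) b46 [] 0 0 := .of (startP 0 1) (by decide +kernel)
theorem r46_1 : R9 F (g wAp) b46 [] 0 1 := .of (startP 0 1) (by decide +kernel)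
theorem r46_2 : R9 F (g wAp) b46 [] 0 2 := .of (startP 0 1) (by decide +kernel)
theorem r46_3 : R9 F (g wAp) b46 [] 1 0 := .of (startP 0 1) (by decide +kernel)
theorem r46_4 : R9 F (g wAp) b46 [] 1 1 := .of (startP 0 1) (by decide +kernel)
theorem r46_5 : R9 F (g wAp) b46 [] 1 2 := .of (startP 0 1) (by decide +kernel)
theorem r46_6 : R9 F (g wAp) b46 [] 2 0 := .of (startP 0 1) (by decide +kernel)
theorem r46_7 : R9 F (g wAp) b46 [] 2 1 := .of (startP 0 1) (by decide +kernel)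
theorem r46_8 : R9 F (g wAp) b46 [] 2 2 := .of (startP 0 1) (by decide +kernel)
theorem g46 : Gd F (g wAp) (0, p46) [] :=
  good9 ok h46 r46_0 r46_1 r46_2 r46_3 r46_4 r46_5 r46_6 r46_7 r46_8

def b47 : Wd := ⟨0, p47,
  [.Z10, .Z9, .Z8, .Z5, .Z2, .X9, .X8, .X6, .X3, .X0, .y9, .y8, .y6, .y5, .y4, .y2, .p3, .hi, .p9, .hi, .p3, .hi, .p6,
   .hi, .p7, .hi, .xii, .p3, .hi, .xii, .y3, .y5, .taui, .y1, .xii, .y1, .hi, .xii, .y6, .p10, .xii, .y4, .tau, .hi,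
   .xii, .p8, .xii, .y5, .y7, .tau, .xii, .p6, .xii, .y6, .p, .xii, .y7, .y10, .tau, .xii, .p4],
  [.Z9, .Z4, .Z3, .X10, .X9, .X7, .X2, .X1, .X0, .y8, .y6, .y1, .hi, .p8, .hi, .p3, .hi, .p4, .hi, .p, .xii, .hi, .p4,
   .hi, .p4, .tau, .xii, .y6, .p, .xii, .p, .xii, .y2, .y3, .taui, .y1, .xii, .p, .xii, .y1, .y3, .hi, .xii, .y4,
   .tau, .xii, .y2, .p5, .xii, .p5, .y7, .xii, .y4, .tau],
  [.Z9, .Z6, .Z4, .Z3, .Z2, .X10, .X8, .X7, .X6, .X3, .X2, .X0, .y10, .y8, .y6, .y4, .p6, .hi, .p5, .hi, .p8, .hi,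
   .p9, .hi, .p9, .xii, .hi, .xii, .p2, .xii, .y6, .tau, .xii, .p3, .hi, .xii, .y2, .tau, .X0, .p10, .xii, .y2, .p5,
   .xii, .y7, .p4, .taui, .xii, .p7, .xii, .y4, .p7, .xii, .y4, .y10, .tau, .xii, .y2, .p10, .xii]⟩

theorem h47 : Hd F (g wAp) b47 := hdP (by decide +kernel)
theorem r47_0 : R9 F (g wAp) b47 [] 0 0 := .of (startP 0 1) (by decide +kernel)
theorem r47_1 : R9 F (g wAp) b47 [] 0 1 := .of (startP 0 1) (by decide +kernel)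
theorem r47_2 : R9 F (g wAp) b47 [] 0 2 := .of (startP 0 1) (by decide +kernel)
theorem r47_3 : R9 F (g wAp) b47 [] 1 0 := .of (startP 0 1) (by decide +kernel)
theorem r47_4 : R9 F (g wAp) b47 [] 1 1 := .of (startP 0 1) (by decide +kernel)
theorem r47_5 : R9 F (g wAp) b47 [] 1 2 := .of (startP 0 1) (by decide +kernel)
theorem r47_6 : R9 F (g wAp) b47 [] 2 0 := .of (startP 0 1) (by decide +kernel)
theorem r47_7 : R9 F (g wAp) b47 [] 2 1 := .of (startP 0 1) (by decide +kernel)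
theorem r47_8 : R9 F (g wAp) b47 [] 2 2 := .of (startP 0 1) (by decide +kernel)
theorem g47 : Gd F (g wAp) (0, p47) [] :=
  good9 ok h47 r47_0 r47_1 r47_2 r47_3 r47_4 r47_5 r47_6 r47_7 r47_8

def b48 : Wd := ⟨0, p48,
  [.Z9, .Z8, .Z5, .Z1, .X7, .X3, .X2, .X0, .y10, .y7, .y6, .y5, .y3, .y2, .y1, .hi, .p, .hi, .p4, .hi, .p7, .hi, .p3,
   .hi, .p4, .xii, .hi, .p8, .xii, .y3, .p10, .taui, .y1, .xii, .p10, .xii, .y8, .p10, .xii, .y8, .y10, .taui, .y1,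
   .xii, .p5, .xii, .y5, .p9, .xii, .y3, .y7, .tau, .xii, .y2, .p7, .xii, .p10, .hi, .p2, .taui, .xii, .y2, .p],
  [.z, .Z10, .Z9, .Z1, .Z0, .X8, .X7, .X6, .X5, .X2, .y10, .y8, .y3, .y2, .y1, .p5, .hi, .p8, .hi, .p10, .hi, .p9,
   .hi, .xii, .p10, .xii, .y8, .p8, .taui, .xii, .p, .xii, .y4, .hi, .xii, .y1, .y2, .y10, .taui, .y1, .p10, .xii,
   .p10, .xii, .y8, .p2, .taui, .xii, .p4, .xii, .p5, .y3, .xii, .y5, .taui, .xii, .y2, .p5],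
  [.z, .Z10, .Z6, .Z4, .Z3, .Z1, .X7, .X5, .X4, .X3, .X2, .X0, .y9, .y8, .y7, .y3, .y2, .y1, .p9, .hi, .p10, .hi, .p5,
   .hi, .p4, .hi, .p6, .hi, .p4, .hi, .p2, .xii, .y2, .hi, .p10, .hi, .p8, .tau, .xii, .y1, .p, .xii, .y10, .p, .xii,
   .y5, .tau, .X0, .p7, .xii, .p4, .xii, .p2, .hi, .y5, .p9, .tau, .xii, .y2, .p9, .xii, .p3, .y8, .xii, .y6, .tau,
   .xii, .p3]⟩

theorem h48 : Hd F (g wAp) b48 := hdP (by decide +kernel)
theorem r48_0 : R9 F (g wAp) b48 [] 0 0 := .of (startP 0 1) (by decide +kernel)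
theorem r48_1 : R9 F (g wAp) b48 [] 0 1 := .of (startP 0 1) (by decide +kernel)
theorem r48_2 : R9 F (g wAp) b48 [] 0 2 := .of (startP 0 1) (by decide +kernel)
theorem r48_3 : R9 F (g wAp) b48 [] 1 0 := .of (startP 0 1) (by decide +kernel)
theorem r48_4 : R9 F (g wAp) b48 [] 1 1 := .of (startP 0 1) (by decide +kernel)
theorem r48_5 : R9 F (g wAp) b48 [] 1 2 := .of (startP 0 1) (by decide +kernel)
theorem r48_6 : R9 F (g wAp) b48 [] 2 0 := .of (startP 0 1) (by decide +kernel)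
theorem r48_7 : R9 F (g wAp) b48 [] 2 1 := .of (startP 0 1) (by decide +kernel)
theorem r48_8 : R9 F (g wAp) b48 [] 2 2 := .of (startP 0 1) (by decide +kernel)
theorem g48 : Gd F (g wAp) (0, p48) [] :=
  good9 ok h48 r48_0 r48_1 r48_2 r48_3 r48_4 r48_5 r48_6 r48_7 r48_8

def b49 : Wd := ⟨0, p49,
  [.Z10, .Z9, .Z7, .Z5, .Z3, .Z2, .Z1, .X10, .X9, .X8, .X5, .X4, .X3, .y10, .y9, .y8, .y7, .y6, .y5, .y4, .y3, .y1,
   .p7, .hi, .p8, .hi, .p7, .hi, .p5, .hi, .p10, .hi, .xii, .y2, .p5, .hi, .p8, .hi, .taui, .xii, .y1, .p, .xii, .p,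
   .xii, .y3, .y8, .tau, .p8, .xii, .y8, .hi, .p6, .xii, .y8, .p6, .tau, .xii, .p8, .xii, .p8, .y4, .tau, .xii, .y2,
   .p7],
  [.z, .Z10, .Z9, .Z7, .Z5, .Z3, .Z2, .X8, .X7, .X6, .X5, .X4, .X0, .y8, .y6, .y4, .y2, .hi, .p2, .hi, .p10, .hi,
   .p10, .hi, .p8, .hi, .p7, .xii, .y2, .p10, .taui, .xii, .p, .xii, .y2, .hi, .xii, .y5, .y10, .tau, .X0, .p10, .xii,
   .y6, .hi, .p8, .xii, .y3, .p6, .tau, .xii, .p9, .xii, .y9, .p5, .xii, .y2],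
  [.z, .Z10, .Z7, .Z4, .Z2, .Z1, .X10, .X7, .X5, .X4, .X3, .X2, .X1, .y10, .y6, .y5, .y4, .p10, .hi, .p9, .hi, .p7,
   .hi, .p7, .hi, .p6, .hi, .p5, .hi, .p2, .xii, .p10, .xii, .y8, .p8, .tau, .xii, .y1, .p, .xii, .y1, .y2, .hi, .p8,
   .tau, .X0, .p4, .xii, .p5, .xii, .p10, .y5, .tau, .xii, .p4, .xii, .y4, .y6, .p10, .xii, .y6, .tau, .xii, .y7, .p6]⟩

theorem h49 : Hd F (g wAp) b49 := hdP (by decide +kernel)
theorem r49_0 : R9 F (g wAp) b49 [] 0 0 := .of (startP 0 1) (by decide +kernel)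
theorem r49_1 : R9 F (g wAp) b49 [] 0 1 := .of (startP 0 1) (by decide +kernel)
theorem r49_2 : R9 F (g wAp) b49 [] 0 2 := .of (startP 0 1) (by decide +kernel)
theorem r49_3 : R9 F (g wAp) b49 [] 1 0 := .of (startP 0 1) (by decide +kernel)
theorem r49_4 : R9 F (g wAp) b49 [] 1 1 := .of (startP 0 1) (by decide +kernel)
theorem r49_5 : R9 F (g wAp) b49 [] 1 2 := .of (startP 0 1) (by decide +kernel)
theorem r49_6 : R9 F (g wAp) b49 [] 2 0 := .of (startP 0 1) (by decide +kernel)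
theorem r49_7 : R9 F (g wAp) b49 [] 2 1 := .of (startP 0 1) (by decide +kernel)
theorem r49_8 : R9 F (g wAp) b49 [] 2 2 := .of (startP 0 1) (by decide +kernel)
theorem g49 : Gd F (g wAp) (0, p49) [] :=
  good9 ok h49 r49_0 r49_1 r49_2 r49_3 r49_4 r49_5 r49_6 r49_7 r49_8

theorem all : AllG F (g wAp) LP4 :=
  .cons g40 (.cons g41 (.cons g42 (.cons g43 (.cons g44 (.cons g45 (.cons g46 (.cons g47 (.cons g48 (.cons g49 (.nil))))))))))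

end Cfsg.Agent.BX.No33.Bk.P4
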