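import Cfsg.Agent.BX.No33.Cheap
set_option linter.all false

/-!
# Tests, pure case, part 5 (helper5; generated)
-/

set_option autoImplicit false
set_option maxRecDepth 100000
set_option Elab.async false

namespace Cfsg.Agent.BX.No33.Bk.P5

open Cfsg.Agent.H819.U33 Cfsg.Agent.BX.No33.Front

def b50 : Wd := ⟨0, p50,
  [.Z9, .Z8, .Z6, .Z5, .Z4, .Z3, .Z1, .X10, .X9, .X8, .X7, .X6, .X5, .X1, .y9, .y7, .y6, .y5, .y3, .y2, .p, .hi, .p7,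
   .hi, .p7, .hi, .p6, .hi, .p9, .xii, .y2, .p3, .hi, .xii, .y1, .y6, .p6, .taui, .xii, .p, .xii, .y1, .hi, .xii, .y7,
   .y10, .taui, .p6, .xii, .y2, .p9, .xii, .p3, .taui, .xii, .y2, .p7, .xii, .p5, .y3, .xii, .y2, .taui, .xii, .hi,
   .xii, .y1],
  [.Z10, .Z9, .Z6, .Z2, .Z1, .X10, .X9, .X8, .X7, .X4, .X2, .y8, .y7, .y5, .y4, .y3, .y2, .p8, .hi, .p8, .hi, .p10,
   .hi, .p2, .hi, .p5, .hi, .p, .xii, .y2, .p10, .hi, .p8, .tau, .y1, .xii, .p10, .xii, .y1, .p10, .xii, .y4, .y8,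
   .tau, .xii, .p3, .xii, .y4, .p2, .xii, .y6, .p4, .tau, .xii, .p10, .xii, .y4, .p5, .hi, .p5],
  [.Z9, .Z8, .Z7, .Z6, .Z4, .Z3, .Z1, .Z0, .X7, .X6, .X1, .X0, .y9, .y6, .y5, .y4, .y2, .hi, .p10, .hi, .p2, .hi, .p4,
   .hi, .p3, .hi, .p3, .xii, .y2, .p, .xii, .p5, .xii, .y7, .taui, .y1, .xii, .p10, .xii, .y1, .p10, .xii, .y2, .tau,
   .p8, .xii, .y2, .p10, .xii, .y2, .p8, .xii, .y7, .tau, .xii, .p4, .xii, .p6, .y6, .xii, .tau, .xii, .y2]⟩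

theorem h50 : Hd F (g wAp) b50 := hdP (by decide +kernel)
theorem r50_0 : R9 F (g wAp) b50 [] 0 0 := .of (startP 0 2) (by decide +kernel)
theorem r50_1 : R9 F (g wAp) b50 [] 0 1 := .of (startP 0 1) (by decide +kernel)
theorem r50_2 : R9 F (g wAp) b50 [] 0 2 := .of (startP 0 1) (by decide +kernel)
theorem r50_3 : R9 F (g wAp) b50 [] 1 0 := .of (startP 0 1) (by decide +kernel)
theorem r50_4 : R9 F (g wAp) b50 [] 1 1 := .of (startP 0 1) (by decide +kernel)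
theorem r50_5 : R9 F (g wAp) b50 [] 1 2 := .of (startP 0 1) (by decide +kernel)
theorem r50_6 : R9 F (g wAp) b50 [] 2 0 := .of (startP 0 1) (by decide +kernel)
theorem r50_7 : R9 F (g wAp) b50 [] 2 1 := .of (startP 0 1) (by decide +kernel)
theorem r50_8 : R9 F (g wAp) b50 [] 2 2 := .of (startP 0 1) (by decide +kernel)
theorem g50 : Gd F (g wAp) (0, p50) [] :=
  good9 ok h50 r50_0 r50_1 r50_2 r50_3 r50_4 r50_5 r50_6 r50_7 r50_8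

def b51 : Wd := ⟨0, p51,
  [.z, .Z9, .Z7, .Z3, .Z2, .Z1, .X9, .X8, .X7, .X6, .X4, .X3, .X2, .X1, .y10, .y9, .y6, .hi, .p10, .hi, .p5, .hi, .p5,
   .hi, .p10, .hi, .p4, .xii, .hi, .xii, .p5, .y7, .tau, .xii, .y1, .p, .hi, .xii, .y1, .tau, .p2, .xii, .p4, .xii,
   .y1, .p8, .y2, .taui, .xii, .p9, .xii, .y5, .p5, .xii, .y1, .y2, .taui, .xii, .p5, .hi, .p9],
  [.z, .Z10, .Z7, .Z6, .Z3, .X10, .X6, .X4, .X3, .X2, .y8, .y1, .p3, .hi, .p10, .hi, .p, .hi, .p3, .xii, .p, .xii,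
   .y3, .hi, .p4, .y9, .tau, .xii, .p, .xii, .hi, .y8, .xii, .y3, .y9, .tau, .p5, .xii, .hi, .xii, .y3, .p10, .xii,
   .y7, .taui, .xii, .p5, .xii, .y1, .y3, .p10, .tau, .xii, .y2, .p7],
  [.z, .Z8, .Z4, .Z3, .Z2, .Z1, .Z0, .X10, .X6, .X5, .X3, .X1, .X0, .y9, .y8, .y5, .y4, .y1, .hi, .p6, .hi, .p9, .hi,
   .p, .hi, .p5, .hi, .p10, .hi, .p2, .hi, .xii, .p10, .xii, .y10, .p6, .xii, .y3, .y4, .taui, .y1, .xii, .p10, .xii,
   .y4, .p10, .xii, .y2, .y10, .tau, .y1, .p4, .xii, .p4, .xii, .p2, .hi, .p7, .y3, .tau, .xii, .p4, .xii, .y1, .y8,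
   .p2, .hi, .p2]⟩

theorem h51 : Hd F (g wAp) b51 := hdP (by decide +kernel)
theorem r51_0 : R9 F (g wAp) b51 [] 0 0 := .of (startP 0 1) (by decide +kernel)
theorem r51_1 : R9 F (g wAp) b51 [] 0 1 := .of (startP 0 1) (by decide +kernel)
theorem r51_2 : R9 F (g wAp) b51 [] 0 2 := .of (startP 0 1) (by decide +kernel)
theorem r51_3 : R9 F (g wAp) b51 [] 1 0 := .of (startP 0 1) (by decide +kernel)
theorem r51_4 : R9 F (g wAp) b51 [] 1 1 := .of (startP 0 1) (by decide +kernel)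
theorem r51_5 : R9 F (g wAp) b51 [] 1 2 := .of (startP 0 1) (by decide +kernel)
theorem r51_6 : R9 F (g wAp) b51 [] 2 0 := .of (startP 0 1) (by decide +kernel)
theorem r51_7 : R9 F (g wAp) b51 [] 2 1 := .of (startP 0 1) (by decide +kernel)
theorem r51_8 : R9 F (g wAp) b51 [] 2 2 := .of (startP 0 1) (by decide +kernel)
theorem g51 : Gd F (g wAp) (0, p51) [] :=
  good9 ok h51 r51_0 r51_1 r51_2 r51_3 r51_4 r51_5 r51_6 r51_7 r51_8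

def b52 : Wd := ⟨0, p52,
  [.Z9, .Z6, .Z3, .Z2, .X8, .X7, .X5, .X4, .X1, .X0, .y9, .y6, .y5, .y4, .y3, .y1, .hi, .p6, .hi, .p3, .hi, .p6, .hi,
   .p4, .hi, .p4, .xii, .p10, .xii, .y9, .p6, .xii, .y7, .tau, .xii, .p, .xii, .y4, .hi, .xii, .y1, .y4, .tau, .X0,
   .p7, .xii, .y6, .p7, .xii, .y4, .p10, .tau, .xii, .p8, .xii, .y2, .p2, .xii, .y6, .taui, .xii, .p4, .hi, .p7],
  [.Z8, .Z6, .Z5, .Z4, .Z1, .Z0, .X9, .X8, .X6, .X5, .X4, .X3, .X2, .X1, .y9, .y8, .y6, .y4, .p4, .hi, .p5, .hi, .p8,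
   .hi, .p5, .hi, .p2, .xii, .y2, .hi, .p8, .hi, .p5, .hi, .taui, .y1, .xii, .p10, .xii, .y1, .y7, .p10, .xii, .y9,
   .tau, .X0, .p9, .xii, .p2, .xii, .p2, .y9, .hi, .taui, .xii, .p8, .xii, .y3, .y5, .p3, .hi, .p],
  [.Z10, .Z8, .Z6, .Z4, .Z2, .Z1, .Z0, .X10, .X8, .X6, .X5, .y9, .y3, .y2, .y1, .p9, .hi, .p, .hi, .p3, .hi, .p3, .hi,
   .p7, .hi, .p7, .xii, .p, .xii, .y2, .hi, .xii, .y6, .taui, .xii, .p3, .hi, .xii, .p3, .y5, .hi, .taui, .p2, .xii,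
   .p7, .xii, .y5, .hi, .p, .y3, .tau, .xii, .p2, .xii, .p10, .y8, .taui, .xii, .p7]⟩

theorem h52 : Hd F (g wAp) b52 := hdP (by decide +kernel)
theorem r52_0 : R9 F (g wAp) b52 [] 0 0 := .of (startP 0 1) (by decide +kernel)
theorem r52_1 : R9 F (g wAp) b52 [] 0 1 := .of (startP 0 1) (by decide +kernel)
theorem r52_2 : R9 F (g wAp) b52 [] 0 2 := .of (startP 0 1) (by decide +kernel)
theorem r52_3 : R9 F (g wAp) b52 [] 1 0 := .of (startP 0 1) (by decide +kernel)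
theorem r52_4 : R9 F (g wAp) b52 [] 1 1 := .of (startP 0 1) (by decide +kernel)
theorem r52_5 : R9 F (g wAp) b52 [] 1 2 := .of (startP 0 1) (by decide +kernel)
theorem r52_6 : R9 F (g wAp) b52 [] 2 0 := .of (startP 0 1) (by decide +kernel)
theorem r52_7 : R9 F (g wAp) b52 [] 2 1 := .of (startP 0 1) (by decide +kernel)
theorem r52_8 : R9 F (g wAp) b52 [] 2 2 := .of (startP 0 1) (by decide +kernel)
theorem g52 : Gd F (g wAp) (0, p52) [] :=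
  good9 ok h52 r52_0 r52_1 r52_2 r52_3 r52_4 r52_5 r52_6 r52_7 r52_8

def b53 : Wd := ⟨0, p53,
  [.z, .Z7, .Z5, .Z4, .Z3, .X9, .X8, .X5, .X4, .X3, .X1, .y10, .y9, .y7, .y6, .y5, .y1, .p3, .hi, .p3, .hi, .p7, .hi,
   .p7, .hi, .p8, .hi, .p4, .xii, .hi, .p10, .tau, .y1, .xii, .p10, .xii, .p10, .hi, .y4, .p8, .taui, .p8, .xii, .hi,
   .xii, .p6, .y9, .taui, .xii, .p6, .xii, .y2, .p7, .xii, .y2, .tau],
  [.z, .Z8, .Z7, .Z0, .X10, .X7, .X4, .X3, .X2, .X1, .X0, .y8, .y6, .y5, .y3, .y2, .p9, .hi, .p9, .hi, .p8, .hi, .p9,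
   .hi, .p4, .hi, .xii, .p, .xii, .y2, .hi, .p, .hi, .p3, .taui, .p10, .xii, .y6, .hi, .xii, .p5, .hi, .p8, .taui,
   .X0, .y1, .p9, .xii, .p2, .hi, .xii, .p6, .taui, .xii, .p10, .hi, .xii],
  [.z, .Z9, .Z8, .Z7, .Z6, .Z5, .Z0, .X10, .X9, .X7, .X5, .X4, .X3, .X1, .y10, .y7, .y5, .p4, .hi, .p9, .hi, .p10,
   .hi, .p2, .hi, .p, .hi, .p2, .hi, .xii, .y2, .hi, .p3, .hi, .p5, .taui, .xii, .p3, .hi, .xii, .y1, .y6, .taui, .p8,
   .xii, .p10, .xii, .y4, .y7, .p2, .taui, .xii, .p7, .xii, .y7, .p10, .xii, .y1]⟩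

theorem h53 : Hd F (g wAp) b53 := hdP (by decide +kernel)
theorem r53_0 : R9 F (g wAp) b53 [] 0 0 := .of (startP 0 1) (by decide +kernel)
theorem r53_1 : R9 F (g wAp) b53 [] 0 1 := .of (startP 0 1) (by decide +kernel)
theorem r53_2 : R9 F (g wAp) b53 [] 0 2 := .of (startP 0 1) (by decide +kernel)
theorem r53_3 : R9 F (g wAp) b53 [] 1 0 := .of (startP 0 1) (by decide +kernel)
theorem r53_4 : R9 F (g wAp) b53 [] 1 1 := .of (startP 0 1) (by decide +kernel)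
theorem r53_5 : R9 F (g wAp) b53 [] 1 2 := .of (startP 0 1) (by decide +kernel)
theorem r53_6 : R9 F (g wAp) b53 [] 2 0 := .of (startP 0 1) (by decide +kernel)
theorem r53_7 : R9 F (g wAp) b53 [] 2 1 := .of (startP 0 1) (by decide +kernel)
theorem r53_8 : R9 F (g wAp) b53 [] 2 2 := .of (startP 0 1) (by decide +kernel)
theorem g53 : Gd F (g wAp) (0, p53) [] :=
  good9 ok h53 r53_0 r53_1 r53_2 r53_3 r53_4 r53_5 r53_6 r53_7 r53_8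

def b54 : Wd := ⟨0, p54,
  [.Z10, .Z8, .Z7, .Z5, .X9, .X6, .X1, .y10, .y9, .y8, .y7, .y5, .y1, .hi, .p4, .hi, .p8, .hi, .p4, .hi, .p2, .hi,
   .xii, .p3, .hi, .xii, .y1, .y8, .p6, .tau, .xii, .p, .xii, .y1, .y10, .hi, .xii, .y1, .y4, .tau, .X0, .y1, .xii,
   .p2, .xii, .p2, .xii, .y1, .y3, .y7, .taui, .xii, .p8, .xii, .y1, .p2, .y8, .xii, .y2, .tau, .xii, .p4, .hi, .p6],
  [.z, .Z10, .Z6, .Z0, .X7, .X4, .X3, .X0, .y9, .y7, .y6, .y4, .y2, .y1, .p10, .hi, .p3, .hi, .p, .hi, .p, .hi, .p7,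
   .xii, .y2, .p10, .xii, .y10, .taui, .xii, .p, .xii, .y4, .hi, .xii, .y6, .tau, .p10, .xii, .p2, .xii, .y10, .p10,
   .xii, .y7, .tau, .xii, .p5, .xii, .y3, .p5, .xii, .y8, .y10, .tau, .xii, .hi],
  [.z, .Z10, .Z9, .Z8, .Z6, .Z4, .Z1, .X10, .X9, .X5, .X3, .X2, .y10, .y9, .y5, .y4, .y3, .p8, .hi, .p9, .hi, .p, .hi,
   .p5, .hi, .p9, .hi, .p4, .hi, .xii, .y2, .p, .xii, .p2, .hi, .taui, .xii, .p, .xii, .y2, .hi, .xii, .y6, .tau, .X0,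
   .xii, .p5, .xii, .p, .xii, .p, .y9, .taui, .xii, .p7, .xii, .y1, .y2, .p7, .taui, .xii, .p]⟩

theorem h54 : Hd F (g wAp) b54 := hdP (by decide +kernel)
theorem r54_0 : R9 F (g wAp) b54 [] 0 0 := .of (startP 0 1) (by decide +kernel)
theorem r54_1 : R9 F (g wAp) b54 [] 0 1 := .of (startP 0 1) (by decide +kernel)
theorem r54_2 : R9 F (g wAp) b54 [] 0 2 := .of (startP 0 1) (by decide +kernel)
theorem r54_3 : R9 F (g wAp) b54 [] 1 0 := .of (startP 0 1) (by decide +kernel)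
theorem r54_4 : R9 F (g wAp) b54 [] 1 1 := .of (startP 0 1) (by decide +kernel)
theorem r54_5 : R9 F (g wAp) b54 [] 1 2 := .of (startP 0 1) (by decide +kernel)
theorem r54_6 : R9 F (g wAp) b54 [] 2 0 := .of (startP 0 1) (by decide +kernel)
theorem r54_7 : R9 F (g wAp) b54 [] 2 1 := .of (startP 0 1) (by decide +kernel)
theorem r54_8 : R9 F (g wAp) b54 [] 2 2 := .of (startP 0 1) (by decide +kernel)
theorem g54 : Gd F (g wAp) (0, p54) [] :=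
  good9 ok h54 r54_0 r54_1 r54_2 r54_3 r54_4 r54_5 r54_6 r54_7 r54_8

def b55 : Wd := ⟨0, p55,
  [.z, .Z10, .Z3, .Z0, .X7, .X6, .X5, .X4, .X1, .X0, .y4, .y3, .y2, .y1, .p, .hi, .p10, .hi, .p9, .hi, .p8, .hi, .p3,
   .xii, .p10, .tau, .xii, .p, .xii, .y1, .hi, .xii, .y1, .y9, .tau, .X0, .p5, .xii, .hi, .xii, .p3, .y7, .hi, .p2,
   .tau, .xii, .y2, .p4, .xii, .p5, .y4, .xii, .y9, .tau, .xii, .y7, .p9],
  [.Z10, .Z6, .Z4, .Z3, .Z1, .X10, .X7, .X5, .X4, .X1, .X0, .y8, .y6, .y4, .y2, .y1, .hi, .p9, .hi, .p4, .hi, .p, .hi,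
   .p8, .hi, .p8, .hi, .p7, .xii, .hi, .xii, .y6, .p9, .xii, .y5, .y9, .tau, .y1, .xii, .p10, .xii, .y5, .p10, .taui,
   .X0, .p9, .xii, .y7, .p2, .xii, .y5, .p4, .tau, .xii, .hi, .p5, .xii, .y5, .p10, .tau, .xii, .p],
  [.z, .Z10, .Z2, .Z1, .X7, .X6, .X1, .X0, .y10, .y8, .y7, .y4, .y3, .y2, .y1, .hi, .p4, .hi, .p3, .hi, .p4, .hi, .p,
   .hi, .xii, .p3, .hi, .xii, .p10, .y1, .taui, .y1, .xii, .y2, .hi, .xii, .y7, .p10, .xii, .y4, .taui, .xii, .p6,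
   .xii, .y2, .y8, .p9, .xii, .tau, .xii, .p8, .xii, .p4, .xii, .y1, .y10, .taui, .xii, .p, .xii]⟩

theorem h55 : Hd F (g wAp) b55 := hdP (by decide +kernel)
theorem r55_0 : R9 F (g wAp) b55 [] 0 0 := .of (startP 0 1) (by decide +kernel)
theorem r55_1 : R9 F (g wAp) b55 [] 0 1 := .of (startP 0 2) (by decide +kernel)
theorem r55_2 : R9 F (g wAp) b55 [] 0 2 := .of (startP 0 1) (by decide +kernel)
theorem r55_3 : R9 F (g wAp) b55 [] 1 0 := .of (startP 0 1) (by decide +kernel)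
theorem r55_4 : R9 F (g wAp) b55 [] 1 1 := .of (startP 0 1) (by decide +kernel)
theorem r55_5 : R9 F (g wAp) b55 [] 1 2 := .of (startP 0 1) (by decide +kernel)
theorem r55_6 : R9 F (g wAp) b55 [] 2 0 := .of (startP 0 1) (by decide +kernel)
theorem r55_7 : R9 F (g wAp) b55 [] 2 1 := .of (startP 0 1) (by decide +kernel)
theorem r55_8 : R9 F (g wAp) b55 [] 2 2 := .of (startP 0 1) (by decide +kernel)
theorem g55 : Gd F (g wAp) (0, p55) [] :=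
  good9 ok h55 r55_0 r55_1 r55_2 r55_3 r55_4 r55_5 r55_6 r55_7 r55_8

def b56 : Wd := ⟨0, p56,
  [.z, .Z9, .Z6, .Z1, .X8, .X7, .X4, .X3, .X2, .y5, .y1, .p9, .hi, .p10, .hi, .p5, .hi, .p2, .hi, .xii, .y2, .p10,
   .xii, .y1, .p9, .xii, .y7, .tau, .p8, .xii, .y1, .p4, .xii, .y6, .p10, .hi, .p10, .tau, .xii, .p8, .xii, .y7, .p8],
  [.z, .Z10, .Z9, .Z8, .Z4, .Z1, .Z0, .X6, .X5, .X4, .X2, .X1, .y9, .y4, .y2, .p8, .hi, .p5, .hi, .p8, .hi, .p, .hi,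
   .p9, .hi, .xii, .p, .xii, .y6, .hi, .p10, .taui, .xii, .p, .xii, .y4, .hi, .xii, .y4, .y6, .taui, .X0, .p7, .xii,
   .y2, .p, .xii, .y1, .p2, .tau, .xii, .p4, .xii, .y4, .p4, .xii, .y4, .tau, .xii, .p2],
  [.Z9, .Z8, .Z7, .Z6, .Z4, .Z2, .X10, .X9, .X6, .X4, .X3, .X2, .y10, .y8, .y6, .y4, .y1, .p8, .hi, .p6, .hi, .p7,
   .hi, .p10, .hi, .p3, .hi, .p6, .xii, .p10, .xii, .y7, .p8, .taui, .xii, .p, .xii, .y2, .hi, .xii, .y5, .y8, .taui,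
   .X0, .y1, .xii, .p4, .xii, .p6, .xii, .y9, .p6, .taui, .xii, .p4, .xii, .y3, .p4, .xii, .y3, .y4, .taui, .xii, .hi,
   .p]⟩

theorem h56 : Hd F (g wAp) b56 := hdP (by decide +kernel)
theorem r56_0 : R9 F (g wAp) b56 [] 0 0 := .of (startP 0 1) (by decide +kernel)
theorem r56_1 : R9 F (g wAp) b56 [] 0 1 := .of (startP 0 1) (by decide +kernel)
theorem r56_2 : R9 F (g wAp) b56 [] 0 2 := .of (startP 0 1) (by decide +kernel)
theorem r56_3 : R9 F (g wAp) b56 [] 1 0 := .of (startP 0 1) (by decide +kernel)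
theorem r56_4 : R9 F (g wAp) b56 [] 1 1 := .of (startP 0 1) (by decide +kernel)
theorem r56_5 : R9 F (g wAp) b56 [] 1 2 := .of (startP 0 1) (by decide +kernel)
theorem r56_6 : R9 F (g wAp) b56 [] 2 0 := .of (startP 0 1) (by decide +kernel)
theorem r56_7 : R9 F (g wAp) b56 [] 2 1 := .of (startP 0 1) (by decide +kernel)
theorem r56_8 : R9 F (g wAp) b56 [] 2 2 := .of (startP 0 1) (by decide +kernel)
theorem g56 : Gd F (g wAp) (0, p56) [] :=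
  good9 ok h56 r56_0 r56_1 r56_2 r56_3 r56_4 r56_5 r56_6 r56_7 r56_8

def b57 : Wd := ⟨0, p57,
  [.z, .Z10, .Z8, .Z2, .Z1, .X6, .X5, .X4, .X3, .X1, .X0, .y10, .y8, .y1, .p6, .hi, .p8, .hi, .p6, .hi, .p5, .hi, .p8,
   .xii, .y2, .hi, .p8, .hi, .p2, .tau, .X0, .p7, .xii, .p, .hi, .xii, .y1, .p3, .taui, .X0, .p9, .xii, .y4, .hi,
   .xii, .y1, .tau, .xii, .y2, .p5, .hi],
  [.z, .Z7, .Z2, .Z1, .X10, .X9, .X8, .X7, .X6, .X5, .X3, .X1, .y10, .y8, .y7, .y6, .y5, .y4, .y3, .y2, .y1, .hi, .p4,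
   .hi, .p4, .hi, .p3, .hi, .p3, .hi, .p10, .hi, .p4, .xii, .p, .xii, .y3, .y4, .hi, .p8, .tau, .p10, .xii, .y4, .p3,
   .hi, .xii, .y2, .y10, .p2, .tau, .xii, .y2, .hi, .xii, .y8],
  [.Z6, .Z5, .Z2, .Z1, .Z0, .X10, .X7, .X5, .X4, .X2, .X0, .y10, .y9, .y8, .y5, .y4, .y3, .y1, .p7, .hi, .p5, .hi,
   .p4, .hi, .p4, .hi, .p5, .hi, .p9, .xii, .y2, .hi, .p10, .hi, .p8, .tau, .y1, .xii, .p10, .xii, .y8, .p10, .xii,
   .y4, .y8, .taui, .X0, .xii, .p9, .xii, .y4, .hi, .xii, .p4, .y3, .taui, .xii, .p3, .xii, .p4, .xii, .y8]⟩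

theorem h57 : Hd F (g wAp) b57 := hdP (by decide +kernel)
theorem r57_0 : R9 F (g wAp) b57 [] 0 0 := .of (startP 0 1) (by decide +kernel)
theorem r57_1 : R9 F (g wAp) b57 [] 0 1 := .of (startP 0 1) (by decide +kernel)
theorem r57_2 : R9 F (g wAp) b57 [] 0 2 := .of (startP 0 1) (by decide +kernel)
theorem r57_3 : R9 F (g wAp) b57 [] 1 0 := .of (startP 0 1) (by decide +kernel)
theorem r57_4 : R9 F (g wAp) b57 [] 1 1 := .of (startP 0 1) (by decide +kernel)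
theorem r57_5 : R9 F (g wAp) b57 [] 1 2 := .of (startP 0 1) (by decide +kernel)
theorem r57_6 : R9 F (g wAp) b57 [] 2 0 := .of (startP 0 1) (by decide +kernel)
theorem r57_7 : R9 F (g wAp) b57 [] 2 1 := .of (startP 0 1) (by decide +kernel)
theorem r57_8 : R9 F (g wAp) b57 [] 2 2 := .of (startP 0 1) (by decide +kernel)
theorem g57 : Gd F (g wAp) (0, p57) [] :=
  good9 ok h57 r57_0 r57_1 r57_2 r57_3 r57_4 r57_5 r57_6 r57_7 r57_8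

def b58 : Wd := ⟨0, p58,
  [.Z10, .Z8, .Z3, .Z2, .Z1, .X10, .X8, .X6, .X5, .X4, .X2, .X0, .y8, .y7, .y6, .y5, .y4, .y3, .y2, .y1, .hi, .p8,
   .hi, .p9, .hi, .p8, .hi, .p9, .hi, .p, .hi, .p9, .xii, .p, .xii, .y4, .p4, .tau, .p7, .xii, .y6, .p, .hi, .xii,
   .y5, .p3, .taui, .p10, .xii, .y6, .p5, .xii, .p3, .taui, .xii, .p9, .xii, .y6, .hi, .xii, .y8],
  [.z, .Z10, .Z8, .Z5, .Z1, .Z0, .X9, .X5, .X2, .X1, .y8, .y7, .y6, .y4, .hi, .p, .hi, .p10, .hi, .p7, .hi, .p, .hi,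
   .p9, .hi, .tau, .xii, .y1, .hi, .p8, .xii, .y3, .p10, .tau, .p2, .xii, .y6, .hi, .p8, .xii, .y6, .p7, .taui, .xii,
   .p2, .xii, .p7, .xii, .y6, .y7, .tau],
  [.z, .Z9, .Z8, .Z1, .X10, .X5, .X3, .X0, .y10, .y7, .y3, .y1, .p5, .hi, .p8, .hi, .p5, .hi, .p3, .hi, .p6, .hi, .p3,
   .hi, .xii, .y2, .p10, .hi, .p8, .tau, .xii, .p, .xii, .y3, .y10, .hi, .xii, .y7, .y10, .tau, .xii, .p2, .xii, .y9,
   .p, .xii, .p4, .y7, .tau, .xii, .p6, .xii, .y1, .p7, .xii, .y6]⟩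

theorem h58 : Hd F (g wAp) b58 := hdP (by decide +kernel)
theorem r58_0 : R9 F (g wAp) b58 [] 0 0 := .of (startP 0 1) (by decide +kernel)
theorem r58_1 : R9 F (g wAp) b58 [] 0 1 := .of (startP 0 1) (by decide +kernel)
theorem r58_2 : R9 F (g wAp) b58 [] 0 2 := .of (startP 0 1) (by decide +kernel)
theorem r58_3 : R9 F (g wAp) b58 [] 1 0 := .of (startP 0 1) (by decide +kernel)
theorem r58_4 : R9 F (g wAp) b58 [] 1 1 := .of (startP 0 1) (by decide +kernel)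
theorem r58_5 : R9 F (g wAp) b58 [] 1 2 := .of (startP 0 1) (by decide +kernel)
theorem r58_6 : R9 F (g wAp) b58 [] 2 0 := .of (startP 0 1) (by decide +kernel)
theorem r58_7 : R9 F (g wAp) b58 [] 2 1 := .of (startP 0 1) (by decide +kernel)
theorem r58_8 : R9 F (g wAp) b58 [] 2 2 := .of (startP 0 1) (by decide +kernel)
theorem g58 : Gd F (g wAp) (0, p58) [] :=
  good9 ok h58 r58_0 r58_1 r58_2 r58_3 r58_4 r58_5 r58_6 r58_7 r58_8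

def b59 : Wd := ⟨0, p59,
  [.Z5, .Z4, .Z2, .X10, .X7, .X3, .X2, .X1, .X0, .y9, .y8, .y7, .y4, .y3, .p4, .hi, .p3, .hi, .p3, .hi, .p6, .hi, .p8,
   .xii, .y2, .p3, .hi, .xii, .y1, .y6, .taui, .X0, .xii, .p3, .xii, .hi, .xii, .p8, .taui, .hi, .xii, .p9, .xii, .y4,
   .p2, .y10, .tau, .xii, .p2, .xii, .y4, .hi, .xii, .y10, .tau, .xii, .p10, .xii],
  [.z, .Z10, .Z9, .Z7, .Z5, .Z4, .Z2, .Z1, .X10, .X9, .X8, .X6, .X5, .X4, .X3, .X2, .X1, .y10, .y9, .y7, .y6, .y3,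
   .y2, .p10, .hi, .p7, .hi, .p8, .hi, .p, .xii, .hi, .p8, .xii, .y3, .p10, .taui, .xii, .y2, .p, .xii, .y1, .hi,
   .xii, .y3, .y10, .taui, .p4, .xii, .p5, .xii, .y6, .p, .xii, .taui, .xii, .p7, .xii, .y6, .p9, .xii, .y2, .taui,
   .xii, .p9],
  [.z, .Z10, .Z9, .Z6, .Z0, .X10, .X5, .X4, .X1, .y7, .y3, .y1, .p10, .hi, .p10, .hi, .p3, .hi, .p6, .hi, .p10, .hi,
   .p5, .xii, .y2, .p10, .taui, .xii, .y6, .p, .xii, .y2, .p, .xii, .y5, .y10, .taui, .p8, .xii, .p3, .hi, .xii, .y5,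
   .p6, .taui, .xii, .p9, .xii, .p2, .hi, .p6, .y5, .taui, .xii, .p5, .xii, .y3, .y4]⟩

theorem h59 : Hd F (g wAp) b59 := hdP (by decide +kernel)
theorem r59_0 : R9 F (g wAp) b59 [] 0 0 := .of (startP 0 1) (by decide +kernel)
theorem r59_1 : R9 F (g wAp) b59 [] 0 1 := .of (startP 0 1) (by decide +kernel)
theorem r59_2 : R9 F (g wAp) b59 [] 0 2 := .of (startP 0 1) (by decide +kernel)
theorem r59_3 : R9 F (g wAp) b59 [] 1 0 := .of (startP 0 1) (by decide +kernel)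
theorem r59_4 : R9 F (g wAp) b59 [] 1 1 := .of (startP 0 1) (by decide +kernel)
theorem r59_5 : R9 F (g wAp) b59 [] 1 2 := .of (startP 0 1) (by decide +kernel)
theorem r59_6 : R9 F (g wAp) b59 [] 2 0 := .of (startP 0 1) (by decide +kernel)
theorem r59_7 : R9 F (g wAp) b59 [] 2 1 := .of (startP 0 1) (by decide +kernel)
theorem r59_8 : R9 F (g wAp) b59 [] 2 2 := .of (startP 0 1) (by decide +kernel)
theorem g59 : Gd F (g wAp) (0, p59) [] :=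
  good9 ok h59 r59_0 r59_1 r59_2 r59_3 r59_4 r59_5 r59_6 r59_7 r59_8

theorem all : AllG F (g wAp) LP5 :=
  .cons g50 (.cons g51 (.cons g52 (.cons g53 (.cons g54 (.cons g55 (.cons g56 (.cons g57 (.cons g58 (.cons g59 (.nil))))))))))

end Cfsg.Agent.BX.No33.Bk.P5
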