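import Cfsg.Agent.BX.No33.Cheap
set_option linter.all false

/-!
# Tests, pure case, part 6 (helper5; generated)
-/

set_option autoImplicit false
set_option maxRecDepth 100000
set_option Elab.async false

namespace Cfsg.Agent.BX.No33.Bk.P6

open Cfsg.Agent.H819.U33 Cfsg.Agent.BX.No33.Front

def b60 : Wd := ⟨0, p60,
  [.z, .Z6, .Z1, .Z0, .X7, .X6, .X0, .y9, .y5, .y4, .y2, .y1, .p2, .hi, .p8, .hi, .p4, .hi, .p5, .hi, .p3, .hi, .xii,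
   .p10, .xii, .y9, .p3, .hi, .tau, .xii, .y2, .p, .xii, .y3, .y10, .hi, .xii, .y5, .tau, .X0, .p9, .xii, .p10, .y9,
   .xii, .y8, .p3, .taui, .xii, .y2, .hi, .p7, .xii, .p3, .taui, .xii, .y2, .p],
  [.z, .Z10, .Z8, .Z3, .Z2, .Z1, .X8, .X5, .X2, .y6, .y3, .y2, .hi, .p4, .hi, .p8, .hi, .p, .hi, .p5, .hi, .p9, .xii,
   .tau, .y1, .xii, .y1, .hi, .xii, .p10, .xii, .y2, .y8, .taui, .X0, .y1, .p5, .xii, .p7, .xii, .y1, .p10, .hi, .p7,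
   .taui, .xii, .y2, .p7, .xii, .y5, .p10, .hi, .p8, .taui, .xii, .hi, .p8],
  [.Z10, .Z6, .Z4, .Z3, .Z2, .Z0, .X10, .X7, .X6, .X5, .X4, .y7, .y2, .y1, .hi, .p3, .hi, .p4, .hi, .p5, .hi, .p, .hi,
   .p, .hi, .p10, .hi, .xii, .y2, .hi, .xii, .p5, .xii, .y2, .tau, .y1, .xii, .p10, .xii, .y4, .p10, .xii, .y10,
   .taui, .X0, .p4, .xii, .p9, .xii, .p5, .y10, .tau, .xii, .p4, .xii, .p4, .y3, .xii, .y6, .tau, .xii, .p10]⟩

theorem h60 : Hd F (g wAp) b60 := hdP (by decide +kernel)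
theorem r60_0 : R9 F (g wAp) b60 [] 0 0 := .of (startP 0 1) (by decide +kernel)
theorem r60_1 : R9 F (g wAp) b60 [] 0 1 := .of (startP 0 1) (by decide +kernel)
theorem r60_2 : R9 F (g wAp) b60 [] 0 2 := .of (startP 0 1) (by decide +kernel)
theorem r60_3 : R9 F (g wAp) b60 [] 1 0 := .of (startP 0 1) (by decide +kernel)
theorem r60_4 : R9 F (g wAp) b60 [] 1 1 := .of (startP 0 1) (by decide +kernel)
theorem r60_5 : R9 F (g wAp) b60 [] 1 2 := .of (startP 0 1) (by decide +kernel)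
theorem r60_6 : R9 F (g wAp) b60 [] 2 0 := .of (startP 0 1) (by decide +kernel)
theorem r60_7 : R9 F (g wAp) b60 [] 2 1 := .of (startP 0 1) (by decide +kernel)
theorem r60_8 : R9 F (g wAp) b60 [] 2 2 := .of (startP 0 1) (by decide +kernel)
theorem g60 : Gd F (g wAp) (0, p60) [] :=
  good9 ok h60 r60_0 r60_1 r60_2 r60_3 r60_4 r60_5 r60_6 r60_7 r60_8

def b61 : Wd := ⟨0, p61,
  [.Z9, .Z3, .Z2, .Z0, .X7, .X6, .X5, .X4, .X2, .y10, .y7, .y6, .y5, .y4, .p4, .hi, .p10, .hi, .p, .hi, .p3, .hi, .p5,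
   .hi, .xii, .hi, .p8, .xii, .y4, .y9, .p10, .taui, .X0, .p4, .xii, .p4, .xii, .y3, .y4, .hi, .tau, .xii, .p6, .xii,
   .hi, .y9, .p10, .taui, .xii, .p7],
  [.z, .Z10, .Z9, .Z7, .Z1, .X9, .X8, .X5, .X2, .X0, .y10, .y8, .y7, .y6, .p9, .hi, .p4, .hi, .p4, .hi, .p7, .hi, .p7,
   .hi, .p5, .xii, .hi, .xii, .y6, .p9, .xii, .y2, .y7, .tau, .xii, .y2, .p, .xii, .y4, .hi, .xii, .y5, .y9, .tau,
   .xii, .y6, .p7, .xii, .y1, .y9, .p9, .xii, .y4, .y7, .taui, .xii, .p9, .xii, .y3, .y9, .hi, .p],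
  [.z, .Z9, .Z7, .Z5, .Z4, .Z1, .X9, .X7, .X3, .y8, .y7, .y4, .y2, .y1, .p10, .hi, .p7, .hi, .p7, .hi, .p6, .hi, .p10,
   .hi, .p7, .xii, .y2, .hi, .p8, .xii, .y2, .tau, .y1, .xii, .p10, .xii, .y4, .p10, .xii, .y10, .tau, .p9, .xii, .p3,
   .xii, .p5, .y1, .hi, .tau, .xii, .p8, .xii, .y2, .y8, .p4, .xii, .y10, .taui, .xii, .p10]⟩

theorem h61 : Hd F (g wAp) b61 := hdP (by decide +kernel)
theorem r61_0 : R9 F (g wAp) b61 [] 0 0 := .of (startP 0 1) (by decide +kernel)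
theorem r61_1 : R9 F (g wAp) b61 [] 0 1 := .of (startP 0 1) (by decide +kernel)
theorem r61_2 : R9 F (g wAp) b61 [] 0 2 := .of (startP 0 1) (by decide +kernel)
theorem r61_3 : R9 F (g wAp) b61 [] 1 0 := .of (startP 0 1) (by decide +kernel)
theorem r61_4 : R9 F (g wAp) b61 [] 1 1 := .of (startP 0 1) (by decide +kernel)
theorem r61_5 : R9 F (g wAp) b61 [] 1 2 := .of (startP 0 1) (by decide +kernel)
theorem r61_6 : R9 F (g wAp) b61 [] 2 0 := .of (startP 0 1) (by decide +kernel)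
theorem r61_7 : R9 F (g wAp) b61 [] 2 1 := .of (startP 0 1) (by decide +kernel)
theorem r61_8 : R9 F (g wAp) b61 [] 2 2 := .of (startP 0 1) (by decide +kernel)
theorem g61 : Gd F (g wAp) (0, p61) [] :=
  good9 ok h61 r61_0 r61_1 r61_2 r61_3 r61_4 r61_5 r61_6 r61_7 r61_8

def b62 : Wd := ⟨0, p62,
  [.Z9, .Z5, .Z3, .X10, .X9, .X7, .X5, .X4, .X3, .X1, .y10, .y7, .y6, .y2, .hi, .p6, .hi, .p8, .hi, .p3, .hi, .p, .hi,
   .p2, .hi, .xii, .p10, .xii, .p3, .hi, .taui, .xii, .y1, .p, .xii, .p, .xii, .y1, .y2, .taui, .xii, .p4, .xii, .y2,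
   .p8, .xii, .y3, .y5, .y7, .taui, .xii, .p9, .xii, .y1, .y8, .p9, .taui, .xii, .p8],
  [.z, .Z9, .Z8, .Z7, .Z6, .Z4, .Z3, .Z2, .X10, .X7, .X5, .X4, .X2, .y9, .y8, .p8, .hi, .p8, .hi, .p5, .hi, .p7, .hi,
   .p8, .xii, .p, .xii, .p9, .y1, .xii, .tau, .xii, .p, .xii, .y3, .y10, .hi, .xii, .y3, .taui, .y1, .xii, .y1, .p9,
   .xii, .p6, .y9, .xii, .p6, .tau, .xii, .p4, .xii, .hi, .p3, .y4, .hi, .taui, .xii, .y2, .p2],
  [.z, .Z10, .Z8, .Z6, .Z3, .Z2, .X8, .X7, .X5, .X3, .X1, .X0, .y9, .y8, .y5, .y4, .y2, .y1, .hi, .p, .hi, .p8, .hi,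
   .p7, .hi, .p8, .hi, .p5, .hi, .xii, .p, .xii, .y6, .p2, .hi, .taui, .xii, .p, .xii, .hi, .y8, .xii, .y7, .y8, .y10,
   .taui, .X0, .p5, .xii, .p, .y7, .xii, .hi, .y8, .p4, .taui, .xii, .p5, .xii, .p8, .y7, .tau, .xii, .hi, .p10]⟩

theorem h62 : Hd F (g wAp) b62 := hdP (by decide +kernel)
theorem r62_0 : R9 F (g wAp) b62 [] 0 0 := .of (startP 0 1) (by decide +kernel)
theorem r62_1 : R9 F (g wAp) b62 [] 0 1 := .of (startP 0 1) (by decide +kernel)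
theorem r62_2 : R9 F (g wAp) b62 [] 0 2 := .of (startP 0 1) (by decide +kernel)
theorem r62_3 : R9 F (g wAp) b62 [] 1 0 := .of (startP 0 1) (by decide +kernel)
theorem r62_4 : R9 F (g wAp) b62 [] 1 1 := .of (startP 0 1) (by decide +kernel)
theorem r62_5 : R9 F (g wAp) b62 [] 1 2 := .of (startP 0 1) (by decide +kernel)
theorem r62_6 : R9 F (g wAp) b62 [] 2 0 := .of (startP 0 1) (by decide +kernel)
theorem r62_7 : R9 F (g wAp) b62 [] 2 1 := .of (startP 0 1) (by decide +kernel)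
theorem r62_8 : R9 F (g wAp) b62 [] 2 2 := .of (startP 0 1) (by decide +kernel)
theorem g62 : Gd F (g wAp) (0, p62) [] :=
  good9 ok h62 r62_0 r62_1 r62_2 r62_3 r62_4 r62_5 r62_6 r62_7 r62_8

def b63 : Wd := ⟨0, p63,
  [.Z9, .Z8, .Z7, .Z6, .Z3, .Z1, .X7, .X6, .X5, .X1, .y9, .y8, .y7, .y6, .y5, .y2, .p8, .hi, .p6, .hi, .p, .hi, .xii,
   .y2, .p, .xii, .hi, .p8, .y3, .tau, .y1, .xii, .p10, .xii, .y8, .p10, .xii, .y4, .y9, .taui, .p10, .xii, .y5, .p8,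
   .xii, .y1, .p, .hi, .taui, .xii, .p8, .xii, .p4, .y5, .xii, .y1, .y7, .tau, .xii, .y7, .p3],
  [.Z10, .Z9, .Z6, .Z4, .Z3, .Z0, .X10, .X9, .X7, .X5, .X3, .X1, .X0, .y9, .y7, .y6, .y5, .y4, .y2, .y1, .p10, .hi,
   .p3, .hi, .p, .hi, .p, .hi, .p3, .hi, .p7, .hi, .xii, .p3, .hi, .taui, .y1, .xii, .p10, .xii, .y1, .y9, .p10, .xii,
   .y8, .tau, .p7, .xii, .p8, .xii, .p3, .y5, .hi, .p2, .tau, .xii, .p7, .xii, .y7, .y10, .p9, .xii, .y9, .tau],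
  [.z, .Z7, .Z5, .X10, .X8, .X6, .X5, .X4, .X3, .X2, .X0, .y7, .y6, .y4, .y3, .y2, .p7, .hi, .p7, .hi, .p8, .hi, .p4,
   .hi, .p7, .hi, .p9, .xii, .p, .xii, .y2, .hi, .p4, .tau, .y1, .xii, .p10, .xii, .y1, .y9, .p10, .xii, .y2, .tau,
   .X0, .xii, .p4, .xii, .p5, .y2, .xii, .y1, .y7, .y8, .taui, .xii, .p5, .xii, .y1, .y6, .p5, .xii, .y7, .taui, .xii,
   .y4, .hi, .p9]⟩

theorem h63 : Hd F (g wAp) b63 := hdP (by decide +kernel)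
theorem r63_0 : R9 F (g wAp) b63 [] 0 0 := .of (startP 0 1) (by decide +kernel)
theorem r63_1 : R9 F (g wAp) b63 [] 0 1 := .of (startP 0 1) (by decide +kernel)
theorem r63_2 : R9 F (g wAp) b63 [] 0 2 := .of (startP 0 1) (by decide +kernel)
theorem r63_3 : R9 F (g wAp) b63 [] 1 0 := .of (startP 0 1) (by decide +kernel)
theorem r63_4 : R9 F (g wAp) b63 [] 1 1 := .of (startP 0 1) (by decide +kernel)
theorem r63_5 : R9 F (g wAp) b63 [] 1 2 := .of (startP 0 1) (by decide +kernel)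
theorem r63_6 : R9 F (g wAp) b63 [] 2 0 := .of (startP 0 1) (by decide +kernel)
theorem r63_7 : R9 F (g wAp) b63 [] 2 1 := .of (startP 0 1) (by decide +kernel)
theorem r63_8 : R9 F (g wAp) b63 [] 2 2 := .of (startP 0 1) (by decide +kernel)
theorem g63 : Gd F (g wAp) (0, p63) [] :=
  good9 ok h63 r63_0 r63_1 r63_2 r63_3 r63_4 r63_5 r63_6 r63_7 r63_8

def b64 : Wd := ⟨0, p64,
  [.z, .Z10, .Z9, .Z7, .Z3, .Z2, .X9, .X4, .X3, .X0, .y6, .y1, .p6, .hi, .p5, .hi, .p8, .hi, .p8, .hi, .p4, .xii, .y2,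
   .p10, .xii, .y5, .p5, .xii, .y9, .tau, .y1, .xii, .p10, .xii, .y1, .y7, .p10, .taui, .X0, .p5, .xii, .p7, .xii,
   .y1, .y2, .y7, .tau, .xii, .p4, .xii, .y6, .p8, .y8, .xii, .y4, .tau, .xii, .p2],
  [.Z9, .Z7, .Z5, .Z3, .Z2, .Z1, .Z0, .X10, .X9, .X7, .X4, .X3, .X2, .y8, .y7, .y6, .y4, .y3, .p4, .hi, .p3, .hi, .p3,
   .hi, .p5, .hi, .p4, .hi, .xii, .y2, .p2, .hi, .tau, .y1, .xii, .p10, .xii, .y4, .p10, .xii, .y10, .tau, .X0, .xii,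
   .y2, .p9, .xii, .y4, .p, .xii, .y7, .y10, .taui, .xii, .p9, .xii, .y2, .p, .y1, .xii, .y10, .tau],
  [.z, .Z10, .Z9, .Z8, .Z6, .Z5, .Z4, .Z3, .Z0, .X10, .X9, .X8, .X5, .X4, .X3, .X1, .y10, .y8, .y7, .y5, .y3, .y2,
   .y1, .p3, .hi, .p7, .hi, .p6, .hi, .p5, .hi, .p4, .hi, .p, .hi, .xii, .y2, .p3, .hi, .xii, .y2, .tau, .xii, .y6,
   .p, .xii, .p, .xii, .y4, .y5, .taui, .X0, .xii, .p9, .xii, .p3, .xii, .y1, .y3, .y5, .p10, .tau, .xii, .p9, .xii,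
   .y1, .y6, .p3, .xii, .taui, .xii, .hi, .xii, .y4]⟩

theorem h64 : Hd F (g wAp) b64 := hdP (by decide +kernel)
theorem r64_0 : R9 F (g wAp) b64 [] 0 0 := .of (startP 0 1) (by decide +kernel)
theorem r64_1 : R9 F (g wAp) b64 [] 0 1 := .of (startP 0 1) (by decide +kernel)
theorem r64_2 : R9 F (g wAp) b64 [] 0 2 := .of (startP 0 1) (by decide +kernel)
theorem r64_3 : R9 F (g wAp) b64 [] 1 0 := .of (startP 0 1) (by decide +kernel)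
theorem r64_4 : R9 F (g wAp) b64 [] 1 1 := .of (startP 0 1) (by decide +kernel)
theorem r64_5 : R9 F (g wAp) b64 [] 1 2 := .of (startP 0 1) (by decide +kernel)
theorem r64_6 : R9 F (g wAp) b64 [] 2 0 := .of (startP 0 2) (by decide +kernel)
theorem r64_7 : R9 F (g wAp) b64 [] 2 1 := .of (startP 0 1) (by decide +kernel)
theorem r64_8 : R9 F (g wAp) b64 [] 2 2 := .of (startP 0 1) (by decide +kernel)
theorem g64 : Gd F (g wAp) (0, p64) [] :=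
  good9 ok h64 r64_0 r64_1 r64_2 r64_3 r64_4 r64_5 r64_6 r64_7 r64_8

def b65 : Wd := ⟨0, p65,
  [.Z7, .Z4, .Z1, .Z0, .X10, .X9, .X8, .X7, .X6, .X4, .X3, .X1, .X0, .y9, .y7, .y6, .y3, .y2, .y1, .hi, .p10, .hi,
   .p2, .hi, .p6, .hi, .p7, .hi, .p, .xii, .p10, .xii, .y9, .p6, .xii, .y7, .tau, .xii, .y6, .p, .xii, .y10, .p, .xii,
   .y1, .y2, .taui, .X0, .p5, .xii, .y5, .hi, .xii, .p2, .xii, .y3, .y10, .taui, .xii, .p9, .xii, .y1, .p3, .xii,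
   .y10, .tau, .xii, .y4, .hi],
  [.z, .Z10, .Z9, .Z6, .Z4, .Z3, .Z2, .Z0, .X10, .X7, .X3, .X2, .X0, .y4, .y1, .p9, .hi, .p6, .hi, .p4, .hi, .p8, .hi,
   .p9, .hi, .p8, .xii, .y2, .p5, .hi, .p8, .hi, .taui, .xii, .y2, .p, .xii, .y3, .hi, .xii, .y5, .y10, .tau, .p8,
   .xii, .p4, .xii, .y3, .p10, .y8, .hi, .taui, .xii, .p9, .xii, .y3, .p5, .hi],
  [.Z8, .Z4, .Z3, .Z1, .X10, .X9, .X8, .X7, .X6, .X5, .X4, .X3, .X0, .y10, .y7, .y6, .y4, .y1, .p9, .hi, .p10, .hi,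
   .p2, .hi, .p, .xii, .p10, .xii, .y8, .p10, .tau, .y1, .xii, .p10, .xii, .y8, .p10, .xii, .y3, .y5, .taui, .X0, .p8,
   .xii, .p3, .hi, .xii, .y5, .y7, .p5, .taui, .xii, .p4, .xii, .y1, .p4, .y10, .xii, .y3, .tau, .xii, .y2, .hi, .p9]⟩

theorem h65 : Hd F (g wAp) b65 := hdP (by decide +kernel)
theorem r65_0 : R9 F (g wAp) b65 [] 0 0 := .of (startP 0 1) (by decide +kernel)
theorem r65_1 : R9 F (g wAp) b65 [] 0 1 := .of (startP 0 1) (by decide +kernel)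
theorem r65_2 : R9 F (g wAp) b65 [] 0 2 := .of (startP 0 1) (by decide +kernel)
theorem r65_3 : R9 F (g wAp) b65 [] 1 0 := .of (startP 0 1) (by decide +kernel)
theorem r65_4 : R9 F (g wAp) b65 [] 1 1 := .of (startP 0 1) (by decide +kernel)
theorem r65_5 : R9 F (g wAp) b65 [] 1 2 := .of (startP 0 1) (by decide +kernel)
theorem r65_6 : R9 F (g wAp) b65 [] 2 0 := .of (startP 0 1) (by decide +kernel)
theorem r65_7 : R9 F (g wAp) b65 [] 2 1 := .of (startP 0 1) (by decide +kernel)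
theorem r65_8 : R9 F (g wAp) b65 [] 2 2 := .of (startP 0 1) (by decide +kernel)
theorem g65 : Gd F (g wAp) (0, p65) [] :=
  good9 ok h65 r65_0 r65_1 r65_2 r65_3 r65_4 r65_5 r65_6 r65_7 r65_8

def b66 : Wd := ⟨0, p66,
  [.z, .Z9, .Z8, .Z3, .X7, .X4, .X2, .X0, .y10, .y6, .y5, .y4, .y2, .hi, .p3, .hi, .p6, .hi, .p6, .hi, .p, .hi, .p10,
   .hi, .xii, .p10, .xii, .y10, .p6, .xii, .y4, .y7, .tau, .y1, .xii, .y1, .hi, .xii, .y6, .p10, .xii, .y4, .y8,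
   .taui, .X0, .xii, .y6, .p6, .xii, .p10, .xii, .y4, .p8, .taui, .xii, .p8, .xii, .p, .y2, .hi],
  [.Z8, .Z4, .Z1, .X7, .X3, .X2, .X0, .y10, .y8, .y5, .y3, .y1, .hi, .p10, .hi, .p7, .hi, .p5, .hi, .p7, .hi, .p2,
   .hi, .xii, .y2, .hi, .p10, .taui, .y1, .xii, .y2, .hi, .xii, .y10, .p10, .xii, .y4, .tau, .X0, .p6, .xii, .y2, .p9,
   .xii, .p, .hi, .p10, .tau, .xii, .p4, .xii, .p8, .y3, .xii, .y6, .taui],
  [.Z8, .Z7, .Z6, .Z2, .Z1, .Z0, .X10, .X6, .X4, .X3, .X2, .X1, .X0, .y10, .y9, .y8, .y6, .y3, .y1, .p6, .hi, .p8,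
   .hi, .p4, .hi, .p6, .hi, .p, .hi, .p, .hi, .xii, .y2, .p2, .hi, .xii, .y6, .p3, .taui, .xii, .y1, .p, .xii, .p,
   .y7, .xii, .y4, .y7, .tau, .X0, .y1, .xii, .p9, .xii, .y5, .p8, .xii, .y9, .p, .tau, .xii, .p5, .xii, .p2, .xii,
   .y9, .tau, .xii, .y6, .p3, .xii]⟩

theorem h66 : Hd F (g wAp) b66 := hdP (by decide +kernel)
theorem r66_0 : R9 F (g wAp) b66 [] 0 0 := .of (startP 0 1) (by decide +kernel)
theorem r66_1 : R9 F (g wAp) b66 [] 0 1 := .of (startP 0 1) (by decide +kernel)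
theorem r66_2 : R9 F (g wAp) b66 [] 0 2 := .of (startP 0 1) (by decide +kernel)
theorem r66_3 : R9 F (g wAp) b66 [] 1 0 := .of (startP 0 1) (by decide +kernel)
theorem r66_4 : R9 F (g wAp) b66 [] 1 1 := .of (startP 0 1) (by decide +kernel)
theorem r66_5 : R9 F (g wAp) b66 [] 1 2 := .of (startP 0 1) (by decide +kernel)
theorem r66_6 : R9 F (g wAp) b66 [] 2 0 := .of (startP 0 1) (by decide +kernel)
theorem r66_7 : R9 F (g wAp) b66 [] 2 1 := .of (startP 0 1) (by decide +kernel)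
theorem r66_8 : R9 F (g wAp) b66 [] 2 2 := .of (startP 0 1) (by decide +kernel)
theorem g66 : Gd F (g wAp) (0, p66) [] :=
  good9 ok h66 r66_0 r66_1 r66_2 r66_3 r66_4 r66_5 r66_6 r66_7 r66_8

def b67 : Wd := ⟨0, p67,
  [.Z10, .Z9, .Z8, .Z6, .Z4, .Z3, .X9, .X8, .X7, .X6, .X5, .X4, .y10, .y6, .y4, .y3, .y2, .p7, .hi, .p9, .hi, .p8,
   .hi, .p7, .hi, .p, .hi, .p3, .xii, .p10, .xii, .p6, .xii, .y7, .y8, .tau, .y1, .xii, .p10, .xii, .y1, .p10, .xii,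
   .y1, .y3, .tau, .xii, .p8, .xii, .y5, .p4, .y1, .xii, .y1, .y7, .tau, .xii, .p6, .xii, .y1, .p10, .xii, .y7, .y8,
   .tau, .xii, .p7],
  [.Z6, .Z5, .Z2, .Z1, .Z0, .X7, .X5, .X4, .X3, .y10, .y7, .y5, .y3, .y1, .hi, .p9, .hi, .p5, .hi, .p4, .hi, .p, .hi,
   .p3, .hi, .p8, .hi, .xii, .y2, .p, .xii, .y3, .hi, .xii, .y6, .tau, .xii, .p, .xii, .hi, .y8, .xii, .y6, .y10,
   .tau, .X0, .p10, .xii, .y4, .p3, .hi, .xii, .y1, .y8, .p8, .tau, .xii, .p5],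
  [.Z2, .Z1, .Z0, .X10, .X6, .X3, .X2, .X1, .X0, .y6, .y5, .y1, .p3, .hi, .p9, .hi, .p10, .hi, .p2, .hi, .p4, .hi,
   .p6, .xii, .p, .xii, .hi, .y8, .p4, .taui, .xii, .y1, .p, .xii, .p, .y7, .xii, .y5, .taui, .xii, .p, .xii, .y1,
   .hi, .xii, .y5, .y9, .y10, .tau, .X0, .p7, .xii, .y4, .p9, .xii, .taui, .xii, .p4, .xii, .y2, .y10, .p4, .xii, .y8,
   .taui, .xii]⟩

theorem h67 : Hd F (g wAp) b67 := hdP (by decide +kernel)
theorem r67_0 : R9 F (g wAp) b67 [] 0 0 := .of (startP 0 1) (by decide +kernel)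
theorem r67_1 : R9 F (g wAp) b67 [] 0 1 := .of (startP 0 1) (by decide +kernel)
theorem r67_2 : R9 F (g wAp) b67 [] 0 2 := .of (startP 0 1) (by decide +kernel)
theorem r67_3 : R9 F (g wAp) b67 [] 1 0 := .of (startP 0 1) (by decide +kernel)
theorem r67_4 : R9 F (g wAp) b67 [] 1 1 := .of (startP 0 1) (by decide +kernel)
theorem r67_5 : R9 F (g wAp) b67 [] 1 2 := .of (startP 0 1) (by decide +kernel)
theorem r67_6 : R9 F (g wAp) b67 [] 2 0 := .of (startP 0 1) (by decide +kernel)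
theorem r67_7 : R9 F (g wAp) b67 [] 2 1 := .of (startP 0 1) (by decide +kernel)
theorem r67_8 : R9 F (g wAp) b67 [] 2 2 := .of (startP 0 1) (by decide +kernel)
theorem g67 : Gd F (g wAp) (0, p67) [] :=
  good9 ok h67 r67_0 r67_1 r67_2 r67_3 r67_4 r67_5 r67_6 r67_7 r67_8

def b68 : Wd := ⟨0, p68,
  [.Z8, .Z5, .Z2, .X9, .X8, .X7, .X6, .X3, .X0, .y3, .y1, .p2, .hi, .p5, .hi, .p4, .hi, .p, .hi, .p3, .hi, .xii, .p,
   .xii, .y2, .y10, .hi, .xii, .y5, .taui, .xii, .p, .xii, .y1, .hi, .xii, .y3, .taui, .X0, .p4, .xii, .y2, .p9, .xii,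
   .y10, .p4, .hi, .tau, .xii, .p8, .xii, .p2, .y9, .xii, .y5, .y8, .taui, .xii, .p10],
  [.z, .Z9, .Z8, .Z7, .Z4, .Z3, .Z2, .Z0, .X10, .X9, .X6, .X5, .X3, .X0, .y9, .y5, .hi, .p6, .hi, .p6, .hi, .p8, .hi,
   .p5, .xii, .hi, .xii, .p2, .xii, .y3, .y9, .taui, .xii, .y2, .p, .xii, .y4, .hi, .xii, .y5, .tau, .X0, .hi, .xii,
   .p9, .xii, .p2, .hi, .p, .y4, .taui, .xii, .p4, .xii, .p5, .y8, .xii, .y6, .taui, .xii, .hi, .p4],
  [.Z8, .Z6, .Z5, .Z4, .Z3, .Z1, .X9, .X8, .X6, .X5, .X4, .X3, .X1, .X0, .y6, .y3, .hi, .p8, .hi, .p7, .hi, .p4, .hi,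
   .p8, .hi, .p6, .hi, .p, .hi, .xii, .p10, .xii, .taui, .xii, .y2, .p, .xii, .y2, .hi, .xii, .y5, .y10, .tau, .p4,
   .xii, .y4, .p9, .xii, .hi, .p10, .y6, .tau, .xii, .p9, .xii, .y9, .p9, .tau, .xii, .p2, .hi, .p8]⟩

theorem h68 : Hd F (g wAp) b68 := hdP (by decide +kernel)
theorem r68_0 : R9 F (g wAp) b68 [] 0 0 := .of (startP 0 1) (by decide +kernel)
theorem r68_1 : R9 F (g wAp) b68 [] 0 1 := .of (startP 0 1) (by decide +kernel)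
theorem r68_2 : R9 F (g wAp) b68 [] 0 2 := .of (startP 0 1) (by decide +kernel)
theorem r68_3 : R9 F (g wAp) b68 [] 1 0 := .of (startP 0 1) (by decide +kernel)
theorem r68_4 : R9 F (g wAp) b68 [] 1 1 := .of (startP 0 1) (by decide +kernel)
theorem r68_5 : R9 F (g wAp) b68 [] 1 2 := .of (startP 0 1) (by decide +kernel)
theorem r68_6 : R9 F (g wAp) b68 [] 2 0 := .of (startP 0 1) (by decide +kernel)
theorem r68_7 : R9 F (g wAp) b68 [] 2 1 := .of (startP 0 1) (by decide +kernel)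
theorem r68_8 : R9 F (g wAp) b68 [] 2 2 := .of (startP 0 1) (by decide +kernel)
theorem g68 : Gd F (g wAp) (0, p68) [] :=
  good9 ok h68 r68_0 r68_1 r68_2 r68_3 r68_4 r68_5 r68_6 r68_7 r68_8

def b69 : Wd := ⟨0, p69,
  [.Z0, .X10, .X8, .X4, .X3, .X0, .y8, .y5, .y2, .p6, .hi, .p8, .hi, .p3, .hi, .p6, .hi, .p5, .xii, .y2, .p5, .hi,
   .p8, .hi, .tau, .y1, .xii, .y1, .p10, .xii, .tau, .p9, .xii, .y7, .p, .xii, .y4, .y5, .taui, .xii, .p3, .xii, .y5,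
   .hi, .xii, .y4, .y6, .taui],
  [.z, .Z10, .Z9, .Z8, .Z4, .Z2, .X10, .X8, .X7, .X2, .X0, .y10, .y9, .y8, .y7, .y6, .y4, .y2, .p, .hi, .p10, .hi,
   .p8, .xii, .tau, .xii, .p, .xii, .hi, .p10, .tau, .X0, .p4, .xii, .p9, .xii, .hi, .y5, .taui, .xii, .p9, .xii, .y1,
   .p8, .xii, .y8, .y10],
  [.z, .Z9, .Z8, .Z7, .Z5, .Z4, .Z2, .Z0, .X10, .X9, .X7, .X4, .X1, .X0, .y10, .y9, .y5, .y4, .p7, .hi, .p3, .hi, .p7,
   .hi, .p6, .hi, .p8, .hi, .p5, .hi, .xii, .y2, .p2, .hi, .taui, .xii, .y2, .p, .xii, .y3, .y10, .hi, .xii, .y7,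
   .taui, .X0, .xii, .p9, .xii, .y4, .hi, .xii, .y2, .p4, .tau, .xii, .p3, .xii, .p4, .xii, .y2, .tau]⟩

theorem h69 : Hd F (g wAp) b69 := hdP (by decide +kernel)
theorem r69_0 : R9 F (g wAp) b69 [] 0 0 := .of (startP 0 1) (by decide +kernel)
theorem r69_1 : R9 F (g wAp) b69 [] 0 1 := .of (startP 0 1) (by decide +kernel)
theorem r69_2 : R9 F (g wAp) b69 [] 0 2 := .of (startP 0 1) (by decide +kernel)
theorem r69_3 : R9 F (g wAp) b69 [] 1 0 := .of (startP 0 1) (by decide +kernel)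
theorem r69_4 : R9 F (g wAp) b69 [] 1 1 := .of (startP 0 1) (by decide +kernel)
theorem r69_5 : R9 F (g wAp) b69 [] 1 2 := .of (startP 0 1) (by decide +kernel)
theorem r69_6 : R9 F (g wAp) b69 [] 2 0 := .of (startP 0 1) (by decide +kernel)
theorem r69_7 : R9 F (g wAp) b69 [] 2 1 := .of (startP 0 2) (by decide +kernel)
theorem r69_8 : R9 F (g wAp) b69 [] 2 2 := .of (startP 0 1) (by decide +kernel)
theorem g69 : Gd F (g wAp) (0, p69) [] :=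
  good9 ok h69 r69_0 r69_1 r69_2 r69_3 r69_4 r69_5 r69_6 r69_7 r69_8

theorem all : AllG F (g wAp) LP6 :=
  .cons g60 (.cons g61 (.cons g62 (.cons g63 (.cons g64 (.cons g65 (.cons g66 (.cons g67 (.cons g68 (.cons g69 (.nil))))))))))

end Cfsg.Agent.BX.No33.Bk.P6
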