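import Cfsg.Agent.BX.No33.Cheap
set_option linter.all false

/-!
# Tests, pure case, part 7 (helper5; generated)
-/

set_option autoImplicit false
set_option maxRecDepth 100000
set_option Elab.async false

namespace Cfsg.Agent.BX.No33.Bk.P7

open Cfsg.Agent.H819.U33 Cfsg.Agent.BX.No33.Front

def b70 : Wd := ⟨0, p70,
  [.z, .Z10, .Z9, .Z7, .Z4, .X8, .X7, .X5, .X4, .X3, .X2, .y8, .y6, .y5, .y4, .y3, .y1, .hi, .p6, .hi, .p4, .hi, .p10,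
   .hi, .p3, .hi, .p2, .xii, .p, .xii, .y6, .p9, .xii, .tau, .y1, .xii, .p10, .xii, .y4, .p10, .xii, .y2, .tau, .xii,
   .p9, .xii, .p3, .y8, .xii, .p2, .y4, .tau, .xii, .p9, .xii, .y3, .p9, .y4, .xii, .y10, .tau, .xii, .hi, .p5],
  [.z, .Z9, .Z8, .Z7, .Z6, .Z3, .Z1, .Z0, .X9, .X8, .X4, .y10, .y8, .y7, .y6, .y3, .y2, .hi, .p6, .hi, .p10, .hi,
   .p10, .hi, .p5, .hi, .p9, .xii, .hi, .xii, .p2, .xii, .y1, .y8, .tau, .xii, .y6, .p, .xii, .y10, .p, .xii, .y1,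
   .y2, .tau, .X0, .p7, .xii, .hi, .xii, .p3, .hi, .p6, .tau, .xii, .p10, .xii, .y9, .p3, .hi],
  [.z, .Z10, .Z9, .Z5, .Z3, .Z1, .Z0, .X10, .X9, .X6, .X5, .X3, .X1, .y9, .y8, .y6, .p9, .hi, .p4, .hi, .p, .hi, .p6,
   .hi, .p5, .hi, .p6, .xii, .y2, .p10, .tau, .xii, .y6, .p, .xii, .y1, .hi, .p8, .taui, .X0, .p10, .xii, .y6, .p5,
   .xii, .y7, .tau, .xii, .p7, .xii, .y2, .y7, .p3, .xii, .y4, .y8, .tau, .xii, .p6]⟩

theorem h70 : Hd F (g wAp) b70 := hdP (by decide +kernel)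
theorem r70_0 : R9 F (g wAp) b70 [] 0 0 := .of (startP 0 1) (by decide +kernel)
theorem r70_1 : R9 F (g wAp) b70 [] 0 1 := .of (startP 0 1) (by decide +kernel)
theorem r70_2 : R9 F (g wAp) b70 [] 0 2 := .of (startP 0 1) (by decide +kernel)
theorem r70_3 : R9 F (g wAp) b70 [] 1 0 := .of (startP 0 1) (by decide +kernel)
theorem r70_4 : R9 F (g wAp) b70 [] 1 1 := .of (startP 0 1) (by decide +kernel)
theorem r70_5 : R9 F (g wAp) b70 [] 1 2 := .of (startP 0 1) (by decide +kernel)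
theorem r70_6 : R9 F (g wAp) b70 [] 2 0 := .of (startP 0 1) (by decide +kernel)
theorem r70_7 : R9 F (g wAp) b70 [] 2 1 := .of (startP 0 1) (by decide +kernel)
theorem r70_8 : R9 F (g wAp) b70 [] 2 2 := .of (startP 0 1) (by decide +kernel)
theorem g70 : Gd F (g wAp) (0, p70) [] :=
  good9 ok h70 r70_0 r70_1 r70_2 r70_3 r70_4 r70_5 r70_6 r70_7 r70_8

def b71 : Wd := ⟨0, p71,
  [.z, .Z9, .Z7, .Z6, .Z0, .X8, .X6, .X5, .X4, .X3, .X2, .X0, .y9, .y7, .y5, .p8, .hi, .p5, .hi, .p3, .hi, .p9, .hi,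
   .p4, .hi, .p4, .xii, .hi, .p8, .xii, .p2, .y10, .taui, .xii, .p, .xii, .y4, .y10, .hi, .xii, .y5, .taui, .X0, .hi,
   .xii, .p5, .xii, .y5, .y7, .p3, .tau, .xii, .p8, .xii, .y1, .y9, .p2, .xii, .y8, .taui, .xii, .p6, .xii, .y6],
  [.z, .Z10, .Z8, .Z4, .Z3, .Z2, .X10, .X7, .X6, .X5, .X4, .X0, .y10, .y8, .y7, .y6, .y5, .y4, .y3, .y1, .hi, .p2,
   .hi, .p3, .hi, .p7, .hi, .p8, .hi, .p9, .xii, .p, .xii, .y4, .y6, .tau, .y1, .xii, .p10, .xii, .y1, .p10, .xii,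
   .y2, .taui, .X0, .hi, .xii, .y7, .p5, .xii, .y4, .hi, .p8, .taui, .xii, .y2, .hi, .xii, .p9, .xii, .y8, .taui],
  [.Z9, .Z7, .Z6, .Z5, .Z1, .X9, .X8, .X6, .X4, .X2, .X0, .y10, .y5, .p7, .hi, .p7, .hi, .p8, .hi, .p6, .hi, .p10,
   .hi, .p, .xii, .y2, .p10, .xii, .y8, .p3, .hi, .taui, .xii, .y1, .p, .xii, .y2, .p, .xii, .y3, .taui, .X0, .y1,
   .hi, .xii, .p9, .xii, .y2, .p3, .xii, .y9, .tau, .xii, .y2, .p4, .xii, .y5, .p9, .xii, .y6, .taui, .xii, .y6, .p9]⟩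

theorem h71 : Hd F (g wAp) b71 := hdP (by decide +kernel)
theorem r71_0 : R9 F (g wAp) b71 [] 0 0 := .of (startP 0 1) (by decide +kernel)
theorem r71_1 : R9 F (g wAp) b71 [] 0 1 := .of (startP 0 1) (by decide +kernel)
theorem r71_2 : R9 F (g wAp) b71 [] 0 2 := .of (startP 0 1) (by decide +kernel)
theorem r71_3 : R9 F (g wAp) b71 [] 1 0 := .of (startP 0 1) (by decide +kernel)
theorem r71_4 : R9 F (g wAp) b71 [] 1 1 := .of (startP 0 1) (by decide +kernel)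
theorem r71_5 : R9 F (g wAp) b71 [] 1 2 := .of (startP 0 1) (by decide +kernel)
theorem r71_6 : R9 F (g wAp) b71 [] 2 0 := .of (startP 0 1) (by decide +kernel)
theorem r71_7 : R9 F (g wAp) b71 [] 2 1 := .of (startP 0 1) (by decide +kernel)
theorem r71_8 : R9 F (g wAp) b71 [] 2 2 := .of (startP 0 1) (by decide +kernel)
theorem g71 : Gd F (g wAp) (0, p71) [] :=
  good9 ok h71 r71_0 r71_1 r71_2 r71_3 r71_4 r71_5 r71_6 r71_7 r71_8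

def b72 : Wd := ⟨0, p72,
  [.Z9, .Z7, .Z5, .Z3, .Z1, .Z0, .X9, .X7, .X0, .y9, .y8, .y7, .y4, .y3, .p7, .hi, .p6, .hi, .p6, .hi, .p, .hi, .p6,
   .hi, .p10, .xii, .p10, .xii, .p9, .xii, .y1, .y10, .tau, .xii, .y6, .p, .xii, .p, .xii, .y6, .taui, .X0, .p2, .xii,
   .hi, .p8, .xii, .y9, .p, .y3, .taui, .xii, .p6, .xii, .hi, .p2, .y6, .taui, .xii, .y2, .p8],
  [.Z9, .Z6, .Z5, .Z4, .Z3, .Z2, .X9, .X8, .X5, .X3, .X2, .X0, .y7, .p9, .hi, .p, .hi, .p5, .hi, .p8, .hi, .p6, .hi,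
   .p3, .xii, .p, .xii, .p2, .hi, .p2, .taui, .xii, .y1, .p, .xii, .p, .xii, .y3, .y9, .tau, .X0, .p10, .xii, .y6,
   .p9, .xii, .y9, .hi, .tau, .xii, .p5, .xii, .p8, .y6, .xii, .y2, .tau, .xii, .p4, .hi],
  [.z, .Z9, .Z6, .Z5, .Z3, .Z1, .X7, .X6, .X0, .y10, .y9, .hi, .p2, .hi, .p7, .hi, .p8, .hi, .p9, .xii, .p3, .hi,
   .xii, .y3, .y7, .tau, .xii, .y2, .p, .xii, .y1, .hi, .xii, .y7, .taui, .X0, .xii, .p7, .xii, .p9, .xii, .y1, .y7,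
   .hi, .taui, .xii, .p4, .xii, .p3, .y1, .hi, .p10, .tau, .xii, .hi, .p7]⟩

theorem h72 : Hd F (g wAp) b72 := hdP (by decide +kernel)
theorem r72_0 : R9 F (g wAp) b72 [] 0 0 := .of (startP 0 1) (by decide +kernel)
theorem r72_1 : R9 F (g wAp) b72 [] 0 1 := .of (startP 0 1) (by decide +kernel)
theorem r72_2 : R9 F (g wAp) b72 [] 0 2 := .of (startP 0 1) (by decide +kernel)
theorem r72_3 : R9 F (g wAp) b72 [] 1 0 := .of (startP 0 1) (by decide +kernel)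
theorem r72_4 : R9 F (g wAp) b72 [] 1 1 := .of (startP 0 1) (by decide +kernel)
theorem r72_5 : R9 F (g wAp) b72 [] 1 2 := .of (startP 0 1) (by decide +kernel)
theorem r72_6 : R9 F (g wAp) b72 [] 2 0 := .of (startP 0 2) (by decide +kernel)
theorem r72_7 : R9 F (g wAp) b72 [] 2 1 := .of (startP 0 1) (by decide +kernel)
theorem r72_8 : R9 F (g wAp) b72 [] 2 2 := .of (startP 0 1) (by decide +kernel)
theorem g72 : Gd F (g wAp) (0, p72) [] :=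
  good9 ok h72 r72_0 r72_1 r72_2 r72_3 r72_4 r72_5 r72_6 r72_7 r72_8

def b73 : Wd := ⟨0, p73,
  [.z, .Z10, .Z8, .Z4, .X5, .X0, .y8, .y7, .y5, .y1, .p7, .hi, .p10, .hi, .p2, .hi, .p6, .hi, .p9, .hi, .p3, .hi,
   .xii, .p3, .hi, .xii, .y3, .p10, .taui, .xii, .y6, .p, .xii, .p, .xii, .y1, .taui, .X0, .p9, .xii, .p10, .xii,
   .y10, .p7, .taui, .xii, .p9, .xii, .y1, .p6, .xii, .y2, .tau, .xii, .y7, .p9],
  [.z, .Z10, .Z8, .Z7, .Z4, .Z3, .Z0, .X7, .X5, .X4, .X3, .y10, .y8, .y7, .y6, .y1, .p4, .hi, .p3, .hi, .p5, .hi, .p5,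
   .hi, .p7, .hi, .p7, .xii, .y2, .p, .xii, .p, .xii, .y7, .tau, .xii, .y6, .p, .xii, .y2, .p, .xii, .y7, .y10, .taui,
   .X0, .p10, .xii, .y7, .p6, .xii, .p8, .taui, .xii, .p8, .xii, .p9, .y1],
  [.z, .Z10, .Z8, .Z7, .Z6, .Z5, .Z2, .Z0, .X9, .X8, .X7, .X6, .X5, .X4, .X1, .X0, .y10, .y9, .y7, .y3, .y2, .p9, .hi,
   .p7, .hi, .p5, .hi, .p6, .hi, .p3, .hi, .p6, .hi, .xii, .p, .xii, .y4, .hi, .xii, .y6, .taui, .y1, .xii, .p10,
   .xii, .y1, .y9, .p10, .xii, .taui, .X0, .xii, .y6, .p7, .xii, .p9, .y9, .xii, .y2, .p10, .tau, .xii, .p4, .xii,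
   .y1, .p4, .y8, .xii, .y7, .tau, .xii, .y2, .hi, .p6]⟩

theorem h73 : Hd F (g wAp) b73 := hdP (by decide +kernel)
theorem r73_0 : R9 F (g wAp) b73 [] 0 0 := .of (startP 0 1) (by decide +kernel)
theorem r73_1 : R9 F (g wAp) b73 [] 0 1 := .of (startP 0 1) (by decide +kernel)
theorem r73_2 : R9 F (g wAp) b73 [] 0 2 := .of (startP 0 1) (by decide +kernel)
theorem r73_3 : R9 F (g wAp) b73 [] 1 0 := .of (startP 0 1) (by decide +kernel)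
theorem r73_4 : R9 F (g wAp) b73 [] 1 1 := .of (startP 0 1) (by decide +kernel)
theorem r73_5 : R9 F (g wAp) b73 [] 1 2 := .of (startP 0 1) (by decide +kernel)
theorem r73_6 : R9 F (g wAp) b73 [] 2 0 := .of (startP 0 1) (by decide +kernel)
theorem r73_7 : R9 F (g wAp) b73 [] 2 1 := .of (startP 0 1) (by decide +kernel)
theorem r73_8 : R9 F (g wAp) b73 [] 2 2 := .of (startP 0 1) (by decide +kernel)
theorem g73 : Gd F (g wAp) (0, p73) [] :=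
  good9 ok h73 r73_0 r73_1 r73_2 r73_3 r73_4 r73_5 r73_6 r73_7 r73_8

def b74 : Wd := ⟨0, p74,
  [.Z5, .Z4, .Z1, .X10, .X9, .X8, .X6, .X4, .X0, .y10, .y7, .y6, .y5, .y3, .y1, .p10, .hi, .p9, .hi, .p10, .hi, .p7,
   .xii, .p, .xii, .p7, .xii, .y1, .y3, .tau, .xii, .p, .xii, .y3, .hi, .xii, .y4, .y6, .tau, .X0, .xii, .p9, .xii,
   .y3, .p3, .xii, .y8, .p10, .taui, .xii, .p2, .xii, .p, .y2, .xii, .y6, .taui],
  [.Z10, .Z8, .Z7, .Z4, .Z0, .X9, .X7, .X3, .y10, .y9, .y6, .y5, .p10, .hi, .p6, .hi, .p9, .hi, .p9, .hi, .p6, .hi,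
   .p9, .xii, .y2, .taui, .xii, .y2, .p, .xii, .y2, .hi, .xii, .y3, .y10, .taui, .X0, .xii, .p7, .xii, .p5, .y3, .xii,
   .y5, .y7, .taui, .xii, .p2, .xii, .y1, .hi, .p4, .tau, .xii, .y2, .p7],
  [.Z9, .Z8, .Z7, .Z6, .Z4, .Z3, .Z2, .Z0, .X9, .X6, .X5, .X0, .y9, .y8, .y7, .y6, .y2, .y1, .p6, .hi, .p10, .hi, .p,
   .hi, .p6, .hi, .p9, .xii, .p2, .hi, .xii, .y4, .p3, .tau, .xii, .p, .xii, .y4, .y10, .hi, .xii, .y4, .y7, .taui,
   .xii, .p2, .xii, .y1, .hi, .xii, .y5, .tau, .xii, .p3, .xii, .y2, .p6, .xii, .y7, .y10, .tau, .xii, .p, .xii, .y2]⟩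

theorem h74 : Hd F (g wAp) b74 := hdP (by decide +kernel)
theorem r74_0 : R9 F (g wAp) b74 [] 0 0 := .of (startP 0 1) (by decide +kernel)
theorem r74_1 : R9 F (g wAp) b74 [] 0 1 := .of (startP 0 2) (by decide +kernel)
theorem r74_2 : R9 F (g wAp) b74 [] 0 2 := .of (startP 0 1) (by decide +kernel)
theorem r74_3 : R9 F (g wAp) b74 [] 1 0 := .of (startP 0 1) (by decide +kernel)
theorem r74_4 : R9 F (g wAp) b74 [] 1 1 := .of (startP 0 1) (by decide +kernel)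
theorem r74_5 : R9 F (g wAp) b74 [] 1 2 := .of (startP 0 1) (by decide +kernel)
theorem r74_6 : R9 F (g wAp) b74 [] 2 0 := .of (startP 0 1) (by decide +kernel)
theorem r74_7 : R9 F (g wAp) b74 [] 2 1 := .of (startP 0 1) (by decide +kernel)
theorem r74_8 : R9 F (g wAp) b74 [] 2 2 := .of (startP 0 1) (by decide +kernel)
theorem g74 : Gd F (g wAp) (0, p74) [] :=
  good9 ok h74 r74_0 r74_1 r74_2 r74_3 r74_4 r74_5 r74_6 r74_7 r74_8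

def b75 : Wd := ⟨0, p75,
  [.z, .Z9, .Z8, .Z7, .Z5, .Z1, .X8, .X7, .X5, .X4, .X0, .y9, .y7, .y6, .y1, .p10, .hi, .p7, .hi, .p7, .hi, .p10, .hi,
   .p9, .xii, .p, .xii, .y6, .p7, .taui, .xii, .y1, .p, .xii, .y10, .p, .xii, .y6, .y10, .taui, .y1, .p10, .xii, .p6,
   .xii, .y6, .hi, .p, .taui, .xii, .p7, .xii, .hi, .y5, .p6, .taui, .xii, .y2, .p7],
  [.z, .Z10, .Z9, .Z7, .Z6, .Z5, .X8, .X7, .X6, .X1, .X0, .y10, .y6, .y3, .y2, .p10, .hi, .p5, .hi, .p10, .hi, .p10,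
   .hi, .p6, .hi, .p3, .xii, .hi, .p3, .hi, .p5, .tau, .xii, .y1, .p, .xii, .y4, .p, .xii, .y1, .y9, .tau, .X0, .p10,
   .xii, .p9, .xii, .y4, .y6, .p4, .hi, .p, .taui, .xii, .hi, .xii, .y6, .p5, .xii, .y4],
  [.z, .Z2, .X10, .X9, .X8, .X7, .X5, .X3, .X2, .y8, .y7, .y4, .y1, .p10, .hi, .p7, .hi, .p4, .hi, .p4, .hi, .p7, .hi,
   .p4, .xii, .hi, .p8, .xii, .y3, .y7, .tau, .xii, .y1, .p, .xii, .y4, .y10, .p, .xii, .y6, .taui, .X0, .xii, .p2,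
   .xii, .p4, .y6, .xii, .y1, .y5, .p2, .tau, .xii, .y2, .p10, .xii, .y10, .p8]⟩

theorem h75 : Hd F (g wAp) b75 := hdP (by decide +kernel)
theorem r75_0 : R9 F (g wAp) b75 [] 0 0 := .of (startP 0 2) (by decide +kernel)
theorem r75_1 : R9 F (g wAp) b75 [] 0 1 := .of (startP 0 1) (by decide +kernel)
theorem r75_2 : R9 F (g wAp) b75 [] 0 2 := .of (startP 0 1) (by decide +kernel)
theorem r75_3 : R9 F (g wAp) b75 [] 1 0 := .of (startP 0 1) (by decide +kernel)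
theorem r75_4 : R9 F (g wAp) b75 [] 1 1 := .of (startP 0 1) (by decide +kernel)
theorem r75_5 : R9 F (g wAp) b75 [] 1 2 := .of (startP 0 1) (by decide +kernel)
theorem r75_6 : R9 F (g wAp) b75 [] 2 0 := .of (startP 0 1) (by decide +kernel)
theorem r75_7 : R9 F (g wAp) b75 [] 2 1 := .of (startP 0 1) (by decide +kernel)
theorem r75_8 : R9 F (g wAp) b75 [] 2 2 := .of (startP 0 1) (by decide +kernel)
theorem g75 : Gd F (g wAp) (0, p75) [] :=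
  good9 ok h75 r75_0 r75_1 r75_2 r75_3 r75_4 r75_5 r75_6 r75_7 r75_8

def b76 : Wd := ⟨0, p76,
  [.Z10, .Z3, .Z1, .Z0, .X8, .X5, .X4, .X3, .X1, .y10, .y7, .y6, .y4, .y3, .y2, .p5, .hi, .p8, .hi, .p9, .hi, .p4,
   .hi, .p7, .xii, .p, .xii, .y3, .y4, .taui, .xii, .y1, .p, .hi, .xii, .y2, .y7, .taui, .X0, .p8, .xii, .y2, .p3,
   .xii, .p10, .tau, .xii, .p9, .xii, .y8, .p8, .xii, .y3, .y10],
  [.Z10, .Z8, .Z6, .Z2, .Z1, .Z0, .X10, .X9, .X8, .X5, .X1, .X0, .y8, .y7, .y5, .p8, .hi, .p9, .hi, .p7, .hi, .p7,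
   .hi, .p10, .hi, .p7, .hi, .p9, .xii, .hi, .p8, .xii, .y3, .y7, .tau, .xii, .p3, .hi, .xii, .y8, .y9, .taui, .X0,
   .p8, .xii, .y2, .p4, .xii, .p4, .y9, .taui, .xii, .p2, .hi, .xii, .y5, .y7, .p6],
  [.Z9, .Z8, .Z7, .Z3, .X8, .X4, .X3, .X2, .X1, .y8, .y6, .y5, .y3, .y1, .p10, .hi, .p9, .hi, .p, .hi, .p5, .hi, .p9,
   .hi, .p3, .xii, .p10, .hi, .p8, .taui, .xii, .p, .xii, .y1, .y6, .hi, .xii, .y4, .y5, .tau, .X0, .xii, .p10, .xii,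
   .p10, .y7, .xii, .y4, .tau, .xii, .p10, .xii, .y4, .p5, .hi]⟩

theorem h76 : Hd F (g wAp) b76 := hdP (by decide +kernel)
theorem r76_0 : R9 F (g wAp) b76 [] 0 0 := .of (startP 0 1) (by decide +kernel)
theorem r76_1 : R9 F (g wAp) b76 [] 0 1 := .of (startP 0 1) (by decide +kernel)
theorem r76_2 : R9 F (g wAp) b76 [] 0 2 := .of (startP 0 1) (by decide +kernel)
theorem r76_3 : R9 F (g wAp) b76 [] 1 0 := .of (startP 0 1) (by decide +kernel)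
theorem r76_4 : R9 F (g wAp) b76 [] 1 1 := .of (startP 0 1) (by decide +kernel)
theorem r76_5 : R9 F (g wAp) b76 [] 1 2 := .of (startP 0 1) (by decide +kernel)
theorem r76_6 : R9 F (g wAp) b76 [] 2 0 := .of (startP 0 1) (by decide +kernel)
theorem r76_7 : R9 F (g wAp) b76 [] 2 1 := .of (startP 0 1) (by decide +kernel)
theorem r76_8 : R9 F (g wAp) b76 [] 2 2 := .of (startP 0 1) (by decide +kernel)
theorem g76 : Gd F (g wAp) (0, p76) [] :=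
  good9 ok h76 r76_0 r76_1 r76_2 r76_3 r76_4 r76_5 r76_6 r76_7 r76_8

def b77 : Wd := ⟨0, p77,
  [.Z8, .Z7, .Z3, .Z2, .Z1, .X8, .X7, .X5, .X4, .X1, .y10, .y8, .y6, .y3, .y2, .p6, .hi, .p8, .hi, .p3, .hi, .p9, .hi,
   .p5, .hi, .p, .xii, .hi, .xii, .p10, .xii, .y8, .taui, .xii, .p, .xii, .y2, .y10, .hi, .xii, .y4, .y5, .taui, .X0,
   .xii, .p7, .xii, .y7, .hi, .y7, .xii, .y8, .tau, .xii, .y2, .p4, .xii, .p10, .taui, .xii, .y2, .p7],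
  [.z, .Z10, .Z9, .Z8, .Z4, .Z3, .Z1, .Z0, .X9, .X8, .X7, .X5, .X4, .y9, .y8, .y5, .y4, .y2, .hi, .p8, .hi, .p3, .hi,
   .p3, .hi, .p3, .hi, .xii, .y2, .p3, .hi, .xii, .y2, .p10, .tau, .X0, .y1, .xii, .p8, .xii, .p2, .xii, .y9, .p3,
   .tau, .xii, .y2, .p4, .xii, .y8, .p8, .xii, .y6, .taui, .xii, .y4, .p4, .xii],
  [.Z5, .Z2, .Z1, .X7, .X6, .X5, .X3, .X0, .y6, .y4, .y1, .hi, .p9, .hi, .p9, .hi, .p9, .hi, .p6, .hi, .p3, .hi, .p10,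
   .hi, .xii, .p, .xii, .p9, .y1, .xii, .tau, .y1, .xii, .p10, .xii, .y1, .p10, .xii, .y4, .y8, .taui, .X0, .y1, .p2,
   .xii, .p5, .xii, .y3, .y4, .y9, .tau, .xii, .p8, .xii, .p4, .xii, .y5, .y10, .taui, .xii, .y4, .p]⟩

theorem h77 : Hd F (g wAp) b77 := hdP (by decide +kernel)
theorem r77_0 : R9 F (g wAp) b77 [] 0 0 := .of (startP 0 1) (by decide +kernel)
theorem r77_1 : R9 F (g wAp) b77 [] 0 1 := .of (startP 0 1) (by decide +kernel)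
theorem r77_2 : R9 F (g wAp) b77 [] 0 2 := .of (startP 0 1) (by decide +kernel)
theorem r77_3 : R9 F (g wAp) b77 [] 1 0 := .of (startP 0 1) (by decide +kernel)
theorem r77_4 : R9 F (g wAp) b77 [] 1 1 := .of (startP 0 1) (by decide +kernel)
theorem r77_5 : R9 F (g wAp) b77 [] 1 2 := .of (startP 0 1) (by decide +kernel)
theorem r77_6 : R9 F (g wAp) b77 [] 2 0 := .of (startP 0 1) (by decide +kernel)
theorem r77_7 : R9 F (g wAp) b77 [] 2 1 := .of (startP 0 1) (by decide +kernel)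
theorem r77_8 : R9 F (g wAp) b77 [] 2 2 := .of (startP 0 1) (by decide +kernel)
theorem g77 : Gd F (g wAp) (0, p77) [] :=
  good9 ok h77 r77_0 r77_1 r77_2 r77_3 r77_4 r77_5 r77_6 r77_7 r77_8

def b78 : Wd := ⟨0, p78,
  [.Z8, .Z7, .X8, .X7, .X1, .X0, .y10, .y7, .y4, .y3, .y1, .p3, .hi, .p7, .hi, .p5, .hi, .p5, .hi, .p8, .hi, .p3,
   .xii, .p, .xii, .p2, .hi, .p5, .taui, .y1, .xii, .y2, .hi, .xii, .y9, .p10, .xii, .y9, .taui, .X0, .p7, .xii, .y2,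
   .p5, .xii, .hi, .y10, .p, .taui, .xii, .p2, .xii, .y6, .p2, .xii, .y8, .tau, .xii, .hi, .p4],
  [.z, .Z9, .Z4, .Z1, .Z0, .X10, .X9, .X7, .X6, .X4, .X2, .X1, .y8, .y5, .y2, .hi, .p3, .hi, .p8, .hi, .p5, .hi, .p,
   .hi, .p3, .hi, .p6, .hi, .xii, .p3, .hi, .xii, .y7, .p6, .tau, .xii, .p, .xii, .y2, .y4, .hi, .p10, .tau, .p4,
   .xii, .p5, .xii, .p6, .y7, .tau, .xii, .y2, .hi, .p7, .xii, .y10, .p3, .tau, .xii, .y2, .p10, .hi, .p9],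
  [.Z10, .Z8, .Z6, .Z4, .Z3, .Z1, .Z0, .X9, .X4, .X3, .X1, .y9, .y8, .y7, .y4, .y3, .y2, .hi, .p2, .hi, .p, .hi, .p,
   .hi, .p, .hi, .p9, .xii, .y2, .hi, .xii, .p9, .xii, .y7, .tau, .xii, .y6, .p, .xii, .y6, .taui, .X0, .hi, .xii,
   .p9, .xii, .y10, .p8, .y3, .tau, .xii, .p2, .xii, .p7, .y7, .tau, .xii, .y2, .p, .hi]⟩

theorem h78 : Hd F (g wAp) b78 := hdP (by decide +kernel)
theorem r78_0 : R9 F (g wAp) b78 [] 0 0 := .of (startP 0 1) (by decide +kernel)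
theorem r78_1 : R9 F (g wAp) b78 [] 0 1 := .of (startP 0 1) (by decide +kernel)
theorem r78_2 : R9 F (g wAp) b78 [] 0 2 := .of (startP 0 1) (by decide +kernel)
theorem r78_3 : R9 F (g wAp) b78 [] 1 0 := .of (startP 0 1) (by decide +kernel)
theorem r78_4 : R9 F (g wAp) b78 [] 1 1 := .of (startP 0 1) (by decide +kernel)
theorem r78_5 : R9 F (g wAp) b78 [] 1 2 := .of (startP 0 1) (by decide +kernel)
theorem r78_6 : R9 F (g wAp) b78 [] 2 0 := .of (startP 0 1) (by decide +kernel)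
theorem r78_7 : R9 F (g wAp) b78 [] 2 1 := .of (startP 0 1) (by decide +kernel)
theorem r78_8 : R9 F (g wAp) b78 [] 2 2 := .of (startP 0 1) (by decide +kernel)
theorem g78 : Gd F (g wAp) (0, p78) [] :=
  good9 ok h78 r78_0 r78_1 r78_2 r78_3 r78_4 r78_5 r78_6 r78_7 r78_8

def b79 : Wd := ⟨0, p79,
  [.Z10, .Z7, .Z4, .Z1, .X8, .X7, .X6, .X2, .y8, .y7, .y1, .hi, .p10, .hi, .p5, .hi, .p7, .hi, .p7, .hi, .p7, .hi,
   .xii, .y2, .p, .xii, .p8, .xii, .y1, .y10, .taui, .xii, .y6, .p, .hi, .xii, .y1, .tau, .hi, .xii, .y7, .p8, .xii,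
   .y3, .tau, .xii, .p6, .xii, .p2, .hi, .p8, .tau, .xii, .hi, .p2],
  [.z, .Z10, .Z9, .Z8, .Z6, .X10, .X9, .X6, .X5, .X4, .X0, .y9, .y5, .y4, .y3, .y2, .y1, .p3, .hi, .p10, .hi, .p9,
   .hi, .p3, .xii, .y2, .p10, .hi, .p8, .tau, .xii, .y6, .p, .xii, .p, .xii, .y3, .y9, .taui, .X0, .p6, .xii, .y2,
   .p6, .xii, .p2, .y2, .taui, .xii, .p10, .xii, .p9, .xii, .y4, .y6, .tau],
  [.Z10, .Z6, .Z3, .Z2, .X10, .X9, .X6, .X1, .X0, .y8, .y2, .y1, .hi, .p9, .hi, .p8, .hi, .p3, .hi, .p10, .xii, .y2,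
   .hi, .p10, .taui, .y1, .xii, .y2, .hi, .xii, .p10, .xii, .y1, .y6, .taui, .xii, .p, .xii, .y4, .hi, .xii, .y6,
   .taui, .p4, .xii, .y4, .hi, .xii, .taui, .xii, .p3, .xii, .p4, .y10, .xii, .y4, .tau]⟩

theorem h79 : Hd F (g wAp) b79 := hdP (by decide +kernel)
theorem r79_0 : R9 F (g wAp) b79 [] 0 0 := .of (startP 0 1) (by decide +kernel)
theorem r79_1 : R9 F (g wAp) b79 [] 0 1 := .of (startP 0 1) (by decide +kernel)
theorem r79_2 : R9 F (g wAp) b79 [] 0 2 := .of (startP 0 1) (by decide +kernel)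
theorem r79_3 : R9 F (g wAp) b79 [] 1 0 := .of (startP 0 1) (by decide +kernel)
theorem r79_4 : R9 F (g wAp) b79 [] 1 1 := .of (startP 0 1) (by decide +kernel)
theorem r79_5 : R9 F (g wAp) b79 [] 1 2 := .of (startP 0 1) (by decide +kernel)
theorem r79_6 : R9 F (g wAp) b79 [] 2 0 := .of (startP 0 1) (by decide +kernel)
theorem r79_7 : R9 F (g wAp) b79 [] 2 1 := .of (startP 0 1) (by decide +kernel)
theorem r79_8 : R9 F (g wAp) b79 [] 2 2 := .of (startP 0 1) (by decide +kernel)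
theorem g79 : Gd F (g wAp) (0, p79) [] :=
  good9 ok h79 r79_0 r79_1 r79_2 r79_3 r79_4 r79_5 r79_6 r79_7 r79_8

theorem all : AllG F (g wAp) LP7 :=
  .cons g70 (.cons g71 (.cons g72 (.cons g73 (.cons g74 (.cons g75 (.cons g76 (.cons g77 (.cons g78 (.cons g79 (.nil))))))))))

end Cfsg.Agent.BX.No33.Bk.P7
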