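import Cfsg.Agent.BX.No33.Cheap
set_option linter.all false

/-!
# Tests, pure case, part 8 (helper5; generated)
-/

set_option autoImplicit false
set_option maxRecDepth 100000
set_option Elab.async false

namespace Cfsg.Agent.BX.No33.Bk.P8

open Cfsg.Agent.H819.U33 Cfsg.Agent.BX.No33.Front

def b80 : Wd := ⟨0, p80,
  [.z, .Z8, .Z7, .Z6, .Z1, .X9, .X8, .X7, .X2, .X1, .y7, .y6, .y5, .y1, .p8, .hi, .p7, .hi, .p8, .hi, .p7, .hi, .p9,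
   .xii, .p, .xii, .y6, .p9, .xii, .y10, .taui, .xii, .y1, .p, .xii, .p, .xii, .y2, .y3, .taui, .xii, .y1, .p2, .xii,
   .p, .y2, .xii, .y6, .taui, .xii, .p4, .xii, .p, .hi, .tau, .xii, .y2, .p7],
  [.z, .Z10, .Z9, .Z8, .Z7, .Z6, .Z2, .Z1, .Z0, .X10, .X9, .X7, .X6, .X5, .X4, .X2, .X1, .y9, .y7, .y6, .y5, .y3,
   .p10, .hi, .p5, .hi, .p10, .hi, .p10, .hi, .p, .hi, .p, .hi, .xii, .hi, .p10, .tau, .xii, .y1, .p, .xii, .y4, .y10,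
   .p, .xii, .y6, .taui, .p4, .xii, .p9, .xii, .hi, .y10, .p6, .tau, .xii, .p8, .xii, .y4, .p2, .xii, .y4, .tau, .xii,
   .y2, .p9],
  [.z, .Z9, .Z6, .Z2, .Z1, .Z0, .X10, .X9, .X7, .X6, .X2, .X1, .y10, .y8, .y7, .y6, .y4, .y2, .y1, .p8, .hi, .p7, .hi,
   .p8, .hi, .p6, .hi, .p9, .xii, .p, .xii, .y4, .p, .xii, .y5, .taui, .xii, .p, .xii, .y4, .y10, .hi, .xii, .y6,
   .taui, .p5, .xii, .p5, .xii, .y3, .y8, .hi, .xii, .taui, .xii, .p7, .xii, .y5, .p3, .taui, .xii, .p3, .hi, .p10]⟩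

theorem h80 : Hd F (g wAp) b80 := hdP (by decide +kernel)
theorem r80_0 : R9 F (g wAp) b80 [] 0 0 := .of (startP 0 1) (by decide +kernel)
theorem r80_1 : R9 F (g wAp) b80 [] 0 1 := .of (startP 0 1) (by decide +kernel)
theorem r80_2 : R9 F (g wAp) b80 [] 0 2 := .of (startP 0 1) (by decide +kernel)
theorem r80_3 : R9 F (g wAp) b80 [] 1 0 := .of (startP 0 1) (by decide +kernel)
theorem r80_4 : R9 F (g wAp) b80 [] 1 1 := .of (startP 0 1) (by decide +kernel)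
theorem r80_5 : R9 F (g wAp) b80 [] 1 2 := .of (startP 0 1) (by decide +kernel)
theorem r80_6 : R9 F (g wAp) b80 [] 2 0 := .of (startP 0 1) (by decide +kernel)
theorem r80_7 : R9 F (g wAp) b80 [] 2 1 := .of (startP 0 1) (by decide +kernel)
theorem r80_8 : R9 F (g wAp) b80 [] 2 2 := .of (startP 0 1) (by decide +kernel)
theorem g80 : Gd F (g wAp) (0, p80) [] :=
  good9 ok h80 r80_0 r80_1 r80_2 r80_3 r80_4 r80_5 r80_6 r80_7 r80_8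

def b81 : Wd := ⟨0, p81,
  [.z, .Z10, .Z8, .Z7, .Z6, .X7, .X0, .y8, .y7, .y4, .y3, .p9, .hi, .p8, .hi, .p9, .hi, .p, .hi, .p7, .hi, .xii, .p10,
   .xii, .p8, .y7, .taui, .xii, .p, .xii, .hi, .y8, .xii, .y3, .taui, .X0, .p4, .xii, .p7, .xii, .p9, .y10, .xii, .y5,
   .tau, .xii, .p6, .xii, .y1, .p6, .xii, .y9, .taui, .xii, .y7, .p, .xii],
  [.z, .Z9, .Z7, .Z6, .Z5, .Z3, .X8, .X7, .X6, .X4, .X0, .y10, .y6, .y3, .y2, .y1, .p8, .hi, .p4, .hi, .p5, .hi, .p8,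
   .hi, .p6, .xii, .p, .xii, .y10, .p4, .xii, .y8, .taui, .y1, .xii, .p10, .xii, .y1, .p10, .xii, .y2, .y4, .taui,
   .xii, .p7, .xii, .y5, .p4, .xii, .y4, .y7, .y8, .taui, .xii, .hi, .p5, .xii, .y10, .p7],
  [.z, .Z10, .Z9, .Z4, .Z1, .X10, .X9, .X8, .X7, .X6, .X0, .y8, .y6, .y5, .y4, .y3, .y2, .y1, .p4, .hi, .p4, .hi,
   .p10, .hi, .p3, .hi, .p4, .xii, .p3, .hi, .xii, .y2, .y8, .taui, .y1, .xii, .y6, .p10, .xii, .y8, .p10, .xii, .y4,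
   .y10, .taui, .xii, .y1, .p7, .xii, .y2, .p8, .xii, .y4, .y5, .y8, .y9, .taui, .xii, .y2, .p9, .xii, .p3, .y8, .xii,
   .tau, .xii, .p8]⟩

theorem h81 : Hd F (g wAp) b81 := hdP (by decide +kernel)
theorem r81_0 : R9 F (g wAp) b81 [] 0 0 := .of (startP 0 1) (by decide +kernel)
theorem r81_1 : R9 F (g wAp) b81 [] 0 1 := .of (startP 0 1) (by decide +kernel)
theorem r81_2 : R9 F (g wAp) b81 [] 0 2 := .of (startP 0 1) (by decide +kernel)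
theorem r81_3 : R9 F (g wAp) b81 [] 1 0 := .of (startP 0 1) (by decide +kernel)
theorem r81_4 : R9 F (g wAp) b81 [] 1 1 := .of (startP 0 1) (by decide +kernel)
theorem r81_5 : R9 F (g wAp) b81 [] 1 2 := .of (startP 0 1) (by decide +kernel)
theorem r81_6 : R9 F (g wAp) b81 [] 2 0 := .of (startP 0 1) (by decide +kernel)
theorem r81_7 : R9 F (g wAp) b81 [] 2 1 := .of (startP 0 1) (by decide +kernel)
theorem r81_8 : R9 F (g wAp) b81 [] 2 2 := .of (startP 0 2) (by decide +kernel)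
theorem g81 : Gd F (g wAp) (0, p81) [] :=
  good9 ok h81 r81_0 r81_1 r81_2 r81_3 r81_4 r81_5 r81_6 r81_7 r81_8

def b82 : Wd := ⟨0, p82,
  [.z, .Z9, .Z8, .Z7, .Z6, .Z3, .Z1, .Z0, .X10, .X9, .X6, .X5, .X2, .y9, .y7, .y6, .y5, .p3, .hi, .p10, .hi, .p2, .hi,
   .p10, .hi, .p3, .hi, .p4, .xii, .hi, .xii, .p2, .xii, .y6, .taui, .xii, .y1, .p, .xii, .p, .xii, .y5, .y10, .taui,
   .X0, .p7, .xii, .p5, .y7, .hi, .p3, .xii, .y10, .taui, .xii, .p4, .xii, .y1, .y8, .p3, .hi, .p8, .tau, .xii, .p2],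
  [.z, .Z10, .Z9, .Z7, .Z6, .Z4, .Z2, .Z1, .Z0, .X7, .X6, .X4, .X1, .y8, .y4, .p8, .hi, .p5, .hi, .p, .hi, .p, .hi,
   .p5, .hi, .p3, .xii, .hi, .p2, .hi, .taui, .xii, .p, .xii, .y4, .hi, .xii, .y6, .y10, .taui, .p4, .xii, .p9, .xii,
   .p2, .hi, .y4, .p7, .tau, .xii, .y2, .p4, .xii, .y8, .p4, .taui, .xii, .y2, .hi, .p6],
  [.z, .Z3, .Z2, .Z0, .X6, .X5, .X4, .X3, .X2, .y9, .y7, .y6, .y5, .y2, .y1, .p, .hi, .p3, .hi, .p7, .hi, .p8, .hi,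
   .p6, .hi, .p3, .hi, .xii, .y2, .p10, .xii, .y9, .p5, .xii, .taui, .xii, .p, .xii, .y4, .hi, .xii, .y3, .y4, .tau,
   .X0, .p4, .xii, .p5, .xii, .y4, .y6, .p, .hi, .tau, .xii, .p5, .xii, .p9, .y2, .xii, .y8, .tau, .xii, .p5]⟩

theorem h82 : Hd F (g wAp) b82 := hdP (by decide +kernel)
theorem r82_0 : R9 F (g wAp) b82 [] 0 0 := .of (startP 0 1) (by decide +kernel)
theorem r82_1 : R9 F (g wAp) b82 [] 0 1 := .of (startP 0 1) (by decide +kernel)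
theorem r82_2 : R9 F (g wAp) b82 [] 0 2 := .of (startP 0 1) (by decide +kernel)
theorem r82_3 : R9 F (g wAp) b82 [] 1 0 := .of (startP 0 1) (by decide +kernel)
theorem r82_4 : R9 F (g wAp) b82 [] 1 1 := .of (startP 0 1) (by decide +kernel)
theorem r82_5 : R9 F (g wAp) b82 [] 1 2 := .of (startP 0 1) (by decide +kernel)
theorem r82_6 : R9 F (g wAp) b82 [] 2 0 := .of (startP 0 1) (by decide +kernel)
theorem r82_7 : R9 F (g wAp) b82 [] 2 1 := .of (startP 0 1) (by decide +kernel)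
theorem r82_8 : R9 F (g wAp) b82 [] 2 2 := .of (startP 0 1) (by decide +kernel)
theorem g82 : Gd F (g wAp) (0, p82) [] :=
  good9 ok h82 r82_0 r82_1 r82_2 r82_3 r82_4 r82_5 r82_6 r82_7 r82_8

def b83 : Wd := ⟨0, p83,
  [.Z8, .Z6, .Z5, .Z3, .X10, .X9, .X7, .X6, .X3, .X2, .X1, .X0, .y10, .y9, .y7, .y6, .y5, .y4, .y2, .y1, .hi, .p6,
   .hi, .p9, .hi, .p10, .hi, .p5, .hi, .p4, .hi, .xii, .p10, .xii, .p5, .y3, .xii, .y9, .taui, .xii, .p, .xii, .y1,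
   .y10, .hi, .xii, .y1, .y10, .taui, .xii, .p, .xii, .y1, .y10, .hi, .xii, .y3, .taui, .hi, .xii, .p10, .xii, .y4,
   .taui, .xii, .p4, .xii, .y1, .y3, .p6, .taui, .xii, .y2, .p3],
  [.Z10, .Z6, .Z5, .Z4, .Z1, .Z0, .X9, .X8, .X7, .X6, .X3, .X0, .y10, .y1, .p10, .hi, .p10, .hi, .p5, .hi, .p10, .hi,
   .p4, .hi, .xii, .y2, .hi, .xii, .p10, .xii, .y9, .tau, .xii, .p, .xii, .y4, .hi, .xii, .y6, .y10, .taui, .X0, .p9,
   .xii, .y2, .p2, .xii, .y5, .p7, .tau, .xii, .hi, .p5, .xii, .tau, .xii, .p8],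
  [.z, .Z9, .Z7, .Z5, .Z4, .Z2, .Z1, .Z0, .X10, .X8, .X6, .X5, .X3, .X1, .X0, .y5, .y4, .y3, .y2, .y1, .p7, .hi, .p7,
   .hi, .p5, .hi, .p6, .hi, .p6, .hi, .p2, .hi, .xii, .p, .xii, .y6, .p4, .xii, .taui, .X0, .p2, .xii, .hi, .p8, .xii,
   .hi, .p2, .y2, .tau, .xii, .p6, .xii, .y2, .y4, .p, .taui, .xii, .y2, .p]⟩

theorem h83 : Hd F (g wAp) b83 := hdP (by decide +kernel)
theorem r83_0 : R9 F (g wAp) b83 [] 0 0 := .of (startP 0 1) (by decide +kernel)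
theorem r83_1 : R9 F (g wAp) b83 [] 0 1 := .of (startP 0 1) (by decide +kernel)
theorem r83_2 : R9 F (g wAp) b83 [] 0 2 := .of (startP 0 1) (by decide +kernel)
theorem r83_3 : R9 F (g wAp) b83 [] 1 0 := .of (startP 0 1) (by decide +kernel)
theorem r83_4 : R9 F (g wAp) b83 [] 1 1 := .of (startP 0 1) (by decide +kernel)
theorem r83_5 : R9 F (g wAp) b83 [] 1 2 := .of (startP 0 1) (by decide +kernel)
theorem r83_6 : R9 F (g wAp) b83 [] 2 0 := .of (startP 0 2) (by decide +kernel)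
theorem r83_7 : R9 F (g wAp) b83 [] 2 1 := .of (startP 0 1) (by decide +kernel)
theorem r83_8 : R9 F (g wAp) b83 [] 2 2 := .of (startP 0 1) (by decide +kernel)
theorem g83 : Gd F (g wAp) (0, p83) [] :=
  good9 ok h83 r83_0 r83_1 r83_2 r83_3 r83_4 r83_5 r83_6 r83_7 r83_8

def b84 : Wd := ⟨0, p84,
  [.z, .Z9, .Z8, .Z7, .Z3, .X10, .X7, .X4, .X3, .X2, .y7, .y4, .y3, .y1, .p9, .hi, .p8, .hi, .p4, .hi, .p8, .hi, .p4,
   .hi, .p8, .xii, .p10, .xii, .y4, .p10, .taui, .y1, .xii, .y2, .hi, .xii, .y10, .p10, .xii, .y9, .taui, .X0, .p9,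
   .xii, .p2, .y2, .xii, .y1, .p5, .hi, .tau, .xii, .p6, .xii, .p3, .hi, .y4, .p3, .taui, .xii, .y2, .p2, .hi],
  [.Z10, .Z7, .Z5, .Z4, .Z3, .Z0, .X10, .X9, .X8, .X5, .X4, .X3, .y5, .y4, .y3, .y1, .p7, .hi, .p3, .hi, .p5, .hi,
   .p10, .hi, .p10, .hi, .p10, .hi, .xii, .p, .xii, .y3, .y10, .taui, .p10, .xii, .y4, .p2, .hi, .xii, .y6, .p3, .tau,
   .X0, .p2, .xii, .p5, .xii, .hi, .y5, .y8, .taui, .xii, .p4, .xii, .p6, .y5, .y6, .tau, .xii, .y2, .p],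
  [.Z9, .Z7, .Z6, .Z5, .Z4, .Z3, .X9, .X8, .X7, .X5, .X4, .X0, .y10, .y8, .y4, .y2, .y1, .p5, .hi, .p9, .hi, .p9, .hi,
   .p6, .hi, .p9, .hi, .p3, .hi, .xii, .p, .xii, .p4, .xii, .y4, .y8, .tau, .xii, .y2, .p, .xii, .y1, .hi, .xii, .y2,
   .y3, .taui, .X0, .p5, .xii, .p3, .y5, .hi, .xii, .y6, .p2, .taui, .xii, .p4, .xii, .p2, .hi, .p10, .y5, .taui,
   .xii, .y2, .p7]⟩

theorem h84 : Hd F (g wAp) b84 := hdP (by decide +kernel)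
theorem r84_0 : R9 F (g wAp) b84 [] 0 0 := .of (startP 0 1) (by decide +kernel)
theorem r84_1 : R9 F (g wAp) b84 [] 0 1 := .of (startP 0 1) (by decide +kernel)
theorem r84_2 : R9 F (g wAp) b84 [] 0 2 := .of (startP 0 1) (by decide +kernel)
theorem r84_3 : R9 F (g wAp) b84 [] 1 0 := .of (startP 0 1) (by decide +kernel)
theorem r84_4 : R9 F (g wAp) b84 [] 1 1 := .of (startP 0 2) (by decide +kernel)
theorem r84_5 : R9 F (g wAp) b84 [] 1 2 := .of (startP 0 1) (by decide +kernel)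
theorem r84_6 : R9 F (g wAp) b84 [] 2 0 := .of (startP 0 1) (by decide +kernel)
theorem r84_7 : R9 F (g wAp) b84 [] 2 1 := .of (startP 0 1) (by decide +kernel)
theorem r84_8 : R9 F (g wAp) b84 [] 2 2 := .of (startP 0 1) (by decide +kernel)
theorem g84 : Gd F (g wAp) (0, p84) [] :=
  good9 ok h84 r84_0 r84_1 r84_2 r84_3 r84_4 r84_5 r84_6 r84_7 r84_8

def b85 : Wd := ⟨0, p85,
  [.Z10, .Z3, .X8, .X5, .X4, .X3, .X2, .X0, .y10, .y8, .y6, .y5, .y4, .y2, .hi, .p4, .hi, .p, .hi, .p6, .hi, .xii,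
   .p3, .hi, .xii, .p3, .hi, .taui, .xii, .p, .xii, .y1, .hi, .xii, .y6, .y10, .tau, .xii, .p10, .xii, .y7, .p2, .xii,
   .y10, .p6, .taui, .xii, .p5, .xii, .hi, .p5, .y1, .hi],
  [.Z10, .Z9, .Z8, .Z7, .Z6, .Z5, .Z1, .Z0, .X9, .X8, .X7, .X5, .X4, .X1, .y10, .y6, .y3, .p2, .hi, .p10, .hi, .p3,
   .hi, .p10, .hi, .p, .hi, .p4, .hi, .xii, .p2, .hi, .p3, .hi, .taui, .p7, .xii, .p4, .xii, .p2, .y3, .y7, .hi, .p7,
   .tau, .xii, .p5, .xii, .y4, .y6, .p2, .xii, .y10, .tau, .xii, .p3, .xii, .y7],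
  [.Z7, .Z4, .Z3, .Z2, .Z1, .X10, .X9, .X7, .X5, .X2, .y9, .y8, .y7, .y6, .y5, .y4, .y3, .y2, .y1, .hi, .p7, .hi, .p3,
   .hi, .p10, .hi, .p2, .hi, .p5, .xii, .y2, .p, .xii, .y3, .y4, .taui, .xii, .p, .xii, .y1, .y6, .hi, .xii, .y5,
   .y10, .taui, .X0, .p8, .xii, .y7, .p4, .hi, .xii, .p9, .y8, .tau, .xii, .p7, .xii, .y7, .p9, .xii, .y7, .tau, .xii,
   .p7]⟩

theorem h85 : Hd F (g wAp) b85 := hdP (by decide +kernel)
theorem r85_0 : R9 F (g wAp) b85 [] 0 0 := .of (startP 0 1) (by decide +kernel)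
theorem r85_1 : R9 F (g wAp) b85 [] 0 1 := .of (startP 0 1) (by decide +kernel)
theorem r85_2 : R9 F (g wAp) b85 [] 0 2 := .of (startP 0 1) (by decide +kernel)
theorem r85_3 : R9 F (g wAp) b85 [] 1 0 := .of (startP 0 1) (by decide +kernel)
theorem r85_4 : R9 F (g wAp) b85 [] 1 1 := .of (startP 0 1) (by decide +kernel)
theorem r85_5 : R9 F (g wAp) b85 [] 1 2 := .of (startP 0 1) (by decide +kernel)
theorem r85_6 : R9 F (g wAp) b85 [] 2 0 := .of (startP 0 1) (by decide +kernel)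
theorem r85_7 : R9 F (g wAp) b85 [] 2 1 := .of (startP 0 2) (by decide +kernel)
theorem r85_8 : R9 F (g wAp) b85 [] 2 2 := .of (startP 0 1) (by decide +kernel)
theorem g85 : Gd F (g wAp) (0, p85) [] :=
  good9 ok h85 r85_0 r85_1 r85_2 r85_3 r85_4 r85_5 r85_6 r85_7 r85_8

def b86 : Wd := ⟨0, p86,
  [.Z9, .Z7, .Z5, .Z4, .Z3, .X9, .X7, .X6, .X4, .X3, .X1, .y10, .y9, .y8, .y2, .p10, .hi, .p9, .hi, .p6, .hi, .p6,
   .hi, .p8, .hi, .p, .xii, .p5, .hi, .p5, .tau, .xii, .y6, .p, .xii, .y10, .p, .xii, .y4, .y7, .taui, .X0, .y1, .xii,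
   .p5, .xii, .hi, .p6, .y8, .xii, .tau, .xii, .p4, .xii, .y2, .y3, .y10, .tau, .xii, .p9],
  [.z, .Z10, .Z9, .Z8, .Z4, .Z3, .Z1, .Z0, .X10, .X4, .X1, .y10, .y9, .y8, .y7, .y6, .y4, .y3, .hi, .p4, .hi, .p10,
   .hi, .p4, .hi, .p7, .hi, .xii, .p, .xii, .p4, .xii, .y5, .y7, .taui, .xii, .p, .xii, .y1, .y10, .hi, .xii, .y6,
   .taui, .X0, .p10, .xii, .y4, .p5, .xii, .y3, .p7, .xii, .y7, .tau, .xii, .p9, .xii, .y3, .p5, .xii, .y2],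
  [.Z9, .Z7, .Z2, .Z1, .X9, .X8, .X6, .X5, .X4, .X1, .X0, .y10, .y8, .y2, .p3, .hi, .p7, .hi, .p5, .hi, .p8, .hi, .p2,
   .xii, .p, .xii, .hi, .y8, .xii, .y5, .taui, .xii, .p, .xii, .hi, .y8, .xii, .y6, .y10, .tau, .xii, .y6, .p5, .xii,
   .y3, .p7, .xii, .y7, .y10, .taui, .xii, .p10, .xii, .y10, .p3, .hi]⟩

theorem h86 : Hd F (g wAp) b86 := hdP (by decide +kernel)
theorem r86_0 : R9 F (g wAp) b86 [] 0 0 := .of (startP 0 1) (by decide +kernel)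
theorem r86_1 : R9 F (g wAp) b86 [] 0 1 := .of (startP 0 1) (by decide +kernel)
theorem r86_2 : R9 F (g wAp) b86 [] 0 2 := .of (startP 0 1) (by decide +kernel)
theorem r86_3 : R9 F (g wAp) b86 [] 1 0 := .of (startP 0 1) (by decide +kernel)
theorem r86_4 : R9 F (g wAp) b86 [] 1 1 := .of (startP 0 1) (by decide +kernel)
theorem r86_5 : R9 F (g wAp) b86 [] 1 2 := .of (startP 0 1) (by decide +kernel)
theorem r86_6 : R9 F (g wAp) b86 [] 2 0 := .of (startP 0 1) (by decide +kernel)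
theorem r86_7 : R9 F (g wAp) b86 [] 2 1 := .of (startP 0 1) (by decide +kernel)
theorem r86_8 : R9 F (g wAp) b86 [] 2 2 := .of (startP 0 1) (by decide +kernel)
theorem g86 : Gd F (g wAp) (0, p86) [] :=
  good9 ok h86 r86_0 r86_1 r86_2 r86_3 r86_4 r86_5 r86_6 r86_7 r86_8

def b87 : Wd := ⟨0, p87,
  [.Z7, .Z4, .Z3, .Z2, .X9, .X8, .X5, .X4, .X3, .X2, .X1, .y9, .y2, .y1, .hi, .p9, .hi, .p4, .hi, .p, .hi, .p4, .hi,
   .p4, .xii, .hi, .xii, .y8, .p2, .xii, .y1, .y8, .tau, .xii, .y1, .p, .xii, .p, .xii, .y1, .y2, .taui, .X0, .xii,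
   .p4, .xii, .y5, .p9, .xii, .y1, .p2, .tau, .xii, .p8, .xii, .y5, .p5, .y3, .hi, .p10, .taui, .xii, .p7],
  [.z, .Z10, .Z9, .Z7, .Z6, .Z4, .Z3, .Z2, .Z1, .Z0, .X10, .X9, .X3, .X2, .X0, .y3, .y2, .y1, .p9, .hi, .p7, .hi, .p4,
   .hi, .p5, .hi, .p5, .xii, .y2, .p10, .xii, .y9, .p5, .xii, .taui, .xii, .p, .xii, .y3, .y10, .hi, .xii, .y4, .y5,
   .tau, .p10, .xii, .hi, .p6, .xii, .y2, .p4, .taui, .xii, .p5, .xii, .y1, .p8, .y9, .xii, .y9, .taui, .xii, .y2,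
   .hi],
  [.z, .Z10, .Z9, .Z6, .Z5, .Z4, .Z3, .X10, .X9, .X7, .X5, .X4, .X3, .X2, .X0, .y8, .y7, .y6, .y5, .y4, .y3, .y2, .p6,
   .hi, .p8, .hi, .p8, .hi, .p4, .hi, .xii, .hi, .p10, .taui, .y1, .xii, .p10, .xii, .y8, .p10, .xii, .y3, .y5, .taui,
   .xii, .hi, .xii, .p9, .xii, .y10, .p3, .y10, .tau, .xii, .p5, .xii, .y6, .p9, .y1, .xii, .taui, .xii, .y2, .p10]⟩

theorem h87 : Hd F (g wAp) b87 := hdP (by decide +kernel)
theorem r87_0 : R9 F (g wAp) b87 [] 0 0 := .of (startP 0 1) (by decide +kernel)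
theorem r87_1 : R9 F (g wAp) b87 [] 0 1 := .of (startP 0 1) (by decide +kernel)
theorem r87_2 : R9 F (g wAp) b87 [] 0 2 := .of (startP 0 1) (by decide +kernel)
theorem r87_3 : R9 F (g wAp) b87 [] 1 0 := .of (startP 0 1) (by decide +kernel)
theorem r87_4 : R9 F (g wAp) b87 [] 1 1 := .of (startP 0 1) (by decide +kernel)
theorem r87_5 : R9 F (g wAp) b87 [] 1 2 := .of (startP 0 1) (by decide +kernel)
theorem r87_6 : R9 F (g wAp) b87 [] 2 0 := .of (startP 0 1) (by decide +kernel)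
theorem r87_7 : R9 F (g wAp) b87 [] 2 1 := .of (startP 0 1) (by decide +kernel)
theorem r87_8 : R9 F (g wAp) b87 [] 2 2 := .of (startP 0 1) (by decide +kernel)
theorem g87 : Gd F (g wAp) (0, p87) [] :=
  good9 ok h87 r87_0 r87_1 r87_2 r87_3 r87_4 r87_5 r87_6 r87_7 r87_8

def b88 : Wd := ⟨0, p88,
  [.Z9, .Z8, .Z3, .Z0, .X10, .X9, .X6, .X3, .X2, .y8, .y7, .y5, .y4, .p5, .hi, .p3, .hi, .p4, .hi, .p7, .hi, .p9, .hi,
   .p9, .xii, .y2, .p, .xii, .p2, .hi, .tau, .X0, .y1, .p6, .xii, .p, .xii, .y10, .p4, .taui, .X0, .p10, .xii, .p9,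
   .xii, .y2, .p8, .tau, .xii, .p4, .xii, .p5, .y2, .y7, .hi, .tau, .xii, .hi, .p8],
  [.z, .Z10, .Z9, .Z8, .Z4, .Z3, .Z2, .X10, .X8, .X7, .X6, .X4, .X3, .X1, .y10, .y8, .y6, .y5, .p10, .hi, .p4, .hi,
   .p10, .hi, .p9, .hi, .p6, .hi, .p3, .hi, .xii, .p, .xii, .hi, .p10, .y8, .taui, .y1, .xii, .p10, .xii, .y1, .p10,
   .y9, .xii, .y10, .taui, .X0, .p10, .xii, .y10, .p8, .xii, .y1, .p3, .tau, .xii, .p5, .xii, .p9, .y9, .xii, .y4,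
   .taui],
  [.z, .Z9, .Z8, .Z4, .X7, .X6, .X5, .X4, .X3, .X2, .y9, .y8, .y4, .y3, .p10, .hi, .p3, .hi, .p10, .hi, .p6, .hi, .p7,
   .hi, .p, .xii, .y2, .p3, .hi, .p8, .hi, .p6, .tau, .xii, .y2, .p, .xii, .y2, .hi, .xii, .y3, .tau, .p6, .xii, .p5,
   .xii, .hi, .p, .y1, .hi, .p5, .tau, .xii, .p9, .xii, .y2, .p, .xii, .y8, .taui, .xii, .hi, .xii, .y6]⟩

theorem h88 : Hd F (g wAp) b88 := hdP (by decide +kernel)
theorem r88_0 : R9 F (g wAp) b88 [] 0 0 := .of (startP 0 1) (by decide +kernel)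
theorem r88_1 : R9 F (g wAp) b88 [] 0 1 := .of (startP 0 1) (by decide +kernel)
theorem r88_2 : R9 F (g wAp) b88 [] 0 2 := .of (startP 0 1) (by decide +kernel)
theorem r88_3 : R9 F (g wAp) b88 [] 1 0 := .of (startP 0 1) (by decide +kernel)
theorem r88_4 : R9 F (g wAp) b88 [] 1 1 := .of (startP 0 1) (by decide +kernel)
theorem r88_5 : R9 F (g wAp) b88 [] 1 2 := .of (startP 0 1) (by decide +kernel)
theorem r88_6 : R9 F (g wAp) b88 [] 2 0 := .of (startP 0 1) (by decide +kernel)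
theorem r88_7 : R9 F (g wAp) b88 [] 2 1 := .of (startP 0 1) (by decide +kernel)
theorem r88_8 : R9 F (g wAp) b88 [] 2 2 := .of (startP 0 1) (by decide +kernel)
theorem g88 : Gd F (g wAp) (0, p88) [] :=
  good9 ok h88 r88_0 r88_1 r88_2 r88_3 r88_4 r88_5 r88_6 r88_7 r88_8

def b89 : Wd := ⟨0, p89,
  [.z, .Z8, .Z4, .Z3, .Z1, .X10, .X7, .X6, .X4, .X3, .y4, .p, .hi, .p8, .hi, .p8, .hi, .p7, .hi, .p10, .hi, .p6, .xii,
   .y2, .p3, .hi, .taui, .xii, .y1, .p, .xii, .y2, .p, .xii, .y3, .y10, .tau, .X0, .xii, .y1, .p5, .xii, .y3, .p,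
   .xii, .y1, .hi, .tau, .xii, .y2, .p5, .xii, .p7, .xii, .y2, .tau, .xii, .p5, .xii, .y1],
  [.z, .Z6, .Z5, .Z3, .Z2, .Z0, .X9, .X6, .X5, .X3, .X2, .X0, .y9, .y8, .y6, .y5, .y2, .hi, .p7, .hi, .p10, .hi, .p5,
   .hi, .p3, .hi, .xii, .y2, .hi, .p8, .hi, .p8, .taui, .xii, .y6, .p, .xii, .y10, .p, .xii, .y4, .y5, .taui, .p10,
   .xii, .y6, .p9, .xii, .y8, .y10, .hi, .tau, .xii, .p3, .xii, .y7, .p, .xii, .y6, .taui, .xii, .hi, .xii, .y6],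
  [.z, .Z6, .Z5, .Z1, .X7, .X6, .X2, .X1, .y10, .y8, .y5, .y4, .p10, .hi, .p6, .hi, .p7, .hi, .p9, .hi, .p, .hi, .p7,
   .xii, .p10, .xii, .y5, .p10, .xii, .y10, .taui, .y1, .xii, .y2, .hi, .xii, .p10, .xii, .y2, .y4, .tau, .X0, .p10,
   .xii, .y10, .p2, .xii, .p5, .y7, .hi, .p3, .tau, .xii, .p3, .xii, .p, .y1]⟩

theorem h89 : Hd F (g wAp) b89 := hdP (by decide +kernel)
theorem r89_0 : R9 F (g wAp) b89 [] 0 0 := .of (startP 0 1) (by decide +kernel)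
theorem r89_1 : R9 F (g wAp) b89 [] 0 1 := .of (startP 0 1) (by decide +kernel)
theorem r89_2 : R9 F (g wAp) b89 [] 0 2 := .of (startP 0 2) (by decide +kernel)
theorem r89_3 : R9 F (g wAp) b89 [] 1 0 := .of (startP 0 1) (by decide +kernel)
theorem r89_4 : R9 F (g wAp) b89 [] 1 1 := .of (startP 0 1) (by decide +kernel)
theorem r89_5 : R9 F (g wAp) b89 [] 1 2 := .of (startP 0 1) (by decide +kernel)
theorem r89_6 : R9 F (g wAp) b89 [] 2 0 := .of (startP 0 1) (by decide +kernel)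
theorem r89_7 : R9 F (g wAp) b89 [] 2 1 := .of (startP 0 1) (by decide +kernel)
theorem r89_8 : R9 F (g wAp) b89 [] 2 2 := .of (startP 0 1) (by decide +kernel)
theorem g89 : Gd F (g wAp) (0, p89) [] :=
  good9 ok h89 r89_0 r89_1 r89_2 r89_3 r89_4 r89_5 r89_6 r89_7 r89_8

theorem all : AllG F (g wAp) LP8 :=
  .cons g80 (.cons g81 (.cons g82 (.cons g83 (.cons g84 (.cons g85 (.cons g86 (.cons g87 (.cons g88 (.cons g89 (.nil))))))))))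

end Cfsg.Agent.BX.No33.Bk.P8
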