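import Cfsg.Agent.BX.No33.Cheap
set_option linter.all false

/-!
# Tests, pure case, part 9 (helper5; generated)
-/

set_option autoImplicit false
set_option maxRecDepth 100000
set_option Elab.async false

namespace Cfsg.Agent.BX.No33.Bk.P9

open Cfsg.Agent.H819.U33 Cfsg.Agent.BX.No33.Front

def b90 : Wd := ⟨0, p90,
  [.Z9, .Z8, .Z7, .Z6, .Z4, .Z2, .Z1, .X10, .X4, .X3, .X2, .X0, .y9, .y7, .y4, .y3, .y2, .y1, .hi, .p9, .hi, .p3, .hi,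
   .p, .hi, .p7, .hi, .p10, .hi, .p6, .xii, .p, .xii, .p4, .xii, .y8, .taui, .xii, .y2, .p, .xii, .y1, .hi, .xii, .y4,
   .y7, .tau, .X0, .y1, .xii, .p5, .xii, .y7, .p5, .xii, .y5, .tau, .xii, .p7, .xii, .y1, .p5, .hi, .tau, .xii, .y2,
   .p8],
  [.z, .Z10, .Z8, .Z7, .Z5, .Z3, .Z2, .Z0, .X10, .X9, .X8, .X4, .X2, .y10, .y8, .y5, .y4, .y3, .hi, .p6, .hi, .p9,
   .hi, .p5, .hi, .p8, .hi, .p5, .hi, .xii, .hi, .p8, .tau, .xii, .p, .xii, .y1, .hi, .xii, .y5, .y9, .taui, .p4,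
   .xii, .p8, .xii, .y1, .p5, .y1, .hi, .p6, .taui, .xii, .p5, .hi, .xii, .p8, .y1, .tau, .xii, .y2, .p7],
  [.Z7, .Z5, .Z4, .Z3, .Z0, .X10, .X9, .X8, .X6, .X5, .X4, .X0, .y10, .y9, .y8, .y7, .y5, .p2, .hi, .p, .hi, .p5, .hi,
   .p7, .hi, .p9, .hi, .p, .hi, .xii, .p10, .hi, .p6, .hi, .p2, .taui, .xii, .y1, .p, .xii, .y2, .p, .xii, .y3, .y4,
   .tau, .p7, .xii, .p7, .xii, .y4, .p9, .tau, .xii, .p7, .xii, .y10, .p3, .y9, .tau, .xii, .y2, .p10, .hi, .p8]⟩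

theorem h90 : Hd F (g wAp) b90 := hdP (by decide +kernel)
theorem r90_0 : R9 F (g wAp) b90 [] 0 0 := .of (startP 0 1) (by decide +kernel)
theorem r90_1 : R9 F (g wAp) b90 [] 0 1 := .of (startP 0 1) (by decide +kernel)
theorem r90_2 : R9 F (g wAp) b90 [] 0 2 := .of (startP 0 1) (by decide +kernel)
theorem r90_3 : R9 F (g wAp) b90 [] 1 0 := .of (startP 0 1) (by decide +kernel)
theorem r90_4 : R9 F (g wAp) b90 [] 1 1 := .of (startP 0 1) (by decide +kernel)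
theorem r90_5 : R9 F (g wAp) b90 [] 1 2 := .of (startP 0 1) (by decide +kernel)
theorem r90_6 : R9 F (g wAp) b90 [] 2 0 := .of (startP 0 1) (by decide +kernel)
theorem r90_7 : R9 F (g wAp) b90 [] 2 1 := .of (startP 0 1) (by decide +kernel)
theorem r90_8 : R9 F (g wAp) b90 [] 2 2 := .of (startP 0 1) (by decide +kernel)
theorem g90 : Gd F (g wAp) (0, p90) [] :=
  good9 ok h90 r90_0 r90_1 r90_2 r90_3 r90_4 r90_5 r90_6 r90_7 r90_8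

def b91 : Wd := ⟨0, p91,
  [.z, .Z10, .Z8, .Z7, .Z3, .Z2, .Z1, .X10, .X7, .X6, .X3, .X1, .X0, .y8, .y3, .y1, .p9, .hi, .p4, .hi, .p4, .hi, .p7,
   .hi, .p9, .xii, .p3, .hi, .xii, .y2, .tau, .y1, .xii, .p10, .xii, .y5, .p10, .xii, .taui, .p7, .xii, .y6, .p8,
   .xii, .y1, .y7, .p8, .tau, .xii, .p3, .xii, .p4, .y1, .xii, .y4, .taui, .xii, .p4],
  [.Z10, .Z9, .Z6, .Z5, .X10, .X9, .X4, .X3, .X2, .y8, .y7, .y6, .y3, .p8, .hi, .p4, .hi, .p8, .hi, .p8, .hi, .p5,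
   .hi, .p9, .xii, .p, .hi, .xii, .y5, .taui, .y1, .xii, .y1, .hi, .xii, .p10, .xii, .y8, .tau, .X0, .p2, .xii, .p5,
   .xii, .y10, .p4, .y9, .tau, .xii, .p9, .xii, .y1, .p6, .tau, .xii, .y2, .hi, .p7],
  [.z, .Z10, .Z8, .Z6, .Z5, .Z4, .Z2, .Z0, .X8, .X7, .X6, .X5, .X4, .X1, .y10, .y6, .y5, .y2, .y1, .p9, .hi, .p8, .hi,
   .p4, .hi, .p, .hi, .p4, .hi, .p10, .hi, .xii, .p, .xii, .p4, .xii, .y4, .y8, .taui, .xii, .y1, .p, .xii, .y2, .p,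
   .xii, .y3, .y10, .taui, .X0, .p4, .xii, .p7, .xii, .y1, .p, .hi, .p3, .tau, .xii, .p7, .xii, .y1, .y5, .y7, .taui,
   .xii]⟩

theorem h91 : Hd F (g wAp) b91 := hdP (by decide +kernel)
theorem r91_0 : R9 F (g wAp) b91 [] 0 0 := .of (startP 0 1) (by decide +kernel)
theorem r91_1 : R9 F (g wAp) b91 [] 0 1 := .of (startP 0 1) (by decide +kernel)
theorem r91_2 : R9 F (g wAp) b91 [] 0 2 := .of (startP 0 1) (by decide +kernel)
theorem r91_3 : R9 F (g wAp) b91 [] 1 0 := .of (startP 0 1) (by decide +kernel)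
theorem r91_4 : R9 F (g wAp) b91 [] 1 1 := .of (startP 0 1) (by decide +kernel)
theorem r91_5 : R9 F (g wAp) b91 [] 1 2 := .of (startP 0 1) (by decide +kernel)
theorem r91_6 : R9 F (g wAp) b91 [] 2 0 := .of (startP 0 1) (by decide +kernel)
theorem r91_7 : R9 F (g wAp) b91 [] 2 1 := .of (startP 0 1) (by decide +kernel)
theorem r91_8 : R9 F (g wAp) b91 [] 2 2 := .of (startP 0 1) (by decide +kernel)
theorem g91 : Gd F (g wAp) (0, p91) [] :=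
  good9 ok h91 r91_0 r91_1 r91_2 r91_3 r91_4 r91_5 r91_6 r91_7 r91_8

def b92 : Wd := ⟨0, p92,
  [.Z10, .Z8, .Z7, .Z3, .Z2, .Z1, .Z0, .X9, .X8, .X7, .X6, .X4, .X3, .X2, .X0, .y10, .y9, .p7, .hi, .p, .hi, .p3, .hi,
   .p9, .hi, .p6, .hi, .p5, .xii, .p10, .xii, .y9, .p3, .hi, .tau, .y1, .xii, .p10, .xii, .y8, .p10, .xii, .y4, .y9,
   .tau, .X0, .p4, .xii, .y6, .p4, .xii, .p, .hi, .p7, .tau, .xii, .y2, .p8, .xii, .y4, .taui, .xii, .p],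
  [.z, .Z8, .Z7, .Z4, .Z0, .X10, .X7, .X6, .X4, .X3, .X2, .X1, .y9, .y5, .y4, .p8, .hi, .p10, .hi, .p5, .hi, .p7, .hi,
   .p6, .hi, .p6, .hi, .xii, .hi, .xii, .p5, .y7, .tau, .xii, .y1, .p, .xii, .p, .y7, .xii, .y4, .y5, .tau, .xii, .y6,
   .p9, .xii, .p2, .y6, .xii, .y5, .tau, .xii, .p5, .xii, .p9, .y6, .tau, .xii, .p3],
  [.z, .Z10, .Z9, .Z8, .Z7, .Z1, .X9, .X8, .X1, .y9, .y5, .y4, .y3, .y2, .y1, .p10, .hi, .p9, .hi, .p10, .hi, .p4,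
   .xii, .y2, .p10, .xii, .y10, .taui, .y1, .xii, .p10, .xii, .y4, .p10, .xii, .y9, .tau, .X0, .xii, .p7, .xii, .y6,
   .p9, .xii, .y5, .y10, .hi, .taui, .xii, .p9, .xii, .y9, .p8, .xii, .y4, .taui, .xii, .p6, .xii, .y4]⟩

theorem h92 : Hd F (g wAp) b92 := hdP (by decide +kernel)
theorem r92_0 : R9 F (g wAp) b92 [] 0 0 := .of (startP 0 1) (by decide +kernel)
theorem r92_1 : R9 F (g wAp) b92 [] 0 1 := .of (startP 0 1) (by decide +kernel)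
theorem r92_2 : R9 F (g wAp) b92 [] 0 2 := .of (startP 0 1) (by decide +kernel)
theorem r92_3 : R9 F (g wAp) b92 [] 1 0 := .of (startP 0 1) (by decide +kernel)
theorem r92_4 : R9 F (g wAp) b92 [] 1 1 := .of (startP 0 1) (by decide +kernel)
theorem r92_5 : R9 F (g wAp) b92 [] 1 2 := .of (startP 0 1) (by decide +kernel)
theorem r92_6 : R9 F (g wAp) b92 [] 2 0 := .of (startP 0 1) (by decide +kernel)
theorem r92_7 : R9 F (g wAp) b92 [] 2 1 := .of (startP 0 1) (by decide +kernel)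
theorem r92_8 : R9 F (g wAp) b92 [] 2 2 := .of (startP 0 1) (by decide +kernel)
theorem g92 : Gd F (g wAp) (0, p92) [] :=
  good9 ok h92 r92_0 r92_1 r92_2 r92_3 r92_4 r92_5 r92_6 r92_7 r92_8

def b93 : Wd := ⟨0, p93,
  [.z, .Z8, .Z4, .Z3, .Z1, .X10, .X9, .X5, .X3, .y10, .y7, .y6, .y5, .y4, .y3, .y2, .y1, .p4, .hi, .p8, .hi, .p9, .hi,
   .p, .hi, .p10, .hi, .xii, .p, .xii, .y2, .p7, .tau, .y1, .xii, .p10, .xii, .y2, .p10, .xii, .taui, .hi, .xii, .p9,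
   .xii, .p2, .hi, .p10, .y7, .taui, .xii, .y2, .p7, .xii, .y1, .hi, .p7, .tau, .xii, .y2, .hi, .p6],
  [.z, .Z10, .Z7, .Z4, .Z0, .X10, .X9, .X6, .X4, .X1, .y9, .y8, .y5, .y4, .y3, .y2, .p8, .hi, .p4, .hi, .p8, .hi,
   .p10, .hi, .p6, .hi, .p, .xii, .p10, .xii, .y10, .tau, .y1, .xii, .p10, .xii, .p10, .y7, .xii, .y4, .y10, .tau,
   .X0, .xii, .p8, .xii, .y5, .y9, .p4, .xii, .y1, .y8, .y9, .taui, .xii, .p5, .xii, .p4, .y8, .hi, .p9],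
  [.Z8, .Z6, .Z3, .Z1, .Z0, .X10, .X9, .X8, .X4, .X1, .y7, .y4, .p8, .hi, .p6, .hi, .p3, .hi, .p6, .hi, .p4, .hi, .p4,
   .xii, .p, .xii, .y10, .p7, .xii, .tau, .xii, .y6, .p, .xii, .y2, .p, .xii, .y7, .y10, .taui, .y1, .p6, .xii, .p8,
   .xii, .y1, .p, .taui, .xii, .p5, .xii, .p2, .xii, .y6, .tau, .xii, .y6, .p3, .xii]⟩

theorem h93 : Hd F (g wAp) b93 := hdP (by decide +kernel)
theorem r93_0 : R9 F (g wAp) b93 [] 0 0 := .of (startP 0 1) (by decide +kernel)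
theorem r93_1 : R9 F (g wAp) b93 [] 0 1 := .of (startP 0 1) (by decide +kernel)
theorem r93_2 : R9 F (g wAp) b93 [] 0 2 := .of (startP 0 1) (by decide +kernel)
theorem r93_3 : R9 F (g wAp) b93 [] 1 0 := .of (startP 0 2) (by decide +kernel)
theorem r93_4 : R9 F (g wAp) b93 [] 1 1 := .of (startP 0 1) (by decide +kernel)
theorem r93_5 : R9 F (g wAp) b93 [] 1 2 := .of (startP 0 1) (by decide +kernel)
theorem r93_6 : R9 F (g wAp) b93 [] 2 0 := .of (startP 0 1) (by decide +kernel)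
theorem r93_7 : R9 F (g wAp) b93 [] 2 1 := .of (startP 0 1) (by decide +kernel)
theorem r93_8 : R9 F (g wAp) b93 [] 2 2 := .of (startP 0 1) (by decide +kernel)
theorem g93 : Gd F (g wAp) (0, p93) [] :=
  good9 ok h93 r93_0 r93_1 r93_2 r93_3 r93_4 r93_5 r93_6 r93_7 r93_8

def b94 : Wd := ⟨0, p94,
  [.Z10, .Z9, .Z7, .Z6, .Z5, .Z3, .Z1, .X10, .X9, .X7, .X5, .X4, .X2, .y7, .y6, .y5, .y3, .y1, .p9, .hi, .p4, .hi,
   .p4, .hi, .p, .hi, .xii, .p3, .hi, .xii, .p4, .y9, .hi, .p2, .taui, .y1, .xii, .p10, .xii, .y8, .p10, .xii, .y2,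
   .y8, .tau, .X0, .p10, .xii, .y6, .p5, .xii, .p3, .taui, .xii, .y2, .p8, .xii, .y8, .p2, .xii, .y7, .tau, .xii, .p4],
  [.z, .Z10, .Z8, .Z7, .Z6, .Z1, .X10, .X7, .X6, .X5, .X4, .X3, .X0, .y10, .y9, .y6, .y2, .hi, .p2, .hi, .p7, .hi,
   .p10, .hi, .p8, .hi, .p10, .xii, .y2, .p10, .xii, .taui, .xii, .y2, .p, .xii, .y1, .hi, .xii, .y7, .taui, .X0, .p5,
   .xii, .y8, .p7, .xii, .y5, .y9, .p4, .tau, .xii, .p10, .xii, .p5, .xii, .y7],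
  [.Z10, .Z7, .Z6, .Z4, .Z3, .Z1, .X10, .X9, .X8, .X2, .X1, .X0, .y6, .y5, .y4, .y3, .y2, .p2, .hi, .p6, .hi, .p10,
   .hi, .p7, .xii, .y2, .p2, .hi, .xii, .taui, .y1, .xii, .y1, .hi, .xii, .p10, .xii, .y1, .y3, .taui, .xii, .p, .xii,
   .y4, .hi, .xii, .y7, .y10, .taui, .p7, .xii, .p5, .xii, .y8, .taui, .xii, .p7, .xii, .y9, .p10, .y8, .hi, .p, .tau,
   .xii, .y2, .p7]⟩

theorem h94 : Hd F (g wAp) b94 := hdP (by decide +kernel)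
theorem r94_0 : R9 F (g wAp) b94 [] 0 0 := .of (startP 0 1) (by decide +kernel)
theorem r94_1 : R9 F (g wAp) b94 [] 0 1 := .of (startP 0 1) (by decide +kernel)
theorem r94_2 : R9 F (g wAp) b94 [] 0 2 := .of (startP 0 1) (by decide +kernel)
theorem r94_3 : R9 F (g wAp) b94 [] 1 0 := .of (startP 0 1) (by decide +kernel)
theorem r94_4 : R9 F (g wAp) b94 [] 1 1 := .of (startP 0 1) (by decide +kernel)
theorem r94_5 : R9 F (g wAp) b94 [] 1 2 := .of (startP 0 1) (by decide +kernel)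
theorem r94_6 : R9 F (g wAp) b94 [] 2 0 := .of (startP 0 1) (by decide +kernel)
theorem r94_7 : R9 F (g wAp) b94 [] 2 1 := .of (startP 0 1) (by decide +kernel)
theorem r94_8 : R9 F (g wAp) b94 [] 2 2 := .of (startP 0 1) (by decide +kernel)
theorem g94 : Gd F (g wAp) (0, p94) [] :=
  good9 ok h94 r94_0 r94_1 r94_2 r94_3 r94_4 r94_5 r94_6 r94_7 r94_8

def b95 : Wd := ⟨0, p95,
  [.z, .Z10, .Z9, .Z7, .Z3, .Z0, .X10, .X8, .X6, .X4, .X3, .X2, .X1, .X0, .y7, .y6, .y3, .y2, .y1, .p4, .hi, .p6, .hi,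
   .p, .hi, .p7, .hi, .p7, .hi, .p3, .xii, .p, .xii, .hi, .p10, .y9, .tau, .xii, .p, .xii, .y3, .y10, .hi, .xii, .y7,
   .tau, .X0, .p5, .xii, .y9, .p2, .hi, .xii, .y2, .taui, .xii, .p9, .xii, .y1, .hi, .y5, .p10, .tau, .xii, .y2, .p2],
  [.Z9, .Z8, .Z7, .Z6, .Z1, .Z0, .X6, .X5, .X4, .X3, .X1, .y10, .y9, .y8, .y6, .y5, .y4, .y3, .y2, .y1, .p10, .hi,
   .p8, .hi, .p4, .hi, .p6, .hi, .p9, .hi, .p8, .xii, .p10, .xii, .y10, .p9, .xii, .y1, .y9, .taui, .xii, .p, .xii,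
   .y3, .hi, .xii, .y2, .y7, .tau, .X0, .p4, .xii, .y4, .p, .xii, .p2, .hi, .p5, .taui, .xii, .p9, .xii, .y1, .y4,
   .p7],
  [.Z10, .Z7, .Z3, .X9, .X8, .X7, .X6, .X2, .y10, .y9, .y5, .y4, .y3, .y2, .p10, .hi, .p6, .hi, .p8, .hi, .p10, .hi,
   .p7, .hi, .p9, .xii, .p, .xii, .y4, .hi, .xii, .y1, .taui, .xii, .p, .xii, .y3, .hi, .xii, .y6, .tau, .hi, .xii,
   .p10, .xii, .y9, .p3, .hi, .p9, .tau, .xii, .y2, .p5, .xii, .y2, .hi, .p6, .taui, .xii, .y2, .hi, .p10]⟩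

theorem h95 : Hd F (g wAp) b95 := hdP (by decide +kernel)
theorem r95_0 : R9 F (g wAp) b95 [] 0 0 := .of (startP 0 1) (by decide +kernel)
theorem r95_1 : R9 F (g wAp) b95 [] 0 1 := .of (startP 0 1) (by decide +kernel)
theorem r95_2 : R9 F (g wAp) b95 [] 0 2 := .of (startP 0 1) (by decide +kernel)
theorem r95_3 : R9 F (g wAp) b95 [] 1 0 := .of (startP 0 1) (by decide +kernel)
theorem r95_4 : R9 F (g wAp) b95 [] 1 1 := .of (startP 0 1) (by decide +kernel)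
theorem r95_5 : R9 F (g wAp) b95 [] 1 2 := .of (startP 0 1) (by decide +kernel)
theorem r95_6 : R9 F (g wAp) b95 [] 2 0 := .of (startP 0 1) (by decide +kernel)
theorem r95_7 : R9 F (g wAp) b95 [] 2 1 := .of (startP 0 1) (by decide +kernel)
theorem r95_8 : R9 F (g wAp) b95 [] 2 2 := .of (startP 0 1) (by decide +kernel)
theorem g95 : Gd F (g wAp) (0, p95) [] :=
  good9 ok h95 r95_0 r95_1 r95_2 r95_3 r95_4 r95_5 r95_6 r95_7 r95_8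

def b96 : Wd := ⟨0, p96,
  [.Z9, .Z8, .Z6, .Z5, .Z3, .Z1, .X8, .X6, .X3, .X2, .X0, .y9, .y7, .y5, .y3, .y1, .p3, .hi, .p4, .hi, .p5, .hi, .p8,
   .hi, .p10, .hi, .p10, .xii, .p, .xii, .p9, .y7, .tau, .xii, .p, .xii, .y3, .hi, .xii, .y7, .taui, .X0, .p6, .xii,
   .hi, .p8, .xii, .p9, .y4, .y10, .tau, .xii, .p8, .xii, .y7, .p2, .xii, .y7, .y8, .taui, .xii, .p4, .hi],
  [.Z10, .Z6, .Z3, .Z2, .Z1, .X7, .X6, .X1, .X0, .y10, .y9, .y8, .y7, .y2, .y1, .p2, .hi, .p7, .hi, .p6, .hi, .p8,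
   .hi, .p4, .hi, .xii, .hi, .p8, .xii, .y4, .y9, .tau, .xii, .y1, .p, .xii, .p, .xii, .y7, .taui, .p7, .xii, .p4,
   .xii, .p2, .y5, .tau, .xii, .p4, .xii, .p9, .y9, .xii, .y9, .y10, .tau],
  [.Z10, .Z7, .Z4, .Z3, .Z2, .Z1, .Z0, .X10, .X9, .X7, .y10, .y7, .y6, .y5, .y2, .y1, .p4, .hi, .p9, .hi, .p8, .hi,
   .p4, .hi, .p6, .hi, .p8, .hi, .xii, .y2, .p3, .hi, .xii, .y1, .y3, .tau, .y1, .xii, .p10, .xii, .y1, .y9, .p10,
   .xii, .y4, .taui, .p7, .xii, .p7, .xii, .p4, .y1, .y7, .hi, .tau, .xii, .p9, .xii, .y2, .p, .xii, .y8, .y10, .tau,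
   .xii, .p9, .xii, .y2]⟩

theorem h96 : Hd F (g wAp) b96 := hdP (by decide +kernel)
theorem r96_0 : R9 F (g wAp) b96 [] 0 0 := .of (startP 0 1) (by decide +kernel)
theorem r96_1 : R9 F (g wAp) b96 [] 0 1 := .of (startP 0 1) (by decide +kernel)
theorem r96_2 : R9 F (g wAp) b96 [] 0 2 := .of (startP 0 1) (by decide +kernel)
theorem r96_3 : R9 F (g wAp) b96 [] 1 0 := .of (startP 0 2) (by decide +kernel)
theorem r96_4 : R9 F (g wAp) b96 [] 1 1 := .of (startP 0 1) (by decide +kernel)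
theorem r96_5 : R9 F (g wAp) b96 [] 1 2 := .of (startP 0 1) (by decide +kernel)
theorem r96_6 : R9 F (g wAp) b96 [] 2 0 := .of (startP 0 1) (by decide +kernel)
theorem r96_7 : R9 F (g wAp) b96 [] 2 1 := .of (startP 0 1) (by decide +kernel)
theorem r96_8 : R9 F (g wAp) b96 [] 2 2 := .of (startP 0 1) (by decide +kernel)
theorem g96 : Gd F (g wAp) (0, p96) [] :=
  good9 ok h96 r96_0 r96_1 r96_2 r96_3 r96_4 r96_5 r96_6 r96_7 r96_8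

def b97 : Wd := ⟨0, p97,
  [.Z9, .Z7, .Z5, .Z0, .X9, .X8, .X5, .X4, .X3, .X2, .X1, .X0, .y10, .y8, .y5, .y4, .y3, .y1, .hi, .p6, .hi, .p9, .hi,
   .p3, .hi, .p9, .hi, .p3, .hi, .p9, .xii, .y2, .p, .xii, .y3, .y10, .taui, .y1, .xii, .p10, .xii, .y2, .p10, .xii,
   .y8, .y10, .tau, .p2, .xii, .p5, .xii, .y4, .y10, .p, .hi, .tau, .xii, .hi, .p6, .xii, .y4, .hi, .tau, .xii, .y2,
   .hi, .p6],
  [.z, .Z10, .Z8, .Z7, .Z3, .X10, .X9, .X8, .X6, .X1, .y10, .y9, .y8, .y2, .hi, .p3, .hi, .p, .hi, .p, .hi, .p10, .hi,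
   .xii, .p10, .xii, .y6, .p5, .xii, .y8, .taui, .y1, .xii, .p10, .xii, .p10, .y7, .xii, .y4, .y10, .taui, .X0, .xii,
   .p6, .xii, .y9, .p6, .xii, .p6, .tau, .xii, .p5, .hi, .xii, .y3, .p, .tau, .xii, .y2, .p7],
  [.Z9, .Z8, .Z7, .Z6, .Z2, .X10, .X7, .X5, .X2, .X1, .y9, .y7, .y6, .y5, .y2, .hi, .p9, .hi, .p9, .hi, .p7, .hi, .p8,
   .hi, .p3, .hi, .p, .xii, .p3, .hi, .xii, .p10, .y1, .taui, .y1, .xii, .p10, .xii, .y4, .p10, .xii, .y1, .y5, .taui,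
   .p10, .xii, .p8, .xii, .p4, .y1, .y2, .tau, .xii, .y2, .p4, .xii, .y3, .p5, .xii, .y10, .tau]⟩

theorem h97 : Hd F (g wAp) b97 := hdP (by decide +kernel)
theorem r97_0 : R9 F (g wAp) b97 [] 0 0 := .of (startP 0 1) (by decide +kernel)
theorem r97_1 : R9 F (g wAp) b97 [] 0 1 := .of (startP 0 2) (by decide +kernel)
theorem r97_2 : R9 F (g wAp) b97 [] 0 2 := .of (startP 0 1) (by decide +kernel)
theorem r97_3 : R9 F (g wAp) b97 [] 1 0 := .of (startP 0 1) (by decide +kernel)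
theorem r97_4 : R9 F (g wAp) b97 [] 1 1 := .of (startP 0 1) (by decide +kernel)
theorem r97_5 : R9 F (g wAp) b97 [] 1 2 := .of (startP 0 1) (by decide +kernel)
theorem r97_6 : R9 F (g wAp) b97 [] 2 0 := .of (startP 0 1) (by decide +kernel)
theorem r97_7 : R9 F (g wAp) b97 [] 2 1 := .of (startP 0 1) (by decide +kernel)
theorem r97_8 : R9 F (g wAp) b97 [] 2 2 := .of (startP 0 1) (by decide +kernel)
theorem g97 : Gd F (g wAp) (0, p97) [] :=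
  good9 ok h97 r97_0 r97_1 r97_2 r97_3 r97_4 r97_5 r97_6 r97_7 r97_8

def b98 : Wd := ⟨0, p98,
  [.Z6, .Z5, .Z2, .Z1, .X10, .X7, .X4, .X3, .X2, .X1, .X0, .y10, .y7, .y4, .y1, .p7, .hi, .p6, .hi, .p10, .hi, .p4,
   .hi, .p9, .xii, .p10, .xii, .y6, .p5, .taui, .X0, .y1, .p6, .xii, .p, .xii, .y6, .hi, .p4, .tau, .X0, .p8, .xii,
   .p3, .y8, .xii, .y9, .hi, .p3, .taui, .xii, .p3, .xii, .p10, .y10, .xii, .y2, .taui],
  [.Z10, .Z8, .Z7, .Z4, .Z3, .Z2, .Z0, .X10, .X7, .X6, .X5, .X2, .y10, .y4, .y1, .p7, .hi, .p10, .hi, .p9, .hi, .p,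
   .hi, .p5, .hi, .p, .xii, .p, .xii, .y3, .p7, .xii, .y8, .taui, .y1, .xii, .y1, .hi, .xii, .y6, .p10, .xii, .y4,
   .y8, .taui, .p6, .xii, .y8, .p2, .xii, .y8, .hi, .p7, .taui, .xii, .p4, .hi, .xii, .y4, .p3],
  [.z, .Z7, .Z5, .Z4, .Z1, .X10, .X6, .X5, .X4, .X3, .X1, .X0, .y10, .y8, .y6, .y2, .p4, .hi, .p9, .hi, .p6, .hi,
   .p10, .hi, .p7, .hi, .xii, .y2, .hi, .xii, .p10, .tau, .xii, .y6, .p, .xii, .p, .y7, .xii, .y1, .taui, .xii, .y6,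
   .p, .xii, .p, .xii, .y1, .y10, .tau, .p9, .xii, .y2, .hi, .xii, .taui, .xii, .p4, .xii, .y4, .y6, .p5, .xii, .y6,
   .tau]⟩

theorem h98 : Hd F (g wAp) b98 := hdP (by decide +kernel)
theorem r98_0 : R9 F (g wAp) b98 [] 0 0 := .of (startP 0 1) (by decide +kernel)
theorem r98_1 : R9 F (g wAp) b98 [] 0 1 := .of (startP 0 1) (by decide +kernel)
theorem r98_2 : R9 F (g wAp) b98 [] 0 2 := .of (startP 0 1) (by decide +kernel)
theorem r98_3 : R9 F (g wAp) b98 [] 1 0 := .of (startP 0 2) (by decide +kernel)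
theorem r98_4 : R9 F (g wAp) b98 [] 1 1 := .of (startP 0 1) (by decide +kernel)
theorem r98_5 : R9 F (g wAp) b98 [] 1 2 := .of (startP 0 1) (by decide +kernel)
theorem r98_6 : R9 F (g wAp) b98 [] 2 0 := .of (startP 0 1) (by decide +kernel)
theorem r98_7 : R9 F (g wAp) b98 [] 2 1 := .of (startP 0 1) (by decide +kernel)
theorem r98_8 : R9 F (g wAp) b98 [] 2 2 := .of (startP 0 1) (by decide +kernel)
theorem g98 : Gd F (g wAp) (0, p98) [] :=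
  good9 ok h98 r98_0 r98_1 r98_2 r98_3 r98_4 r98_5 r98_6 r98_7 r98_8

def b99 : Wd := ⟨0, p99,
  [.Z10, .Z8, .Z4, .Z2, .Z1, .X9, .X7, .X5, .X3, .X2, .X1, .X0, .y10, .y7, .y6, .y4, .y3, .y1, .hi, .p9, .hi, .p5,
   .hi, .p, .xii, .p10, .xii, .y5, .p6, .xii, .y3, .taui, .xii, .p, .xii, .y1, .hi, .xii, .y6, .tau, .p6, .xii, .p9,
   .xii, .y1, .y4, .p2, .hi, .p6, .tau, .xii, .p4, .xii, .y10, .p5, .hi, .p8, .tau, .xii, .y2, .hi, .p6],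
  [.Z8, .Z6, .Z5, .Z3, .Z2, .Z1, .Z0, .X9, .X6, .X5, .X3, .y10, .y6, .y4, .y2, .y1, .p3, .hi, .p7, .hi, .p, .hi, .p6,
   .hi, .xii, .p3, .hi, .xii, .y1, .y3, .taui, .xii, .y6, .p, .xii, .y10, .p, .xii, .y5, .y10, .tau, .X0, .p5, .xii,
   .y2, .p, .xii, .hi, .p3, .y6, .tau, .xii, .p5, .xii, .hi, .y5, .y8, .taui, .xii, .p, .hi, .p],
  [.Z10, .Z9, .Z8, .Z7, .Z6, .Z5, .Z2, .X9, .X8, .X5, .X1, .X0, .y9, .y8, .y7, .y6, .y5, .y4, .y3, .p3, .hi, .p5, .hi,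
   .p5, .hi, .p9, .hi, .p4, .hi, .p3, .xii, .p3, .hi, .xii, .y8, .y9, .taui, .y1, .xii, .y1, .hi, .xii, .p10, .xii,
   .y9, .y10, .taui, .hi, .xii, .p6, .xii, .y2, .p5, .hi, .p2, .tau, .xii, .p9, .xii, .y9, .p4, .hi, .p3, .taui, .xii,
   .hi, .p10]⟩

theorem h99 : Hd F (g wAp) b99 := hdP (by decide +kernel)
theorem r99_0 : R9 F (g wAp) b99 [] 0 0 := .of (startP 0 1) (by decide +kernel)
theorem r99_1 : R9 F (g wAp) b99 [] 0 1 := .of (startP 0 1) (by decide +kernel)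
theorem r99_2 : R9 F (g wAp) b99 [] 0 2 := .of (startP 0 1) (by decide +kernel)
theorem r99_3 : R9 F (g wAp) b99 [] 1 0 := .of (startP 0 1) (by decide +kernel)
theorem r99_4 : R9 F (g wAp) b99 [] 1 1 := .of (startP 0 1) (by decide +kernel)
theorem r99_5 : R9 F (g wAp) b99 [] 1 2 := .of (startP 0 1) (by decide +kernel)
theorem r99_6 : R9 F (g wAp) b99 [] 2 0 := .of (startP 0 1) (by decide +kernel)
theorem r99_7 : R9 F (g wAp) b99 [] 2 1 := .of (startP 0 1) (by decide +kernel)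
theorem r99_8 : R9 F (g wAp) b99 [] 2 2 := .of (startP 0 1) (by decide +kernel)
theorem g99 : Gd F (g wAp) (0, p99) [] :=
  good9 ok h99 r99_0 r99_1 r99_2 r99_3 r99_4 r99_5 r99_6 r99_7 r99_8

theorem all : AllG F (g wAp) LP9 :=
  .cons g90 (.cons g91 (.cons g92 (.cons g93 (.cons g94 (.cons g95 (.cons g96 (.cons g97 (.cons g98 (.cons g99 (.nil))))))))))

end Cfsg.Agent.BX.No33.Bk.P9
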