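import Cfsg.Agent.BX.No33.Cheap
set_option linter.all false

/-!
# Tests, diagonal case, part 31 (helper5; generated)
-/

set_option autoImplicit false
set_option maxRecDepth 100000
set_option Elab.async false

namespace Cfsg.Agent.BX.No33.Bk.D31

open Cfsg.Agent.H819.U33 Cfsg.Agent.BX.No33.Front

def b310 : Wd := ⟨0, d310,
  [.z, .Z7, .Z6, .Z4, .X10, .X9, .X6, .X4, .X3, .y10, .y9, .y8, .y6, .y1, .p10, .hi, .p, .hi, .p8, .hi, .p6, .hi,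
   .p10, .hi, .p4, .xii, .p10, .xii, .p3, .hi, .tau, .y1, .xii, .y6, .p10, .xii, .y8, .p10, .xii, .y4, .y10, .tau,
   .p6, .xii, .y2, .p9, .xii, .y4, .p, .hi, .p3, .tau, .xii, .p9, .xii, .y8, .p6, .y9, .xii, .y9, .taui, .xii, .p10],
  [.z, .Z10, .Z8, .Z5, .Z3, .Z2, .Z1, .Z0, .X8, .X7, .X4, .X3, .X2, .y10, .y9, .y8, .y7, .y6, .y5, .y4, .y3, .y1, .p8,
   .hi, .p4, .hi, .p7, .hi, .p, .hi, .p3, .hi, .xii, .p, .xii, .y3, .hi, .p8, .taui, .xii, .y6, .p, .hi, .xii, .y5,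
   .tau, .p2, .xii, .p9, .xii, .y7, .p5, .taui, .xii, .p9, .xii, .p, .y1, .hi, .p9, .tau, .xii, .p8],
  [.Z6, .Z5, .Z2, .Z0, .X8, .X7, .X5, .X2, .X0, .y8, .y7, .y6, .y5, .y3, .y2, .y1, .p10, .hi, .p9, .hi, .p10, .hi,
   .p6, .hi, .p9, .hi, .p5, .hi, .p7, .hi, .xii, .p, .xii, .y2, .p7, .tau, .xii, .y2, .p, .xii, .y1, .hi, .xii, .y3,
   .y10, .taui, .p4, .xii, .y1, .p8, .xii, .y6, .p, .hi, .p4, .tau, .xii, .p5, .xii, .y8, .p5, .y3, .xii, .y1]⟩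

theorem h310 : Hd F (g wAd) b310 := hdD (by decide +kernel)
theorem r310_0 : R9 F (g wAd) b310 [] 0 0 := .of (startD 0 1) (by decide +kernel)
theorem r310_1 : R9 F (g wAd) b310 [] 0 1 := .of (startD 0 1) (by decide +kernel)
theorem r310_2 : R9 F (g wAd) b310 [] 0 2 := .of (startD 0 1) (by decide +kernel)
theorem r310_3 : R9 F (g wAd) b310 [] 1 0 := .of (startD 0 1) (by decide +kernel)
theorem r310_4 : R9 F (g wAd) b310 [] 1 1 := .of (startD 0 1) (by decide +kernel)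
theorem r310_5 : R9 F (g wAd) b310 [] 1 2 := .of (startD 0 1) (by decide +kernel)
theorem r310_6 : R9 F (g wAd) b310 [] 2 0 := .of (startD 0 1) (by decide +kernel)
theorem r310_7 : R9 F (g wAd) b310 [] 2 1 := .of (startD 0 1) (by decide +kernel)
theorem r310_8 : R9 F (g wAd) b310 [] 2 2 := .of (startD 0 1) (by decide +kernel)
theorem g310 : Gd F (g wAd) (0, d310) [] :=
  good9 ok h310 r310_0 r310_1 r310_2 r310_3 r310_4 r310_5 r310_6 r310_7 r310_8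

def b311 : Wd := ⟨0, d311,
  [.Z9, .Z7, .Z5, .Z0, .X6, .X3, .X2, .X1, .y10, .y8, .y7, .y6, .y5, .y4, .y3, .p9, .hi, .p3, .hi, .p9, .hi, .p, .hi,
   .p6, .hi, .p3, .xii, .p10, .tau, .xii, .y1, .p, .xii, .p, .y7, .xii, .y5, .y10, .tau, .p2, .xii, .p7, .xii, .y9,
   .p, .y2, .hi, .p2, .tau, .xii, .p8, .xii, .y5, .y8, .p4, .xii, .y10, .tau, .xii, .y8, .p7],
  [.z, .Z8, .Z6, .Z4, .Z3, .Z2, .X6, .X1, .X0, .y10, .y7, .y5, .y4, .y3, .p10, .hi, .p4, .hi, .p5, .hi, .p3, .hi, .p7,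
   .hi, .p9, .xii, .p, .xii, .y6, .taui, .xii, .y2, .p, .xii, .y3, .y10, .hi, .xii, .y7, .tau, .X0, .xii, .p6, .xii,
   .y4, .p2, .xii, .y6, .p6, .taui, .xii, .p5, .xii, .y1, .y8, .p9, .xii, .y5, .tau],
  [.z, .Z8, .Z5, .Z4, .Z3, .Z2, .X7, .X3, .X0, .y10, .y9, .y7, .y5, .p6, .hi, .p4, .hi, .p5, .hi, .p8, .hi, .p10, .hi,
   .p2, .hi, .xii, .y2, .hi, .xii, .p5, .xii, .y9, .tau, .X0, .xii, .p3, .xii, .hi, .xii, .hi, .tau, .X0, .p7, .xii,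
   .p9, .xii, .y1, .y9, .hi, .p8, .tau, .xii, .p5, .xii, .y7, .p8, .xii, .y5, .y9, .taui, .xii, .hi]⟩

theorem h311 : Hd F (g wAd) b311 := hdD (by decide +kernel)
theorem r311_0 : R9 F (g wAd) b311 [] 0 0 := .of (startD 0 1) (by decide +kernel)
theorem r311_1 : R9 F (g wAd) b311 [] 0 1 := .of (startD 0 1) (by decide +kernel)
theorem r311_2 : R9 F (g wAd) b311 [] 0 2 := .of (startD 0 1) (by decide +kernel)
theorem r311_3 : R9 F (g wAd) b311 [] 1 0 := .of (startD 0 1) (by decide +kernel)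
theorem r311_4 : R9 F (g wAd) b311 [] 1 1 := .of (startD 0 1) (by decide +kernel)
theorem r311_5 : R9 F (g wAd) b311 [] 1 2 := .of (startD 0 1) (by decide +kernel)
theorem r311_6 : R9 F (g wAd) b311 [] 2 0 := .of (startD 0 1) (by decide +kernel)
theorem r311_7 : R9 F (g wAd) b311 [] 2 1 := .of (startD 0 1) (by decide +kernel)
theorem r311_8 : R9 F (g wAd) b311 [] 2 2 := .of (startD 0 1) (by decide +kernel)
theorem g311 : Gd F (g wAd) (0, d311) [] :=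
  good9 ok h311 r311_0 r311_1 r311_2 r311_3 r311_4 r311_5 r311_6 r311_7 r311_8

def b312 : Wd := ⟨0, d312,
  [.z, .Z10, .Z9, .Z6, .Z4, .Z3, .Z2, .X10, .X8, .X1, .X0, .y7, .y6, .y5, .y4, .y1, .p7, .hi, .p7, .hi, .p7, .hi, .p8,
   .hi, .p8, .hi, .p6, .hi, .xii, .hi, .xii, .y8, .p9, .xii, .y1, .y9, .tau, .y1, .xii, .y1, .hi, .xii, .p10, .xii,
   .y4, .y10, .tau, .p9, .xii, .y4, .p6, .xii, .p6, .xii, .y7, .taui, .xii, .p7, .xii, .y7, .p8, .y8, .xii, .y4,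
   .taui, .xii, .y2, .p],
  [.Z10, .Z8, .Z7, .Z4, .Z3, .Z2, .Z1, .Z0, .X6, .X5, .X3, .X1, .y10, .y7, .y5, .y2, .p2, .hi, .p4, .hi, .p6, .hi,
   .p9, .hi, .p, .hi, .xii, .p10, .xii, .p3, .hi, .y10, .taui, .xii, .p, .xii, .y2, .y10, .hi, .xii, .y7, .y10, .tau,
   .xii, .p4, .xii, .p8, .y8, .xii, .y1, .y9, .tau, .xii, .p5, .xii, .p8, .y6, .tau, .xii, .p8],
  [.z, .Z10, .Z9, .Z8, .Z6, .Z5, .Z3, .Z1, .Z0, .X10, .X9, .X8, .X7, .X5, .X3, .y2, .p9, .hi, .p9, .hi, .p4, .hi, .p5,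
   .hi, .p10, .xii, .p10, .xii, .y9, .p6, .xii, .y7, .taui, .y1, .xii, .y2, .hi, .xii, .p10, .xii, .y4, .y10, .taui,
   .p6, .xii, .y8, .p10, .xii, .y4, .p4, .hi, .taui, .xii, .p6, .xii, .y4, .p6, .xii, .y1, .y3, .tau, .xii, .hi, .xii,
   .y3]⟩

theorem h312 : Hd F (g wAd) b312 := hdD (by decide +kernel)
theorem r312_0 : R9 F (g wAd) b312 [] 0 0 := .of (startD 0 1) (by decide +kernel)
theorem r312_1 : R9 F (g wAd) b312 [] 0 1 := .of (startD 0 1) (by decide +kernel)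
theorem r312_2 : R9 F (g wAd) b312 [] 0 2 := .of (startD 0 1) (by decide +kernel)
theorem r312_3 : R9 F (g wAd) b312 [] 1 0 := .of (startD 0 1) (by decide +kernel)
theorem r312_4 : R9 F (g wAd) b312 [] 1 1 := .of (startD 0 1) (by decide +kernel)
theorem r312_5 : R9 F (g wAd) b312 [] 1 2 := .of (startD 0 2) (by decide +kernel)
theorem r312_6 : R9 F (g wAd) b312 [] 2 0 := .of (startD 0 2) (by decide +kernel)
theorem r312_7 : R9 F (g wAd) b312 [] 2 1 := .of (startD 0 1) (by decide +kernel)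
theorem r312_8 : R9 F (g wAd) b312 [] 2 2 := .of (startD 0 1) (by decide +kernel)
theorem g312 : Gd F (g wAd) (0, d312) [] :=
  good9 ok h312 r312_0 r312_1 r312_2 r312_3 r312_4 r312_5 r312_6 r312_7 r312_8

def b313 : Wd := ⟨0, d313,
  [.Z10, .Z8, .Z7, .Z4, .Z2, .X10, .X9, .X7, .X6, .X4, .X2, .X0, .y10, .y9, .y8, .y4, .y3, .p2, .hi, .p4, .hi, .p4,
   .hi, .p3, .hi, .p, .hi, .p8, .xii, .y2, .p, .xii, .y3, .y4, .tau, .y1, .xii, .p10, .xii, .y4, .p10, .xii, .y1, .y5,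
   .tau, .X0, .p6, .xii, .y2, .hi, .p8, .xii, .y10, .p8, .tau, .xii, .p7, .xii, .p, .y7, .hi, .p9, .taui, .xii, .y2,
   .p, .hi, .p],
  [.Z7, .Z6, .Z3, .Z2, .Z1, .Z0, .X9, .X8, .X6, .X5, .X3, .X0, .y9, .y7, .y6, .y2, .y1, .p9, .hi, .p, .hi, .p, .hi,
   .p3, .xii, .p, .xii, .y4, .hi, .p4, .tau, .xii, .y1, .p, .xii, .y2, .p, .xii, .y3, .tau, .X0, .hi, .xii, .p8, .xii,
   .p2, .y3, .y4, .taui, .xii, .p9, .xii, .y4, .p9, .y9, .xii, .tau, .xii, .hi, .p4],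
  [.z, .Z9, .Z8, .Z7, .Z5, .Z2, .X8, .X4, .X3, .X2, .X1, .X0, .y10, .y9, .y5, .y3, .p10, .hi, .p5, .hi, .p8, .hi, .p,
   .hi, .p5, .hi, .p4, .xii, .p10, .xii, .y1, .p6, .xii, .y3, .y4, .taui, .xii, .y1, .p, .xii, .hi, .y7, .p8, .tau,
   .X0, .p4, .xii, .p4, .xii, .p2, .y1, .tau, .xii, .p9, .xii, .y8, .p5, .xii, .y6, .tau, .xii, .p4, .xii, .y6]⟩

theorem h313 : Hd F (g wAd) b313 := hdD (by decide +kernel)
theorem r313_0 : R9 F (g wAd) b313 [] 0 0 := .of (startD 0 1) (by decide +kernel)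
theorem r313_1 : R9 F (g wAd) b313 [] 0 1 := .of (startD 0 1) (by decide +kernel)
theorem r313_2 : R9 F (g wAd) b313 [] 0 2 := .of (startD 0 1) (by decide +kernel)
theorem r313_3 : R9 F (g wAd) b313 [] 1 0 := .of (startD 0 1) (by decide +kernel)
theorem r313_4 : R9 F (g wAd) b313 [] 1 1 := .of (startD 0 1) (by decide +kernel)
theorem r313_5 : R9 F (g wAd) b313 [] 1 2 := .of (startD 0 1) (by decide +kernel)
theorem r313_6 : R9 F (g wAd) b313 [] 2 0 := .of (startD 0 1) (by decide +kernel)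
theorem r313_7 : R9 F (g wAd) b313 [] 2 1 := .of (startD 0 1) (by decide +kernel)
theorem r313_8 : R9 F (g wAd) b313 [] 2 2 := .of (startD 0 1) (by decide +kernel)
theorem g313 : Gd F (g wAd) (0, d313) [] :=
  good9 ok h313 r313_0 r313_1 r313_2 r313_3 r313_4 r313_5 r313_6 r313_7 r313_8

def b314 : Wd := ⟨0, d314,
  [.z, .Z9, .Z8, .Z6, .Z5, .Z4, .Z3, .Z1, .X8, .X6, .X5, .X3, .X2, .y10, .y9, .y8, .y5, .y4, .y3, .y1, .hi, .p7, .hi,
   .p7, .hi, .p10, .hi, .p3, .hi, .p2, .xii, .p, .xii, .hi, .p4, .y2, .taui, .y1, .xii, .p10, .xii, .y5, .p10, .xii,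
   .y2, .y4, .taui, .X0, .p8, .xii, .y7, .p4, .xii, .p3, .y6, .hi, .p5, .taui, .xii, .y2, .p8, .xii, .p2, .y7, .xii,
   .y6, .tau, .xii, .p4, .hi, .p],
  [.Z3, .Z2, .Z0, .X10, .X9, .X7, .X6, .X5, .X4, .X3, .X2, .X1, .y6, .y5, .y4, .y3, .y2, .y1, .hi, .p4, .hi, .p6, .hi,
   .p4, .hi, .p6, .hi, .p9, .hi, .xii, .y2, .p3, .hi, .xii, .y1, .y6, .tau, .X0, .hi, .xii, .hi, .xii, .y2, .p8, .tau,
   .p8, .xii, .y8, .p4, .xii, .y8, .y10, .taui, .xii, .p7, .xii, .y9, .p9, .xii, .y2, .y9, .taui, .xii, .p6],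
  [.Z9, .Z8, .Z7, .Z6, .Z3, .Z2, .Z0, .X10, .X7, .X5, .X4, .X2, .X0, .y10, .y6, .y5, .y4, .p7, .hi, .p10, .hi, .p,
   .hi, .p7, .hi, .p3, .hi, .p, .hi, .xii, .hi, .xii, .y6, .p10, .xii, .y10, .tau, .y1, .xii, .p10, .xii, .p10, .y7,
   .xii, .y4, .y10, .tau, .p9, .xii, .y6, .p3, .xii, .y1, .hi, .p6, .tau, .xii, .hi, .p6, .xii, .hi, .p, .y2, .tau,
   .xii, .y2, .hi, .p8]⟩

theorem h314 : Hd F (g wAd) b314 := hdD (by decide +kernel)
theorem r314_0 : R9 F (g wAd) b314 [] 0 0 := .of (startD 0 1) (by decide +kernel)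
theorem r314_1 : R9 F (g wAd) b314 [] 0 1 := .of (startD 0 1) (by decide +kernel)
theorem r314_2 : R9 F (g wAd) b314 [] 0 2 := .of (startD 0 1) (by decide +kernel)
theorem r314_3 : R9 F (g wAd) b314 [] 1 0 := .of (startD 0 1) (by decide +kernel)
theorem r314_4 : R9 F (g wAd) b314 [] 1 1 := .of (startD 0 1) (by decide +kernel)
theorem r314_5 : R9 F (g wAd) b314 [] 1 2 := .of (startD 0 1) (by decide +kernel)
theorem r314_6 : R9 F (g wAd) b314 [] 2 0 := .of (startD 0 1) (by decide +kernel)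
theorem r314_7 : R9 F (g wAd) b314 [] 2 1 := .of (startD 0 1) (by decide +kernel)
theorem r314_8 : R9 F (g wAd) b314 [] 2 2 := .of (startD 0 1) (by decide +kernel)
theorem g314 : Gd F (g wAd) (0, d314) [] :=
  good9 ok h314 r314_0 r314_1 r314_2 r314_3 r314_4 r314_5 r314_6 r314_7 r314_8

def b315 : Wd := ⟨0, d315,
  [.Z10, .Z5, .Z3, .Z2, .Z0, .X10, .X7, .X5, .X4, .X2, .X0, .y4, .y3, .y2, .p8, .hi, .p5, .hi, .p9, .hi, .p5, .hi,
   .p10, .hi, .p3, .hi, .xii, .y2, .hi, .xii, .p10, .xii, .y9, .y10, .tau, .xii, .y6, .hi, .p8, .xii, .y2, .p2, .hi,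
   .taui, .X0, .p9, .xii, .y9, .p3, .xii, .taui, .xii, .p9, .xii, .p2, .hi, .y9, .tau, .xii, .p5, .hi, .p9],
  [.Z6, .Z5, .Z4, .Z3, .Z2, .Z1, .X9, .X8, .X7, .X6, .X5, .X4, .X2, .X1, .X0, .y9, .y5, .y1, .hi, .p5, .hi, .p9, .hi,
   .p8, .hi, .p, .hi, .p5, .hi, .p4, .xii, .p, .xii, .y6, .p9, .xii, .y8, .tau, .xii, .y1, .p, .xii, .y4, .p, .xii,
   .y7, .taui, .X0, .p7, .xii, .p5, .y7, .xii, .y7, .p9, .taui, .xii, .p7, .xii, .y7, .y10, .p9, .xii, .y9, .tau,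
   .xii, .p6],
  [.Z8, .Z6, .Z4, .Z3, .X8, .X7, .X6, .X3, .X0, .y10, .y7, .y6, .y5, .p6, .hi, .p4, .hi, .p, .hi, .p9, .xii, .p, .xii,
   .y1, .y10, .tau, .y1, .xii, .p10, .xii, .y1, .p10, .xii, .y4, .y8, .tau, .X0, .p9, .xii, .y4, .p10, .xii, .y7,
   .taui, .xii, .p5, .xii, .y2, .hi, .p6, .y6, .tau, .xii, .hi, .p6]⟩

theorem h315 : Hd F (g wAd) b315 := hdD (by decide +kernel)
theorem r315_0 : R9 F (g wAd) b315 [] 0 0 := .of (startD 0 1) (by decide +kernel)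
theorem r315_1 : R9 F (g wAd) b315 [] 0 1 := .of (startD 0 1) (by decide +kernel)
theorem r315_2 : R9 F (g wAd) b315 [] 0 2 := .of (startD 0 1) (by decide +kernel)
theorem r315_3 : R9 F (g wAd) b315 [] 1 0 := .of (startD 0 1) (by decide +kernel)
theorem r315_4 : R9 F (g wAd) b315 [] 1 1 := .of (startD 0 1) (by decide +kernel)
theorem r315_5 : R9 F (g wAd) b315 [] 1 2 := .of (startD 0 1) (by decide +kernel)
theorem r315_6 : R9 F (g wAd) b315 [] 2 0 := .of (startD 0 1) (by decide +kernel)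
theorem r315_7 : R9 F (g wAd) b315 [] 2 1 := .of (startD 0 1) (by decide +kernel)
theorem r315_8 : R9 F (g wAd) b315 [] 2 2 := .of (startD 0 1) (by decide +kernel)
theorem g315 : Gd F (g wAd) (0, d315) [] :=
  good9 ok h315 r315_0 r315_1 r315_2 r315_3 r315_4 r315_5 r315_6 r315_7 r315_8

def b316 : Wd := ⟨0, d316,
  [.z, .Z8, .Z7, .Z6, .Z5, .Z1, .Z0, .X10, .X8, .X6, .X5, .X3, .y10, .y8, .y7, .y6, .y5, .y2, .y1, .p9, .hi, .p, .hi,
   .p7, .hi, .p6, .hi, .p6, .hi, .p4, .tau, .xii, .y2, .p, .xii, .y2, .hi, .xii, .y3, .tau, .xii, .p, .xii, .y4, .hi,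
   .xii, .y1, .y2, .taui, .X0, .p10, .xii, .p10, .xii, .y8, .taui, .xii, .p3, .xii, .y1, .p2, .xii, .taui, .xii, .y7,
   .p10],
  [.z, .Z5, .Z4, .X10, .X5, .X4, .X1, .y9, .y8, .y7, .y6, .y4, .y3, .p4, .hi, .p10, .hi, .p3, .hi, .p7, .hi, .p10,
   .xii, .hi, .p8, .xii, .y4, .y9, .p10, .taui, .y1, .xii, .y2, .hi, .xii, .y9, .p10, .xii, .y8, .taui, .X0, .xii,
   .p5, .xii, .y4, .p7, .y7, .xii, .y1, .y5, .tau, .xii, .p5, .xii, .y5, .p9, .xii, .y1, .y9, .taui, .xii, .p],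
  [.Z10, .Z9, .Z8, .Z7, .Z5, .Z4, .X9, .X8, .X7, .X6, .X5, .X4, .X3, .X2, .X1, .y10, .y8, .y7, .y5, .y4, .y3, .p8,
   .hi, .p8, .hi, .p, .hi, .p5, .hi, .p4, .xii, .y2, .p10, .hi, .p8, .tau, .xii, .p, .xii, .y2, .hi, .xii, .y5, .taui,
   .p8, .xii, .p4, .hi, .xii, .y2, .p9, .taui, .xii, .p8, .xii, .y6, .p4, .y2, .xii, .y9, .tau, .xii]⟩

theorem h316 : Hd F (g wAd) b316 := hdD (by decide +kernel)
theorem r316_0 : R9 F (g wAd) b316 [] 0 0 := .of (startD 0 1) (by decide +kernel)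
theorem r316_1 : R9 F (g wAd) b316 [] 0 1 := .of (startD 0 1) (by decide +kernel)
theorem r316_2 : R9 F (g wAd) b316 [] 0 2 := .of (startD 0 1) (by decide +kernel)
theorem r316_3 : R9 F (g wAd) b316 [] 1 0 := .of (startD 0 1) (by decide +kernel)
theorem r316_4 : R9 F (g wAd) b316 [] 1 1 := .of (startD 0 1) (by decide +kernel)
theorem r316_5 : R9 F (g wAd) b316 [] 1 2 := .of (startD 0 1) (by decide +kernel)
theorem r316_6 : R9 F (g wAd) b316 [] 2 0 := .of (startD 0 1) (by decide +kernel)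
theorem r316_7 : R9 F (g wAd) b316 [] 2 1 := .of (startD 0 1) (by decide +kernel)
theorem r316_8 : R9 F (g wAd) b316 [] 2 2 := .of (startD 0 1) (by decide +kernel)
theorem g316 : Gd F (g wAd) (0, d316) [] :=
  good9 ok h316 r316_0 r316_1 r316_2 r316_3 r316_4 r316_5 r316_6 r316_7 r316_8

def b317 : Wd := ⟨0, d317,
  [.z, .Z10, .Z8, .Z7, .Z5, .Z4, .Z2, .Z1, .X10, .X9, .X7, .X6, .X5, .X3, .X2, .X1, .y10, .y9, .y7, .y5, .y3, .y2, .p,
   .hi, .p, .hi, .p, .hi, .p3, .hi, .p5, .hi, .p10, .xii, .p3, .hi, .xii, .y3, .y7, .p6, .tau, .xii, .y6, .p3, .hi,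
   .xii, .y8, .p10, .tau, .X0, .p6, .xii, .hi, .p6, .xii, .p3, .taui, .xii, .p9, .xii, .p6, .xii, .y2, .tau, .xii,
   .p3],
  [.z, .Z10, .Z9, .Z8, .Z6, .Z3, .Z2, .Z1, .Z0, .X9, .X8, .X6, .X4, .X1, .X0, .y6, .y3, .y2, .y1, .p2, .hi, .p10, .hi,
   .p4, .hi, .p, .hi, .p3, .xii, .p10, .xii, .y10, .p2, .xii, .y3, .tau, .y1, .xii, .p10, .xii, .y8, .p10, .xii, .y1,
   .y5, .taui, .p6, .xii, .p2, .xii, .y5, .y10, .p6, .taui, .xii, .p3, .xii, .y6, .p6, .xii, .y8, .taui],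
  [.Z10, .Z8, .Z3, .Z2, .Z0, .X8, .X7, .X4, .X1, .X0, .y6, .p10, .hi, .p3, .hi, .p8, .hi, .p7, .hi, .p4, .hi, .p9,
   .xii, .y2, .p10, .xii, .y10, .p3, .hi, .taui, .xii, .p, .xii, .hi, .y8, .xii, .y4, .y6, .taui, .p5, .xii, .p8,
   .xii, .p2, .y4, .xii, .y2, .tau, .xii, .p7, .xii, .y2, .p10, .xii, .y1, .y9, .tau, .xii, .p6]⟩

theorem h317 : Hd F (g wAd) b317 := hdD (by decide +kernel)
theorem r317_0 : R9 F (g wAd) b317 [] 0 0 := .of (startD 0 1) (by decide +kernel)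
theorem r317_1 : R9 F (g wAd) b317 [] 0 1 := .of (startD 0 1) (by decide +kernel)
theorem r317_2 : R9 F (g wAd) b317 [] 0 2 := .of (startD 0 1) (by decide +kernel)
theorem r317_3 : R9 F (g wAd) b317 [] 1 0 := .of (startD 0 1) (by decide +kernel)
theorem r317_4 : R9 F (g wAd) b317 [] 1 1 := .of (startD 0 1) (by decide +kernel)
theorem r317_5 : R9 F (g wAd) b317 [] 1 2 := .of (startD 0 1) (by decide +kernel)
theorem r317_6 : R9 F (g wAd) b317 [] 2 0 := .of (startD 0 1) (by decide +kernel)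
theorem r317_7 : R9 F (g wAd) b317 [] 2 1 := .of (startD 0 1) (by decide +kernel)
theorem r317_8 : R9 F (g wAd) b317 [] 2 2 := .of (startD 0 1) (by decide +kernel)
theorem g317 : Gd F (g wAd) (0, d317) [] :=
  good9 ok h317 r317_0 r317_1 r317_2 r317_3 r317_4 r317_5 r317_6 r317_7 r317_8

def b318 : Wd := ⟨0, d318,
  [.z, .Z8, .Z5, .Z3, .Z2, .Z0, .X10, .X9, .X7, .X5, .X3, .X2, .X1, .X0, .y10, .y9, .y7, .y6, .y5, .y3, .y1, .hi, .p7,
   .hi, .p6, .hi, .p3, .hi, .p7, .hi, .p10, .hi, .p5, .hi, .xii, .p3, .hi, .xii, .y3, .y7, .p6, .taui, .X0, .p10,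
   .xii, .y7, .p10, .xii, .y5, .taui, .xii, .y2, .p4, .xii, .y8, .hi, .p2, .tau, .xii, .y2, .p7],
  [.z, .Z10, .Z8, .Z7, .Z4, .Z3, .Z2, .X9, .X1, .y10, .y8, .y7, .y4, .p, .hi, .p6, .hi, .p4, .hi, .p6, .hi, .p2, .xii,
   .y2, .p2, .hi, .xii, .y4, .tau, .xii, .p, .xii, .y1, .hi, .xii, .y2, .y3, .tau, .p8, .xii, .y7, .p4, .hi, .xii,
   .y10, .p5, .tau, .xii, .p7, .xii, .y5, .p5, .xii, .y1, .y5, .taui, .xii, .p5],
  [.z, .Z10, .Z9, .Z8, .Z6, .Z3, .Z2, .Z1, .X9, .X8, .X7, .X2, .X1, .y6, .y3, .hi, .p3, .hi, .p7, .hi, .p7, .hi, .p8,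
   .hi, .xii, .p10, .xii, .y1, .p8, .xii, .y4, .y9, .taui, .y1, .xii, .p10, .xii, .y5, .p10, .xii, .y2, .y8, .taui,
   .X0, .p7, .xii, .y6, .p5, .xii, .y9, .p5, .y8, .taui, .xii, .p7, .xii, .p9, .y4, .xii, .y8, .tau, .xii, .p, .hi]⟩

theorem h318 : Hd F (g wAd) b318 := hdD (by decide +kernel)
theorem r318_0 : R9 F (g wAd) b318 [] 0 0 := .of (startD 0 1) (by decide +kernel)
theorem r318_1 : R9 F (g wAd) b318 [] 0 1 := .of (startD 0 1) (by decide +kernel)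
theorem r318_2 : R9 F (g wAd) b318 [] 0 2 := .of (startD 0 1) (by decide +kernel)
theorem r318_3 : R9 F (g wAd) b318 [] 1 0 := .of (startD 0 1) (by decide +kernel)
theorem r318_4 : R9 F (g wAd) b318 [] 1 1 := .of (startD 0 1) (by decide +kernel)
theorem r318_5 : R9 F (g wAd) b318 [] 1 2 := .of (startD 0 1) (by decide +kernel)
theorem r318_6 : R9 F (g wAd) b318 [] 2 0 := .of (startD 0 2) (by decide +kernel)
theorem r318_7 : R9 F (g wAd) b318 [] 2 1 := .of (startD 0 1) (by decide +kernel)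
theorem r318_8 : R9 F (g wAd) b318 [] 2 2 := .of (startD 0 1) (by decide +kernel)
theorem g318 : Gd F (g wAd) (0, d318) [] :=
  good9 ok h318 r318_0 r318_1 r318_2 r318_3 r318_4 r318_5 r318_6 r318_7 r318_8

def b319 : Wd := ⟨0, d319,
  [.Z8, .Z3, .Z2, .Z0, .X10, .X9, .X6, .X4, .X1, .X0, .y9, .y8, .y6, .y4, .y3, .y1, .p9, .hi, .p10, .hi, .p2, .hi,
   .p7, .hi, .p5, .hi, .p3, .hi, .xii, .p, .xii, .y10, .p4, .xii, .y9, .tau, .y1, .xii, .p10, .xii, .y1, .p10, .y9,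
   .xii, .y8, .taui, .xii, .y1, .p4, .xii, .y8, .p5, .xii, .p6, .tau, .xii, .p7, .xii, .y10, .p8, .xii, .y3, .y10,
   .tau, .xii, .p6],
  [.Z8, .Z7, .Z6, .Z4, .Z3, .Z2, .Z1, .Z0, .X10, .X9, .X8, .X7, .X6, .X3, .X2, .y10, .y7, .p3, .hi, .p, .hi, .p3, .hi,
   .p9, .hi, .p10, .hi, .xii, .y2, .p3, .hi, .xii, .y1, .p10, .taui, .y1, .xii, .y6, .p10, .xii, .y8, .p10, .xii, .y8,
   .taui, .p10, .xii, .y5, .p5, .xii, .y3, .p9, .taui, .xii, .hi, .p6, .xii, .y4, .p6, .tau, .xii, .p7],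
  [.Z6, .Z5, .Z4, .Z0, .X9, .X7, .X6, .X5, .y10, .y9, .y7, .y6, .y5, .y2, .p10, .hi, .p6, .hi, .p5, .hi, .p8, .hi,
   .p9, .hi, .p9, .hi, .xii, .y2, .hi, .p8, .hi, .p5, .hi, .tau, .xii, .y6, .p, .xii, .y10, .p, .xii, .y7, .y10, .tau,
   .X0, .p4, .xii, .p7, .xii, .p10, .y8, .y10, .hi, .p10, .taui, .xii, .p2, .xii, .y5, .p2, .xii, .y6, .taui, .xii,
   .y6, .p5, .hi]⟩

theorem h319 : Hd F (g wAd) b319 := hdD (by decide +kernel)
theorem r319_0 : R9 F (g wAd) b319 [] 0 0 := .of (startD 0 1) (by decide +kernel)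
theorem r319_1 : R9 F (g wAd) b319 [] 0 1 := .of (startD 0 1) (by decide +kernel)
theorem r319_2 : R9 F (g wAd) b319 [] 0 2 := .of (startD 0 1) (by decide +kernel)
theorem r319_3 : R9 F (g wAd) b319 [] 1 0 := .of (startD 0 2) (by decide +kernel)
theorem r319_4 : R9 F (g wAd) b319 [] 1 1 := .of (startD 0 1) (by decide +kernel)
theorem r319_5 : R9 F (g wAd) b319 [] 1 2 := .of (startD 0 1) (by decide +kernel)
theorem r319_6 : R9 F (g wAd) b319 [] 2 0 := .of (startD 0 1) (by decide +kernel)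
theorem r319_7 : R9 F (g wAd) b319 [] 2 1 := .of (startD 0 1) (by decide +kernel)
theorem r319_8 : R9 F (g wAd) b319 [] 2 2 := .of (startD 0 1) (by decide +kernel)
theorem g319 : Gd F (g wAd) (0, d319) [] :=
  good9 ok h319 r319_0 r319_1 r319_2 r319_3 r319_4 r319_5 r319_6 r319_7 r319_8

theorem all : AllG F (g wAd) LD31 :=
  .cons g310 (.cons g311 (.cons g312 (.cons g313 (.cons g314 (.cons g315 (.cons g316 (.cons g317 (.cons g318 (.cons g319 (.nil))))))))))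

end Cfsg.Agent.BX.No33.Bk.D31
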