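import Cfsg.Agent.BX.No33.Cheap
set_option linter.all false

/-!
# Tests, diagonal case, part 47 (helper5; generated)
-/

set_option autoImplicit false
set_option maxRecDepth 100000
set_option Elab.async false

namespace Cfsg.Agent.BX.No33.Bk.D47

open Cfsg.Agent.H819.U33 Cfsg.Agent.BX.No33.Front

def b470 : Wd := ⟨0, d470,
  [.Z3, .X9, .X8, .X6, .X2, .X0, .y9, .y8, .y7, .y5, .y4, .y3, .y1, .hi, .p, .hi, .p10, .hi, .p6, .hi, .p6, .hi, .p2,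
   .xii, .p10, .xii, .p9, .y6, .xii, .y7, .tau, .xii, .y1, .p, .xii, .y4, .p, .xii, .y3, .taui, .p7, .xii, .y2, .p3,
   .hi, .xii, .y9, .p3, .tau, .xii, .p4, .xii, .y3, .p5, .y3, .xii, .y4, .tau, .xii, .p10, .xii],
  [.Z10, .Z9, .Z8, .Z6, .Z3, .Z0, .X10, .X3, .X2, .X1, .X0, .y10, .y4, .y3, .y1, .p7, .hi, .p9, .hi, .p3, .hi, .p7,
   .hi, .p9, .xii, .hi, .xii, .p10, .y9, .taui, .xii, .y6, .p, .xii, .p, .xii, .y1, .y10, .tau, .X0, .xii, .p7, .xii,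
   .y1, .p8, .xii, .y10, .p6, .taui, .xii, .p9, .xii, .y2, .p3, .y4, .xii, .y6],
  [.Z7, .Z6, .Z2, .X10, .X9, .X8, .X7, .X4, .X3, .X1, .X0, .y9, .y7, .y4, .y3, .hi, .p10, .hi, .p4, .hi, .p7, .hi,
   .p4, .hi, .p8, .hi, .xii, .p, .xii, .y2, .y4, .hi, .p10, .tau, .y1, .xii, .y1, .hi, .xii, .y6, .p10, .xii, .y10,
   .taui, .p10, .xii, .y2, .p8, .xii, .y5, .p8, .y10, .hi, .tau, .xii, .p9, .xii, .y7, .p2, .hi, .p8, .tau, .xii, .p]⟩

theorem h470 : Hd F (g wAd) b470 := hdD (by decide +kernel)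
theorem r470_0 : R9 F (g wAd) b470 [] 0 0 := .of (startD 0 1) (by decide +kernel)
theorem r470_1 : R9 F (g wAd) b470 [] 0 1 := .of (startD 0 1) (by decide +kernel)
theorem r470_2 : R9 F (g wAd) b470 [] 0 2 := .of (startD 0 1) (by decide +kernel)
theorem r470_3 : R9 F (g wAd) b470 [] 1 0 := .of (startD 0 1) (by decide +kernel)
theorem r470_4 : R9 F (g wAd) b470 [] 1 1 := .of (startD 0 1) (by decide +kernel)
theorem r470_5 : R9 F (g wAd) b470 [] 1 2 := .of (startD 0 1) (by decide +kernel)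
theorem r470_6 : R9 F (g wAd) b470 [] 2 0 := .of (startD 0 1) (by decide +kernel)
theorem r470_7 : R9 F (g wAd) b470 [] 2 1 := .of (startD 0 1) (by decide +kernel)
theorem r470_8 : R9 F (g wAd) b470 [] 2 2 := .of (startD 0 1) (by decide +kernel)
theorem g470 : Gd F (g wAd) (0, d470) [] :=
  good9 ok h470 r470_0 r470_1 r470_2 r470_3 r470_4 r470_5 r470_6 r470_7 r470_8

def b471 : Wd := ⟨0, d471,
  [.Z10, .Z8, .Z6, .Z5, .Z3, .Z2, .X10, .X9, .X8, .X4, .X2, .X1, .y10, .y4, .y2, .y1, .p10, .hi, .p4, .hi, .p8, .hi,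
   .p3, .hi, .p4, .hi, .p4, .xii, .y2, .hi, .p8, .hi, .p5, .hi, .taui, .y1, .xii, .p10, .xii, .y1, .y7, .p10, .xii,
   .y4, .tau, .p9, .xii, .y2, .p3, .xii, .y8, .p6, .xii, .taui, .xii, .p6, .xii, .p2, .y7, .xii, .y9, .y10, .taui,
   .xii, .y2, .p10, .xii, .y8],
  [.Z9, .Z4, .Z3, .X7, .X5, .X4, .y10, .y9, .y7, .y6, .y5, .y2, .hi, .p3, .hi, .p3, .hi, .p5, .hi, .p3, .hi, .xii,
   .p10, .xii, .y5, .p10, .taui, .xii, .y6, .p, .xii, .p, .xii, .y2, .y5, .tau, .X0, .p10, .xii, .y2, .hi, .p5, .xii,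
   .y1, .p10, .tau, .xii, .p5, .xii, .y2, .p9, .xii, .y10, .taui, .xii, .y8, .p9],
  [.Z9, .Z8, .Z4, .Z3, .Z2, .X9, .X7, .X6, .X5, .X4, .X0, .y9, .y8, .y6, .p9, .hi, .p, .hi, .p, .hi, .p3, .hi, .p5,
   .xii, .p2, .hi, .xii, .y5, .p5, .hi, .p5, .tau, .y1, .xii, .p10, .xii, .y4, .p10, .xii, .y2, .y10, .taui, .hi,
   .xii, .p8, .xii, .p6, .y8, .hi, .p3, .taui, .xii, .p9, .xii, .p9, .xii, .y9, .y10, .taui, .xii, .y6, .hi, .p8]⟩

theorem h471 : Hd F (g wAd) b471 := hdD (by decide +kernel)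
theorem r471_0 : R9 F (g wAd) b471 [] 0 0 := .of (startD 0 3) (by decide +kernel)
theorem r471_1 : R9 F (g wAd) b471 [] 0 1 := .of (startD 0 1) (by decide +kernel)
theorem r471_2 : R9 F (g wAd) b471 [] 0 2 := .of (startD 0 1) (by decide +kernel)
theorem r471_3 : R9 F (g wAd) b471 [] 1 0 := .of (startD 0 1) (by decide +kernel)
theorem r471_4 : R9 F (g wAd) b471 [] 1 1 := .of (startD 0 1) (by decide +kernel)
theorem r471_5 : R9 F (g wAd) b471 [] 1 2 := .of (startD 0 1) (by decide +kernel)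
theorem r471_6 : R9 F (g wAd) b471 [] 2 0 := .of (startD 0 1) (by decide +kernel)
theorem r471_7 : R9 F (g wAd) b471 [] 2 1 := .of (startD 0 1) (by decide +kernel)
theorem r471_8 : R9 F (g wAd) b471 [] 2 2 := .of (startD 0 1) (by decide +kernel)
theorem g471 : Gd F (g wAd) (0, d471) [] :=
  good9 ok h471 r471_0 r471_1 r471_2 r471_3 r471_4 r471_5 r471_6 r471_7 r471_8

def b472 : Wd := ⟨0, d472,
  [.z, .Z10, .Z9, .Z8, .Z7, .Z5, .Z4, .Z3, .Z0, .X10, .X9, .X7, .X6, .X5, .X4, .X3, .y10, .y7, .y6, .y2, .y1, .hi,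
   .p10, .hi, .p6, .hi, .p6, .hi, .p4, .hi, .p5, .hi, .p4, .xii, .p3, .hi, .xii, .p6, .y3, .tau, .y1, .xii, .p10,
   .xii, .y4, .p10, .xii, .y3, .y7, .taui, .p7, .xii, .y2, .p8, .xii, .p4, .y6, .xii, .y7, .tau, .xii, .p5, .xii, .y2,
   .p4, .y9, .hi, .taui, .xii, .p4, .hi, .p2],
  [.z, .Z7, .Z6, .Z5, .Z3, .X9, .X7, .X2, .X1, .X0, .y10, .y9, .y8, .y4, .y2, .y1, .p7, .hi, .p3, .hi, .p9, .hi, .p10,
   .hi, .p7, .hi, .xii, .y2, .p2, .hi, .xii, .taui, .xii, .y6, .p, .xii, .p3, .y1, .hi, .taui, .p9, .xii, .p10, .xii,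
   .y3, .p4, .taui, .xii, .p7, .xii, .y6, .p7, .y8, .xii, .y9, .taui, .xii, .y4, .p5],
  [.Z6, .Z5, .Z3, .Z2, .Z1, .X9, .X7, .X4, .X3, .X2, .X1, .X0, .y10, .y7, .y6, .y5, .y4, .y2, .y1, .p9, .hi, .p3, .hi,
   .p8, .hi, .p5, .hi, .p8, .hi, .p10, .hi, .xii, .p10, .xii, .y1, .p6, .xii, .y3, .y4, .tau, .xii, .y1, .p, .xii, .p,
   .y7, .xii, .y6, .tau, .hi, .xii, .p10, .xii, .y6, .p6, .y10, .tau, .xii, .p2, .xii, .p4, .y6, .xii, .y10, .tau,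
   .xii, .p2, .xii, .y8]⟩

theorem h472 : Hd F (g wAd) b472 := hdD (by decide +kernel)
theorem r472_0 : R9 F (g wAd) b472 [] 0 0 := .of (startD 0 1) (by decide +kernel)
theorem r472_1 : R9 F (g wAd) b472 [] 0 1 := .of (startD 0 1) (by decide +kernel)
theorem r472_2 : R9 F (g wAd) b472 [] 0 2 := .of (startD 0 1) (by decide +kernel)
theorem r472_3 : R9 F (g wAd) b472 [] 1 0 := .of (startD 0 1) (by decide +kernel)
theorem r472_4 : R9 F (g wAd) b472 [] 1 1 := .of (startD 0 1) (by decide +kernel)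
theorem r472_5 : R9 F (g wAd) b472 [] 1 2 := .of (startD 0 1) (by decide +kernel)
theorem r472_6 : R9 F (g wAd) b472 [] 2 0 := .of (startD 0 1) (by decide +kernel)
theorem r472_7 : R9 F (g wAd) b472 [] 2 1 := .of (startD 0 1) (by decide +kernel)
theorem r472_8 : R9 F (g wAd) b472 [] 2 2 := .of (startD 0 1) (by decide +kernel)
theorem g472 : Gd F (g wAd) (0, d472) [] :=
  good9 ok h472 r472_0 r472_1 r472_2 r472_3 r472_4 r472_5 r472_6 r472_7 r472_8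

def b473 : Wd := ⟨0, d473,
  [.Z10, .Z8, .Z7, .Z3, .X10, .X8, .X7, .X5, .X3, .X2, .y8, .y7, .y6, .y5, .y2, .y1, .hi, .p7, .hi, .p10, .hi, .p10,
   .hi, .p3, .hi, .p4, .hi, .p7, .hi, .xii, .y2, .p, .hi, .xii, .p10, .taui, .xii, .y2, .p, .xii, .y4, .hi, .xii, .y7,
   .y10, .tau, .X0, .xii, .p10, .xii, .y1, .p8, .xii, .y2, .p, .taui, .xii, .p2, .xii, .hi, .xii, .y2, .y6, .tau,
   .xii, .p9, .xii, .y1],
  [.z, .Z10, .Z8, .Z7, .Z6, .Z5, .Z3, .Z2, .X10, .X9, .X4, .X1, .y9, .y8, .y5, .y3, .y1, .p10, .hi, .p6, .hi, .p8,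
   .hi, .p6, .hi, .p4, .xii, .hi, .xii, .y6, .p5, .hi, .p8, .tau, .xii, .y6, .p, .xii, .p, .xii, .y1, .y2, .taui, .X0,
   .xii, .p9, .xii, .p3, .y1, .y4, .xii, .y4, .y8, .p2, .tau, .xii, .p8, .xii, .y2, .y8, .p3],
  [.z, .Z9, .Z8, .Z6, .Z5, .Z2, .Z1, .Z0, .X9, .X6, .X3, .X2, .y10, .y8, .y5, .y4, .p10, .hi, .p, .hi, .p3, .hi, .p10,
   .hi, .p3, .hi, .p6, .hi, .xii, .y2, .p, .xii, .p9, .xii, .tau, .xii, .p, .xii, .y4, .hi, .xii, .y1, .y2, .taui,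
   .X0, .y1, .xii, .p9, .xii, .p5, .y6, .xii, .y3, .y4, .taui, .xii, .p7, .xii, .y4, .y6, .p9, .xii, .y4, .tau]⟩

theorem h473 : Hd F (g wAd) b473 := hdD (by decide +kernel)
theorem r473_0 : R9 F (g wAd) b473 [] 0 0 := .of (startD 0 1) (by decide +kernel)
theorem r473_1 : R9 F (g wAd) b473 [] 0 1 := .of (startD 0 1) (by decide +kernel)
theorem r473_2 : R9 F (g wAd) b473 [] 0 2 := .of (startD 0 1) (by decide +kernel)
theorem r473_3 : R9 F (g wAd) b473 [] 1 0 := .of (startD 0 1) (by decide +kernel)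
theorem r473_4 : R9 F (g wAd) b473 [] 1 1 := .of (startD 0 1) (by decide +kernel)
theorem r473_5 : R9 F (g wAd) b473 [] 1 2 := .of (startD 0 1) (by decide +kernel)
theorem r473_6 : R9 F (g wAd) b473 [] 2 0 := .of (startD 0 1) (by decide +kernel)
theorem r473_7 : R9 F (g wAd) b473 [] 2 1 := .of (startD 0 1) (by decide +kernel)
theorem r473_8 : R9 F (g wAd) b473 [] 2 2 := .of (startD 0 1) (by decide +kernel)
theorem g473 : Gd F (g wAd) (0, d473) [] :=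
  good9 ok h473 r473_0 r473_1 r473_2 r473_3 r473_4 r473_5 r473_6 r473_7 r473_8

def b474 : Wd := ⟨0, d474,
  [.z, .Z10, .Z9, .Z7, .Z3, .Z0, .X10, .X7, .X4, .X3, .X2, .y10, .y9, .y4, .y1, .p2, .hi, .p8, .hi, .p8, .hi, .p10,
   .hi, .p3, .hi, .p7, .hi, .xii, .y2, .hi, .p10, .tau, .xii, .p, .xii, .hi, .y8, .xii, .y4, .y6, .taui, .X0, .xii,
   .y2, .p5, .xii, .y2, .hi, .xii, .y5, .p2, .taui, .xii, .p8, .xii, .y1, .p4, .xii, .y4, .tau, .xii, .y6, .p6],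
  [.z, .Z10, .Z9, .Z8, .Z5, .Z4, .Z3, .Z1, .Z0, .X10, .X9, .X8, .X7, .X4, .X3, .X1, .y9, .y7, .y6, .y4, .y3, .y2, .y1,
   .p7, .hi, .p3, .hi, .p8, .xii, .p10, .xii, .y10, .p6, .xii, .y7, .tau, .xii, .p, .xii, .y1, .hi, .xii, .y5, .taui,
   .X0, .y1, .p5, .xii, .p3, .xii, .p, .xii, .y1, .y2, .tau, .xii, .y2, .p7, .xii, .y1, .y2, .taui, .xii, .p],
  [.z, .Z9, .Z8, .Z7, .Z6, .Z5, .Z4, .Z2, .Z1, .Z0, .X10, .X5, .X4, .X3, .X2, .X0, .y10, .y9, .y8, .y7, .y5, .y4, .y1,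
   .p10, .hi, .p8, .hi, .p7, .hi, .p7, .hi, .p10, .hi, .xii, .y2, .p2, .hi, .xii, .y8, .p3, .taui, .y1, .xii, .y2,
   .hi, .xii, .y7, .p10, .xii, .y8, .taui, .y1, .hi, .xii, .p2, .xii, .hi, .p8, .y3, .tau, .xii, .p7, .xii, .y1, .y7,
   .p10, .hi, .p, .taui, .xii, .y2, .hi, .p6]⟩

theorem h474 : Hd F (g wAd) b474 := hdD (by decide +kernel)
theorem r474_0 : R9 F (g wAd) b474 [] 0 0 := .of (startD 0 1) (by decide +kernel)
theorem r474_1 : R9 F (g wAd) b474 [] 0 1 := .of (startD 0 1) (by decide +kernel)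
theorem r474_2 : R9 F (g wAd) b474 [] 0 2 := .of (startD 0 1) (by decide +kernel)
theorem r474_3 : R9 F (g wAd) b474 [] 1 0 := .of (startD 0 1) (by decide +kernel)
theorem r474_4 : R9 F (g wAd) b474 [] 1 1 := .of (startD 0 1) (by decide +kernel)
theorem r474_5 : R9 F (g wAd) b474 [] 1 2 := .of (startD 0 1) (by decide +kernel)
theorem r474_6 : R9 F (g wAd) b474 [] 2 0 := .of (startD 0 1) (by decide +kernel)
theorem r474_7 : R9 F (g wAd) b474 [] 2 1 := .of (startD 0 1) (by decide +kernel)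
theorem r474_8 : R9 F (g wAd) b474 [] 2 2 := .of (startD 0 1) (by decide +kernel)
theorem g474 : Gd F (g wAd) (0, d474) [] :=
  good9 ok h474 r474_0 r474_1 r474_2 r474_3 r474_4 r474_5 r474_6 r474_7 r474_8

def b475 : Wd := ⟨0, d475,
  [.z, .Z10, .Z9, .Z8, .Z6, .Z5, .Z4, .Z3, .Z0, .X10, .X1, .X0, .y9, .y8, .p3, .hi, .p10, .hi, .p2, .hi, .p4, .hi, .p,
   .hi, .p2, .xii, .p10, .xii, .p9, .xii, .y4, .y6, .tau, .xii, .y1, .p, .xii, .p, .xii, .y1, .y9, .tau, .X0, .xii,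
   .y6, .hi, .xii, .p5, .xii, .y1, .y2, .y8, .tau, .xii, .p5, .xii, .y6, .p5, .y8, .xii, .y7, .tau, .xii, .hi, .p],
  [.Z9, .Z6, .Z5, .Z4, .Z2, .Z0, .X10, .X8, .X7, .X4, .X1, .X0, .y10, .y8, .y4, .y3, .p7, .hi, .p8, .hi, .p8, .hi,
   .p4, .hi, .p9, .xii, .y2, .p, .hi, .xii, .p3, .taui, .xii, .p, .xii, .y1, .hi, .xii, .y5, .y9, .y10, .tau, .X0,
   .xii, .y2, .p2, .xii, .p5, .hi, .xii, .y3, .taui, .xii, .p4, .xii, .y8, .p5, .y3, .hi],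
  [.Z9, .Z7, .Z2, .Z1, .Z0, .X10, .X9, .X7, .X6, .X5, .X4, .X2, .X1, .y9, .y8, .y7, .y6, .y5, .y3, .p7, .hi, .p9, .hi,
   .p10, .hi, .p6, .hi, .p7, .hi, .p7, .xii, .p, .xii, .y1, .hi, .xii, .y4, .y5, .tau, .xii, .p, .xii, .y1, .y10, .hi,
   .xii, .y3, .tau, .X0, .xii, .p8, .xii, .y3, .y9, .p4, .xii, .y4, .p10, .tau, .xii, .p4, .xii, .y3, .p8, .y3, .xii,
   .y4, .tau, .xii, .hi, .p]⟩

theorem h475 : Hd F (g wAd) b475 := hdD (by decide +kernel)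
theorem r475_0 : R9 F (g wAd) b475 [] 0 0 := .of (startD 0 1) (by decide +kernel)
theorem r475_1 : R9 F (g wAd) b475 [] 0 1 := .of (startD 0 1) (by decide +kernel)
theorem r475_2 : R9 F (g wAd) b475 [] 0 2 := .of (startD 0 1) (by decide +kernel)
theorem r475_3 : R9 F (g wAd) b475 [] 1 0 := .of (startD 0 1) (by decide +kernel)
theorem r475_4 : R9 F (g wAd) b475 [] 1 1 := .of (startD 0 1) (by decide +kernel)
theorem r475_5 : R9 F (g wAd) b475 [] 1 2 := .of (startD 0 1) (by decide +kernel)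
theorem r475_6 : R9 F (g wAd) b475 [] 2 0 := .of (startD 0 1) (by decide +kernel)
theorem r475_7 : R9 F (g wAd) b475 [] 2 1 := .of (startD 0 1) (by decide +kernel)
theorem r475_8 : R9 F (g wAd) b475 [] 2 2 := .of (startD 0 1) (by decide +kernel)
theorem g475 : Gd F (g wAd) (0, d475) [] :=
  good9 ok h475 r475_0 r475_1 r475_2 r475_3 r475_4 r475_5 r475_6 r475_7 r475_8

def b476 : Wd := ⟨0, d476,
  [.Z9, .Z6, .Z5, .Z4, .Z3, .Z2, .Z1, .X9, .X8, .X6, .X2, .X0, .y10, .y9, .y7, .y5, .y2, .p10, .hi, .p9, .hi, .p10,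
   .hi, .p, .hi, .p6, .xii, .hi, .xii, .p9, .y4, .xii, .y6, .taui, .y1, .xii, .p10, .xii, .y1, .p10, .xii, .y3, .y5,
   .taui, .xii, .p7, .xii, .y2, .y7, .p8, .xii, .y7, .hi, .tau, .xii, .p4, .xii, .p4, .y4, .xii, .y3, .y10, .tau,
   .xii],
  [.Z10, .Z8, .Z6, .Z5, .Z4, .Z3, .X9, .X8, .X5, .X4, .X0, .y10, .y9, .y8, .y6, .y5, .y4, .y1, .p6, .hi, .p6, .hi,
   .p9, .hi, .p10, .hi, .p8, .xii, .p, .xii, .y6, .hi, .p4, .taui, .xii, .y2, .p, .xii, .y1, .hi, .xii, .y6, .y10,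
   .tau, .X0, .p7, .xii, .y6, .p8, .xii, .y8, .p6, .hi, .p7, .taui, .xii, .p5, .xii, .y6, .p, .xii, .y2],
  [.Z10, .Z9, .Z8, .Z6, .Z5, .Z4, .Z3, .X10, .X9, .X8, .X4, .X1, .X0, .y10, .y9, .y8, .y5, .y4, .y2, .y1, .p5, .hi,
   .p5, .hi, .p3, .hi, .p4, .hi, .p5, .hi, .xii, .y2, .p10, .xii, .y1, .p9, .xii, .y1, .tau, .xii, .y6, .p, .xii, .p,
   .xii, .y7, .y8, .y10, .taui, .y1, .p2, .xii, .p4, .xii, .y7, .p7, .y1, .taui, .xii, .y2, .p, .xii, .p, .xii, .y1]⟩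

theorem h476 : Hd F (g wAd) b476 := hdD (by decide +kernel)
theorem r476_0 : R9 F (g wAd) b476 [] 0 0 := .of (startD 0 1) (by decide +kernel)
theorem r476_1 : R9 F (g wAd) b476 [] 0 1 := .of (startD 0 1) (by decide +kernel)
theorem r476_2 : R9 F (g wAd) b476 [] 0 2 := .of (startD 0 1) (by decide +kernel)
theorem r476_3 : R9 F (g wAd) b476 [] 1 0 := .of (startD 0 1) (by decide +kernel)
theorem r476_4 : R9 F (g wAd) b476 [] 1 1 := .of (startD 0 1) (by decide +kernel)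
theorem r476_5 : R9 F (g wAd) b476 [] 1 2 := .of (startD 0 1) (by decide +kernel)
theorem r476_6 : R9 F (g wAd) b476 [] 2 0 := .of (startD 0 1) (by decide +kernel)
theorem r476_7 : R9 F (g wAd) b476 [] 2 1 := .of (startD 0 1) (by decide +kernel)
theorem r476_8 : R9 F (g wAd) b476 [] 2 2 := .of (startD 0 1) (by decide +kernel)
theorem g476 : Gd F (g wAd) (0, d476) [] :=
  good9 ok h476 r476_0 r476_1 r476_2 r476_3 r476_4 r476_5 r476_6 r476_7 r476_8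

def b477 : Wd := ⟨0, d477,
  [.Z10, .Z9, .Z8, .Z7, .Z6, .Z2, .Z0, .X10, .X9, .X8, .X6, .X5, .X4, .X3, .X1, .X0, .y10, .y6, .y4, .y2, .hi, .p3,
   .hi, .p10, .hi, .p10, .hi, .p2, .hi, .p7, .xii, .p, .xii, .p, .xii, .y6, .tau, .xii, .p, .xii, .hi, .y8, .xii, .y5,
   .y10, .tau, .xii, .p7, .xii, .y10, .p9, .y6, .xii, .y3, .y4, .taui, .xii, .p7, .xii, .y1, .y10, .p3, .xii, .y2,
   .y8, .tau, .xii, .p, .xii],
  [.Z10, .Z7, .Z4, .Z3, .Z2, .Z1, .Z0, .X10, .X7, .X4, .X2, .X1, .X0, .y10, .y7, .y5, .y4, .hi, .p6, .hi, .p5, .hi,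
   .p8, .hi, .p10, .xii, .p10, .xii, .y1, .y2, .p6, .xii, .y3, .tau, .xii, .y1, .p, .xii, .p, .xii, .y1, .y2, .tau,
   .p8, .xii, .p4, .xii, .p2, .hi, .p3, .y5, .taui, .xii, .p6, .xii, .y1, .p, .xii, .y1, .y7, .tau, .xii, .y4],
  [.Z6, .Z2, .Z1, .Z0, .X9, .X8, .X7, .X3, .X1, .X0, .y10, .y6, .y5, .y3, .y2, .p2, .hi, .p5, .hi, .p10, .hi, .p7,
   .hi, .p6, .hi, .xii, .p, .xii, .p8, .y1, .xii, .y7, .taui, .p10, .xii, .y6, .hi, .xii, .y9, .p5, .tau, .X0, .p4,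
   .xii, .p4, .xii, .p3, .y2, .taui, .xii, .p7, .xii, .p10, .hi, .p2, .tau, .xii, .hi, .p6]⟩

theorem h477 : Hd F (g wAd) b477 := hdD (by decide +kernel)
theorem r477_0 : R9 F (g wAd) b477 [] 0 0 := .of (startD 0 1) (by decide +kernel)
theorem r477_1 : R9 F (g wAd) b477 [] 0 1 := .of (startD 0 1) (by decide +kernel)
theorem r477_2 : R9 F (g wAd) b477 [] 0 2 := .of (startD 0 1) (by decide +kernel)
theorem r477_3 : R9 F (g wAd) b477 [] 1 0 := .of (startD 0 1) (by decide +kernel)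
theorem r477_4 : R9 F (g wAd) b477 [] 1 1 := .of (startD 0 1) (by decide +kernel)
theorem r477_5 : R9 F (g wAd) b477 [] 1 2 := .of (startD 0 1) (by decide +kernel)
theorem r477_6 : R9 F (g wAd) b477 [] 2 0 := .of (startD 0 1) (by decide +kernel)
theorem r477_7 : R9 F (g wAd) b477 [] 2 1 := .of (startD 0 1) (by decide +kernel)
theorem r477_8 : R9 F (g wAd) b477 [] 2 2 := .of (startD 0 1) (by decide +kernel)
theorem g477 : Gd F (g wAd) (0, d477) [] :=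
  good9 ok h477 r477_0 r477_1 r477_2 r477_3 r477_4 r477_5 r477_6 r477_7 r477_8

def b478 : Wd := ⟨0, d478,
  [.z, .Z9, .Z5, .Z3, .Z2, .Z0, .X10, .X8, .X5, .X1, .y10, .y9, .y8, .y7, .y6, .y2, .y1, .p4, .hi, .p, .hi, .p3, .hi,
   .p7, .hi, .p7, .hi, .p4, .hi, .xii, .p, .xii, .y3, .p4, .xii, .y9, .taui, .xii, .p, .xii, .y2, .hi, .xii, .y3, .y4,
   .taui, .X0, .xii, .p7, .xii, .y2, .p8, .y4, .xii, .y10, .taui, .xii, .p9, .xii, .y2, .y9, .p, .xii, .y1, .taui,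
   .xii, .p9],
  [.z, .Z10, .Z9, .Z6, .Z2, .Z1, .X9, .X8, .X7, .X3, .X1, .y10, .y7, .y6, .y4, .y3, .y2, .y1, .hi, .p5, .hi, .p6, .hi,
   .p8, .hi, .p10, .hi, .p4, .xii, .y2, .taui, .xii, .y6, .p, .xii, .p, .xii, .y7, .y8, .y10, .tau, .X0, .p10, .xii,
   .p4, .hi, .xii, .y1, .p2, .y9, .taui, .xii, .p8, .xii, .p2, .y5, .xii, .y1, .tau, .xii, .p10],
  [.Z8, .Z7, .Z6, .Z5, .Z4, .Z3, .Z0, .X10, .X4, .X3, .X2, .X1, .X0, .y10, .y7, .y6, .y5, .p8, .hi, .p9, .hi, .p7,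
   .hi, .p5, .hi, .p3, .hi, .xii, .y2, .hi, .p8, .xii, .y10, .p2, .tau, .y1, .xii, .p10, .xii, .y1, .p10, .xii, .y8,
   .taui, .p4, .xii, .y4, .p, .xii, .p2, .hi, .p4, .tau, .xii, .p7, .xii, .y1, .p9, .xii, .y1, .y2, .tau, .xii, .y7,
   .p4]⟩

theorem h478 : Hd F (g wAd) b478 := hdD (by decide +kernel)
theorem r478_0 : R9 F (g wAd) b478 [] 0 0 := .of (startD 0 1) (by decide +kernel)
theorem r478_1 : R9 F (g wAd) b478 [] 0 1 := .of (startD 0 1) (by decide +kernel)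
theorem r478_2 : R9 F (g wAd) b478 [] 0 2 := .of (startD 0 1) (by decide +kernel)
theorem r478_3 : R9 F (g wAd) b478 [] 1 0 := .of (startD 0 1) (by decide +kernel)
theorem r478_4 : R9 F (g wAd) b478 [] 1 1 := .of (startD 0 1) (by decide +kernel)
theorem r478_5 : R9 F (g wAd) b478 [] 1 2 := .of (startD 0 1) (by decide +kernel)
theorem r478_6 : R9 F (g wAd) b478 [] 2 0 := .of (startD 0 1) (by decide +kernel)
theorem r478_7 : R9 F (g wAd) b478 [] 2 1 := .of (startD 0 1) (by decide +kernel)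
theorem r478_8 : R9 F (g wAd) b478 [] 2 2 := .of (startD 0 1) (by decide +kernel)
theorem g478 : Gd F (g wAd) (0, d478) [] :=
  good9 ok h478 r478_0 r478_1 r478_2 r478_3 r478_4 r478_5 r478_6 r478_7 r478_8

def b479 : Wd := ⟨0, d479,
  [.z, .Z7, .Z5, .Z3, .Z2, .Z1, .Z0, .X10, .X9, .X6, .X5, .X4, .X2, .y8, .y7, .y6, .y5, .y2, .p4, .hi, .p, .hi, .p7,
   .hi, .p5, .hi, .p, .hi, .p4, .hi, .xii, .p10, .xii, .y4, .p10, .xii, .y8, .y9, .tau, .y1, .xii, .y1, .hi, .xii,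
   .p10, .xii, .y8, .y9, .taui, .X0, .xii, .y2, .p7, .xii, .p8, .xii, .y2, .y3, .y4, .y7, .tau, .xii, .p3, .xii, .p6,
   .y6, .xii, .y1, .tau, .xii, .y2, .p4],
  [.Z10, .Z9, .Z6, .Z0, .X10, .X8, .X6, .X3, .X1, .y9, .y7, .y6, .y4, .y2, .hi, .p7, .hi, .p5, .xii, .p10, .xii, .y7,
   .p8, .xii, .y9, .tau, .xii, .y6, .p, .xii, .p, .y7, .xii, .y6, .taui, .p2, .xii, .p2, .xii, .y5, .y10, .p2, .xii,
   .taui, .xii, .p4, .xii, .p7, .y1, .y5],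
  [.Z10, .Z9, .Z7, .Z6, .Z5, .Z4, .Z1, .Z0, .X8, .X7, .X6, .X4, .X3, .X2, .X0, .y10, .y9, .y7, .y5, .y4, .p6, .hi,
   .p7, .hi, .p5, .hi, .p7, .hi, .p4, .hi, .p7, .hi, .xii, .hi, .xii, .p10, .y8, .tau, .xii, .p, .xii, .y3, .y10, .hi,
   .xii, .y1, .tau, .xii, .y2, .p, .xii, .y4, .hi, .xii, .y6, .y10, .taui, .p10, .xii, .p9, .xii, .y9, .tau, .xii,
   .p5, .xii, .y3, .p8, .y9, .tau, .xii, .hi, .p3, .hi, .p10]⟩

theorem h479 : Hd F (g wAd) b479 := hdD (by decide +kernel)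
theorem r479_0 : R9 F (g wAd) b479 [] 0 0 := .of (startD 0 1) (by decide +kernel)
theorem r479_1 : R9 F (g wAd) b479 [] 0 1 := .of (startD 0 1) (by decide +kernel)
theorem r479_2 : R9 F (g wAd) b479 [] 0 2 := .of (startD 0 1) (by decide +kernel)
theorem r479_3 : R9 F (g wAd) b479 [] 1 0 := .of (startD 0 2) (by decide +kernel)
theorem r479_4 : R9 F (g wAd) b479 [] 1 1 := .of (startD 0 1) (by decide +kernel)
theorem r479_5 : R9 F (g wAd) b479 [] 1 2 := .of (startD 0 1) (by decide +kernel)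
theorem r479_6 : R9 F (g wAd) b479 [] 2 0 := .of (startD 0 1) (by decide +kernel)
theorem r479_7 : R9 F (g wAd) b479 [] 2 1 := .of (startD 0 1) (by decide +kernel)
theorem r479_8 : R9 F (g wAd) b479 [] 2 2 := .of (startD 0 1) (by decide +kernel)
theorem g479 : Gd F (g wAd) (0, d479) [] :=
  good9 ok h479 r479_0 r479_1 r479_2 r479_3 r479_4 r479_5 r479_6 r479_7 r479_8

theorem all : AllG F (g wAd) LD47 :=
  .cons g470 (.cons g471 (.cons g472 (.cons g473 (.cons g474 (.cons g475 (.cons g476 (.cons g477 (.cons g478 (.cons g479 (.nil))))))))))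

end Cfsg.Agent.BX.No33.Bk.D47
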