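import Cfsg.Agent.BX.No33.Cheap
set_option linter.all false

/-!
# Tests, diagonal case, part 63 (helper5; generated)
-/

set_option autoImplicit false
set_option maxRecDepth 100000
set_option Elab.async false

namespace Cfsg.Agent.BX.No33.Bk.D63

open Cfsg.Agent.H819.U33 Cfsg.Agent.BX.No33.Front

def b630 : Wd := ⟨0, d630,
  [.Z9, .Z8, .Z5, .Z3, .Z2, .Z1, .Z0, .X10, .X9, .X8, .X7, .X5, .X3, .X0, .y9, .y8, .y6, .y2, .p5, .hi, .p7, .hi, .p3,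
   .hi, .p10, .hi, .p8, .hi, .xii, .hi, .p8, .xii, .y3, .y9, .p10, .taui, .y1, .xii, .p10, .xii, .y4, .p10, .xii,
   .y10, .tau, .X0, .p4, .xii, .y4, .p5, .hi, .xii, .y6, .p, .tau, .xii, .p7, .xii, .y1, .y9, .p10, .hi, .p, .taui,
   .xii, .y2, .hi, .p10],
  [.Z6, .Z5, .Z4, .Z3, .Z2, .Z1, .X9, .X7, .X6, .X2, .y10, .y6, .y3, .hi, .p4, .hi, .p3, .hi, .p3, .hi, .p7, .hi, .p6,
   .hi, .p10, .xii, .p10, .taui, .X0, .hi, .xii, .hi, .xii, .y10, .p8, .tau, .X0, .p8, .xii, .p4, .xii, .y4, .p2, .y3,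
   .taui, .xii, .p7, .xii, .y4, .y10, .p3, .xii, .y8, .taui, .xii, .p7, .xii],
  [.Z10, .Z9, .Z7, .Z6, .Z4, .Z2, .Z1, .X9, .X8, .X6, .X5, .X4, .X1, .y9, .y7, .y3, .p9, .hi, .p9, .hi, .p4, .hi, .p3,
   .hi, .p5, .hi, .p, .xii, .p10, .xii, .p9, .y6, .xii, .y1, .taui, .xii, .hi, .p8, .xii, .y2, .y9, .taui, .p9, .xii,
   .hi, .xii, .y9, .p5, .tau, .xii, .y2, .p8, .xii, .y6, .p6, .hi, .taui, .xii, .y2, .hi, .p8, .hi]⟩

theorem h630 : Hd F (g wAd) b630 := hdD (by decide +kernel)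
theorem r630_0 : R9 F (g wAd) b630 [] 0 0 := .of (startD 0 1) (by decide +kernel)
theorem r630_1 : R9 F (g wAd) b630 [] 0 1 := .of (startD 0 1) (by decide +kernel)
theorem r630_2 : R9 F (g wAd) b630 [] 0 2 := .of (startD 0 1) (by decide +kernel)
theorem r630_3 : R9 F (g wAd) b630 [] 1 0 := .of (startD 0 1) (by decide +kernel)
theorem r630_4 : R9 F (g wAd) b630 [] 1 1 := .of (startD 0 1) (by decide +kernel)
theorem r630_5 : R9 F (g wAd) b630 [] 1 2 := .of (startD 0 1) (by decide +kernel)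
theorem r630_6 : R9 F (g wAd) b630 [] 2 0 := .of (startD 0 1) (by decide +kernel)
theorem r630_7 : R9 F (g wAd) b630 [] 2 1 := .of (startD 0 2) (by decide +kernel)
theorem r630_8 : R9 F (g wAd) b630 [] 2 2 := .of (startD 0 1) (by decide +kernel)
theorem g630 : Gd F (g wAd) (0, d630) [] :=
  good9 ok h630 r630_0 r630_1 r630_2 r630_3 r630_4 r630_5 r630_6 r630_7 r630_8

def b631 : Wd := ⟨0, d631,
  [.z, .Z9, .Z7, .Z5, .Z3, .Z2, .Z0, .X10, .X9, .X7, .X6, .X5, .X2, .y9, .y5, .y2, .p9, .hi, .p8, .hi, .p5, .hi, .p6,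
   .hi, .p9, .hi, .p10, .hi, .xii, .p, .xii, .y6, .p4, .xii, .y2, .taui, .y1, .xii, .p10, .xii, .y1, .p10, .xii, .y3,
   .y5, .tau, .X0, .xii, .p2, .xii, .y1, .y9, .p4, .xii, .y3, .p9, .taui, .xii, .p6, .xii, .y2, .y3, .p2, .xii, .tau,
   .xii, .y7, .hi, .xii],
  [.z, .Z9, .Z8, .Z7, .Z4, .Z3, .X6, .X4, .X3, .y6, .y4, .y2, .y1, .p8, .hi, .p9, .hi, .p3, .hi, .p5, .hi, .p6, .hi,
   .p5, .xii, .p3, .hi, .xii, .taui, .xii, .y6, .p, .xii, .y10, .p, .xii, .y7, .y10, .tau, .X0, .p2, .xii, .p4, .y8,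
   .xii, .y4, .y8, .p7, .tau, .xii, .p7, .xii, .hi, .y5, .p, .tau, .xii, .p7],
  [.z, .Z10, .Z2, .Z1, .Z0, .X9, .X8, .X6, .X4, .X3, .X1, .y8, .y6, .y4, .y1, .p5, .hi, .p, .hi, .p7, .hi, .p10, .hi,
   .p6, .hi, .p, .hi, .xii, .p5, .hi, .p8, .hi, .tau, .xii, .y1, .p, .xii, .p, .xii, .y3, .y9, .tau, .X0, .hi, .xii,
   .p6, .xii, .y2, .y3, .p2, .hi, .p2, .tau, .xii, .y2, .p9, .xii, .p3, .xii, .y8, .tau, .xii, .y7, .p4]⟩

theorem h631 : Hd F (g wAd) b631 := hdD (by decide +kernel)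
theorem r631_0 : R9 F (g wAd) b631 [] 0 0 := .of (startD 0 1) (by decide +kernel)
theorem r631_1 : R9 F (g wAd) b631 [] 0 1 := .of (startD 0 1) (by decide +kernel)
theorem r631_2 : R9 F (g wAd) b631 [] 0 2 := .of (startD 0 1) (by decide +kernel)
theorem r631_3 : R9 F (g wAd) b631 [] 1 0 := .of (startD 0 1) (by decide +kernel)
theorem r631_4 : R9 F (g wAd) b631 [] 1 1 := .of (startD 0 1) (by decide +kernel)
theorem r631_5 : R9 F (g wAd) b631 [] 1 2 := .of (startD 0 1) (by decide +kernel)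
theorem r631_6 : R9 F (g wAd) b631 [] 2 0 := .of (startD 0 1) (by decide +kernel)
theorem r631_7 : R9 F (g wAd) b631 [] 2 1 := .of (startD 0 1) (by decide +kernel)
theorem r631_8 : R9 F (g wAd) b631 [] 2 2 := .of (startD 0 1) (by decide +kernel)
theorem g631 : Gd F (g wAd) (0, d631) [] :=
  good9 ok h631 r631_0 r631_1 r631_2 r631_3 r631_4 r631_5 r631_6 r631_7 r631_8

def b632 : Wd := ⟨0, d632,
  [.z, .Z9, .Z5, .Z4, .Z3, .Z1, .X10, .X8, .X7, .X5, .X3, .X1, .y10, .y9, .y7, .y5, .y2, .y1, .p2, .hi, .p4, .hi,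
   .p10, .hi, .p3, .hi, .p3, .hi, .p, .xii, .p, .xii, .p7, .taui, .xii, .y2, .p, .xii, .y4, .hi, .xii, .y7, .tau, .X0,
   .xii, .y6, .p2, .xii, .p7, .xii, .p, .taui, .xii, .p4, .xii, .y6, .p9, .tau, .xii, .p2],
  [.Z9, .Z5, .Z2, .Z1, .Z0, .X10, .X8, .X7, .X6, .X5, .X0, .y10, .y9, .y4, .y1, .p2, .hi, .p5, .hi, .p7, .hi, .p4,
   .hi, .p3, .hi, .p3, .hi, .xii, .p, .xii, .y10, .p7, .tau, .xii, .y1, .p, .xii, .p, .y7, .xii, .y4, .y7, .taui, .p7,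
   .xii, .y4, .p7, .xii, .y2, .p3, .y2, .taui, .xii, .p4, .xii, .p9, .y4, .xii, .y4],
  [.Z9, .Z8, .Z7, .Z6, .Z5, .Z2, .X9, .X7, .X4, .X0, .y9, .y5, .y3, .y1, .p9, .hi, .p4, .hi, .p10, .hi, .p2, .hi, .p4,
   .hi, .p9, .hi, .xii, .p, .xii, .p, .xii, .y3, .y8, .taui, .y1, .xii, .p10, .xii, .y1, .y9, .p10, .xii, .y10, .tau,
   .X0, .xii, .p5, .xii, .p6, .xii, .y10, .p2, .y7, .tau, .xii, .p5, .xii, .y5, .p7, .xii, .y6, .tau, .xii, .p9, .xii,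
   .y6]⟩

theorem h632 : Hd F (g wAd) b632 := hdD (by decide +kernel)
theorem r632_0 : R9 F (g wAd) b632 [] 0 0 := .of (startD 0 1) (by decide +kernel)
theorem r632_1 : R9 F (g wAd) b632 [] 0 1 := .of (startD 0 1) (by decide +kernel)
theorem r632_2 : R9 F (g wAd) b632 [] 0 2 := .of (startD 0 1) (by decide +kernel)
theorem r632_3 : R9 F (g wAd) b632 [] 1 0 := .of (startD 0 1) (by decide +kernel)
theorem r632_4 : R9 F (g wAd) b632 [] 1 1 := .of (startD 0 1) (by decide +kernel)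
theorem r632_5 : R9 F (g wAd) b632 [] 1 2 := .of (startD 0 1) (by decide +kernel)
theorem r632_6 : R9 F (g wAd) b632 [] 2 0 := .of (startD 0 1) (by decide +kernel)
theorem r632_7 : R9 F (g wAd) b632 [] 2 1 := .of (startD 0 1) (by decide +kernel)
theorem r632_8 : R9 F (g wAd) b632 [] 2 2 := .of (startD 0 2) (by decide +kernel)
theorem g632 : Gd F (g wAd) (0, d632) [] :=
  good9 ok h632 r632_0 r632_1 r632_2 r632_3 r632_4 r632_5 r632_6 r632_7 r632_8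

def b633 : Wd := ⟨0, d633,
  [.z, .Z8, .Z7, .Z5, .Z4, .Z2, .X10, .X6, .X5, .X4, .X3, .X2, .X0, .y9, .y8, .y6, .y5, .y4, .y3, .y2, .hi, .p9, .hi,
   .p7, .hi, .p10, .hi, .p3, .hi, .xii, .hi, .xii, .p4, .y4, .hi, .taui, .y1, .xii, .y2, .hi, .xii, .p10, .xii, .y8,
   .taui, .p4, .xii, .p5, .xii, .hi, .y4, .xii, .y1, .taui, .xii, .y2, .p2, .xii, .p10, .xii, .y3, .y7, .tau, .xii],
  [.z, .Z8, .Z7, .Z2, .Z1, .Z0, .X8, .X5, .X4, .X3, .X0, .y10, .y5, .hi, .p9, .hi, .p5, .hi, .xii, .p, .xii, .p4,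
   .xii, .y4, .tau, .xii, .p, .xii, .hi, .y8, .xii, .y1, .y9, .taui, .X0, .xii, .p8, .xii, .y6, .p4, .xii, .y7, .y8,
   .p5, .tau, .xii, .p9, .xii, .y1, .y3, .p9, .xii, .y9, .taui, .xii, .hi, .p4],
  [.Z9, .Z8, .Z5, .Z4, .Z3, .Z0, .X6, .X3, .X0, .y9, .y7, .y6, .y5, .y3, .y1, .p5, .hi, .p8, .hi, .p4, .hi, .p5, .hi,
   .p8, .hi, .xii, .p, .xii, .hi, .y8, .p8, .tau, .xii, .p, .xii, .hi, .y8, .xii, .y4, .y7, .y8, .taui, .hi, .xii,
   .p6, .xii, .y5, .y7, .p9, .tau, .xii, .p9, .xii, .y9, .hi, .p7, .tau, .xii, .p]⟩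

theorem h633 : Hd F (g wAd) b633 := hdD (by decide +kernel)
theorem r633_0 : R9 F (g wAd) b633 [] 0 0 := .of (startD 0 1) (by decide +kernel)
theorem r633_1 : R9 F (g wAd) b633 [] 0 1 := .of (startD 0 2) (by decide +kernel)
theorem r633_2 : R9 F (g wAd) b633 [] 0 2 := .of (startD 0 1) (by decide +kernel)
theorem r633_3 : R9 F (g wAd) b633 [] 1 0 := .of (startD 0 1) (by decide +kernel)
theorem r633_4 : R9 F (g wAd) b633 [] 1 1 := .of (startD 0 1) (by decide +kernel)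
theorem r633_5 : R9 F (g wAd) b633 [] 1 2 := .of (startD 0 1) (by decide +kernel)
theorem r633_6 : R9 F (g wAd) b633 [] 2 0 := .of (startD 0 1) (by decide +kernel)
theorem r633_7 : R9 F (g wAd) b633 [] 2 1 := .of (startD 0 1) (by decide +kernel)
theorem r633_8 : R9 F (g wAd) b633 [] 2 2 := .of (startD 0 1) (by decide +kernel)
theorem g633 : Gd F (g wAd) (0, d633) [] :=
  good9 ok h633 r633_0 r633_1 r633_2 r633_3 r633_4 r633_5 r633_6 r633_7 r633_8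

def b634 : Wd := ⟨0, d634,
  [.z, .Z9, .Z7, .Z3, .Z2, .Z1, .X10, .X8, .X5, .X4, .y9, .y6, .y5, .y4, .y2, .p3, .hi, .p9, .hi, .p5, .hi, .p3, .hi,
   .xii, .p10, .hi, .p2, .hi, .p10, .tau, .y1, .xii, .p10, .xii, .y8, .p10, .xii, .y9, .y10, .tau, .p9, .xii, .p2,
   .y2, .xii, .y5, .p, .hi, .p10, .taui, .xii, .p8, .xii, .y9, .p5, .hi, .p3, .tau, .xii, .p, .hi],
  [.Z10, .Z4, .Z3, .Z1, .X10, .X8, .X3, .X2, .y10, .y9, .y4, .hi, .p10, .hi, .p8, .hi, .p4, .hi, .p7, .hi, .p, .xii,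
   .p10, .xii, .y5, .p9, .xii, .y5, .y9, .taui, .xii, .y6, .p, .xii, .y10, .p, .xii, .y1, .y10, .tau, .y1, .xii, .p,
   .xii, .p7, .xii, .y5, .hi, .tau, .xii, .hi, .p8, .xii, .y4, .p2],
  [.z, .Z9, .Z5, .Z3, .Z2, .Z1, .X10, .X8, .X6, .X5, .X4, .X2, .X0, .y9, .y7, .y4, .y3, .y2, .p9, .hi, .p6, .hi, .p9,
   .hi, .p10, .hi, .p10, .hi, .p4, .xii, .p10, .xii, .y1, .y2, .p6, .xii, .y7, .taui, .y1, .xii, .p10, .xii, .y8,
   .p10, .xii, .y2, .tau, .p9, .xii, .p3, .y10, .xii, .p, .y4, .taui, .xii, .p10, .xii, .y4]⟩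

theorem h634 : Hd F (g wAd) b634 := hdD (by decide +kernel)
theorem r634_0 : R9 F (g wAd) b634 [] 0 0 := .of (startD 0 1) (by decide +kernel)
theorem r634_1 : R9 F (g wAd) b634 [] 0 1 := .of (startD 0 1) (by decide +kernel)
theorem r634_2 : R9 F (g wAd) b634 [] 0 2 := .of (startD 0 1) (by decide +kernel)
theorem r634_3 : R9 F (g wAd) b634 [] 1 0 := .of (startD 0 1) (by decide +kernel)
theorem r634_4 : R9 F (g wAd) b634 [] 1 1 := .of (startD 0 1) (by decide +kernel)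
theorem r634_5 : R9 F (g wAd) b634 [] 1 2 := .of (startD 0 1) (by decide +kernel)
theorem r634_6 : R9 F (g wAd) b634 [] 2 0 := .of (startD 0 1) (by decide +kernel)
theorem r634_7 : R9 F (g wAd) b634 [] 2 1 := .of (startD 0 1) (by decide +kernel)
theorem r634_8 : R9 F (g wAd) b634 [] 2 2 := .of (startD 0 1) (by decide +kernel)
theorem g634 : Gd F (g wAd) (0, d634) [] :=
  good9 ok h634 r634_0 r634_1 r634_2 r634_3 r634_4 r634_5 r634_6 r634_7 r634_8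

def b635 : Wd := ⟨0, d635,
  [.Z9, .Z7, .Z6, .Z5, .Z3, .Z2, .X7, .X6, .X4, .X2, .X1, .y6, .y2, .y1, .hi, .p8, .hi, .p9, .hi, .p9, .hi, .p8, .hi,
   .xii, .p10, .xii, .y6, .p5, .xii, .y8, .taui, .xii, .p, .xii, .hi, .p10, .tau, .p10, .xii, .y10, .p9, .xii, .y8,
   .p3, .taui, .xii, .p5, .xii, .p, .y3, .xii, .y4, .tau, .xii, .p, .xii, .y10],
  [.z, .Z9, .Z8, .Z7, .Z5, .Z3, .Z2, .Z1, .Z0, .X7, .X6, .X0, .y10, .y8, .y6, .y4, .y2, .p9, .hi, .p7, .hi, .p8, .hi,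
   .p5, .hi, .p7, .xii, .y2, .p, .xii, .y3, .taui, .xii, .y2, .p, .xii, .y1, .hi, .xii, .y4, .y5, .tau, .xii, .y1,
   .p6, .xii, .p6, .xii, .y2, .y9, .taui, .xii, .p7, .xii, .y1, .p5, .y9, .xii, .y5, .taui, .xii, .p5],
  [.Z9, .Z8, .Z7, .Z1, .X10, .X9, .X8, .X6, .X3, .X2, .y10, .y9, .y8, .y6, .y5, .y1, .p8, .hi, .p8, .hi, .p3, .hi,
   .p7, .hi, .p4, .hi, .p5, .xii, .y2, .p3, .hi, .xii, .p10, .y1, .taui, .xii, .y1, .p, .xii, .y10, .p, .xii, .y5,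
   .tau, .xii, .p7, .xii, .p5, .xii, .p10, .y3, .y9, .taui, .xii, .p7, .xii, .p3, .y8, .xii, .y4, .taui, .xii]⟩

theorem h635 : Hd F (g wAd) b635 := hdD (by decide +kernel)
theorem r635_0 : R9 F (g wAd) b635 [] 0 0 := .of (startD 0 1) (by decide +kernel)
theorem r635_1 : R9 F (g wAd) b635 [] 0 1 := .of (startD 0 1) (by decide +kernel)
theorem r635_2 : R9 F (g wAd) b635 [] 0 2 := .of (startD 0 1) (by decide +kernel)
theorem r635_3 : R9 F (g wAd) b635 [] 1 0 := .of (startD 0 2) (by decide +kernel)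
theorem r635_4 : R9 F (g wAd) b635 [] 1 1 := .of (startD 0 1) (by decide +kernel)
theorem r635_5 : R9 F (g wAd) b635 [] 1 2 := .of (startD 0 1) (by decide +kernel)
theorem r635_6 : R9 F (g wAd) b635 [] 2 0 := .of (startD 0 1) (by decide +kernel)
theorem r635_7 : R9 F (g wAd) b635 [] 2 1 := .of (startD 0 1) (by decide +kernel)
theorem r635_8 : R9 F (g wAd) b635 [] 2 2 := .of (startD 0 1) (by decide +kernel)
theorem g635 : Gd F (g wAd) (0, d635) [] :=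
  good9 ok h635 r635_0 r635_1 r635_2 r635_3 r635_4 r635_5 r635_6 r635_7 r635_8

def b636 : Wd := ⟨0, d636,
  [.z, .Z9, .Z8, .Z6, .Z4, .Z1, .X8, .X7, .X6, .X3, .X0, .y6, .hi, .p9, .hi, .p6, .hi, .p5, .hi, .p10, .hi, .p8, .xii,
   .y2, .p3, .hi, .p8, .hi, .p6, .taui, .xii, .y2, .p, .xii, .y4, .hi, .xii, .y4, .y6, .tau, .xii, .y1, .p, .xii, .y4,
   .p, .xii, .y1, .y10, .tau, .p7, .xii, .p4, .xii, .tau, .xii, .p9, .xii, .p3, .y3, .xii, .y4, .y10, .tau, .xii, .hi,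
   .xii],
  [.z, .Z10, .Z9, .Z6, .Z4, .Z3, .Z2, .Z0, .X7, .X6, .X5, .X4, .X1, .X0, .y10, .y9, .y7, .y5, .y4, .p7, .hi, .p7, .hi,
   .p6, .hi, .p, .hi, .p4, .xii, .p10, .hi, .p2, .hi, .p10, .taui, .xii, .y6, .p, .xii, .p, .xii, .y1, .y2, .y10,
   .taui, .xii, .p5, .xii, .y4, .p, .y3, .xii, .y1, .y2, .taui, .xii, .p8, .xii, .p2, .y10, .xii],
  [.Z10, .Z9, .Z8, .Z7, .Z4, .Z3, .Z1, .X10, .X7, .X6, .X5, .X3, .X1, .X0, .y8, .y2, .p, .hi, .p4, .hi, .p5, .hi, .p9,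
   .hi, .p4, .hi, .p10, .xii, .p10, .xii, .y7, .p6, .xii, .y7, .taui, .xii, .p, .xii, .hi, .y8, .xii, .y7, .y8, .taui,
   .X0, .p8, .xii, .p10, .xii, .p2, .xii, .y2, .y3, .taui, .xii, .p5, .xii, .y8, .y9, .p9, .xii, .y5, .taui, .xii,
   .p4, .hi]⟩

theorem h636 : Hd F (g wAd) b636 := hdD (by decide +kernel)
theorem r636_0 : R9 F (g wAd) b636 [] 0 0 := .of (startD 0 1) (by decide +kernel)
theorem r636_1 : R9 F (g wAd) b636 [] 0 1 := .of (startD 0 1) (by decide +kernel)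
theorem r636_2 : R9 F (g wAd) b636 [] 0 2 := .of (startD 0 1) (by decide +kernel)
theorem r636_3 : R9 F (g wAd) b636 [] 1 0 := .of (startD 0 1) (by decide +kernel)
theorem r636_4 : R9 F (g wAd) b636 [] 1 1 := .of (startD 0 1) (by decide +kernel)
theorem r636_5 : R9 F (g wAd) b636 [] 1 2 := .of (startD 0 1) (by decide +kernel)
theorem r636_6 : R9 F (g wAd) b636 [] 2 0 := .of (startD 0 1) (by decide +kernel)
theorem r636_7 : R9 F (g wAd) b636 [] 2 1 := .of (startD 0 1) (by decide +kernel)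
theorem r636_8 : R9 F (g wAd) b636 [] 2 2 := .of (startD 0 1) (by decide +kernel)
theorem g636 : Gd F (g wAd) (0, d636) [] :=
  good9 ok h636 r636_0 r636_1 r636_2 r636_3 r636_4 r636_5 r636_6 r636_7 r636_8

def b637 : Wd := ⟨0, d637,
  [.z, .Z8, .Z5, .Z4, .X4, .X0, .y10, .y9, .y5, .y1, .p8, .hi, .p8, .hi, .p4, .hi, .p6, .hi, .p9, .hi, .p7, .hi, .xii,
   .hi, .xii, .y6, .p10, .xii, .taui, .xii, .p, .xii, .y2, .y10, .hi, .xii, .y6, .tau, .p10, .xii, .y8, .p5, .xii,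
   .y2, .hi, .p5, .tau, .xii, .y2, .p4, .xii, .y2, .p3, .tau, .xii, .y2, .p8],
  [.z, .Z10, .Z7, .Z4, .Z3, .Z0, .X8, .X4, .X2, .X1, .y8, .y2, .p6, .hi, .p9, .hi, .p6, .hi, .p4, .hi, .p10, .hi, .p,
   .xii, .hi, .xii, .y6, .p10, .taui, .xii, .y1, .p, .xii, .p3, .y3, .hi, .tau, .p4, .xii, .p4, .xii, .y7, .p4, .y2,
   .tau, .xii, .p9, .xii, .y10, .hi, .y5, .p3, .taui, .xii, .y2, .hi, .p6],
  [.z, .Z10, .Z9, .Z8, .Z7, .Z5, .Z0, .X9, .X7, .X3, .X0, .y10, .y8, .y6, .y4, .y3, .hi, .p9, .hi, .p8, .hi, .p4, .hi,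
   .p6, .hi, .p7, .hi, .p6, .hi, .xii, .hi, .xii, .p8, .xii, .y9, .taui, .y1, .xii, .p10, .xii, .y5, .p10, .xii, .y9,
   .tau, .X0, .p7, .xii, .p3, .hi, .xii, .p4, .y8, .y9, .tau, .xii, .y2, .p8, .xii, .y5, .p2, .xii, .y3, .y7, .tau,
   .xii, .p4, .hi, .p2]⟩

theorem h637 : Hd F (g wAd) b637 := hdD (by decide +kernel)
theorem r637_0 : R9 F (g wAd) b637 [] 0 0 := .of (startD 0 1) (by decide +kernel)
theorem r637_1 : R9 F (g wAd) b637 [] 0 1 := .of (startD 0 1) (by decide +kernel)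
theorem r637_2 : R9 F (g wAd) b637 [] 0 2 := .of (startD 0 1) (by decide +kernel)
theorem r637_3 : R9 F (g wAd) b637 [] 1 0 := .of (startD 0 1) (by decide +kernel)
theorem r637_4 : R9 F (g wAd) b637 [] 1 1 := .of (startD 0 1) (by decide +kernel)
theorem r637_5 : R9 F (g wAd) b637 [] 1 2 := .of (startD 0 1) (by decide +kernel)
theorem r637_6 : R9 F (g wAd) b637 [] 2 0 := .of (startD 0 1) (by decide +kernel)
theorem r637_7 : R9 F (g wAd) b637 [] 2 1 := .of (startD 0 1) (by decide +kernel)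
theorem r637_8 : R9 F (g wAd) b637 [] 2 2 := .of (startD 0 2) (by decide +kernel)
theorem g637 : Gd F (g wAd) (0, d637) [] :=
  good9 ok h637 r637_0 r637_1 r637_2 r637_3 r637_4 r637_5 r637_6 r637_7 r637_8

def b638 : Wd := ⟨0, d638,
  [.z, .Z8, .Z3, .Z1, .X8, .X7, .X4, .X0, .y9, .y7, .y4, .y2, .y1, .p5, .hi, .p9, .hi, .p9, .hi, .p5, .hi, .p9, .hi,
   .p, .hi, .xii, .p10, .xii, .y4, .tau, .xii, .y6, .p, .xii, .p, .xii, .y3, .y10, .taui, .X0, .xii, .y6, .p4, .xii,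
   .y3, .p8, .xii, .y1, .y9, .tau, .xii, .p7, .xii, .p9, .xii, .y6, .tau, .xii, .p4, .hi, .p6],
  [.z, .Z8, .Z3, .Z1, .X10, .X6, .X5, .X3, .X2, .X1, .X0, .y10, .y7, .y6, .y3, .y2, .y1, .hi, .p10, .hi, .p3, .hi,
   .p8, .hi, .p5, .hi, .p10, .hi, .p10, .xii, .hi, .p8, .xii, .tau, .xii, .y6, .p, .xii, .p, .xii, .y4, .y7, .tau,
   .X0, .y1, .p4, .xii, .p4, .xii, .p2, .y2, .hi, .taui, .xii, .p7, .xii, .y4, .y6, .p10, .hi, .p5],
  [.Z10, .Z7, .Z6, .Z4, .Z1, .X9, .X6, .X4, .X3, .X0, .y10, .y7, .y5, .y4, .y3, .y2, .y1, .p10, .hi, .p4, .hi, .p3,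
   .hi, .p6, .hi, .p8, .hi, .p10, .xii, .p, .xii, .p9, .y1, .xii, .taui, .y1, .xii, .y1, .hi, .xii, .p10, .xii, .y4,
   .y8, .tau, .X0, .p10, .xii, .y5, .p4, .hi, .xii, .y6, .tau, .xii, .y2, .p9, .xii, .y10, .p3, .xii, .y9, .taui,
   .xii, .p8]⟩

theorem h638 : Hd F (g wAd) b638 := hdD (by decide +kernel)
theorem r638_0 : R9 F (g wAd) b638 [] 0 0 := .of (startD 0 1) (by decide +kernel)
theorem r638_1 : R9 F (g wAd) b638 [] 0 1 := .of (startD 0 1) (by decide +kernel)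
theorem r638_2 : R9 F (g wAd) b638 [] 0 2 := .of (startD 0 1) (by decide +kernel)
theorem r638_3 : R9 F (g wAd) b638 [] 1 0 := .of (startD 0 1) (by decide +kernel)
theorem r638_4 : R9 F (g wAd) b638 [] 1 1 := .of (startD 0 1) (by decide +kernel)
theorem r638_5 : R9 F (g wAd) b638 [] 1 2 := .of (startD 0 1) (by decide +kernel)
theorem r638_6 : R9 F (g wAd) b638 [] 2 0 := .of (startD 0 1) (by decide +kernel)
theorem r638_7 : R9 F (g wAd) b638 [] 2 1 := .of (startD 0 1) (by decide +kernel)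
theorem r638_8 : R9 F (g wAd) b638 [] 2 2 := .of (startD 0 1) (by decide +kernel)
theorem g638 : Gd F (g wAd) (0, d638) [] :=
  good9 ok h638 r638_0 r638_1 r638_2 r638_3 r638_4 r638_5 r638_6 r638_7 r638_8

def b639 : Wd := ⟨0, d639,
  [.Z8, .Z6, .Z5, .Z3, .Z2, .Z0, .X9, .X8, .X1, .y10, .y9, .y8, .y7, .y6, .y5, .hi, .p2, .hi, .p5, .hi, .p7, .hi, .p5,
   .hi, .p7, .hi, .p3, .hi, .xii, .y2, .hi, .p2, .hi, .taui, .y1, .xii, .p10, .xii, .y4, .p10, .xii, .y1, .y3, .taui,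
   .p5, .xii, .hi, .p4, .y8, .hi, .p, .tau, .xii, .p4, .xii, .y4, .p7],
  [.z, .Z9, .Z6, .Z5, .Z3, .X10, .X7, .X5, .X3, .X2, .X1, .y10, .y9, .y8, .y7, .y5, .y3, .hi, .p9, .hi, .p5, .hi, .p8,
   .hi, .p6, .hi, .p8, .hi, .xii, .y2, .hi, .p10, .taui, .xii, .p3, .hi, .xii, .p3, .hi, .tau, .X0, .p7, .xii, .p5,
   .y7, .xii, .y2, .p10, .taui, .xii, .p4, .xii, .y2, .y10, .p8, .xii, .y2, .tau],
  [.z, .Z9, .Z8, .Z6, .Z5, .Z4, .Z3, .X10, .X8, .X5, .X4, .X3, .X2, .y10, .y8, .y6, .y5, .y4, .y3, .y2, .y1, .p5, .hi,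
   .p8, .hi, .p6, .hi, .p3, .hi, .p10, .hi, .p5, .hi, .xii, .p10, .xii, .y1, .p8, .xii, .y4, .y9, .tau, .xii, .p,
   .xii, .y4, .hi, .xii, .y5, .y9, .taui, .xii, .y1, .p, .xii, .y10, .p, .xii, .y6, .y10, .taui, .p8, .xii, .p, .y10,
   .xii, .taui, .xii, .p7, .xii, .y1, .y6, .p8, .xii, .y3, .tau, .xii, .y7]⟩

theorem h639 : Hd F (g wAd) b639 := hdD (by decide +kernel)
theorem r639_0 : R9 F (g wAd) b639 [] 0 0 := .of (startD 0 1) (by decide +kernel)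
theorem r639_1 : R9 F (g wAd) b639 [] 0 1 := .of (startD 0 1) (by decide +kernel)
theorem r639_2 : R9 F (g wAd) b639 [] 0 2 := .of (startD 0 1) (by decide +kernel)
theorem r639_3 : R9 F (g wAd) b639 [] 1 0 := .of (startD 0 1) (by decide +kernel)
theorem r639_4 : R9 F (g wAd) b639 [] 1 1 := .of (startD 0 1) (by decide +kernel)
theorem r639_5 : R9 F (g wAd) b639 [] 1 2 := .of (startD 0 1) (by decide +kernel)
theorem r639_6 : R9 F (g wAd) b639 [] 2 0 := .of (startD 0 1) (by decide +kernel)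
theorem r639_7 : R9 F (g wAd) b639 [] 2 1 := .of (startD 0 1) (by decide +kernel)
theorem r639_8 : R9 F (g wAd) b639 [] 2 2 := .of (startD 0 1) (by decide +kernel)
theorem g639 : Gd F (g wAd) (0, d639) [] :=
  good9 ok h639 r639_0 r639_1 r639_2 r639_3 r639_4 r639_5 r639_6 r639_7 r639_8

theorem all : AllG F (g wAd) LD63 :=
  .cons g630 (.cons g631 (.cons g632 (.cons g633 (.cons g634 (.cons g635 (.cons g636 (.cons g637 (.cons g638 (.cons g639 (.nil))))))))))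

end Cfsg.Agent.BX.No33.Bk.D63
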