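import Cfsg.Agent.BX.No33.Cheap
set_option linter.all false

/-!
# Tests, diagonal case, part 79 (helper5; generated)
-/

set_option autoImplicit false
set_option maxRecDepth 100000
set_option Elab.async false

namespace Cfsg.Agent.BX.No33.Bk.D79

open Cfsg.Agent.H819.U33 Cfsg.Agent.BX.No33.Front

def b790 : Wd := ⟨1, d790,
  [.z, .Z9, .Z5, .Z3, .Z2, .Z1, .Z0, .X9, .X8, .X7, .X3, .y10, .y9, .y8, .y6, .y5, .p4, .hi, .p8, .hi, .p10, .hi, .p2,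
   .hi, .p, .hi, .p9, .hi, .xii, .y2, .p3, .hi, .xii, .y1, .y6, .p6, .tau, .xii, .y1, .p, .xii, .y10, .p, .xii, .y5,
   .y10, .taui, .xii, .p, .xii, .y1, .y10, .hi, .xii, .y5, .taui, .p9, .xii, .y4, .p3, .xii, .taui, .xii, .y2, .p9,
   .xii, .p2, .y10, .hi, .p6, .taui, .xii, .p2],
  [.z, .Z6, .Z3, .Z2, .Z1, .X10, .X7, .X5, .X3, .X0, .y7, .y6, .y5, .y4, .y3, .y2, .p10, .hi, .p2, .hi, .p4, .hi, .p,
   .hi, .p10, .xii, .p10, .xii, .y8, .tau, .xii, .y2, .p, .xii, .y2, .hi, .xii, .y1, .taui, .y1, .xii, .p9, .xii, .p8,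
   .y1, .xii, .y3, .y10, .taui, .xii, .p5, .xii, .y1, .y7, .p9, .xii, .taui, .xii, .p9],
  [.z, .Z10, .Z8, .Z7, .Z5, .Z3, .Z2, .X10, .X9, .X8, .X7, .X5, .X4, .X3, .X1, .y9, .y8, .y7, .y5, .p4, .hi, .p10,
   .hi, .p5, .hi, .p5, .hi, .p4, .hi, .p7, .xii, .p, .xii, .hi, .p10, .taui, .y1, .xii, .p10, .xii, .y8, .p10, .xii,
   .y9, .taui, .xii, .p10, .xii, .p10, .y8, .xii, .y6, .taui, .xii, .p3, .xii, .y5, .p4, .taui, .xii, .p3]⟩

theorem h790 : Hd F (g wAd) b790 := hdD (by decide +kernel)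
theorem r790_0 : R9 F (g wAd) b790 [] 0 0 := .of (startD 0 1) (by decide +kernel)
theorem r790_1 : R9 F (g wAd) b790 [] 0 1 := .of (startD 0 1) (by decide +kernel)
theorem r790_2 : R9 F (g wAd) b790 [] 0 2 := .of (startD 0 1) (by decide +kernel)
theorem r790_3 : R9 F (g wAd) b790 [] 1 0 := .of (startD 0 1) (by decide +kernel)
theorem r790_4 : R9 F (g wAd) b790 [] 1 1 := .of (startD 0 1) (by decide +kernel)
theorem r790_5 : R9 F (g wAd) b790 [] 1 2 := .of (startD 0 1) (by decide +kernel)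
theorem r790_6 : R9 F (g wAd) b790 [] 2 0 := .of (startD 0 1) (by decide +kernel)
theorem r790_7 : R9 F (g wAd) b790 [] 2 1 := .of (startD 0 1) (by decide +kernel)
theorem r790_8 : R9 F (g wAd) b790 [] 2 2 := .of (startD 0 1) (by decide +kernel)
theorem g790 : Gd F (g wAd) (1, d790) [] :=
  good9 ok h790 r790_0 r790_1 r790_2 r790_3 r790_4 r790_5 r790_6 r790_7 r790_8

def b791 : Wd := ⟨1, d791,
  [.Z8, .Z7, .Z4, .X10, .X9, .X8, .X7, .X6, .X2, .y7, .y3, .p10, .hi, .p9, .hi, .p10, .hi, .p7, .hi, .xii, .y2, .p3,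
   .hi, .xii, .y1, .y6, .tau, .xii, .y6, .p, .xii, .y10, .p, .xii, .y7, .tau, .X0, .p8, .xii, .p, .xii, .y9, .hi, .p6,
   .hi, .taui, .xii, .p6, .xii, .p7, .y8, .xii, .tau, .xii, .y6, .p10, .xii],
  [.Z10, .Z9, .Z8, .Z7, .Z6, .Z4, .Z2, .X3, .y10, .y9, .y8, .y4, .p3, .hi, .p7, .hi, .p6, .hi, .p5, .hi, .p4, .hi,
   .p10, .hi, .xii, .p10, .xii, .y9, .taui, .xii, .y2, .p, .xii, .y1, .hi, .xii, .y4, .y6, .tau, .p7, .xii, .p8, .xii,
   .p8, .tau, .xii, .p2, .xii, .y10, .p2, .xii, .y4, .taui, .xii, .p2],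
  [.Z8, .Z5, .Z2, .X8, .X5, .y10, .y9, .y8, .y3, .p10, .hi, .p6, .hi, .p3, .hi, .p10, .hi, .p6, .xii, .hi, .xii, .y8,
   .p6, .xii, .y3, .tau, .y1, .xii, .p10, .xii, .p10, .y7, .xii, .y4, .y10, .taui, .X0, .y1, .p2, .xii, .p5, .xii,
   .y3, .y9, .p8, .taui, .xii, .p9, .xii, .y3, .p6, .y9, .xii, .y3, .taui, .xii, .y2]⟩

theorem h791 : Hd F (g wAd) b791 := hdD (by decide +kernel)
theorem r791_0 : R9 F (g wAd) b791 [] 0 0 := .of (startD 0 1) (by decide +kernel)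
theorem r791_1 : R9 F (g wAd) b791 [] 0 1 := .of (startD 0 1) (by decide +kernel)
theorem r791_2 : R9 F (g wAd) b791 [] 0 2 := .of (startD 0 1) (by decide +kernel)
theorem r791_3 : R9 F (g wAd) b791 [] 1 0 := .of (startD 0 1) (by decide +kernel)
theorem r791_4 : R9 F (g wAd) b791 [] 1 1 := .of (startD 0 1) (by decide +kernel)
theorem r791_5 : R9 F (g wAd) b791 [] 1 2 := .of (startD 0 1) (by decide +kernel)
theorem r791_6 : R9 F (g wAd) b791 [] 2 0 := .of (startD 0 1) (by decide +kernel)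
theorem r791_7 : R9 F (g wAd) b791 [] 2 1 := .of (startD 0 1) (by decide +kernel)
theorem r791_8 : R9 F (g wAd) b791 [] 2 2 := .of (startD 0 1) (by decide +kernel)
theorem g791 : Gd F (g wAd) (1, d791) [] :=
  good9 ok h791 r791_0 r791_1 r791_2 r791_3 r791_4 r791_5 r791_6 r791_7 r791_8

def b792 : Wd := ⟨1, d792,
  [.Z10, .Z9, .Z8, .Z2, .Z0, .X10, .X9, .X8, .X7, .X5, .X2, .X1, .X0, .y10, .y8, .y7, .y6, .y3, .y2, .y1, .p4, .hi,
   .p3, .hi, .p, .hi, .p, .hi, .p5, .xii, .y2, .hi, .xii, .p9, .xii, .y2, .y7, .taui, .X0, .p10, .xii, .y5, .p8, .xii,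
   .y2, .y4, .tau, .xii, .p5, .xii, .hi, .xii, .y1, .y4, .tau, .xii, .p8],
  [.z, .Z10, .Z7, .Z6, .Z5, .X3, .X2, .X1, .X0, .y10, .y9, .y8, .y5, .y4, .y2, .y1, .p3, .hi, .p7, .hi, .p3, .hi, .p,
   .xii, .y2, .p3, .hi, .xii, .y1, .y3, .taui, .xii, .p, .xii, .y4, .hi, .xii, .y7, .y8, .taui, .y1, .xii, .p5, .xii,
   .y8, .p10, .xii, .y8, .tau, .xii, .y2, .p2, .xii, .y7, .p2, .tau, .xii, .p2],
  [.z, .Z8, .Z6, .X9, .X5, .X4, .X2, .X1, .y9, .y8, .y5, .y4, .y3, .y2, .p10, .hi, .p9, .hi, .p7, .hi, .p8, .hi, .p9,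
   .hi, .p3, .hi, .p3, .xii, .hi, .xii, .p8, .y2, .tau, .X0, .y1, .p4, .xii, .p4, .xii, .p3, .y8, .tau, .xii, .p7,
   .xii, .p9, .xii, .y1, .y9, .tau, .xii, .y7, .p2]⟩

theorem h792 : Hd F (g wAd) b792 := hdD (by decide +kernel)
theorem r792_0 : R9 F (g wAd) b792 [] 0 0 := .of (startD 0 1) (by decide +kernel)
theorem r792_1 : R9 F (g wAd) b792 [] 0 1 := .of (startD 0 1) (by decide +kernel)
theorem r792_2 : R9 F (g wAd) b792 [] 0 2 := .of (startD 0 1) (by decide +kernel)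
theorem r792_3 : R9 F (g wAd) b792 [] 1 0 := .of (startD 0 1) (by decide +kernel)
theorem r792_4 : R9 F (g wAd) b792 [] 1 1 := .of (startD 0 1) (by decide +kernel)
theorem r792_5 : R9 F (g wAd) b792 [] 1 2 := .of (startD 0 1) (by decide +kernel)
theorem r792_6 : R9 F (g wAd) b792 [] 2 0 := .of (startD 0 1) (by decide +kernel)
theorem r792_7 : R9 F (g wAd) b792 [] 2 1 := .of (startD 0 1) (by decide +kernel)
theorem r792_8 : R9 F (g wAd) b792 [] 2 2 := .of (startD 0 1) (by decide +kernel)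
theorem g792 : Gd F (g wAd) (1, d792) [] :=
  good9 ok h792 r792_0 r792_1 r792_2 r792_3 r792_4 r792_5 r792_6 r792_7 r792_8

def b793 : Wd := ⟨1, d793,
  [.z, .Z7, .Z5, .Z4, .Z2, .Z1, .Z0, .X8, .X5, .y10, .y6, .y1, .hi, .p9, .hi, .p6, .hi, .p9, .hi, .p, .hi, .p4, .hi,
   .p, .xii, .p10, .xii, .p5, .y1, .tau, .xii, .p, .xii, .y3, .y10, .hi, .xii, .y5, .taui, .xii, .y6, .p, .xii, .y10,
   .p, .xii, .y6, .y10, .taui, .p6, .xii, .p2, .xii, .y6, .taui, .xii, .p2, .xii, .y2, .p6, .xii, .y2, .taui, .xii,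
   .p2],
  [.Z6, .Z5, .Z2, .Z1, .X5, .X3, .y10, .y7, .y5, .y3, .y2, .y1, .hi, .p, .hi, .p3, .hi, .p5, .hi, .p, .hi, .xii, .p10,
   .xii, .p9, .xii, .y1, .y9, .taui, .xii, .y2, .p3, .hi, .xii, .y2, .taui, .X0, .p2, .xii, .p, .xii, .p7, .tau, .xii,
   .p2, .xii, .y3, .p2, .xii, .y10, .tau, .xii, .p3, .xii, .y1],
  [.z, .Z9, .Z8, .Z7, .Z6, .Z5, .Z4, .Z2, .Z0, .X8, .X5, .X4, .X1, .X0, .y7, .y6, .y1, .hi, .p4, .hi, .p4, .hi, .p4,
   .hi, .p10, .xii, .hi, .xii, .p5, .y1, .xii, .tau, .xii, .y1, .p, .xii, .p, .xii, .y1, .taui, .xii, .y1, .p10, .xii,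
   .y6, .p2, .xii, .y3, .p5, .taui, .xii, .p7, .xii, .y1, .p3, .xii, .y2, .y3, .taui, .xii, .hi]⟩

theorem h793 : Hd F (g wAd) b793 := hdD (by decide +kernel)
theorem r793_0 : R9 F (g wAd) b793 [] 0 0 := .of (startD 0 1) (by decide +kernel)
theorem r793_1 : R9 F (g wAd) b793 [] 0 1 := .of (startD 0 1) (by decide +kernel)
theorem r793_2 : R9 F (g wAd) b793 [] 0 2 := .of (startD 0 2) (by decide +kernel)
theorem r793_3 : R9 F (g wAd) b793 [] 1 0 := .of (startD 0 1) (by decide +kernel)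
theorem r793_4 : R9 F (g wAd) b793 [] 1 1 := .of (startD 0 1) (by decide +kernel)
theorem r793_5 : R9 F (g wAd) b793 [] 1 2 := .of (startD 0 1) (by decide +kernel)
theorem r793_6 : R9 F (g wAd) b793 [] 2 0 := .of (startD 0 1) (by decide +kernel)
theorem r793_7 : R9 F (g wAd) b793 [] 2 1 := .of (startD 0 1) (by decide +kernel)
theorem r793_8 : R9 F (g wAd) b793 [] 2 2 := .of (startD 0 1) (by decide +kernel)
theorem g793 : Gd F (g wAd) (1, d793) [] :=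
  good9 ok h793 r793_0 r793_1 r793_2 r793_3 r793_4 r793_5 r793_6 r793_7 r793_8

def b794 : Wd := ⟨1, d794,
  [.Z10, .Z9, .Z8, .Z7, .Z6, .Z3, .X10, .X8, .y10, .y8, .y4, .y3, .p9, .hi, .p9, .hi, .p10, .hi, .p6, .hi, .p7, .hi,
   .p4, .xii, .p, .xii, .hi, .y8, .p8, .tau, .y1, .xii, .y6, .p10, .xii, .y8, .p10, .xii, .y10, .taui, .X0, .p5, .xii,
   .y7, .p10, .xii, .y4, .p2, .xii, .taui, .xii, .y2, .p5, .xii, .hi, .p7, .y9, .taui, .xii, .p10, .hi, .p4],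
  [.Z6, .Z5, .Z4, .Z2, .Z1, .X10, .X7, .X6, .X5, .X4, .X3, .X1, .X0, .y7, .y6, .y4, .y3, .y1, .hi, .p10, .hi, .p5,
   .hi, .p4, .hi, .p10, .hi, .p10, .xii, .y2, .p3, .hi, .xii, .y1, .y3, .tau, .y1, .xii, .y2, .hi, .xii, .y9, .p10,
   .xii, .y10, .tau, .p10, .xii, .y2, .p6, .xii, .y6, .hi, .taui, .xii, .y2, .p9, .xii, .p3, .y5, .xii, .y5, .tau,
   .xii, .y6, .p7],
  [.Z10, .Z9, .Z4, .Z2, .Z1, .X10, .X9, .X8, .X7, .X4, .X3, .X1, .X0, .y10, .y7, .y6, .y3, .y2, .y1, .p, .hi, .p5,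
   .hi, .p4, .hi, .p8, .hi, .p5, .hi, .p10, .xii, .y2, .p, .xii, .y6, .hi, .p10, .tau, .xii, .p, .xii, .y4, .y10, .hi,
   .xii, .y5, .tau, .X0, .p10, .xii, .p8, .xii, .y10, .p5, .y2, .hi, .p8, .taui, .xii, .hi, .p6, .xii, .y1, .p8, .tau,
   .xii, .hi, .p10, .hi]⟩

theorem h794 : Hd F (g wAd) b794 := hdD (by decide +kernel)
theorem r794_0 : R9 F (g wAd) b794 [] 0 0 := .of (startD 0 1) (by decide +kernel)
theorem r794_1 : R9 F (g wAd) b794 [] 0 1 := .of (startD 0 1) (by decide +kernel)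
theorem r794_2 : R9 F (g wAd) b794 [] 0 2 := .of (startD 0 1) (by decide +kernel)
theorem r794_3 : R9 F (g wAd) b794 [] 1 0 := .of (startD 0 1) (by decide +kernel)
theorem r794_4 : R9 F (g wAd) b794 [] 1 1 := .of (startD 0 1) (by decide +kernel)
theorem r794_5 : R9 F (g wAd) b794 [] 1 2 := .of (startD 0 1) (by decide +kernel)
theorem r794_6 : R9 F (g wAd) b794 [] 2 0 := .of (startD 0 1) (by decide +kernel)
theorem r794_7 : R9 F (g wAd) b794 [] 2 1 := .of (startD 0 1) (by decide +kernel)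
theorem r794_8 : R9 F (g wAd) b794 [] 2 2 := .of (startD 0 1) (by decide +kernel)
theorem g794 : Gd F (g wAd) (1, d794) [] :=
  good9 ok h794 r794_0 r794_1 r794_2 r794_3 r794_4 r794_5 r794_6 r794_7 r794_8

def b795 : Wd := ⟨1, d795,
  [.z, .Z10, .Z5, .Z4, .Z3, .Z1, .Z0, .X9, .X8, .X7, .X5, .X2, .X1, .X0, .y8, .y6, .y1, .hi, .p10, .hi, .p10, .hi,
   .p9, .hi, .p3, .hi, .p8, .hi, .p10, .hi, .xii, .p10, .xii, .y4, .p6, .xii, .y4, .y7, .tau, .xii, .y1, .p, .xii, .p,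
   .xii, .y4, .y6, .tau, .xii, .p9, .xii, .p2, .xii, .y2, .p6, .y1, .taui, .xii, .p8, .xii, .y4, .y5, .p8, .hi, .p4,
   .tau, .xii, .hi, .p10],
  [.Z9, .Z4, .Z3, .Z1, .Z0, .X9, .X8, .X7, .X6, .X5, .X4, .X3, .X2, .y7, .y6, .y3, .y2, .y1, .p9, .hi, .p5, .hi, .p9,
   .hi, .p8, .hi, .p5, .hi, .p8, .xii, .p3, .hi, .xii, .y2, .tau, .xii, .y6, .p, .xii, .y1, .y2, .tau, .p10, .xii,
   .p8, .xii, .p2, .y8, .tau, .xii, .p6, .xii, .p2, .y9, .xii, .y2, .taui, .xii, .p, .xii],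
  [.z, .Z10, .Z8, .Z6, .Z5, .Z2, .Z1, .X10, .X7, .X4, .X3, .X2, .y10, .y7, .y6, .y5, .y4, .y3, .y2, .y1, .p8, .hi,
   .p8, .hi, .p, .hi, .p5, .hi, .p4, .xii, .p10, .xii, .y1, .p10, .taui, .xii, .p, .xii, .y1, .hi, .xii, .y1, .tau,
   .X0, .p2, .xii, .hi, .p8, .xii, .p9, .y4, .y10, .taui, .xii, .p3, .xii, .p2, .y1, .xii, .y4, .tau, .xii, .p6]⟩

theorem h795 : Hd F (g wAd) b795 := hdD (by decide +kernel)
theorem r795_0 : R9 F (g wAd) b795 [] 0 0 := .of (startD 0 1) (by decide +kernel)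
theorem r795_1 : R9 F (g wAd) b795 [] 0 1 := .of (startD 0 1) (by decide +kernel)
theorem r795_2 : R9 F (g wAd) b795 [] 0 2 := .of (startD 0 1) (by decide +kernel)
theorem r795_3 : R9 F (g wAd) b795 [] 1 0 := .of (startD 0 1) (by decide +kernel)
theorem r795_4 : R9 F (g wAd) b795 [] 1 1 := .of (startD 0 1) (by decide +kernel)
theorem r795_5 : R9 F (g wAd) b795 [] 1 2 := .of (startD 0 1) (by decide +kernel)
theorem r795_6 : R9 F (g wAd) b795 [] 2 0 := .of (startD 0 1) (by decide +kernel)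
theorem r795_7 : R9 F (g wAd) b795 [] 2 1 := .of (startD 0 1) (by decide +kernel)
theorem r795_8 : R9 F (g wAd) b795 [] 2 2 := .of (startD 0 1) (by decide +kernel)
theorem g795 : Gd F (g wAd) (1, d795) [] :=
  good9 ok h795 r795_0 r795_1 r795_2 r795_3 r795_4 r795_5 r795_6 r795_7 r795_8

def b796 : Wd := ⟨1, d796,
  [.z, .Z10, .Z9, .Z7, .Z6, .Z5, .Z4, .Z2, .X8, .X7, .X4, .X3, .X1, .X0, .y3, .y1, .hi, .p3, .hi, .p8, .hi, .p4, .hi,
   .p, .hi, .p5, .hi, .p9, .xii, .y2, .p, .hi, .xii, .p10, .tau, .xii, .p, .xii, .y4, .hi, .xii, .y4, .y5, .y9, .tau,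
   .X0, .p2, .xii, .y6, .p5, .xii, .y2, .p4, .hi, .p2, .taui, .xii, .p4, .xii, .p4, .y8, .xii, .y2, .tau, .xii, .p],
  [.Z9, .Z7, .Z5, .Z1, .Z0, .X10, .X9, .X6, .X5, .X4, .X3, .X1, .X0, .y8, .y5, .y4, .y3, .y1, .hi, .p10, .hi, .p2,
   .hi, .p3, .hi, .p4, .hi, .p7, .hi, .p, .xii, .y2, .p2, .hi, .taui, .xii, .p, .xii, .y3, .y10, .hi, .xii, .y4, .y5,
   .taui, .X0, .xii, .p4, .xii, .y1, .y8, .p4, .xii, .y4, .y7, .y8, .taui, .xii, .p4, .xii, .y1, .p2, .y1, .hi, .p7],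
  [.Z9, .Z6, .Z4, .Z3, .X10, .X9, .X7, .X4, .X3, .X2, .y7, .y5, .y2, .p9, .hi, .p8, .hi, .p6, .hi, .p8, .hi, .p9, .hi,
   .p7, .hi, .xii, .p3, .hi, .xii, .y1, .y6, .taui, .xii, .p, .xii, .hi, .y8, .xii, .y7, .y8, .y10, .tau, .p7, .xii,
   .p9, .xii, .y7, .p4, .y7, .tau, .xii, .p9, .xii, .y10, .p6, .y6, .xii, .y9, .taui]⟩

theorem h796 : Hd F (g wAd) b796 := hdD (by decide +kernel)
theorem r796_0 : R9 F (g wAd) b796 [] 0 0 := .of (startD 0 1) (by decide +kernel)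
theorem r796_1 : R9 F (g wAd) b796 [] 0 1 := .of (startD 0 1) (by decide +kernel)
theorem r796_2 : R9 F (g wAd) b796 [] 0 2 := .of (startD 0 1) (by decide +kernel)
theorem r796_3 : R9 F (g wAd) b796 [] 1 0 := .of (startD 0 1) (by decide +kernel)
theorem r796_4 : R9 F (g wAd) b796 [] 1 1 := .of (startD 0 1) (by decide +kernel)
theorem r796_5 : R9 F (g wAd) b796 [] 1 2 := .of (startD 0 1) (by decide +kernel)
theorem r796_6 : R9 F (g wAd) b796 [] 2 0 := .of (startD 0 1) (by decide +kernel)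
theorem r796_7 : R9 F (g wAd) b796 [] 2 1 := .of (startD 0 1) (by decide +kernel)
theorem r796_8 : R9 F (g wAd) b796 [] 2 2 := .of (startD 0 1) (by decide +kernel)
theorem g796 : Gd F (g wAd) (1, d796) [] :=
  good9 ok h796 r796_0 r796_1 r796_2 r796_3 r796_4 r796_5 r796_6 r796_7 r796_8

def b797 : Wd := ⟨1, d797,
  [.z, .Z10, .Z9, .Z8, .Z3, .Z2, .Z1, .X10, .X9, .X7, .X6, .X5, .X4, .X3, .X0, .y10, .y8, .y7, .y6, .y5, .p10, .hi,
   .p6, .hi, .p10, .hi, .p2, .hi, .p6, .hi, .p8, .xii, .p10, .xii, .y4, .p10, .xii, .y4, .y9, .taui, .xii, .y1, .p,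
   .xii, .p, .xii, .y4, .y5, .taui, .X0, .p8, .xii, .y9, .p4, .xii, .y4, .hi, .p2, .taui, .xii, .p7, .xii, .p4, .y10,
   .hi, .tau, .xii, .y2, .p7],
  [.z, .Z10, .Z9, .Z7, .Z6, .X9, .X6, .X2, .X1, .X0, .y10, .y9, .y6, .y5, .y3, .y2, .y1, .p7, .hi, .p4, .hi, .p6, .hi,
   .p5, .xii, .hi, .xii, .p3, .hi, .p5, .taui, .xii, .y6, .p, .xii, .p, .xii, .y7, .y8, .taui, .X0, .y1, .hi, .xii,
   .p6, .xii, .p5, .hi, .p5, .tau, .xii, .p2, .xii, .p5, .y10, .hi, .taui, .xii, .p],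
  [.Z8, .Z7, .Z2, .X9, .X1, .X0, .y10, .y7, .y6, .y4, .y1, .p4, .hi, .p9, .hi, .p9, .hi, .p7, .hi, .p6, .hi, .p, .hi,
   .xii, .p10, .xii, .p4, .hi, .taui, .xii, .y2, .p, .xii, .y2, .hi, .xii, .y7, .y10, .tau, .xii, .p6, .xii, .y1, .p6,
   .xii, .y6, .p10, .y7, .tau, .xii, .p4, .xii, .y6, .p7, .taui, .xii, .p5]⟩

theorem h797 : Hd F (g wAd) b797 := hdD (by decide +kernel)
theorem r797_0 : R9 F (g wAd) b797 [] 0 0 := .of (startD 0 1) (by decide +kernel)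
theorem r797_1 : R9 F (g wAd) b797 [] 0 1 := .of (startD 0 1) (by decide +kernel)
theorem r797_2 : R9 F (g wAd) b797 [] 0 2 := .of (startD 0 1) (by decide +kernel)
theorem r797_3 : R9 F (g wAd) b797 [] 1 0 := .of (startD 0 1) (by decide +kernel)
theorem r797_4 : R9 F (g wAd) b797 [] 1 1 := .of (startD 0 2) (by decide +kernel)
theorem r797_5 : R9 F (g wAd) b797 [] 1 2 := .of (startD 0 1) (by decide +kernel)
theorem r797_6 : R9 F (g wAd) b797 [] 2 0 := .of (startD 0 1) (by decide +kernel)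
theorem r797_7 : R9 F (g wAd) b797 [] 2 1 := .of (startD 0 1) (by decide +kernel)
theorem r797_8 : R9 F (g wAd) b797 [] 2 2 := .of (startD 0 1) (by decide +kernel)
theorem g797 : Gd F (g wAd) (1, d797) [] :=
  good9 ok h797 r797_0 r797_1 r797_2 r797_3 r797_4 r797_5 r797_6 r797_7 r797_8

def b798 : Wd := ⟨1, d798,
  [.Z9, .Z6, .Z5, .Z4, .Z2, .Z1, .X10, .X8, .X7, .X6, .X5, .X3, .X1, .y10, .y8, .y6, .y5, .y2, .hi, .p2, .hi, .p10,
   .hi, .p2, .hi, .p4, .hi, .p5, .hi, .p7, .hi, .xii, .y2, .p10, .xii, .y9, .p5, .taui, .xii, .y6, .p, .xii, .y10, .p,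
   .xii, .y6, .y10, .tau, .X0, .p9, .xii, .y9, .p3, .xii, .y2, .hi, .p2, .taui, .xii, .p7, .xii, .p7, .y7, .xii, .y6,
   .tau, .xii, .y2, .p10],
  [.Z10, .Z6, .Z2, .Z0, .X10, .X8, .X6, .X3, .X1, .X0, .y8, .y7, .y6, .y5, .y4, .y3, .y2, .p8, .hi, .p5, .hi, .p10,
   .hi, .p5, .hi, .p4, .hi, .p, .xii, .p10, .tau, .xii, .y6, .p, .xii, .p, .xii, .y2, .y4, .y6, .tau, .y1, .p8, .xii,
   .y5, .p4, .xii, .y3, .y4, .taui, .xii, .p5, .xii, .y5, .p2, .xii, .y3, .y9, .taui, .xii, .y7, .p2],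
  [.Z8, .Z7, .Z5, .Z4, .Z3, .X5, .X4, .y10, .y9, .y8, .y7, .y5, .y4, .p3, .hi, .p6, .hi, .p, .hi, .p4, .hi, .p3, .hi,
   .p5, .xii, .p10, .hi, .p, .taui, .xii, .p, .xii, .y1, .y10, .hi, .xii, .y1, .y4, .tau, .p10, .xii, .y2, .p4, .hi,
   .xii, .y10, .p6, .taui, .xii, .p7, .xii, .y10, .p5, .xii, .y5, .taui, .xii, .y2, .p9]⟩

theorem h798 : Hd F (g wAd) b798 := hdD (by decide +kernel)
theorem r798_0 : R9 F (g wAd) b798 [] 0 0 := .of (startD 0 1) (by decide +kernel)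
theorem r798_1 : R9 F (g wAd) b798 [] 0 1 := .of (startD 0 1) (by decide +kernel)
theorem r798_2 : R9 F (g wAd) b798 [] 0 2 := .of (startD 0 1) (by decide +kernel)
theorem r798_3 : R9 F (g wAd) b798 [] 1 0 := .of (startD 0 1) (by decide +kernel)
theorem r798_4 : R9 F (g wAd) b798 [] 1 1 := .of (startD 0 1) (by decide +kernel)
theorem r798_5 : R9 F (g wAd) b798 [] 1 2 := .of (startD 0 1) (by decide +kernel)
theorem r798_6 : R9 F (g wAd) b798 [] 2 0 := .of (startD 0 1) (by decide +kernel)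
theorem r798_7 : R9 F (g wAd) b798 [] 2 1 := .of (startD 0 1) (by decide +kernel)
theorem r798_8 : R9 F (g wAd) b798 [] 2 2 := .of (startD 0 1) (by decide +kernel)
theorem g798 : Gd F (g wAd) (1, d798) [] :=
  good9 ok h798 r798_0 r798_1 r798_2 r798_3 r798_4 r798_5 r798_6 r798_7 r798_8

def b799 : Wd := ⟨1, d799,
  [.z, .Z10, .Z9, .Z8, .Z6, .Z3, .Z2, .Z1, .Z0, .X9, .X8, .X7, .X4, .X2, .y10, .y9, .y6, .y4, .y3, .y2, .p5, .hi, .p7,
   .hi, .p10, .hi, .p2, .hi, .p8, .hi, .p, .hi, .xii, .p5, .hi, .p5, .tau, .xii, .p, .xii, .y1, .y6, .hi, .xii, .y5,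
   .taui, .y1, .p6, .xii, .hi, .p6, .xii, .y3, .y7, .taui, .xii, .p2, .xii, .y2, .p5, .hi, .tau, .xii, .y2, .p7],
  [.z, .Z6, .Z5, .Z4, .Z2, .y9, .y5, .y3, .hi, .p7, .hi, .p9, .hi, .p, .hi, .p8, .hi, .p5, .tau, .xii, .p, .xii, .y4,
   .y10, .hi, .xii, .y5, .y10, .tau, .X0, .p5, .xii, .p7, .y9, .xii, .y7, .p, .hi, .p5, .tau, .xii, .p8, .xii, .y1,
   .p4, .xii, .y6, .tau, .xii, .p4, .hi, .p4],
  [.z, .Z7, .Z6, .Z5, .Z4, .X10, .X8, .X7, .X6, .X4, .y10, .y8, .y4, .y2, .y1, .hi, .p4, .hi, .p4, .hi, .p8, .hi, .p3,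
   .hi, .p, .hi, .p5, .xii, .p, .xii, .y3, .hi, .p8, .tau, .y1, .xii, .p10, .xii, .y4, .p10, .xii, .y2, .tau, .y1,
   .p5, .xii, .p7, .xii, .y4, .y5, .y9, .taui, .xii, .p9, .xii, .y1, .p2, .hi, .tau, .xii, .p2]⟩

theorem h799 : Hd F (g wAd) b799 := hdD (by decide +kernel)
theorem r799_0 : R9 F (g wAd) b799 [] 0 0 := .of (startD 0 1) (by decide +kernel)
theorem r799_1 : R9 F (g wAd) b799 [] 0 1 := .of (startD 0 1) (by decide +kernel)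
theorem r799_2 : R9 F (g wAd) b799 [] 0 2 := .of (startD 0 1) (by decide +kernel)
theorem r799_3 : R9 F (g wAd) b799 [] 1 0 := .of (startD 0 1) (by decide +kernel)
theorem r799_4 : R9 F (g wAd) b799 [] 1 1 := .of (startD 0 1) (by decide +kernel)
theorem r799_5 : R9 F (g wAd) b799 [] 1 2 := .of (startD 0 1) (by decide +kernel)
theorem r799_6 : R9 F (g wAd) b799 [] 2 0 := .of (startD 0 1) (by decide +kernel)
theorem r799_7 : R9 F (g wAd) b799 [] 2 1 := .of (startD 0 1) (by decide +kernel)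
theorem r799_8 : R9 F (g wAd) b799 [] 2 2 := .of (startD 0 1) (by decide +kernel)
theorem g799 : Gd F (g wAd) (1, d799) [] :=
  good9 ok h799 r799_0 r799_1 r799_2 r799_3 r799_4 r799_5 r799_6 r799_7 r799_8

theorem all : AllG F (g wAd) LD79 :=
  .cons g790 (.cons g791 (.cons g792 (.cons g793 (.cons g794 (.cons g795 (.cons g796 (.cons g797 (.cons g798 (.cons g799 (.nil))))))))))

end Cfsg.Agent.BX.No33.Bk.D79
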