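import Cfsg.Agent.BX.No33.Cheap
set_option linter.all false

/-!
# Tests, pure case, part 19 (helper5; generated)
-/

set_option autoImplicit false
set_option maxRecDepth 100000
set_option Elab.async false

namespace Cfsg.Agent.BX.No33.Bk.P19

open Cfsg.Agent.H819.U33 Cfsg.Agent.BX.No33.Front

def b190 : Wd := ⟨0, p190,
  [.Z10, .Z3, .Z2, .Z1, .Z0, .X10, .X8, .X6, .X5, .X3, .X0, .y8, .y5, .hi, .p10, .hi, .p5, .hi, .p9, .hi, .p3, .hi,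
   .p9, .xii, .p, .xii, .p7, .xii, .y4, .taui, .xii, .y2, .p, .xii, .y3, .hi, .xii, .y7, .taui, .p10, .xii, .p5, .xii,
   .p8, .xii, .y5, .y10, .tau, .xii, .y2, .p9, .xii, .p3, .xii, .tau, .xii, .y6, .p],
  [.Z9, .Z6, .Z5, .Z4, .Z3, .Z1, .Z0, .X10, .X7, .X4, .X3, .X2, .y9, .y8, .y7, .y6, .y4, .hi, .p4, .hi, .p5, .hi, .p5,
   .hi, .p4, .hi, .p, .xii, .hi, .p8, .xii, .y3, .y7, .tau, .xii, .y6, .p, .xii, .p, .xii, .y1, .y2, .y10, .tau, .xii,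
   .p4, .xii, .y8, .p5, .xii, .y8, .p10, .taui, .xii, .y2, .p8, .xii, .y3, .p3, .tau, .xii, .p, .hi],
  [.z, .Z8, .Z7, .Z6, .Z5, .Z4, .Z2, .Z1, .X8, .X6, .X3, .X1, .X0, .y10, .y9, .y8, .y5, .y4, .p3, .hi, .p9, .hi, .p5,
   .hi, .xii, .y2, .hi, .xii, .p10, .xii, .y8, .taui, .xii, .p, .xii, .y4, .hi, .xii, .y5, .y9, .tau, .p10, .xii,
   .p10, .xii, .y5, .p8, .taui, .xii, .p9, .xii, .p, .xii, .y2, .y4, .tau, .xii, .p3]⟩

theorem h190 : Hd F (g wAp) b190 := hdP (by decide +kernel)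
theorem r190_0 : R9 F (g wAp) b190 [] 0 0 := .of (startP 0 1) (by decide +kernel)
theorem r190_1 : R9 F (g wAp) b190 [] 0 1 := .of (startP 0 1) (by decide +kernel)
theorem r190_2 : R9 F (g wAp) b190 [] 0 2 := .of (startP 0 1) (by decide +kernel)
theorem r190_3 : R9 F (g wAp) b190 [] 1 0 := .of (startP 0 1) (by decide +kernel)
theorem r190_4 : R9 F (g wAp) b190 [] 1 1 := .of (startP 0 1) (by decide +kernel)
theorem r190_5 : R9 F (g wAp) b190 [] 1 2 := .of (startP 0 1) (by decide +kernel)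
theorem r190_6 : R9 F (g wAp) b190 [] 2 0 := .of (startP 0 1) (by decide +kernel)
theorem r190_7 : R9 F (g wAp) b190 [] 2 1 := .of (startP 0 1) (by decide +kernel)
theorem r190_8 : R9 F (g wAp) b190 [] 2 2 := .of (startP 0 1) (by decide +kernel)
theorem g190 : Gd F (g wAp) (0, p190) [] :=
  good9 ok h190 r190_0 r190_1 r190_2 r190_3 r190_4 r190_5 r190_6 r190_7 r190_8

def b191 : Wd := ⟨0, p191,
  [.z, .Z9, .Z7, .Z6, .Z4, .Z3, .X9, .X7, .X5, .X4, .X3, .X1, .X0, .y8, .y3, .p6, .hi, .p7, .hi, .p7, .hi, .p8, .hi,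
   .p3, .hi, .p6, .xii, .p10, .xii, .y6, .p2, .xii, .y1, .y4, .tau, .y1, .xii, .p10, .xii, .y1, .p10, .y9, .hi, .p8,
   .taui, .p10, .xii, .y8, .p6, .xii, .y3, .taui, .xii, .p8, .xii, .y3, .p2, .y3, .taui, .xii, .hi, .p7],
  [.z, .Z9, .Z6, .Z5, .Z4, .Z1, .X8, .X5, .X1, .X0, .y6, .y5, .y4, .y2, .p, .xii, .hi, .xii, .p10, .y8, .taui, .xii,
   .y1, .p, .xii, .p, .y7, .xii, .y4, .y7, .taui, .p9, .xii, .p3, .xii, .p5, .y8, .taui, .xii, .p3, .xii, .p, .xii,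
   .y4, .y5, .tau, .xii, .y6],
  [.Z10, .Z7, .Z6, .Z4, .Z1, .Z0, .X0, .y10, .y9, .y7, .y6, .y5, .y4, .y3, .y1, .hi, .p9, .hi, .p9, .hi, .p10, .hi,
   .p5, .hi, .p6, .hi, .p4, .hi, .xii, .hi, .xii, .p2, .xii, .y1, .tau, .xii, .p, .xii, .y1, .hi, .xii, .y1, .y10,
   .tau, .y1, .xii, .y2, .hi, .xii, .p10, .xii, .taui, .X0, .p9, .xii, .hi, .xii, .y4, .taui, .xii, .y2, .p5, .xii,
   .p2, .y10, .xii, .y7, .tau, .xii, .p5]⟩

theorem h191 : Hd F (g wAp) b191 := hdP (by decide +kernel)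
theorem r191_0 : R9 F (g wAp) b191 [] 0 0 := .of (startP 0 1) (by decide +kernel)
theorem r191_1 : R9 F (g wAp) b191 [] 0 1 := .of (startP 0 1) (by decide +kernel)
theorem r191_2 : R9 F (g wAp) b191 [] 0 2 := .of (startP 0 1) (by decide +kernel)
theorem r191_3 : R9 F (g wAp) b191 [] 1 0 := .of (startP 0 1) (by decide +kernel)
theorem r191_4 : R9 F (g wAp) b191 [] 1 1 := .of (startP 0 1) (by decide +kernel)
theorem r191_5 : R9 F (g wAp) b191 [] 1 2 := .of (startP 0 1) (by decide +kernel)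
theorem r191_6 : R9 F (g wAp) b191 [] 2 0 := .of (startP 0 1) (by decide +kernel)
theorem r191_7 : R9 F (g wAp) b191 [] 2 1 := .of (startP 0 1) (by decide +kernel)
theorem r191_8 : R9 F (g wAp) b191 [] 2 2 := .of (startP 0 1) (by decide +kernel)
theorem g191 : Gd F (g wAp) (0, p191) [] :=
  good9 ok h191 r191_0 r191_1 r191_2 r191_3 r191_4 r191_5 r191_6 r191_7 r191_8

def b192 : Wd := ⟨0, p192,
  [.z, .Z10, .Z9, .Z1, .X8, .X7, .X6, .X5, .X3, .X0, .y10, .y8, .y7, .y5, .y4, .y2, .y1, .p7, .hi, .p7, .hi, .p4, .hi,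
   .p8, .hi, .p6, .hi, .p3, .xii, .hi, .xii, .p5, .y1, .xii, .tau, .p5, .xii, .y3, .p7, .xii, .y2, .p4, .y4, .tau,
   .xii, .p7, .xii, .y1, .y4, .tau, .xii, .p],
  [.z, .Z10, .Z8, .Z7, .Z1, .X9, .X8, .X3, .y10, .y6, .y1, .p4, .hi, .p5, .hi, .p8, .hi, .p8, .hi, .p10, .hi, .p8,
   .xii, .tau, .xii, .y2, .p, .xii, .y2, .hi, .xii, .y3, .y10, .taui, .p4, .xii, .p5, .xii, .y2, .y8, .p8, .xii, .y5,
   .tau, .xii, .p8, .xii, .y4, .tau, .xii, .y2, .hi, .p2],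
  [.Z9, .Z8, .Z7, .Z4, .X10, .X9, .X5, .X4, .X2, .X1, .X0, .y10, .y9, .y7, .p6, .hi, .p3, .hi, .p7, .hi, .p3, .hi,
   .p10, .hi, .xii, .y2, .hi, .xii, .p10, .xii, .y3, .y5, .taui, .xii, .y1, .p, .xii, .p, .xii, .y3, .taui, .X0, .p7,
   .xii, .y4, .p, .xii, .y8, .hi, .p5, .tau, .xii, .p4, .xii, .y1, .p8, .xii, .taui, .xii, .p9, .xii]⟩

theorem h192 : Hd F (g wAp) b192 := hdP (by decide +kernel)
theorem r192_0 : R9 F (g wAp) b192 [35] 0 0 := .of (startP 0 1) (by decide +kernel)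
theorem r192_1 : R9 F (g wAp) b192 [35] 0 1 := .of (startP 0 1) (by decide +kernel)
theorem r192_2 : R9 F (g wAp) b192 [35] 0 2 := .of (startP 0 1) (by decide +kernel)
theorem r192_3 : R9 F (g wAp) b192 [35] 1 0 := .of' (startP 0 1) (skip := [8]) (by decide +kernel) (by decide)
theorem r192_4 : R9 F (g wAp) b192 [35] 1 1 := .of (startP 0 1) (by decide +kernel)
theorem r192_5 : R9 F (g wAp) b192 [35] 1 2 := .of (startP 0 1) (by decide +kernel)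
theorem r192_6 : R9 F (g wAp) b192 [35] 2 0 := .of (startP 0 1) (by decide +kernel)
theorem r192_7 : R9 F (g wAp) b192 [35] 2 1 := .of (startP 0 1) (by decide +kernel)
theorem r192_8 : R9 F (g wAp) b192 [35] 2 2 := .of (startP 0 1) (by decide +kernel)
theorem g192 : Gd F (g wAp) (0, p192) [35] :=
  good9 ok h192 r192_0 r192_1 r192_2 r192_3 r192_4 r192_5 r192_6 r192_7 r192_8

def b193 : Wd := ⟨0, p193,
  [.z, .Z9, .Z6, .Z1, .Z0, .X9, .X4, .X3, .X2, .X1, .y10, .y7, .y6, .y4, .hi, .p4, .hi, .p5, .hi, .p9, .hi, .p7, .hi,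
   .p, .hi, .p5, .xii, .hi, .xii, .p10, .xii, .y4, .y9, .tau, .X0, .p5, .xii, .y9, .p, .xii, .hi, .p2, .tau, .xii,
   .p4, .xii, .hi, .tau, .xii, .y2, .p7],
  [.z, .Z10, .Z8, .Z7, .Z6, .Z5, .Z2, .Z0, .X9, .X8, .X5, .X4, .X3, .X2, .y10, .y9, .y6, .y4, .y3, .y2, .y1, .hi, .p7,
   .hi, .p9, .hi, .p10, .hi, .p10, .hi, .p2, .hi, .p2, .xii, .hi, .xii, .y6, .p4, .hi, .taui, .xii, .y6, .p, .xii, .p,
   .xii, .y1, .y5, .y7, .taui, .xii, .p4, .xii, .p4, .y3, .xii, .y8, .p6, .tau, .xii, .p7, .xii, .y2, .y10, .p3, .xii,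
   .y9, .taui],
  [.Z10, .Z9, .Z4, .Z1, .X10, .X4, .X3, .X2, .X1, .y10, .y5, .y3, .y2, .p10, .hi, .p8, .hi, .p5, .hi, .p5, .hi, .p5,
   .hi, .p8, .taui, .xii, .p, .xii, .y4, .y10, .hi, .xii, .y5, .y10, .tau, .xii, .p4, .xii, .p8, .y8, .xii, .y2, .y9,
   .p6, .taui, .xii, .p3, .xii, .p2, .y2, .hi, .p5, .tau, .xii, .p10, .hi, .p8]⟩

theorem h193 : Hd F (g wAp) b193 := hdP (by decide +kernel)
theorem r193_0 : R9 F (g wAp) b193 [] 0 0 := .of (startP 0 1) (by decide +kernel)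
theorem r193_1 : R9 F (g wAp) b193 [] 0 1 := .of (startP 0 1) (by decide +kernel)
theorem r193_2 : R9 F (g wAp) b193 [] 0 2 := .of (startP 0 2) (by decide +kernel)
theorem r193_3 : R9 F (g wAp) b193 [] 1 0 := .of (startP 0 1) (by decide +kernel)
theorem r193_4 : R9 F (g wAp) b193 [] 1 1 := .of (startP 0 1) (by decide +kernel)
theorem r193_5 : R9 F (g wAp) b193 [] 1 2 := .of (startP 0 1) (by decide +kernel)
theorem r193_6 : R9 F (g wAp) b193 [] 2 0 := .of (startP 0 1) (by decide +kernel)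
theorem r193_7 : R9 F (g wAp) b193 [] 2 1 := .of (startP 0 1) (by decide +kernel)
theorem r193_8 : R9 F (g wAp) b193 [] 2 2 := .of (startP 0 1) (by decide +kernel)
theorem g193 : Gd F (g wAp) (0, p193) [] :=
  good9 ok h193 r193_0 r193_1 r193_2 r193_3 r193_4 r193_5 r193_6 r193_7 r193_8

def b194 : Wd := ⟨0, p194,
  [.Z9, .Z8, .Z7, .Z2, .Z1, .X10, .X5, .X4, .X2, .y2, .y1, .p8, .hi, .p7, .hi, .p7, .hi, .p5, .hi, .p, .xii, .y2, .hi,
   .p8, .xii, .y9, .p2, .tau, .y1, .xii, .p10, .xii, .y8, .p10, .xii, .y4, .y8, .tau, .X0, .p4, .xii, .p9, .xii, .p6,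
   .y6, .y7, .tau, .xii, .y2, .p4, .xii, .p5, .xii, .y2, .tau, .xii, .y2, .p6],
  [.Z4, .Z3, .Z1, .Z0, .X9, .X7, .X4, .X0, .y8, .y7, .y5, .y4, .y2, .p7, .hi, .p7, .hi, .p8, .hi, .p4, .hi, .xii,
   .p10, .xii, .y9, .taui, .xii, .y1, .p, .xii, .p, .xii, .y5, .taui, .X0, .p8, .xii, .y7, .p4, .xii, .y9, .p3, .taui,
   .xii, .p3, .hi, .p5, .xii, .y10, .p10, .tau, .xii, .p3, .hi, .p2],
  [.z, .Z10, .Z9, .Z8, .Z7, .Z6, .Z2, .Z1, .X10, .X9, .X8, .y9, .y8, .y5, .y2, .hi, .p, .hi, .p10, .hi, .p9, .hi, .p3,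
   .hi, .p6, .hi, .p, .xii, .p3, .hi, .xii, .p10, .y5, .tau, .xii, .y2, .p, .xii, .y1, .hi, .xii, .y5, .y10, .taui,
   .xii, .p9, .xii, .y5, .p3, .xii, .y1, .y9, .tau, .xii, .p5, .xii, .p8, .y1, .xii, .y4, .y10, .tau, .xii, .y4, .p7]⟩

theorem h194 : Hd F (g wAp) b194 := hdP (by decide +kernel)
theorem r194_0 : R9 F (g wAp) b194 [] 0 0 := .of (startP 0 1) (by decide +kernel)
theorem r194_1 : R9 F (g wAp) b194 [] 0 1 := .of (startP 0 1) (by decide +kernel)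
theorem r194_2 : R9 F (g wAp) b194 [] 0 2 := .of (startP 0 1) (by decide +kernel)
theorem r194_3 : R9 F (g wAp) b194 [] 1 0 := .of (startP 0 1) (by decide +kernel)
theorem r194_4 : R9 F (g wAp) b194 [] 1 1 := .of (startP 0 1) (by decide +kernel)
theorem r194_5 : R9 F (g wAp) b194 [] 1 2 := .of (startP 0 1) (by decide +kernel)
theorem r194_6 : R9 F (g wAp) b194 [] 2 0 := .of (startP 0 1) (by decide +kernel)
theorem r194_7 : R9 F (g wAp) b194 [] 2 1 := .of (startP 0 1) (by decide +kernel)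
theorem r194_8 : R9 F (g wAp) b194 [] 2 2 := .of (startP 0 1) (by decide +kernel)
theorem g194 : Gd F (g wAp) (0, p194) [] :=
  good9 ok h194 r194_0 r194_1 r194_2 r194_3 r194_4 r194_5 r194_6 r194_7 r194_8

def b195 : Wd := ⟨0, p195,
  [.Z9, .Z8, .Z7, .Z6, .Z5, .Z0, .X10, .X9, .X7, .X6, .X5, .X4, .X2, .X0, .y10, .y8, .y7, .y6, .y3, .p5, .hi, .p, .hi,
   .p6, .hi, .p3, .hi, .p3, .hi, .xii, .p2, .hi, .xii, .y2, .p3, .tau, .y1, .xii, .p10, .xii, .y4, .p10, .xii, .y3,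
   .y5, .taui, .X0, .p10, .xii, .p5, .xii, .p3, .y10, .tau, .xii, .p9, .xii, .p7, .y9, .hi, .tau, .xii, .p],
  [.Z10, .Z9, .Z7, .Z5, .Z2, .X9, .X8, .X7, .X6, .X4, .X3, .X1, .y8, .y7, .y6, .y4, .y3, .p8, .hi, .p10, .hi, .p4,
   .hi, .p8, .hi, .p4, .hi, .p7, .hi, .xii, .y2, .p10, .tau, .xii, .p, .xii, .y2, .y10, .hi, .xii, .y7, .y10, .tau,
   .p2, .xii, .p7, .xii, .y4, .y9, .taui, .xii, .p7, .xii, .hi, .p9, .y7],
  [.Z9, .Z5, .Z4, .Z1, .X5, .X4, .X3, .X1, .X0, .y6, .y5, .y2, .p9, .hi, .p4, .hi, .p4, .hi, .p10, .hi, .p5, .hi, .p8,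
   .hi, .xii, .p, .xii, .y2, .p9, .xii, .y10, .tau, .xii, .y1, .p, .xii, .y2, .p, .xii, .y6, .tau, .X0, .p8, .xii, .p,
   .y8, .hi, .xii, .y6, .tau, .xii, .p5, .xii, .y4, .p, .xii, .y4, .tau, .xii, .p8, .xii, .y7]⟩

theorem h195 : Hd F (g wAp) b195 := hdP (by decide +kernel)
theorem r195_0 : R9 F (g wAp) b195 [] 0 0 := .of (startP 0 1) (by decide +kernel)
theorem r195_1 : R9 F (g wAp) b195 [] 0 1 := .of (startP 0 1) (by decide +kernel)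
theorem r195_2 : R9 F (g wAp) b195 [] 0 2 := .of (startP 0 2) (by decide +kernel)
theorem r195_3 : R9 F (g wAp) b195 [] 1 0 := .of (startP 0 1) (by decide +kernel)
theorem r195_4 : R9 F (g wAp) b195 [] 1 1 := .of (startP 0 1) (by decide +kernel)
theorem r195_5 : R9 F (g wAp) b195 [] 1 2 := .of (startP 0 1) (by decide +kernel)
theorem r195_6 : R9 F (g wAp) b195 [] 2 0 := .of (startP 0 1) (by decide +kernel)
theorem r195_7 : R9 F (g wAp) b195 [] 2 1 := .of (startP 0 1) (by decide +kernel)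
theorem r195_8 : R9 F (g wAp) b195 [] 2 2 := .of (startP 0 1) (by decide +kernel)
theorem g195 : Gd F (g wAp) (0, p195) [] :=
  good9 ok h195 r195_0 r195_1 r195_2 r195_3 r195_4 r195_5 r195_6 r195_7 r195_8

def b196 : Wd := ⟨0, p196,
  [.Z9, .Z8, .Z4, .Z3, .Z2, .X9, .X7, .X6, .X4, .y10, .y9, .y8, .y7, .y5, .y4, .y1, .p10, .hi, .p6, .hi, .p7, .hi,
   .p4, .hi, .p8, .hi, .p8, .xii, .p, .xii, .y1, .y10, .tau, .xii, .y1, .p, .xii, .p, .xii, .y3, .y10, .tau, .X0, .p2,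
   .xii, .p7, .xii, .p10, .hi, .y10, .p3, .y5, .taui, .xii, .p7, .xii, .y4, .y5, .p5, .xii, .y7, .tau, .xii, .p],
  [.Z9, .Z6, .Z4, .Z2, .X9, .X6, .X5, .X4, .X3, .X2, .X0, .y10, .y8, .y7, .y6, .y2, .hi, .p5, .hi, .p4, .hi, .p7, .hi,
   .p10, .hi, .xii, .p10, .xii, .y8, .p6, .xii, .y7, .taui, .xii, .y6, .p3, .hi, .xii, .y8, .p10, .tau, .X0, .y1, .p8,
   .xii, .p4, .xii, .y8, .p4, .taui, .xii, .p2, .hi, .xii, .p2, .y6],
  [.Z10, .Z9, .Z8, .Z7, .Z5, .Z4, .Z2, .Z0, .X10, .X5, .X3, .X2, .X1, .X0, .y9, .y7, .y6, .y3, .y2, .y1, .p6, .hi,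
   .p3, .hi, .p9, .hi, .p6, .hi, .p2, .hi, .xii, .p10, .xii, .y6, .p8, .xii, .y8, .taui, .xii, .p, .xii, .y4, .hi,
   .xii, .y6, .tau, .p4, .xii, .p4, .xii, .y7, .p10, .y3, .hi, .p3, .taui, .xii, .y2, .p3, .xii, .y5, .p7, .xii, .y8,
   .taui]⟩

theorem h196 : Hd F (g wAp) b196 := hdP (by decide +kernel)
theorem r196_0 : R9 F (g wAp) b196 [] 0 0 := .of (startP 0 1) (by decide +kernel)
theorem r196_1 : R9 F (g wAp) b196 [] 0 1 := .of (startP 0 1) (by decide +kernel)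
theorem r196_2 : R9 F (g wAp) b196 [] 0 2 := .of (startP 0 1) (by decide +kernel)
theorem r196_3 : R9 F (g wAp) b196 [] 1 0 := .of (startP 0 1) (by decide +kernel)
theorem r196_4 : R9 F (g wAp) b196 [] 1 1 := .of (startP 0 1) (by decide +kernel)
theorem r196_5 : R9 F (g wAp) b196 [] 1 2 := .of (startP 0 1) (by decide +kernel)
theorem r196_6 : R9 F (g wAp) b196 [] 2 0 := .of (startP 0 1) (by decide +kernel)
theorem r196_7 : R9 F (g wAp) b196 [] 2 1 := .of (startP 0 1) (by decide +kernel)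
theorem r196_8 : R9 F (g wAp) b196 [] 2 2 := .of (startP 0 1) (by decide +kernel)
theorem g196 : Gd F (g wAp) (0, p196) [] :=
  good9 ok h196 r196_0 r196_1 r196_2 r196_3 r196_4 r196_5 r196_6 r196_7 r196_8

def b197 : Wd := ⟨0, p197,
  [.Z9, .Z8, .Z3, .Z2, .Z1, .Z0, .X9, .X8, .X5, .X4, .X3, .X2, .X1, .X0, .y10, .y9, .y8, .y3, .y1, .hi, .p7, .hi, .p,
   .hi, .p7, .hi, .p8, .hi, .p7, .hi, .xii, .hi, .p8, .xii, .y10, .tau, .xii, .y1, .p3, .hi, .xii, .y8, .p10, .tau,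
   .p9, .xii, .y3, .hi, .xii, .y6, .tau, .xii, .p4, .xii, .y6, .y10, .hi, .p2, .tau, .xii, .y2, .p7],
  [.z, .Z10, .Z8, .Z7, .Z1, .X9, .X8, .X7, .X4, .X0, .y10, .y9, .y6, .y5, .y3, .p7, .hi, .p, .hi, .p5, .hi, .p10, .hi,
   .p4, .hi, .p2, .xii, .y2, .p10, .xii, .y8, .taui, .y1, .xii, .p10, .xii, .y1, .y7, .p10, .xii, .y4, .taui, .X0,
   .p7, .xii, .y6, .p9, .xii, .p2, .hi, .p8, .taui, .xii, .p6, .xii, .y2, .p6, .xii, .y1, .taui, .xii, .y2, .p3],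
  [.Z8, .Z7, .Z6, .Z3, .Z0, .X9, .X8, .X1, .y8, .y6, .y5, .hi, .p, .hi, .p10, .hi, .p10, .hi, .p8, .hi, .p, .xii, .y2,
   .tau, .xii, .y2, .p, .xii, .y3, .hi, .xii, .y6, .tau, .X0, .p5, .xii, .p7, .xii, .y7, .p5, .hi, .p8, .tau, .xii,
   .p9, .xii, .p6, .y9, .xii, .y3, .y6, .taui]⟩

theorem h197 : Hd F (g wAp) b197 := hdP (by decide +kernel)
theorem r197_0 : R9 F (g wAp) b197 [] 0 0 := .of (startP 0 1) (by decide +kernel)
theorem r197_1 : R9 F (g wAp) b197 [] 0 1 := .of (startP 0 1) (by decide +kernel)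
theorem r197_2 : R9 F (g wAp) b197 [] 0 2 := .of (startP 0 1) (by decide +kernel)
theorem r197_3 : R9 F (g wAp) b197 [] 1 0 := .of (startP 0 1) (by decide +kernel)
theorem r197_4 : R9 F (g wAp) b197 [] 1 1 := .of (startP 0 1) (by decide +kernel)
theorem r197_5 : R9 F (g wAp) b197 [] 1 2 := .of (startP 0 1) (by decide +kernel)
theorem r197_6 : R9 F (g wAp) b197 [] 2 0 := .of (startP 0 1) (by decide +kernel)
theorem r197_7 : R9 F (g wAp) b197 [] 2 1 := .of (startP 0 1) (by decide +kernel)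
theorem r197_8 : R9 F (g wAp) b197 [] 2 2 := .of (startP 0 1) (by decide +kernel)
theorem g197 : Gd F (g wAp) (0, p197) [] :=
  good9 ok h197 r197_0 r197_1 r197_2 r197_3 r197_4 r197_5 r197_6 r197_7 r197_8

def b198 : Wd := ⟨0, p198,
  [.Z8, .Z5, .Z4, .Z3, .Z2, .Z1, .X10, .X8, .X7, .X6, .X5, .y9, .y7, .y6, .y5, .y2, .hi, .p7, .hi, .p3, .hi, .p10,
   .hi, .p3, .hi, .p3, .xii, .y2, .p10, .taui, .y1, .xii, .y6, .p10, .xii, .y8, .p10, .xii, .taui, .p8, .xii, .p4,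
   .xii, .y4, .y8, .p3, .hi, .p7, .taui, .xii, .p9, .xii, .y1, .p9, .xii, .y1, .y6, .tau, .xii, .p5, .xii],
  [.Z10, .Z8, .Z0, .X9, .X8, .X7, .X0, .y9, .y8, .y7, .y4, .y3, .p3, .hi, .p3, .hi, .p3, .hi, .p7, .hi, .p6, .hi, .p2,
   .xii, .hi, .p8, .xii, .p2, .tau, .y1, .xii, .y2, .hi, .xii, .p10, .xii, .y2, .tau, .X0, .p4, .xii, .y1, .p4, .xii,
   .y6, .p, .tau, .xii, .p, .hi, .xii, .p5, .y1],
  [.Z10, .Z9, .Z8, .Z6, .Z4, .Z3, .Z2, .Z0, .X10, .X9, .X8, .X4, .X1, .y10, .y9, .y8, .y6, .y4, .y3, .p9, .hi, .p9,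
   .hi, .p4, .hi, .p3, .hi, .p6, .hi, .p6, .hi, .xii, .p10, .xii, .y6, .p5, .xii, .y8, .tau, .xii, .p, .xii, .y3,
   .y10, .hi, .xii, .y4, .y5, .tau, .y1, .xii, .p10, .xii, .y1, .p10, .xii, .taui, .p10, .xii, .y2, .p5, .xii, .y6,
   .tau, .xii, .p4, .xii, .y5, .p10, .hi, .taui, .xii, .p4, .hi, .p10]⟩

theorem h198 : Hd F (g wAp) b198 := hdP (by decide +kernel)
theorem r198_0 : R9 F (g wAp) b198 [] 0 0 := .of (startP 0 1) (by decide +kernel)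
theorem r198_1 : R9 F (g wAp) b198 [] 0 1 := .of (startP 0 1) (by decide +kernel)
theorem r198_2 : R9 F (g wAp) b198 [] 0 2 := .of (startP 0 1) (by decide +kernel)
theorem r198_3 : R9 F (g wAp) b198 [] 1 0 := .of (startP 0 1) (by decide +kernel)
theorem r198_4 : R9 F (g wAp) b198 [] 1 1 := .of (startP 0 1) (by decide +kernel)
theorem r198_5 : R9 F (g wAp) b198 [] 1 2 := .of (startP 0 1) (by decide +kernel)
theorem r198_6 : R9 F (g wAp) b198 [] 2 0 := .of (startP 0 1) (by decide +kernel)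
theorem r198_7 : R9 F (g wAp) b198 [] 2 1 := .of (startP 0 1) (by decide +kernel)
theorem r198_8 : R9 F (g wAp) b198 [] 2 2 := .of (startP 0 1) (by decide +kernel)
theorem g198 : Gd F (g wAp) (0, p198) [] :=
  good9 ok h198 r198_0 r198_1 r198_2 r198_3 r198_4 r198_5 r198_6 r198_7 r198_8

def b199 : Wd := ⟨0, p199,
  [.Z10, .Z8, .Z3, .Z2, .Z0, .X10, .X8, .X5, .X3, .X1, .y7, .y5, .y4, .y1, .p8, .hi, .p5, .hi, .p7, .hi, .p3, .hi, .p,
   .hi, .p, .xii, .p, .xii, .y2, .p4, .taui, .y1, .xii, .y1, .hi, .xii, .p10, .xii, .y4, .taui, .X0, .p2, .xii, .hi,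
   .p8, .xii, .y3, .y7, .p10, .tau, .xii, .y2, .p7, .xii, .p, .y2, .tau, .xii, .y2, .p, .hi],
  [.Z9, .Z6, .Z4, .Z3, .Z1, .Z0, .X10, .X8, .X6, .X2, .X1, .y9, .y8, .y5, .y4, .y3, .y2, .p4, .hi, .p, .hi, .p6, .hi,
   .p, .hi, .p10, .xii, .y2, .p, .xii, .p8, .xii, .y1, .y2, .tau, .y1, .xii, .p10, .xii, .y4, .p10, .xii, .taui, .X0,
   .p6, .xii, .y8, .p8, .xii, .y5, .tau, .xii, .p9, .xii, .y4, .p9, .xii, .y6],
  [.Z10, .Z9, .Z3, .Z1, .Z0, .X9, .X8, .X2, .X1, .y10, .y8, .y7, .y6, .y5, .y2, .y1, .p9, .hi, .p10, .hi, .p3, .hi,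
   .p3, .hi, .p4, .hi, .xii, .y2, .hi, .xii, .p9, .xii, .y5, .tau, .xii, .y2, .p, .xii, .y1, .hi, .xii, .y6, .taui,
   .X0, .y1, .p5, .xii, .p6, .xii, .y6, .p3, .tau, .xii, .p8, .xii, .y6, .p2, .y8, .xii, .y7, .tau, .xii, .y2, .p7]⟩

theorem h199 : Hd F (g wAp) b199 := hdP (by decide +kernel)
theorem r199_0 : R9 F (g wAp) b199 [] 0 0 := .of (startP 0 1) (by decide +kernel)
theorem r199_1 : R9 F (g wAp) b199 [] 0 1 := .of (startP 0 1) (by decide +kernel)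
theorem r199_2 : R9 F (g wAp) b199 [] 0 2 := .of (startP 0 1) (by decide +kernel)
theorem r199_3 : R9 F (g wAp) b199 [] 1 0 := .of (startP 0 1) (by decide +kernel)
theorem r199_4 : R9 F (g wAp) b199 [] 1 1 := .of (startP 0 1) (by decide +kernel)
theorem r199_5 : R9 F (g wAp) b199 [] 1 2 := .of (startP 0 1) (by decide +kernel)
theorem r199_6 : R9 F (g wAp) b199 [] 2 0 := .of (startP 0 1) (by decide +kernel)
theorem r199_7 : R9 F (g wAp) b199 [] 2 1 := .of (startP 0 1) (by decide +kernel)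
theorem r199_8 : R9 F (g wAp) b199 [] 2 2 := .of (startP 0 1) (by decide +kernel)
theorem g199 : Gd F (g wAp) (0, p199) [] :=
  good9 ok h199 r199_0 r199_1 r199_2 r199_3 r199_4 r199_5 r199_6 r199_7 r199_8

theorem all : AllG F (g wAp) LP19 :=
  .cons g190 (.cons g191 (.cons g192 (.cons g193 (.cons g194 (.cons g195 (.cons g196 (.cons g197 (.cons g198 (.cons g199 (.nil))))))))))

end Cfsg.Agent.BX.No33.Bk.P19
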