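import Cfsg.Agent.BX.No33.Cheap
set_option linter.all false

/-!
# Tests, pure case, part 3 (helper5; generated)
-/

set_option autoImplicit false
set_option maxRecDepth 100000
set_option Elab.async false

namespace Cfsg.Agent.BX.No33.Bk.P3

open Cfsg.Agent.H819.U33 Cfsg.Agent.BX.No33.Front

def b30 : Wd := ⟨0, p30,
  [.z, .Z10, .Z6, .X9, .X6, .X4, .X1, .y9, .y7, .y6, .y4, .y2, .p8, .hi, .p5, .hi, .p10, .hi, .p2, .hi, .p5, .xii,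
   .hi, .p8, .hi, .p5, .hi, .tau, .xii, .p, .xii, .y4, .y10, .hi, .xii, .y6, .tau, .X0, .p8, .xii, .y1, .p3, .hi,
   .xii, .p2, .y5, .taui, .xii, .y2, .p4, .hi, .xii, .y5, .p, .tau, .xii, .y2, .p5, .hi, .p2],
  [.Z8, .Z7, .Z6, .Z4, .Z2, .Z1, .Z0, .X10, .X9, .X7, .X5, .X3, .X2, .X1, .y9, .y7, .y6, .y4, .y3, .y2, .hi, .p3, .hi,
   .p, .hi, .p4, .hi, .p9, .xii, .y2, .hi, .p8, .xii, .y2, .p10, .tau, .p9, .xii, .y9, .p10, .xii, .y3, .taui, .xii,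
   .p6, .xii, .p6, .y3, .xii, .y7, .y10, .tau, .xii, .p3],
  [.z, .Z10, .Z8, .Z7, .Z4, .Z3, .Z2, .X10, .X6, .X5, .X4, .X1, .y8, .y7, .y6, .y5, .y3, .y2, .y1, .p10, .hi, .p8,
   .hi, .p9, .hi, .p5, .hi, .p10, .hi, .p7, .hi, .p7, .hi, .xii, .p, .xii, .y3, .p7, .tau, .xii, .p, .xii, .y4, .hi,
   .xii, .y4, .y5, .taui, .xii, .y6, .p, .xii, .p, .xii, .y7, .y10, .taui, .p9, .xii, .p10, .xii, .y1, .tau, .xii,
   .y2, .p3, .xii, .p2, .xii, .y9, .taui, .xii, .y6, .p10]⟩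

theorem h30 : Hd F (g wAp) b30 := hdP (by decide +kernel)
theorem r30_0 : R9 F (g wAp) b30 [] 0 0 := .of (startP 0 1) (by decide +kernel)
theorem r30_1 : R9 F (g wAp) b30 [] 0 1 := .of (startP 0 1) (by decide +kernel)
theorem r30_2 : R9 F (g wAp) b30 [] 0 2 := .of (startP 0 1) (by decide +kernel)
theorem r30_3 : R9 F (g wAp) b30 [] 1 0 := .of (startP 0 1) (by decide +kernel)
theorem r30_4 : R9 F (g wAp) b30 [] 1 1 := .of (startP 0 1) (by decide +kernel)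
theorem r30_5 : R9 F (g wAp) b30 [] 1 2 := .of (startP 0 1) (by decide +kernel)
theorem r30_6 : R9 F (g wAp) b30 [] 2 0 := .of (startP 0 1) (by decide +kernel)
theorem r30_7 : R9 F (g wAp) b30 [] 2 1 := .of (startP 0 1) (by decide +kernel)
theorem r30_8 : R9 F (g wAp) b30 [] 2 2 := .of (startP 0 1) (by decide +kernel)
theorem g30 : Gd F (g wAp) (0, p30) [] :=
  good9 ok h30 r30_0 r30_1 r30_2 r30_3 r30_4 r30_5 r30_6 r30_7 r30_8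

def b31 : Wd := ⟨0, p31,
  [.Z9, .Z8, .Z7, .Z6, .Z4, .Z3, .X9, .X8, .X7, .X5, .X1, .X0, .y10, .y8, .y6, .y5, .y2, .y1, .hi, .p4, .hi, .p, .hi,
   .p4, .hi, .p8, .hi, .p2, .xii, .y2, .p2, .hi, .xii, .y4, .taui, .xii, .y2, .p, .xii, .y2, .hi, .xii, .y1, .taui,
   .xii, .p6, .xii, .y7, .p2, .xii, .y1, .p10, .tau, .xii, .y2, .p4, .xii, .y8, .p6, .xii, .y1, .tau, .xii, .y8, .p4,
   .hi, .p10],
  [.Z10, .Z6, .Z4, .Z2, .Z1, .Z0, .X10, .X8, .X6, .X0, .y9, .y8, .y7, .y6, .y4, .p2, .hi, .p5, .hi, .p9, .hi, .p4,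
   .hi, .p, .hi, .xii, .hi, .p8, .tau, .y1, .xii, .y1, .hi, .xii, .p10, .xii, .y8, .y10, .taui, .X0, .p5, .xii, .p2,
   .hi, .y7, .xii, .p7, .taui, .xii, .p5, .xii, .y2, .p9, .y9, .xii, .y2, .tau, .xii, .hi],
  [.z, .Z8, .Z6, .Z5, .Z3, .Z2, .Z1, .Z0, .X10, .X7, .X4, .X1, .y10, .y7, .y6, .y3, .hi, .p8, .hi, .p3, .hi, .p6, .hi,
   .p10, .hi, .xii, .p, .xii, .y10, .p7, .xii, .tau, .xii, .p, .xii, .hi, .y8, .xii, .y7, .y8, .tau, .X0, .xii, .hi,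
   .xii, .y7, .p5, .xii, .y1, .y9, .p5, .taui, .xii, .p2, .xii, .y7, .p, .xii, .y1, .y7, .tau, .xii, .p9, .xii, .y2]⟩

theorem h31 : Hd F (g wAp) b31 := hdP (by decide +kernel)
theorem r31_0 : R9 F (g wAp) b31 [] 0 0 := .of (startP 0 1) (by decide +kernel)
theorem r31_1 : R9 F (g wAp) b31 [] 0 1 := .of (startP 0 1) (by decide +kernel)
theorem r31_2 : R9 F (g wAp) b31 [] 0 2 := .of (startP 0 1) (by decide +kernel)
theorem r31_3 : R9 F (g wAp) b31 [] 1 0 := .of (startP 0 1) (by decide +kernel)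
theorem r31_4 : R9 F (g wAp) b31 [] 1 1 := .of (startP 0 1) (by decide +kernel)
theorem r31_5 : R9 F (g wAp) b31 [] 1 2 := .of (startP 0 1) (by decide +kernel)
theorem r31_6 : R9 F (g wAp) b31 [] 2 0 := .of (startP 0 1) (by decide +kernel)
theorem r31_7 : R9 F (g wAp) b31 [] 2 1 := .of (startP 0 1) (by decide +kernel)
theorem r31_8 : R9 F (g wAp) b31 [] 2 2 := .of (startP 0 1) (by decide +kernel)
theorem g31 : Gd F (g wAp) (0, p31) [] :=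
  good9 ok h31 r31_0 r31_1 r31_2 r31_3 r31_4 r31_5 r31_6 r31_7 r31_8

def b32 : Wd := ⟨0, p32,
  [.Z10, .Z9, .Z8, .Z3, .Z2, .Z1, .Z0, .X9, .X7, .X6, .X2, .X0, .y9, .y5, .y4, .y2, .y1, .p8, .hi, .p9, .hi, .p6, .hi,
   .p4, .hi, .p5, .hi, .p9, .xii, .hi, .p8, .xii, .y3, .y9, .p2, .taui, .xii, .y2, .p, .xii, .y3, .hi, .xii, .y5,
   .tau, .p5, .xii, .p7, .xii, .p, .y5, .y10, .hi, .p2, .taui, .xii, .p3, .xii, .y6, .p2, .xii, .y9, .taui, .xii, .p9],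
  [.z, .Z8, .Z6, .Z4, .X10, .X6, .X4, .X3, .X2, .X0, .y9, .y8, .y7, .y6, .y5, .y4, .y3, .p2, .hi, .p7, .hi, .p5, .hi,
   .p, .hi, .p6, .hi, .xii, .p10, .taui, .xii, .y1, .p, .xii, .y4, .p, .xii, .y1, .y9, .tau, .X0, .p5, .xii, .hi,
   .xii, .y4, .p10, .tau, .xii, .p9, .xii, .p2, .hi, .y8, .taui, .xii, .y2, .p2],
  [.z, .Z8, .Z6, .Z3, .Z2, .X6, .X0, .y8, .y6, .y5, .y4, .y3, .y1, .p4, .hi, .p, .hi, .p, .hi, .p8, .hi, .p5, .hi,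
   .p3, .xii, .hi, .xii, .p10, .xii, .y3, .y7, .tau, .xii, .y2, .p, .xii, .y3, .hi, .xii, .y6, .tau, .X0, .p4, .xii,
   .y1, .hi, .p8, .xii, .y3, .hi, .taui, .xii, .p9, .xii, .y3, .p9, .xii, .y8, .y10, .tau, .xii, .p9, .xii, .y2]⟩

theorem h32 : Hd F (g wAp) b32 := hdP (by decide +kernel)
theorem r32_0 : R9 F (g wAp) b32 [] 0 0 := .of (startP 0 1) (by decide +kernel)
theorem r32_1 : R9 F (g wAp) b32 [] 0 1 := .of (startP 0 1) (by decide +kernel)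
theorem r32_2 : R9 F (g wAp) b32 [] 0 2 := .of (startP 0 1) (by decide +kernel)
theorem r32_3 : R9 F (g wAp) b32 [] 1 0 := .of (startP 0 1) (by decide +kernel)
theorem r32_4 : R9 F (g wAp) b32 [] 1 1 := .of (startP 0 1) (by decide +kernel)
theorem r32_5 : R9 F (g wAp) b32 [] 1 2 := .of (startP 0 1) (by decide +kernel)
theorem r32_6 : R9 F (g wAp) b32 [] 2 0 := .of (startP 0 1) (by decide +kernel)
theorem r32_7 : R9 F (g wAp) b32 [] 2 1 := .of (startP 0 1) (by decide +kernel)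
theorem r32_8 : R9 F (g wAp) b32 [] 2 2 := .of (startP 0 1) (by decide +kernel)
theorem g32 : Gd F (g wAp) (0, p32) [] :=
  good9 ok h32 r32_0 r32_1 r32_2 r32_3 r32_4 r32_5 r32_6 r32_7 r32_8

def b33 : Wd := ⟨0, p33,
  [.Z9, .Z8, .Z7, .Z6, .Z4, .Z3, .Z2, .Z1, .X9, .X8, .X3, .X2, .X0, .y10, .y7, .y4, .y3, .y1, .hi, .p, .hi, .p8, .hi,
   .p4, .hi, .p2, .xii, .hi, .xii, .y6, .taui, .y1, .xii, .y1, .hi, .xii, .p10, .xii, .y4, .y8, .taui, .X0, .xii, .p2,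
   .xii, .y1, .p8, .xii, .y4, .taui, .xii, .p6, .xii, .p2, .y7, .xii, .y4, .tau, .xii, .p3, .xii, .y7],
  [.Z10, .Z9, .Z8, .Z6, .Z4, .Z3, .Z1, .X10, .X9, .X6, .X1, .X0, .y10, .y8, .y7, .y6, .y5, .y4, .y3, .p5, .hi, .p6,
   .hi, .p5, .hi, .p, .hi, .p4, .hi, .p3, .taui, .xii, .y6, .p, .xii, .p, .xii, .y5, .y8, .taui, .p8, .xii, .y4, .p,
   .xii, .p2, .hi, .p10, .taui, .xii, .p9, .xii, .p6, .xii, .y2, .y4, .y8, .taui],
  [.z, .Z10, .Z4, .Z1, .Z0, .X9, .X7, .X6, .X5, .X4, .X2, .y9, .y7, .y3, .y2, .y1, .p8, .hi, .p9, .hi, .p7, .hi, .p4,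
   .hi, .p6, .hi, .p6, .hi, .p8, .xii, .p10, .xii, .y4, .p10, .xii, .y9, .y10, .tau, .y1, .xii, .p10, .xii, .y5, .p10,
   .xii, .y9, .tau, .p10, .xii, .p9, .xii, .p2, .y2, .y7, .hi, .p9, .tau, .xii, .p4, .hi, .xii, .hi, .p7, .y1, .tau,
   .xii, .p4, .hi, .p2]⟩

theorem h33 : Hd F (g wAp) b33 := hdP (by decide +kernel)
theorem r33_0 : R9 F (g wAp) b33 [] 0 0 := .of (startP 0 1) (by decide +kernel)
theorem r33_1 : R9 F (g wAp) b33 [] 0 1 := .of (startP 0 1) (by decide +kernel)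
theorem r33_2 : R9 F (g wAp) b33 [] 0 2 := .of (startP 0 1) (by decide +kernel)
theorem r33_3 : R9 F (g wAp) b33 [] 1 0 := .of (startP 0 1) (by decide +kernel)
theorem r33_4 : R9 F (g wAp) b33 [] 1 1 := .of (startP 0 1) (by decide +kernel)
theorem r33_5 : R9 F (g wAp) b33 [] 1 2 := .of (startP 0 1) (by decide +kernel)
theorem r33_6 : R9 F (g wAp) b33 [] 2 0 := .of (startP 0 1) (by decide +kernel)
theorem r33_7 : R9 F (g wAp) b33 [] 2 1 := .of (startP 0 1) (by decide +kernel)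
theorem r33_8 : R9 F (g wAp) b33 [] 2 2 := .of (startP 0 1) (by decide +kernel)
theorem g33 : Gd F (g wAp) (0, p33) [] :=
  good9 ok h33 r33_0 r33_1 r33_2 r33_3 r33_4 r33_5 r33_6 r33_7 r33_8

def b34 : Wd := ⟨0, p34,
  [.Z10, .Z9, .Z8, .Z6, .Z3, .Z1, .X10, .X8, .X7, .X5, .X2, .y9, .y4, .p9, .hi, .p9, .hi, .p5, .hi, .p10, .hi, .p7,
   .hi, .p, .xii, .y2, .hi, .p8, .tau, .y1, .xii, .p10, .xii, .p10, .y7, .xii, .tau, .p8, .xii, .hi, .y7, .p6, .xii,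
   .y3, .y4, .tau, .xii, .y2, .p5, .xii, .hi, .p10, .tau, .xii, .p5, .hi, .p2],
  [.z, .Z10, .Z7, .Z6, .Z5, .Z4, .Z3, .Z2, .Z1, .Z0, .X6, .X3, .X0, .y7, .y6, .y5, .y3, .y2, .y1, .hi, .p8, .hi, .p8,
   .hi, .p, .hi, .p6, .hi, .p4, .hi, .p10, .hi, .xii, .y2, .p10, .tau, .xii, .p, .xii, .hi, .p10, .tau, .X0, .p8,
   .xii, .y8, .p3, .xii, .p3, .taui, .xii, .p9, .xii, .y1, .p4, .hi, .p],
  [.z, .Z8, .Z6, .Z2, .Z1, .Z0, .X10, .X4, .X3, .X2, .X1, .X0, .y10, .y6, .y3, .y2, .p9, .hi, .p6, .hi, .p5, .hi,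
   .p10, .hi, .p, .hi, .p6, .hi, .xii, .p10, .xii, .y10, .p9, .xii, .y7, .taui, .y1, .xii, .y6, .p10, .xii, .y8, .p10,
   .xii, .y8, .taui, .X0, .xii, .p3, .xii, .hi, .xii, .hi, .y8, .tau, .p10, .xii, .y6, .p6, .xii, .y7, .taui, .xii,
   .p4, .xii, .y4, .y5, .p10, .taui, .xii, .y2, .p7]⟩

theorem h34 : Hd F (g wAp) b34 := hdP (by decide +kernel)
theorem r34_0 : R9 F (g wAp) b34 [] 0 0 := .of (startP 0 1) (by decide +kernel)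
theorem r34_1 : R9 F (g wAp) b34 [] 0 1 := .of (startP 0 1) (by decide +kernel)
theorem r34_2 : R9 F (g wAp) b34 [] 0 2 := .of (startP 0 1) (by decide +kernel)
theorem r34_3 : R9 F (g wAp) b34 [] 1 0 := .of (startP 0 1) (by decide +kernel)
theorem r34_4 : R9 F (g wAp) b34 [] 1 1 := .of (startP 0 1) (by decide +kernel)
theorem r34_5 : R9 F (g wAp) b34 [] 1 2 := .of (startP 0 1) (by decide +kernel)
theorem r34_6 : R9 F (g wAp) b34 [] 2 0 := .of (startP 0 1) (by decide +kernel)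
theorem r34_7 : R9 F (g wAp) b34 [] 2 1 := .of (startP 0 1) (by decide +kernel)
theorem r34_8 : R9 F (g wAp) b34 [] 2 2 := .of (startP 0 1) (by decide +kernel)
theorem g34 : Gd F (g wAp) (0, p34) [] :=
  good9 ok h34 r34_0 r34_1 r34_2 r34_3 r34_4 r34_5 r34_6 r34_7 r34_8

def b35 : Wd := ⟨0, p35,
  [.Z10, .Z9, .Z8, .Z7, .Z4, .Z3, .Z2, .X10, .X8, .X7, .X6, .X5, .X4, .X1, .y10, .y6, .y4, .y1, .p8, .hi, .p4, .hi,
   .p10, .hi, .p8, .hi, .xii, .hi, .xii, .p8, .y10, .xii, .tau, .xii, .p, .xii, .hi, .y8, .xii, .y4, .y7, .y8, .tau,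
   .X0, .hi, .xii, .p7, .xii, .p9, .y7, .xii, .y1, .tau, .xii, .y2, .p6, .xii, .y7, .p2, .hi, .tau, .xii, .y2, .p7],
  [.Z10, .Z9, .Z8, .Z4, .Z1, .Z0, .X10, .X9, .X8, .X7, .X5, .X3, .X2, .y10, .y9, .y8, .y7, .y6, .y4, .y1, .p2, .hi,
   .p10, .hi, .p4, .hi, .p4, .hi, .p10, .hi, .p6, .xii, .y2, .hi, .xii, .p10, .xii, .y8, .y10, .tau, .xii, .y2, .p5,
   .xii, .p, .xii, .y4, .y8, .tau, .xii, .p5, .xii, .y3, .y5, .p5, .xii, .y1, .tau, .xii, .p3, .xii, .y1],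
  [.z, .Z8, .Z4, .Z2, .Z0, .X10, .X7, .X6, .X4, .X2, .X1, .X0, .y10, .y9, .y5, .y2, .y1, .hi, .p7, .hi, .p, .hi, .p7,
   .hi, .p8, .hi, .p5, .hi, .xii, .p2, .hi, .xii, .y4, .taui, .xii, .p, .xii, .hi, .y8, .xii, .y5, .y9, .y10, .taui,
   .xii, .p9, .xii, .y10, .p5, .hi, .xii, .y5, .y10, .tau, .xii, .p4, .xii, .y5, .y10, .p2, .taui, .xii, .y2, .p8]⟩

theorem h35 : Hd F (g wAp) b35 := hdP (by decide +kernel)
theorem r35_0 : R9 F (g wAp) b35 [] 0 0 := .of (startP 0 1) (by decide +kernel)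
theorem r35_1 : R9 F (g wAp) b35 [] 0 1 := .of (startP 0 1) (by decide +kernel)
theorem r35_2 : R9 F (g wAp) b35 [] 0 2 := .of (startP 0 1) (by decide +kernel)
theorem r35_3 : R9 F (g wAp) b35 [] 1 0 := .of (startP 0 1) (by decide +kernel)
theorem r35_4 : R9 F (g wAp) b35 [] 1 1 := .of (startP 0 1) (by decide +kernel)
theorem r35_5 : R9 F (g wAp) b35 [] 1 2 := .of (startP 0 1) (by decide +kernel)
theorem r35_6 : R9 F (g wAp) b35 [] 2 0 := .of (startP 0 1) (by decide +kernel)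
theorem r35_7 : R9 F (g wAp) b35 [] 2 1 := .of (startP 0 1) (by decide +kernel)
theorem r35_8 : R9 F (g wAp) b35 [] 2 2 := .of (startP 0 1) (by decide +kernel)
theorem g35 : Gd F (g wAp) (0, p35) [] :=
  good9 ok h35 r35_0 r35_1 r35_2 r35_3 r35_4 r35_5 r35_6 r35_7 r35_8

def b36 : Wd := ⟨0, p36,
  [.Z10, .Z9, .Z8, .Z7, .Z3, .Z1, .X9, .X7, .X6, .X1, .y10, .y9, .y6, .y5, .p10, .hi, .p8, .hi, .p3, .hi, .p10, .hi,
   .p3, .hi, .p2, .xii, .hi, .xii, .y6, .p9, .xii, .y5, .taui, .X0, .xii, .p3, .xii, .hi, .xii, .hi, .y9, .tau, .xii,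
   .p8, .xii, .p4, .xii, .y4, .y6, .y9, .hi, .taui, .xii, .p9, .xii, .y6, .p5, .xii, .y5, .taui, .xii, .y6, .p3],
  [.Z10, .Z7, .Z6, .Z4, .Z2, .Z0, .X9, .X7, .X6, .X5, .X4, .X2, .y2, .hi, .p3, .hi, .p8, .hi, .p8, .hi, .p4, .hi,
   .xii, .hi, .xii, .p10, .y9, .taui, .xii, .p, .xii, .y1, .hi, .xii, .y4, .y7, .taui, .p9, .xii, .y6, .p2, .xii, .y5,
   .p8, .taui, .xii, .p8, .xii, .y6, .p2, .y8, .xii, .y8],
  [.z, .Z10, .Z9, .Z8, .Z5, .Z3, .Z0, .X10, .X7, .X5, .X4, .X2, .y10, .y8, .y7, .y6, .y2, .p6, .hi, .p10, .hi, .p7,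
   .hi, .p9, .hi, .p7, .hi, .p4, .hi, .xii, .p10, .xii, .p8, .y7, .xii, .taui, .y1, .xii, .p10, .xii, .y1, .y7, .p10,
   .xii, .y4, .y9, .tau, .p6, .xii, .p2, .xii, .p3, .y4, .hi, .p7, .hi, .taui, .xii, .p9, .xii, .p9, .xii, .y1, .y8,
   .tau, .xii, .p, .xii, .y1]⟩

theorem h36 : Hd F (g wAp) b36 := hdP (by decide +kernel)
theorem r36_0 : R9 F (g wAp) b36 [] 0 0 := .of (startP 0 1) (by decide +kernel)
theorem r36_1 : R9 F (g wAp) b36 [] 0 1 := .of (startP 0 1) (by decide +kernel)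
theorem r36_2 : R9 F (g wAp) b36 [] 0 2 := .of (startP 0 1) (by decide +kernel)
theorem r36_3 : R9 F (g wAp) b36 [] 1 0 := .of (startP 0 1) (by decide +kernel)
theorem r36_4 : R9 F (g wAp) b36 [] 1 1 := .of (startP 0 1) (by decide +kernel)
theorem r36_5 : R9 F (g wAp) b36 [] 1 2 := .of (startP 0 1) (by decide +kernel)
theorem r36_6 : R9 F (g wAp) b36 [] 2 0 := .of (startP 0 1) (by decide +kernel)
theorem r36_7 : R9 F (g wAp) b36 [] 2 1 := .of (startP 0 1) (by decide +kernel)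
theorem r36_8 : R9 F (g wAp) b36 [] 2 2 := .of (startP 0 1) (by decide +kernel)
theorem g36 : Gd F (g wAp) (0, p36) [] :=
  good9 ok h36 r36_0 r36_1 r36_2 r36_3 r36_4 r36_5 r36_6 r36_7 r36_8

def b37 : Wd := ⟨0, p37,
  [.Z9, .Z8, .Z5, .Z4, .Z3, .Z1, .X9, .X7, .X3, .X0, .y7, .y6, .y4, .y3, .y2, .y1, .p8, .hi, .p10, .hi, .p9, .hi, .p8,
   .hi, .p5, .hi, .p5, .xii, .p, .xii, .y6, .p9, .xii, .tau, .xii, .y1, .p, .xii, .p, .xii, .y1, .y2, .tau, .X0, .xii,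
   .y2, .p3, .xii, .y6, .p5, .xii, .tau, .xii, .p10, .hi, .p6, .xii, .y8, .hi, .tau, .xii, .y2, .p],
  [.z, .Z10, .Z9, .Z8, .Z7, .Z5, .Z3, .Z1, .X10, .X8, .X7, .X4, .X3, .y8, .y5, .y4, .y3, .y2, .y1, .p, .hi, .p, .hi,
   .p, .hi, .p6, .xii, .p3, .hi, .xii, .y3, .y7, .p6, .taui, .xii, .y1, .p, .xii, .y2, .p, .xii, .y3, .y10, .taui,
   .p10, .xii, .y10, .p9, .xii, .y10, .hi, .p9, .taui, .xii, .p7, .xii, .p9, .y4, .xii, .y8, .y9, .tau, .xii],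
  [.Z10, .Z7, .Z5, .Z4, .Z3, .Z1, .Z0, .X8, .X3, .X2, .X0, .y10, .y6, .y5, .y3, .y2, .p10, .hi, .p6, .hi, .p5, .hi,
   .p, .hi, .p4, .hi, .p10, .hi, .xii, .p, .xii, .p, .xii, .y6, .taui, .y1, .xii, .p10, .xii, .y4, .p10, .xii, .y1,
   .y6, .taui, .X0, .p10, .xii, .p5, .xii, .y7, .hi, .p9, .y4, .taui, .xii, .p5, .xii, .y5, .p5, .y1, .xii, .y1,
   .taui, .xii, .hi, .p2]⟩

theorem h37 : Hd F (g wAp) b37 := hdP (by decide +kernel)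
theorem r37_0 : R9 F (g wAp) b37 [] 0 0 := .of (startP 0 1) (by decide +kernel)
theorem r37_1 : R9 F (g wAp) b37 [] 0 1 := .of (startP 0 1) (by decide +kernel)
theorem r37_2 : R9 F (g wAp) b37 [] 0 2 := .of (startP 0 1) (by decide +kernel)
theorem r37_3 : R9 F (g wAp) b37 [] 1 0 := .of (startP 0 1) (by decide +kernel)
theorem r37_4 : R9 F (g wAp) b37 [] 1 1 := .of (startP 0 1) (by decide +kernel)
theorem r37_5 : R9 F (g wAp) b37 [] 1 2 := .of (startP 0 1) (by decide +kernel)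
theorem r37_6 : R9 F (g wAp) b37 [] 2 0 := .of (startP 0 1) (by decide +kernel)
theorem r37_7 : R9 F (g wAp) b37 [] 2 1 := .of (startP 0 1) (by decide +kernel)
theorem r37_8 : R9 F (g wAp) b37 [] 2 2 := .of (startP 0 1) (by decide +kernel)
theorem g37 : Gd F (g wAp) (0, p37) [] :=
  good9 ok h37 r37_0 r37_1 r37_2 r37_3 r37_4 r37_5 r37_6 r37_7 r37_8

def b38 : Wd := ⟨0, p38,
  [.Z10, .Z9, .Z5, .Z3, .Z1, .X7, .y8, .y7, .y6, .y5, .y2, .y1, .p7, .hi, .p3, .hi, .p10, .hi, .p3, .hi, .xii, .hi,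
   .xii, .p10, .xii, .taui, .y1, .xii, .y1, .hi, .xii, .y6, .p10, .xii, .y4, .taui, .X0, .xii, .p3, .xii, .y3, .p2,
   .xii, .y3, .y7, .hi, .tau, .xii, .p4, .xii, .hi, .p6, .tau, .xii, .p5, .xii, .y4, .y6],
  [.Z10, .Z8, .Z7, .Z4, .Z3, .Z2, .X8, .X5, .X4, .X3, .y10, .y9, .y8, .y7, .y6, .y4, .p8, .hi, .p, .hi, .p, .hi, .p,
   .hi, .p9, .xii, .p10, .tau, .xii, .p, .xii, .hi, .y8, .xii, .y1, .y4, .tau, .X0, .hi, .xii, .p5, .xii, .y1, .y8,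
   .hi, .p6, .tau, .xii, .y2, .p5, .xii, .y9, .p10, .taui, .xii, .p7],
  [.z, .Z9, .Z8, .Z7, .Z6, .Z4, .Z3, .Z0, .X9, .X4, .X3, .X2, .X1, .y6, .y3, .y2, .y1, .hi, .p3, .hi, .p4, .hi, .p7,
   .hi, .p, .hi, .p4, .hi, .p8, .xii, .y2, .hi, .p10, .hi, .p8, .tau, .xii, .y1, .p, .xii, .p, .xii, .y3, .tau, .X0,
   .xii, .p8, .xii, .y1, .y3, .p4, .xii, .y8, .p6, .taui, .xii, .p4, .hi, .xii, .y4, .p3, .taui, .xii, .p4, .hi, .p2]⟩

theorem h38 : Hd F (g wAp) b38 := hdP (by decide +kernel)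
theorem r38_0 : R9 F (g wAp) b38 [] 0 0 := .of (startP 0 1) (by decide +kernel)
theorem r38_1 : R9 F (g wAp) b38 [] 0 1 := .of (startP 0 1) (by decide +kernel)
theorem r38_2 : R9 F (g wAp) b38 [] 0 2 := .of (startP 0 1) (by decide +kernel)
theorem r38_3 : R9 F (g wAp) b38 [] 1 0 := .of (startP 0 1) (by decide +kernel)
theorem r38_4 : R9 F (g wAp) b38 [] 1 1 := .of (startP 0 1) (by decide +kernel)
theorem r38_5 : R9 F (g wAp) b38 [] 1 2 := .of (startP 0 1) (by decide +kernel)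
theorem r38_6 : R9 F (g wAp) b38 [] 2 0 := .of (startP 0 1) (by decide +kernel)
theorem r38_7 : R9 F (g wAp) b38 [] 2 1 := .of (startP 0 1) (by decide +kernel)
theorem r38_8 : R9 F (g wAp) b38 [] 2 2 := .of (startP 0 1) (by decide +kernel)
theorem g38 : Gd F (g wAp) (0, p38) [] :=
  good9 ok h38 r38_0 r38_1 r38_2 r38_3 r38_4 r38_5 r38_6 r38_7 r38_8

def b39 : Wd := ⟨0, p39,
  [.z, .Z7, .Z6, .Z3, .Z1, .Z0, .X10, .X9, .X8, .X7, .X6, .X1, .y10, .y7, .y6, .y5, .y4, .hi, .p8, .hi, .p8, .hi, .p,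
   .hi, .p, .hi, .p, .xii, .p3, .hi, .xii, .y7, .p6, .taui, .xii, .y1, .p, .xii, .y10, .p, .xii, .y5, .y10, .taui,
   .y1, .hi, .xii, .p6, .xii, .hi, .p9, .taui, .xii, .p4, .xii, .y5, .y8, .p5, .xii, .tau, .xii, .y2, .p6],
  [.z, .Z10, .Z9, .Z6, .Z5, .Z4, .Z1, .Z0, .X8, .X7, .X6, .X4, .X2, .X1, .y10, .y5, .y4, .y2, .hi, .p10, .hi, .p3,
   .hi, .p4, .hi, .p6, .hi, .p3, .xii, .hi, .xii, .y4, .p6, .xii, .y7, .taui, .xii, .p, .xii, .y2, .hi, .xii, .y7,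
   .y10, .taui, .p10, .xii, .y7, .p2, .xii, .y2, .tau, .xii, .p10, .hi, .p6, .xii, .y2, .hi, .p8],
  [.z, .Z6, .Z5, .Z4, .Z2, .X10, .X8, .X4, .X3, .X2, .X1, .X0, .y10, .y9, .y6, .y5, .y4, .y2, .y1, .p5, .hi, .p9, .hi,
   .p8, .hi, .p10, .hi, .p2, .hi, .p10, .xii, .y2, .hi, .p8, .xii, .y2, .p2, .taui, .xii, .y2, .p, .xii, .y1, .hi,
   .xii, .y2, .y3, .taui, .X0, .xii, .p4, .xii, .y7, .y10, .p5, .xii, .y3, .p5, .taui, .xii, .p4, .xii, .y1, .hi, .p6,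
   .hi, .p, .taui, .xii, .y2, .p, .hi, .p]⟩

theorem h39 : Hd F (g wAp) b39 := hdP (by decide +kernel)
theorem r39_0 : R9 F (g wAp) b39 [] 0 0 := .of (startP 0 1) (by decide +kernel)
theorem r39_1 : R9 F (g wAp) b39 [] 0 1 := .of (startP 0 1) (by decide +kernel)
theorem r39_2 : R9 F (g wAp) b39 [] 0 2 := .of (startP 0 1) (by decide +kernel)
theorem r39_3 : R9 F (g wAp) b39 [] 1 0 := .of (startP 0 1) (by decide +kernel)
theorem r39_4 : R9 F (g wAp) b39 [] 1 1 := .of (startP 0 1) (by decide +kernel)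
theorem r39_5 : R9 F (g wAp) b39 [] 1 2 := .of (startP 0 1) (by decide +kernel)
theorem r39_6 : R9 F (g wAp) b39 [] 2 0 := .of (startP 0 1) (by decide +kernel)
theorem r39_7 : R9 F (g wAp) b39 [] 2 1 := .of (startP 0 1) (by decide +kernel)
theorem r39_8 : R9 F (g wAp) b39 [] 2 2 := .of (startP 0 1) (by decide +kernel)
theorem g39 : Gd F (g wAp) (0, p39) [] :=
  good9 ok h39 r39_0 r39_1 r39_2 r39_3 r39_4 r39_5 r39_6 r39_7 r39_8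

theorem all : AllG F (g wAp) LP3 :=
  .cons g30 (.cons g31 (.cons g32 (.cons g33 (.cons g34 (.cons g35 (.cons g36 (.cons g37 (.cons g38 (.cons g39 (.nil))))))))))

end Cfsg.Agent.BX.No33.Bk.P3
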