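import Cfsg.Agent.BX.No33.Cheap
set_option linter.all false

/-!
# Tests, pure case, part 35 (helper5; generated)
-/

set_option autoImplicit false
set_option maxRecDepth 100000
set_option Elab.async false

namespace Cfsg.Agent.BX.No33.Bk.P35

open Cfsg.Agent.H819.U33 Cfsg.Agent.BX.No33.Front

def b350 : Wd := ⟨1, p350,
  [.Z9, .Z5, .Z3, .Z2, .Z1, .X8, .X4, .X3, .X1, .X0, .y9, .y8, .y7, .y6, .p10, .hi, .p5, .hi, .p, .hi, .p6, .hi, .p10,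
   .hi, .p7, .hi, .p3, .xii, .hi, .xii, .y6, .p10, .tau, .xii, .y1, .p, .xii, .y2, .p, .xii, .y6, .taui, .p10, .xii,
   .y2, .p, .hi, .xii, .taui, .xii, .p7, .xii, .y5, .p, .y7, .hi, .p4, .tau, .xii, .y2, .hi, .p6],
  [.Z6, .Z5, .Z4, .Z2, .X9, .X6, .X5, .X4, .X0, .y10, .y9, .y7, .y6, .y4, .y2, .hi, .p10, .hi, .p2, .hi, .p7, .hi,
   .p8, .hi, .p9, .xii, .p10, .hi, .p6, .hi, .p2, .tau, .y1, .xii, .y1, .hi, .xii, .y6, .p10, .xii, .y4, .y8, .taui,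
   .p8, .xii, .y6, .hi, .p6, .xii, .y4, .y8, .p3, .tau, .xii, .p3, .xii, .p, .y2, .xii, .y1, .tau],
  [.Z9, .Z6, .Z5, .Z4, .Z3, .Z2, .Z1, .Z0, .X8, .X7, .X6, .X4, .X3, .X2, .y9, .y5, .y4, .y3, .y1, .hi, .p6, .hi, .p4,
   .hi, .p6, .hi, .p3, .hi, .p10, .hi, .p2, .xii, .p, .xii, .y10, .p4, .tau, .xii, .y6, .p, .xii, .p, .xii, .y5, .y10,
   .taui, .p10, .xii, .p7, .xii, .y4, .p9, .xii, .y7, .tau, .xii, .p9, .xii, .y6, .y10, .p, .xii, .y7, .tau, .xii,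
   .hi, .p10]⟩

theorem h350 : Hd F (g wAp) b350 := hdP (by decide +kernel)
theorem r350_0 : R9 F (g wAp) b350 [] 0 0 := .of (startP 0 1) (by decide +kernel)
theorem r350_1 : R9 F (g wAp) b350 [] 0 1 := .of (startP 0 1) (by decide +kernel)
theorem r350_2 : R9 F (g wAp) b350 [] 0 2 := .of (startP 0 1) (by decide +kernel)
theorem r350_3 : R9 F (g wAp) b350 [] 1 0 := .of (startP 0 1) (by decide +kernel)
theorem r350_4 : R9 F (g wAp) b350 [] 1 1 := .of (startP 0 1) (by decide +kernel)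
theorem r350_5 : R9 F (g wAp) b350 [] 1 2 := .of (startP 0 1) (by decide +kernel)
theorem r350_6 : R9 F (g wAp) b350 [] 2 0 := .of (startP 0 1) (by decide +kernel)
theorem r350_7 : R9 F (g wAp) b350 [] 2 1 := .of (startP 0 1) (by decide +kernel)
theorem r350_8 : R9 F (g wAp) b350 [] 2 2 := .of (startP 0 1) (by decide +kernel)
theorem g350 : Gd F (g wAp) (1, p350) [] :=
  good9 ok h350 r350_0 r350_1 r350_2 r350_3 r350_4 r350_5 r350_6 r350_7 r350_8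

def b351 : Wd := ⟨1, p351,
  [.z, .Z7, .Z5, .Z1, .X10, .X9, .X8, .X5, .X4, .X3, .y9, .y8, .y7, .y4, .y3, .hi, .p7, .hi, .p3, .hi, .p7, .hi, .p8,
   .hi, .p7, .taui, .xii, .p, .xii, .y4, .hi, .xii, .y3, .taui, .X0, .y1, .xii, .p, .xii, .y4, .hi, .xii, .y9, .taui,
   .xii, .p6, .xii, .y4, .y5, .hi, .xii, .y10, .tau],
  [.z, .Z9, .Z4, .Z3, .Z1, .X10, .X9, .X6, .X5, .X1, .y10, .y9, .y8, .y2, .y1, .p7, .hi, .p10, .hi, .p, .hi, .p, .hi,
   .p4, .xii, .p, .xii, .y1, .y2, .taui, .xii, .hi, .p8, .xii, .y2, .y9, .tau, .X0, .p10, .xii, .y6, .p10, .xii, .y8,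
   .y9, .tau, .xii, .p7, .xii, .y6, .p10, .xii, .y4],
  [.Z9, .Z4, .X10, .X9, .X8, .X6, .X1, .y9, .y7, .y5, .y2, .y1, .hi, .p, .hi, .p, .hi, .p6, .hi, .p9, .hi, .p, .xii,
   .p, .xii, .y6, .p4, .tau, .X0, .y1, .hi, .xii, .p, .xii, .y3, .p7, .taui, .X0, .p8, .xii, .y4, .p10, .xii, .y9,
   .tau, .xii, .p6, .xii, .y7, .hi, .xii, .y3, .y4]⟩

theorem h351 : Hd F (g wAp) b351 := hdP (by decide +kernel)
theorem r351_0 : R9 F (g wAp) b351 [] 0 0 := .of (startP 0 1) (by decide +kernel)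
theorem r351_1 : R9 F (g wAp) b351 [] 0 1 := .of (startP 0 1) (by decide +kernel)
theorem r351_2 : R9 F (g wAp) b351 [] 0 2 := .of (startP 0 1) (by decide +kernel)
theorem r351_3 : R9 F (g wAp) b351 [] 1 0 := .of (startP 0 1) (by decide +kernel)
theorem r351_4 : R9 F (g wAp) b351 [] 1 1 := .of (startP 0 1) (by decide +kernel)
theorem r351_5 : R9 F (g wAp) b351 [] 1 2 := .of (startP 0 1) (by decide +kernel)
theorem r351_6 : R9 F (g wAp) b351 [] 2 0 := .of (startP 0 1) (by decide +kernel)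
theorem r351_7 : R9 F (g wAp) b351 [] 2 1 := .of (startP 0 2) (by decide +kernel)
theorem r351_8 : R9 F (g wAp) b351 [] 2 2 := .of (startP 0 1) (by decide +kernel)
theorem g351 : Gd F (g wAp) (1, p351) [] :=
  good9 ok h351 r351_0 r351_1 r351_2 r351_3 r351_4 r351_5 r351_6 r351_7 r351_8

def b352 : Wd := ⟨1, p352,
  [.Z9, .Z7, .Z4, .Z3, .X9, .X8, .X6, .X1, .X0, .y10, .y9, .y5, .y4, .p2, .hi, .p7, .hi, .p, .hi, .p7, .hi, .p7, .xii,
   .p, .xii, .y3, .y10, .taui, .y1, .xii, .p10, .xii, .y5, .p10, .xii, .y2, .y10, .tau, .p10, .xii, .y6, .p9, .xii,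
   .y2, .p4, .hi, .p7, .tau, .xii, .p9, .xii, .y8, .y9, .p9, .xii, .y10, .tau, .xii, .y2, .hi, .p5],
  [.z, .Z8, .Z6, .Z5, .Z3, .Z2, .Z1, .X10, .X7, .X6, .X4, .X3, .X2, .X0, .y8, .y7, .y6, .y5, .y3, .y2, .p9, .hi, .p6,
   .hi, .p8, .hi, .p7, .hi, .p7, .hi, .p4, .hi, .xii, .p10, .xii, .y8, .tau, .p10, .xii, .p6, .xii, .y1, .p7, .xii,
   .y7, .taui, .xii, .y2, .hi, .xii, .p5, .xii, .y4],
  [.z, .Z7, .Z6, .Z2, .Z0, .X7, .X5, .X3, .X2, .X1, .y10, .y8, .y6, .y5, .y4, .y2, .p7, .hi, .p4, .hi, .p, .hi, .p3,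
   .hi, .p3, .hi, .p6, .xii, .y2, .p3, .hi, .tau, .xii, .p, .hi, .xii, .y9, .p10, .taui, .X0, .p10, .xii, .y7, .p2,
   .xii, .y1, .y4, .tau, .xii, .p, .xii, .y6, .p4, .hi, .p7]⟩

theorem h352 : Hd F (g wAp) b352 := hdP (by decide +kernel)
theorem r352_0 : R9 F (g wAp) b352 [] 0 0 := .of (startP 0 1) (by decide +kernel)
theorem r352_1 : R9 F (g wAp) b352 [] 0 1 := .of (startP 0 1) (by decide +kernel)
theorem r352_2 : R9 F (g wAp) b352 [] 0 2 := .of (startP 0 1) (by decide +kernel)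
theorem r352_3 : R9 F (g wAp) b352 [] 1 0 := .of (startP 0 1) (by decide +kernel)
theorem r352_4 : R9 F (g wAp) b352 [] 1 1 := .of (startP 0 1) (by decide +kernel)
theorem r352_5 : R9 F (g wAp) b352 [] 1 2 := .of (startP 0 1) (by decide +kernel)
theorem r352_6 : R9 F (g wAp) b352 [] 2 0 := .of (startP 0 1) (by decide +kernel)
theorem r352_7 : R9 F (g wAp) b352 [] 2 1 := .of (startP 0 1) (by decide +kernel)
theorem r352_8 : R9 F (g wAp) b352 [] 2 2 := .of (startP 0 1) (by decide +kernel)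
theorem g352 : Gd F (g wAp) (1, p352) [] :=
  good9 ok h352 r352_0 r352_1 r352_2 r352_3 r352_4 r352_5 r352_6 r352_7 r352_8

def b353 : Wd := ⟨1, p353,
  [.Z9, .Z8, .Z7, .Z6, .Z4, .X10, .X9, .X6, .X5, .X4, .X3, .X2, .X1, .y10, .y8, .y7, .y4, .y3, .p10, .hi, .p4, .hi,
   .p3, .hi, .p6, .hi, .p4, .hi, .p, .xii, .taui, .y1, .xii, .y6, .p10, .xii, .y8, .p10, .xii, .y4, .taui, .X0, .p8,
   .xii, .hi, .p6, .xii, .y3, .p6, .y1, .tau, .xii, .p9, .xii, .y1, .hi, .y5, .p7, .tau, .xii, .y2, .hi, .p6],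
  [.z, .Z10, .Z9, .Z6, .Z3, .X8, .X5, .X3, .X2, .X1, .y10, .y7, .y6, .y5, .y4, .p7, .hi, .p8, .hi, .p10, .hi, .p10,
   .hi, .p, .hi, .p, .xii, .y2, .p, .xii, .y3, .y10, .taui, .xii, .p, .xii, .p2, .hi, .xii, .taui, .p5, .xii, .p9,
   .y9, .xii, .y5, .p8, .xii, .tau, .xii, .p, .xii, .y1, .y3, .hi, .p10],
  [.Z10, .Z8, .Z6, .Z5, .Z4, .Z3, .Z2, .X8, .X3, .X1, .y9, .y4, .p9, .hi, .p4, .hi, .p8, .hi, .p10, .hi, .p, .hi, .p6,
   .xii, .hi, .p8, .xii, .y4, .y9, .taui, .xii, .p, .xii, .y4, .hi, .xii, .y2, .y7, .taui, .X0, .p10, .xii, .y4, .p8,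
   .xii, .y3, .p5, .hi, .p9, .taui, .xii, .p5, .xii, .y1, .y7, .p8, .xii, .y5, .tau, .xii, .p4, .xii, .y8]⟩

theorem h353 : Hd F (g wAp) b353 := hdP (by decide +kernel)
theorem r353_0 : R9 F (g wAp) b353 [] 0 0 := .of (startP 0 1) (by decide +kernel)
theorem r353_1 : R9 F (g wAp) b353 [] 0 1 := .of (startP 0 1) (by decide +kernel)
theorem r353_2 : R9 F (g wAp) b353 [] 0 2 := .of (startP 0 1) (by decide +kernel)
theorem r353_3 : R9 F (g wAp) b353 [] 1 0 := .of (startP 0 1) (by decide +kernel)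
theorem r353_4 : R9 F (g wAp) b353 [] 1 1 := .of (startP 0 1) (by decide +kernel)
theorem r353_5 : R9 F (g wAp) b353 [] 1 2 := .of (startP 0 1) (by decide +kernel)
theorem r353_6 : R9 F (g wAp) b353 [] 2 0 := .of (startP 0 1) (by decide +kernel)
theorem r353_7 : R9 F (g wAp) b353 [] 2 1 := .of (startP 0 1) (by decide +kernel)
theorem r353_8 : R9 F (g wAp) b353 [] 2 2 := .of (startP 0 1) (by decide +kernel)
theorem g353 : Gd F (g wAp) (1, p353) [] :=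
  good9 ok h353 r353_0 r353_1 r353_2 r353_3 r353_4 r353_5 r353_6 r353_7 r353_8

def b354 : Wd := ⟨1, p354,
  [.Z8, .Z7, .Z5, .Z4, .Z3, .Z1, .X10, .X9, .X7, .X6, .X2, .X1, .X0, .y10, .y8, .y7, .y3, .y2, .p2, .hi, .p3, .hi,
   .p3, .hi, .p6, .hi, .p7, .hi, .xii, .p10, .xii, .y7, .p3, .hi, .p5, .taui, .X0, .p10, .xii, .y6, .p8, .xii, .p3,
   .y3, .taui, .xii, .p7, .xii, .y1, .y9, .p, .tau, .xii, .y2, .p4],
  [.Z9, .Z7, .Z6, .Z3, .X10, .X9, .X6, .X5, .X3, .X2, .y10, .y9, .y7, .y6, .y1, .hi, .p5, .hi, .p7, .hi, .p6, .hi, .p,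
   .hi, .p6, .hi, .xii, .p, .xii, .y6, .p7, .xii, .y8, .tau, .y1, .xii, .p10, .xii, .y1, .p10, .xii, .y2, .tau, .X0,
   .p10, .xii, .p9, .xii, .y1, .p7, .y5, .taui, .xii, .y2, .p7, .xii, .p3, .y2, .xii],
  [.z, .Z10, .Z7, .Z6, .Z5, .Z4, .Z2, .Z1, .X9, .X8, .X6, .X4, .X3, .X0, .y9, .y6, .p8, .hi, .p5, .hi, .p9, .hi, .p5,
   .hi, .p6, .hi, .p3, .xii, .p10, .xii, .y5, .p2, .xii, .y1, .y4, .tau, .y1, .xii, .p10, .xii, .y4, .p10, .xii, .y10,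
   .taui, .hi, .xii, .p9, .xii, .p3, .hi, .p5, .y3, .tau, .xii, .p10, .xii, .y5, .p10, .xii, .y2]⟩

theorem h354 : Hd F (g wAp) b354 := hdP (by decide +kernel)
theorem r354_0 : R9 F (g wAp) b354 [] 0 0 := .of (startP 0 1) (by decide +kernel)
theorem r354_1 : R9 F (g wAp) b354 [] 0 1 := .of (startP 0 1) (by decide +kernel)
theorem r354_2 : R9 F (g wAp) b354 [] 0 2 := .of (startP 0 1) (by decide +kernel)
theorem r354_3 : R9 F (g wAp) b354 [] 1 0 := .of (startP 0 1) (by decide +kernel)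
theorem r354_4 : R9 F (g wAp) b354 [] 1 1 := .of (startP 0 1) (by decide +kernel)
theorem r354_5 : R9 F (g wAp) b354 [] 1 2 := .of (startP 0 1) (by decide +kernel)
theorem r354_6 : R9 F (g wAp) b354 [] 2 0 := .of (startP 0 1) (by decide +kernel)
theorem r354_7 : R9 F (g wAp) b354 [] 2 1 := .of (startP 0 1) (by decide +kernel)
theorem r354_8 : R9 F (g wAp) b354 [] 2 2 := .of (startP 0 1) (by decide +kernel)
theorem g354 : Gd F (g wAp) (1, p354) [] :=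
  good9 ok h354 r354_0 r354_1 r354_2 r354_3 r354_4 r354_5 r354_6 r354_7 r354_8

def b355 : Wd := ⟨1, p355,
  [.z, .Z10, .Z9, .Z8, .Z7, .Z3, .Z0, .X9, .X7, .X6, .X3, .X0, .y7, .y6, .y5, .y4, .y2, .hi, .p6, .hi, .p3, .hi, .p4,
   .hi, .p3, .hi, .p6, .xii, .y2, .p, .xii, .p9, .xii, .y3, .y7, .taui, .xii, .y2, .hi, .p8, .xii, .y9, .y10, .tau,
   .p8, .xii, .y1, .p3, .xii, .y4, .p7, .taui, .xii, .p6, .xii, .p2, .y5, .hi, .p, .taui, .xii, .hi, .p8],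
  [.Z10, .Z8, .Z6, .Z0, .X10, .X8, .X6, .X5, .X2, .y10, .y8, .y7, .y4, .y2, .p4, .hi, .p9, .hi, .p10, .hi, .p8, .hi,
   .p3, .hi, .p5, .hi, .xii, .p, .xii, .y3, .hi, .p4, .y9, .tau, .xii, .p, .xii, .y2, .hi, .xii, .y7, .tau, .X0, .p5,
   .xii, .p7, .xii, .y5, .y9, .p, .y1, .tau, .xii, .p10, .xii, .y1, .p2, .xii, .y2, .y10],
  [.z, .Z8, .Z5, .Z4, .Z2, .X10, .X9, .X1, .y10, .y8, .y5, .hi, .p2, .hi, .p7, .hi, .p8, .hi, .p8, .hi, .p4, .hi,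
   .xii, .p2, .hi, .xii, .y5, .p5, .hi, .p5, .taui, .y1, .xii, .y2, .hi, .xii, .p10, .xii, .y2, .taui, .X0, .p2, .xii,
   .p8, .xii, .y1, .y7, .p6, .taui, .xii, .p6, .xii, .y1, .p6, .xii, .y8, .taui, .xii, .y6, .p5, .hi, .p2]⟩

theorem h355 : Hd F (g wAp) b355 := hdP (by decide +kernel)
theorem r355_0 : R9 F (g wAp) b355 [] 0 0 := .of (startP 0 1) (by decide +kernel)
theorem r355_1 : R9 F (g wAp) b355 [] 0 1 := .of (startP 0 1) (by decide +kernel)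
theorem r355_2 : R9 F (g wAp) b355 [] 0 2 := .of (startP 0 1) (by decide +kernel)
theorem r355_3 : R9 F (g wAp) b355 [] 1 0 := .of (startP 0 1) (by decide +kernel)
theorem r355_4 : R9 F (g wAp) b355 [] 1 1 := .of (startP 0 1) (by decide +kernel)
theorem r355_5 : R9 F (g wAp) b355 [] 1 2 := .of (startP 0 1) (by decide +kernel)
theorem r355_6 : R9 F (g wAp) b355 [] 2 0 := .of (startP 0 1) (by decide +kernel)
theorem r355_7 : R9 F (g wAp) b355 [] 2 1 := .of (startP 0 1) (by decide +kernel)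
theorem r355_8 : R9 F (g wAp) b355 [] 2 2 := .of (startP 0 1) (by decide +kernel)
theorem g355 : Gd F (g wAp) (1, p355) [] :=
  good9 ok h355 r355_0 r355_1 r355_2 r355_3 r355_4 r355_5 r355_6 r355_7 r355_8

def b356 : Wd := ⟨1, p356,
  [.Z7, .Z4, .Z1, .Z0, .X10, .X8, .X7, .X3, .X2, .X1, .X0, .y8, .y6, .y5, .y2, .y1, .p6, .hi, .p10, .hi, .p2, .hi, .p,
   .hi, .p8, .xii, .p3, .hi, .xii, .y3, .y9, .p10, .tau, .xii, .p, .xii, .y2, .y10, .hi, .xii, .y7, .y10, .taui, .p8,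
   .xii, .hi, .y5, .p7, .xii, .y2, .tau, .xii, .p2, .xii, .p, .y1, .xii, .y2, .y10, .tau, .xii, .p7],
  [.Z9, .Z8, .Z6, .Z5, .Z4, .Z3, .Z2, .Z1, .X10, .X9, .X8, .X7, .X4, .X3, .X2, .y7, .y4, .y2, .y1, .hi, .p6, .hi, .p4,
   .hi, .p5, .hi, .p3, .hi, .p, .hi, .p5, .xii, .y2, .taui, .xii, .y1, .p, .xii, .y2, .p, .xii, .y6, .tau, .X0, .p10,
   .xii, .hi, .p5, .xii, .y10, .p3, .hi, .tau, .xii, .p9, .xii, .y2, .y9, .p5, .xii, .y8],
  [.z, .Z9, .Z8, .Z7, .Z5, .Z4, .Z3, .Z1, .X10, .X5, .X3, .X2, .X1, .y9, .y6, .y4, .y1, .hi, .p8, .hi, .p5, .hi, .p10,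
   .hi, .p2, .hi, .p3, .xii, .hi, .xii, .y6, .p10, .tau, .y1, .xii, .p10, .xii, .y1, .p10, .xii, .y4, .y9, .taui, .X0,
   .p4, .xii, .p8, .xii, .p2, .y5, .xii, .y1, .tau, .xii, .p9, .xii, .p3, .xii, .y10, .taui, .xii, .hi, .p6]⟩

theorem h356 : Hd F (g wAp) b356 := hdP (by decide +kernel)
theorem r356_0 : R9 F (g wAp) b356 [75] 0 0 := .of (startP 0 1) (by decide +kernel)
theorem r356_1 : R9 F (g wAp) b356 [75] 0 1 := .of (startP 0 1) (by decide +kernel)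
theorem r356_2 : R9 F (g wAp) b356 [75] 0 2 := .of (startP 0 1) (by decide +kernel)
theorem r356_3 : R9 F (g wAp) b356 [75] 1 0 := .of (startP 0 1) (by decide +kernel)
theorem r356_4 : R9 F (g wAp) b356 [75] 1 1 := .of (startP 0 1) (by decide +kernel)
theorem r356_5 : R9 F (g wAp) b356 [75] 1 2 := .of (startP 0 2) (by decide +kernel)
theorem r356_6 : R9 F (g wAp) b356 [75] 2 0 := .of (startP 0 1) (by decide +kernel)
theorem r356_7 : R9 F (g wAp) b356 [75] 2 1 := .of (startP 0 1) (by decide +kernel)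
theorem r356_8 : R9 F (g wAp) b356 [75] 2 2 := .of' (startP 0 2) (skip := [3]) (by decide +kernel) (by decide)
theorem g356 : Gd F (g wAp) (1, p356) [75] :=
  good9 ok h356 r356_0 r356_1 r356_2 r356_3 r356_4 r356_5 r356_6 r356_7 r356_8

def b357 : Wd := ⟨1, p357,
  [.z, .Z8, .Z7, .Z5, .Z1, .Z0, .X10, .X9, .X6, .X5, .X2, .X0, .y5, .y4, .y2, .p2, .hi, .p6, .hi, .p10, .hi, .p2, .hi,
   .p, .hi, .p4, .xii, .y2, .hi, .p8, .hi, .p2, .taui, .p5, .xii, .y7, .p7, .xii, .y1, .p9, .hi, .taui, .xii, .hi,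
   .p7, .xii, .y4, .p5, .hi, .tau, .xii, .y2, .p2],
  [.z, .Z2, .X10, .X7, .X6, .X1, .X0, .y8, .y7, .y6, .y5, .p4, .hi, .p5, .hi, .p, .hi, .p7, .hi, .p3, .hi, .p3, .xii,
   .y2, .hi, .p8, .hi, .p2, .taui, .y1, .xii, .y2, .hi, .xii, .y10, .p10, .xii, .y4, .y8, .tau, .X0, .p7, .xii, .y6,
   .p5, .xii, .p10, .y9, .hi, .p8, .taui, .xii, .p4, .xii, .p4, .y10, .xii, .y4, .taui],
  [.z, .Z10, .Z7, .Z4, .Z3, .Z0, .X9, .X8, .X6, .X2, .y10, .y8, .y7, .y4, .y3, .y2, .hi, .p6, .hi, .p6, .hi, .p4, .hi,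
   .p8, .hi, .p7, .hi, .p3, .xii, .hi, .p2, .hi, .tau, .y1, .xii, .p10, .xii, .y4, .p10, .xii, .y1, .y5, .taui, .y1,
   .xii, .p5, .xii, .y3, .p9, .xii, .y1, .p8, .tau, .xii, .y2, .p5, .xii, .p2, .y10, .xii, .y7, .taui]⟩

theorem h357 : Hd F (g wAp) b357 := hdP (by decide +kernel)
theorem r357_0 : R9 F (g wAp) b357 [] 0 0 := .of (startP 0 1) (by decide +kernel)
theorem r357_1 : R9 F (g wAp) b357 [] 0 1 := .of (startP 0 1) (by decide +kernel)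
theorem r357_2 : R9 F (g wAp) b357 [] 0 2 := .of (startP 0 1) (by decide +kernel)
theorem r357_3 : R9 F (g wAp) b357 [] 1 0 := .of (startP 0 1) (by decide +kernel)
theorem r357_4 : R9 F (g wAp) b357 [] 1 1 := .of (startP 0 1) (by decide +kernel)
theorem r357_5 : R9 F (g wAp) b357 [] 1 2 := .of (startP 0 1) (by decide +kernel)
theorem r357_6 : R9 F (g wAp) b357 [] 2 0 := .of (startP 0 1) (by decide +kernel)
theorem r357_7 : R9 F (g wAp) b357 [] 2 1 := .of (startP 0 1) (by decide +kernel)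
theorem r357_8 : R9 F (g wAp) b357 [] 2 2 := .of (startP 0 1) (by decide +kernel)
theorem g357 : Gd F (g wAp) (1, p357) [] :=
  good9 ok h357 r357_0 r357_1 r357_2 r357_3 r357_4 r357_5 r357_6 r357_7 r357_8

def b358 : Wd := ⟨1, p358,
  [.Z10, .Z6, .Z3, .Z1, .y10, .y9, .y8, .y5, .y4, .p4, .hi, .p6, .hi, .p8, .hi, .p7, .hi, .p, .hi, .p5, .xii, .y2,
   .p10, .xii, .taui, .xii, .y1, .p, .xii, .y6, .tau, .X0, .y1, .p2, .xii, .p9, .xii, .y2, .tau, .xii, .p9, .xii, .y2,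
   .hi, .p5],
  [.Z8, .Z7, .Z6, .Z4, .Z2, .Z0, .X10, .X7, .X6, .X4, .X3, .X2, .X0, .y10, .y9, .y3, .y1, .hi, .p5, .hi, .p10, .hi,
   .p3, .hi, .p10, .hi, .p5, .hi, .xii, .hi, .p8, .xii, .y2, .tau, .X0, .p4, .xii, .p10, .xii, .p8, .y7, .tau, .p7,
   .xii, .p5, .xii, .hi, .p9, .y10, .taui, .xii, .y2, .p4, .xii, .y4, .p3, .hi, .p],
  [.z, .Z10, .Z7, .Z4, .X10, .X8, .X6, .X5, .X1, .y10, .y7, .y6, .y3, .y1, .p5, .hi, .p10, .hi, .p2, .hi, .p6, .hi,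
   .p8, .hi, .p3, .xii, .y2, .p, .xii, .p5, .xii, .y7, .y10, .taui, .y1, .xii, .p10, .xii, .y1, .y9, .p10, .xii, .y10,
   .taui, .xii, .p2, .xii, .p2, .hi, .xii, .y5, .tau, .xii, .y2, .hi, .p8, .xii, .y2]⟩

theorem h358 : Hd F (g wAp) b358 := hdP (by decide +kernel)
theorem r358_0 : R9 F (g wAp) b358 [] 0 0 := .of (startP 0 1) (by decide +kernel)
theorem r358_1 : R9 F (g wAp) b358 [] 0 1 := .of (startP 0 1) (by decide +kernel)
theorem r358_2 : R9 F (g wAp) b358 [] 0 2 := .of (startP 0 1) (by decide +kernel)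
theorem r358_3 : R9 F (g wAp) b358 [] 1 0 := .of (startP 0 2) (by decide +kernel)
theorem r358_4 : R9 F (g wAp) b358 [] 1 1 := .of (startP 0 1) (by decide +kernel)
theorem r358_5 : R9 F (g wAp) b358 [] 1 2 := .of (startP 0 1) (by decide +kernel)
theorem r358_6 : R9 F (g wAp) b358 [] 2 0 := .of (startP 0 1) (by decide +kernel)
theorem r358_7 : R9 F (g wAp) b358 [] 2 1 := .of (startP 0 1) (by decide +kernel)
theorem r358_8 : R9 F (g wAp) b358 [] 2 2 := .of (startP 0 1) (by decide +kernel)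
theorem g358 : Gd F (g wAp) (1, p358) [] :=
  good9 ok h358 r358_0 r358_1 r358_2 r358_3 r358_4 r358_5 r358_6 r358_7 r358_8

theorem all : AllG F (g wAp) LP35 :=
  .cons g350 (.cons g351 (.cons g352 (.cons g353 (.cons g354 (.cons g355 (.cons g356 (.cons g357 (.cons g358 (.nil)))))))))

end Cfsg.Agent.BX.No33.Bk.P35
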